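import Mathlib

set_option autoImplicit false
set_option linter.style.haveILetI false
open TensorProduct
universe u

namespace Groth.Agent.Helper16.NormalEtale

/-- von Neumann regularity -/
def VNR (L : Type*) [CommRing L] : Prop := ∀ a : L, ∃ b : L, a * a * b = a

theorem VNR.of_ringEquiv {L L' : Type*} [CommRing L] [CommRing L'] (e : L ≃+* L') (h : VNR L) :
    VNR L' := by
  intro a
  obtain ⟨b, hb⟩ := h (e.symm a)
  refine ⟨e b, ?_⟩
  have := congrArg e hb
  simpa using this

theorem VNR.pi {ι : Type*} (F : ι → Type*) [∀ i, Field (F i)] : VNR (∀ i, F i) := by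
  intro a
  refine ⟨fun i => (a i)⁻¹, ?_⟩
  funext i
  by_cases h : a i = 0
  · simp [h]
  · simp only [Pi.mul_apply]
    field_simp

theorem VNR.of_isLocalization {A L : Type*} [CommRing A] [CommRing L] [Algebra A L]
    (M : Submonoid A) [IsLocalization M L] (h : VNR A) : VNR L := by
  intro a
  obtain ⟨x, s, rfl⟩ := IsLocalization.exists_mk'_eq M a
  obtain ⟨b, hb⟩ := h x
  refine ⟨algebraMap A L (b * s), ?_⟩
  rw [IsLocalization.eq_mk'_iff_mul_eq, map_mul]
  have h1 : IsLocalization.mk' L x s * algebraMap A L s = algebraMap A L x :=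
    IsLocalization.mk'_spec _ _ _
  calc IsLocalization.mk' L x s * IsLocalization.mk' L x s * (algebraMap A L b * algebraMap A L s)
        * algebraMap A L s
      = (IsLocalization.mk' L x s * algebraMap A L s) * (IsLocalization.mk' L x s * algebraMap A L s)
        * algebraMap A L b := by ring
    _ = algebraMap A L x := by rw [h1, ← map_mul, ← map_mul, hb]

theorem VNR.isField_of_forall_idempotent {L : Type*} [CommRing L] [Nontrivial L] (h : VNR L)
    (hidem : ∀ e : L, e * e = e → e = 0 ∨ e = 1) : IsField L := by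
  refine ⟨exists_pair_ne L, mul_comm, ?_⟩
  intro a ha
  obtain ⟨b, hb⟩ := h a
  have he : (a * b) * (a * b) = a * b := by
    calc (a * b) * (a * b) = (a * a * b) * b := by ring
      _ = a * b := by rw [hb]
  rcases hidem _ he with h0 | h1
  · exfalso
    apply ha
    calc a = a * a * b := hb.symm
      _ = a * (a * b) := by ring
      _ = 0 := by rw [h0, mul_zero]
  · exact ⟨b, h1⟩

variable (R T : Type u) [CommRing R] [IsDomain R] [IsIntegrallyClosed R] [CommRing T]
  [IsLocalRing T] [Algebra R T] [Module.Flat R T]
  (K : Type u) [Field K] [Algebra R K] [IsFractionRing R K]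

theorem mem_range_of_isIntegral
    (H : Function.Surjective (TensorProduct.toIntegralClosure R T K)) (x : T ⊗[R] K)
    (hx : IsIntegral T x) : x ∈ Set.range (algebraMap T (T ⊗[R] K)) := by
  obtain ⟨z, hz⟩ := H ⟨x, hx⟩
  have key : ∀ z : T ⊗[R] integralClosure R K,
      ((TensorProduct.toIntegralClosure R T K z : integralClosure T (T ⊗[R] K)) : T ⊗[R] K) ∈
        Set.range (algebraMap T (T ⊗[R] K)) := by
    intro z
    induction z with
    | zero => exact ⟨0, by simp⟩
    | add a b ha hb =>
      obtain ⟨a', ha'⟩ := ha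
      obtain ⟨b', hb'⟩ := hb
      refine ⟨a' + b', ?_⟩
      rw [map_add, map_add, ha', hb']
      rfl
    | tmul t y =>
      have hy : (y : K) ∈ (⊥ : Subalgebra R K) := by
        rw [← IsIntegrallyClosed.integralClosure_eq_bot R K]
        exact y.2
      obtain ⟨r, hr⟩ := Algebra.mem_bot.mp hy
      refine ⟨r • t, ?_⟩
      have : ((TensorProduct.toIntegralClosure R T K (t ⊗ₜ y) : integralClosure T (T ⊗[R] K)) :
          T ⊗[R] K) = t ⊗ₜ (y : K) := by
        simp [TensorProduct.toIntegralClosure]
      rw [this, ← hr, Algebra.TensorProduct.algebraMap_apply, Algebra.algebraMap_self_apply,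
        TensorProduct.smul_tmul, Algebra.algebraMap_eq_smul_one]
  have := key z
  rw [hz] at this
  exact this

theorem isDomain_and_isIntegrallyClosed
    (H : Function.Surjective (TensorProduct.toIntegralClosure R T K))
    (hvnr : VNR (T ⊗[R] K)) : IsDomain T ∧ IsIntegrallyClosed T := by
  have hinj : Function.Injective (algebraMap T (T ⊗[R] K)) :=
    Algebra.TensorProduct.includeLeft_injective (S := T) (IsFractionRing.injective R K)
  haveI : Nontrivial (T ⊗[R] K) := hinj.nontrivial
  have hidem : ∀ e : T ⊗[R] K, e * e = e → e = 0 ∨ e = 1 := by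
    intro e he
    have hint : IsIntegral T e := by
      refine ⟨Polynomial.X ^ 2 - Polynomial.X, Polynomial.monic_X_pow_sub (by simp), ?_⟩
      simp [pow_two, he]
    obtain ⟨t, rfl⟩ := mem_range_of_isIntegral R T K H e hint
    have ht : t * t = t := hinj (by rw [map_mul, he])
    have h0 : t * (1 - t) = 0 := by rw [mul_sub, mul_one, ht, sub_self]
    rcases IsLocalRing.isUnit_or_isUnit_one_sub_self t with hu | hu
    · right
      have h1 : 1 - t = 0 := hu.mul_right_eq_zero.mp h0
      rw [← sub_eq_zero.mp h1, map_one]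
    · left
      have h1 : t = 0 := hu.mul_left_eq_zero.mp h0
      rw [h1, map_zero]
  have hfield := hvnr.isField_of_forall_idempotent hidem
  letI := hfield.toField
  have hdom : IsDomain T := hinj.isDomain (algebraMap T (T ⊗[R] K))
  refine ⟨hdom, ?_⟩
  haveI : IsFractionRing T (T ⊗[R] K) := by
    haveI hloc : IsLocalization (Algebra.algebraMapSubmonoid T (nonZeroDivisors R)) (T ⊗[R] K) :=
      inferInstance
    refine IsLocalization.of_le (M := Algebra.algebraMapSubmonoid T (nonZeroDivisors R))
      (nonZeroDivisors T) ?_ ?_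
    · rintro _ ⟨r, hr, rfl⟩
      rw [mem_nonZeroDivisors_iff_ne_zero]
      intro h0
      have : algebraMap T (T ⊗[R] K) (algebraMap R T r) = 0 := by rw [h0, map_zero]
      have hu := IsLocalization.map_units (T ⊗[R] K)
        (⟨algebraMap R T r, r, hr, rfl⟩ : Algebra.algebraMapSubmonoid T (nonZeroDivisors R))
      rw [this] at hu
      exact not_isUnit_zero hu
    · intro t ht
      rw [mem_nonZeroDivisors_iff_ne_zero] at ht
      exact IsUnit.mk0 _ (fun h => ht (hinj (by rw [h, map_zero])))
  rw [isIntegrallyClosed_iff (T ⊗[R] K)]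
  intro x hx
  exact mem_range_of_isIntegral R T K H x hx

end Groth.Agent.Helper16.NormalEtale

namespace Groth.Agent.Helper16.NormalEtale

theorem vnr_of_etale_field (K A : Type u) [Field K] [CommRing A] [Algebra K A] [Algebra.Etale K A] :
    VNR A := by
  haveI : Algebra.EssFiniteType K A := inferInstance
  obtain ⟨I, _, Ai, _, _, e, -⟩ :=
    (Algebra.FormallyEtale.iff_exists_algEquiv_prod (K := K) (A := A)).mp inferInstance
  exact (VNR.pi Ai).of_ringEquiv e.symm.toRingEquiv

theorem normal_of_etale_localization (R B' T : Type u) [CommRing R] [IsDomain R]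
    [IsIntegrallyClosed R]
    [CommRing B'] [Algebra R B'] [Algebra.Etale R B'] [CommRing T] [IsLocalRing T]
    [Algebra B' T] [Algebra R T] [IsScalarTower R B' T] (M : Submonoid B') [IsLocalization M T] :
    IsDomain T ∧ IsIntegrallyClosed T := by
  let K := FractionRing R
  haveI : Algebra.Smooth R B' := inferInstance
  haveI : Module.Flat R B' := inferInstance
  haveI : Module.Flat B' T := IsLocalization.flat T M
  haveI : Module.Flat R T := Module.Flat.trans R B' T
  have H1 : Function.Bijective (TensorProduct.toIntegralClosure R B' K) :=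
    TensorProduct.toIntegralClosure_bijective_of_smooth
  have H2 : Function.Bijective (TensorProduct.toIntegralClosure B' T (B' ⊗[R] K)) :=
    TensorProduct.toIntegralClosure_bijective_of_isLocalization M
  have H : Function.Bijective (TensorProduct.toIntegralClosure R T K) :=
    TensorProduct.toIntegralClosure_bijective_of_tower H1 H2
  -- VNR of B' ⊗ K
  have hv1 : VNR (K ⊗[R] B') := vnr_of_etale_field K (K ⊗[R] B')
  have hv2 : VNR (B' ⊗[R] K) :=
    hv1.of_ringEquiv (Algebra.TensorProduct.comm R K B').toRingEquiv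
  -- T ⊗ K is a localization of B' ⊗ K
  letI : Algebra (B' ⊗[R] K) (T ⊗[R] K) :=
    (Algebra.TensorProduct.map (IsScalarTower.toAlgHom R B' T) (AlgHom.id R K)).toRingHom.toAlgebra
  haveI : IsScalarTower B' (B' ⊗[R] K) (T ⊗[R] K) := by
    refine ⟨fun b x y => ?_⟩
    rw [Algebra.smul_def x y, Algebra.smul_def (b • x) y, RingHom.algebraMap_toAlgebra]
    have h1 : (Algebra.TensorProduct.map (IsScalarTower.toAlgHom R B' T)
        (AlgHom.id R K)).toRingHom (b • x) =
        b • (Algebra.TensorProduct.map (IsScalarTower.toAlgHom R B' T)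
          (AlgHom.id R K)).toRingHom x := by
      rw [Algebra.smul_def b x, map_mul, Algebra.smul_def]
      congr 1
    rw [h1, smul_mul_assoc]
  haveI : IsLocalization (Algebra.algebraMapSubmonoid (B' ⊗[R] K) M) (T ⊗[R] K) := by
    have Hc : (algebraMap (B' ⊗[R] K) (T ⊗[R] K)).comp
        (Algebra.TensorProduct.includeRight : K →ₐ[R] B' ⊗[R] K).toRingHom =
        (Algebra.TensorProduct.includeRight : K →ₐ[R] T ⊗[R] K).toRingHom := by
      ext k
      simp [RingHom.algebraMap_toAlgebra]
    exact IsLocalization.tensorProduct_tensorProduct (R := R) (S := K) (A := B') M T Hc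
  have hv3 : VNR (T ⊗[R] K) :=
    VNR.of_isLocalization (Algebra.algebraMapSubmonoid (B' ⊗[R] K) M) hv2
  exact isDomain_and_isIntegrallyClosed R T K H.surjective hv3

end Groth.Agent.Helper16.NormalEtale
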