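import Mathlib

open IsLocalRing TensorProduct

universe u

set_option linter.style.haveILetI false

namespace Groth.Agent.Helper16.SmoothFibreLocal

/-- Local criterion: flat + formally smooth closed fibre + essentially of finite presentation
implies formally smooth. -/
theorem formallySmooth_of_flat_of_fibre {R S P : Type u} [CommRing R] [CommRing S] [CommRing P]
    [IsLocalRing R] [IsLocalRing S] [Algebra R S] [IsLocalHom (algebraMap R S)] [Module.Flat R S]
    [Algebra R P] [Algebra P S] [IsScalarTower R P S] (M : Submonoid P) [IsLocalization M S]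
    [Algebra.FinitePresentation R P]
    (h : Algebra.FormallySmooth (R ⧸ maximalIdeal R)
      (S ⧸ (maximalIdeal R).map (algebraMap R S))) :
    Algebra.FormallySmooth R S := by
  have h' : Algebra.FormallySmooth (R ⧸ maximalIdeal R) ((R ⧸ maximalIdeal R) ⊗[R] S) :=
    Algebra.FormallySmooth.of_equiv
      (Algebra.TensorProduct.quotIdealMapEquivQuotTensor S (maximalIdeal R))
  haveI : Algebra.FormallySmooth (ResidueField R) (ResidueField R ⊗[R] S) := h'
  exact Algebra.FormallySmooth.of_formallySmooth_residueField_tensor (R := R) (S := S) (P := P) M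

/-- Transport of formal smoothness of the closed fibre along presentations as quotients. -/
theorem formallySmooth_quotient_of_square {R S K F : Type u} [CommRing R] [CommRing S]
    [CommRing K] [CommRing F] [IsLocalRing R] [Algebra R S]
    (ψ : K →+* F) (hψ : ψ.FormallySmooth) (σ : R →+* K) (hσ : Function.Surjective σ)
    (hkσ : RingHom.ker σ = maximalIdeal R) (τ : S →+* F) (hτ : Function.Surjective τ)
    (hkτ : RingHom.ker τ = (maximalIdeal R).map (algebraMap R S))
    (hsq : ψ.comp σ = τ.comp (algebraMap R S)) :
    Algebra.FormallySmooth (R ⧸ maximalIdeal R) (S ⧸ (maximalIdeal R).map (algebraMap R S)) := by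
  let e₁ : (R ⧸ maximalIdeal R) ≃+* K :=
    (Ideal.quotEquivOfEq hkσ.symm).trans (RingHom.quotientKerEquivOfSurjective hσ)
  let e₂ : (S ⧸ (maximalIdeal R).map (algebraMap R S)) ≃+* F :=
    (Ideal.quotEquivOfEq hkτ.symm).trans (RingHom.quotientKerEquivOfSurjective hτ)
  have hcomm : e₂.toRingHom.comp
      (algebraMap (R ⧸ maximalIdeal R) (S ⧸ (maximalIdeal R).map (algebraMap R S))) =
      ψ.comp e₁.toRingHom := by
    apply Ideal.Quotient.ringHom_ext
    ext r
    have h1 : e₁ (Ideal.Quotient.mk _ r) = σ r := rfl
    have h2 : e₂ (algebraMap (R ⧸ maximalIdeal R) (S ⧸ (maximalIdeal R).map (algebraMap R S))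
        (Ideal.Quotient.mk _ r)) = τ (algebraMap R S r) := rfl
    simp only [RingHom.comp_apply, RingEquiv.toRingHom_eq_coe, RingHom.coe_coe]
    rw [h1, h2]
    exact (congrArg (fun g => g r) hsq).symm
  rw [← RingHom.formallySmooth_algebraMap]
  have h3 : (ψ.comp e₁.toRingHom).FormallySmooth :=
    RingHom.FormallySmooth.respectsIso.2 _ e₁ hψ
  rw [← hcomm] at h3
  have h4 := RingHom.FormallySmooth.respectsIso.1 _ e₂.symm h3
  convert h4 using 1
  ext x
  simp

end Groth.Agent.Helper16.SmoothFibreLocal
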