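import Mathlib
import Groth.Agent.Lib.Helper16.Alg.SmoothFibreLocal

open IsLocalRing TensorProduct

universe u

set_option linter.style.haveILetI false

namespace Groth.Agent.Helper16.SmoothFibreLocal

attribute [local instance] Algebra.TensorProduct.rightAlgebra in
/-- Flat + formally smooth closed fibre implies formally smooth, for a local homomorphism of
localizations of a finitely presented algebra. -/
theorem formallySmooth_of_flat_of_fibre_of_isLocalization
    {R S A B : Type u} [CommRing R] [CommRing S] [CommRing A] [CommRing B]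
    [Algebra R S] [Algebra.FinitePresentation R S]
    (p : Ideal R) [p.IsPrime] (q : Ideal S) [q.IsPrime] [q.LiesOver p]
    [Algebra R A] [IsLocalization.AtPrime A p]
    [Algebra S B] [IsLocalization.AtPrime B q]
    [Algebra A B] [Algebra R B] [IsScalarTower R A B] [IsScalarTower R S B]
    [IsLocalRing A] [IsLocalRing B] [IsLocalHom (algebraMap A B)] [Module.Flat A B]
    (h : Algebra.FormallySmooth (A ⧸ maximalIdeal A)
      (B ⧸ (maximalIdeal A).map (algebraMap A B))) :
    Algebra.FormallySmooth A B := by
  let P := A ⊗[R] S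
  let φ : P →ₐ[A] B := Algebra.TensorProduct.lift (Algebra.ofId A B)
    (IsScalarTower.toAlgHom R S B) (fun _ _ => .all _ _)
  letI : Algebra P B := φ.toRingHom.toAlgebra
  haveI : IsScalarTower A P B := IsScalarTower.of_algebraMap_eq' φ.comp_algebraMap.symm
  haveI : IsScalarTower S P B := IsScalarTower.of_algebraMap_eq fun s => by
    change _ = φ ((1 : A) ⊗ₜ s)
    rw [show φ ((1 : A) ⊗ₜ s) = (Algebra.ofId A B) 1 * (IsScalarTower.toAlgHom R S B) s from
      Algebra.TensorProduct.lift_tmul _ _ _ _ _]
    simp
  haveI : IsLocalization (Algebra.algebraMapSubmonoid S p.primeCompl) P :=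
    (Algebra.isLocalization_iff_isPushout p.primeCompl A).mpr inferInstance
  have hle : Algebra.algebraMapSubmonoid S p.primeCompl ≤ q.primeCompl := by
    rintro _ ⟨r, hr, rfl⟩
    intro hq
    apply hr
    rw [Ideal.over_def q p]
    exact hq
  haveI : IsLocalization (q.primeCompl.map (algebraMap S P)) B :=
    IsLocalization.isLocalization_of_submonoid_le P B _ _ hle
  exact formallySmooth_of_flat_of_fibre (R := A) (S := B) (P := P)
    (q.primeCompl.map (algebraMap S P)) h

/-- Formal smoothness passes to the closed fibre. -/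
theorem formallySmooth_quotient_of_formallySmooth {R S : Type u} [CommRing R] [CommRing S]
    [Algebra R S] (I : Ideal R) [Algebra.FormallySmooth R S] :
    Algebra.FormallySmooth (R ⧸ I) (S ⧸ I.map (algebraMap R S)) :=
  Algebra.FormallySmooth.of_equiv
    (Algebra.TensorProduct.quotIdealMapEquivQuotTensor S I).symm

/-- Converse transport to `formallySmooth_quotient_of_square`. -/
theorem formallySmooth_of_square_of_quotient {R S K F : Type u} [CommRing R] [CommRing S]
    [CommRing K] [CommRing F] [IsLocalRing R] [Algebra R S]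
    (ψ : K →+* F) (σ : R →+* K) (hσ : Function.Surjective σ)
    (hkσ : RingHom.ker σ = maximalIdeal R) (τ : S →+* F) (hτ : Function.Surjective τ)
    (hkτ : RingHom.ker τ = (maximalIdeal R).map (algebraMap R S))
    (hsq : ψ.comp σ = τ.comp (algebraMap R S))
    (h : Algebra.FormallySmooth (R ⧸ maximalIdeal R)
      (S ⧸ (maximalIdeal R).map (algebraMap R S))) : ψ.FormallySmooth := by
  let e₁ : (R ⧸ maximalIdeal R) ≃+* K :=
    (Ideal.quotEquivOfEq hkσ.symm).trans (RingHom.quotientKerEquivOfSurjective hσ)
  let e₂ : (S ⧸ (maximalIdeal R).map (algebraMap R S)) ≃+* F :=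
    (Ideal.quotEquivOfEq hkτ.symm).trans (RingHom.quotientKerEquivOfSurjective hτ)
  have hcomm : e₂.toRingHom.comp
      (algebraMap (R ⧸ maximalIdeal R) (S ⧸ (maximalIdeal R).map (algebraMap R S))) =
      ψ.comp e₁.toRingHom := by
    apply Ideal.Quotient.ringHom_ext
    ext r
    have h1 : e₁ (Ideal.Quotient.mk _ r) = σ r := rfl
    have h2 : e₂ (algebraMap (R ⧸ maximalIdeal R) (S ⧸ (maximalIdeal R).map (algebraMap R S))
        (Ideal.Quotient.mk _ r)) = τ (algebraMap R S r) := rfl
    simp only [RingHom.comp_apply, RingEquiv.toRingHom_eq_coe, RingHom.coe_coe]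
    rw [h1, h2]
    exact (congrArg (fun g => g r) hsq).symm
  rw [← RingHom.formallySmooth_algebraMap] at h
  have h3 := RingHom.FormallySmooth.respectsIso.1 _ e₂ h
  rw [hcomm] at h3
  have h4 := RingHom.FormallySmooth.respectsIso.2 _ e₁.symm h3
  convert h4 using 1
  ext x
  simp

end Groth.Agent.Helper16.SmoothFibreLocal
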