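import Mathlib

/-!
# Descent of the smooth locus along flat base change (ring level)
-/

open TensorProduct

universe u

set_option linter.style.haveILetI false
set_option linter.unusedSectionVars false

namespace Groth.Agent.Helper16.SmoothBC

section Descent

variable {R A : Type*} [CommRing R] [CommRing A] [Algebra R A] [Module.Flat R A]
  (M : Type*) [AddCommGroup M] [Module R M]

/-- Local faithfully flat descent data at a prime of a flat algebra. -/
lemma exists_local_descent (p : PrimeSpectrum A) :
    ∃ (_ : Algebra (Localization.AtPrime (PrimeSpectrum.comap (algebraMap R A) p).asIdeal)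
        (Localization.AtPrime p.asIdeal))
      (_ : Module.FaithfullyFlat
        (Localization.AtPrime (PrimeSpectrum.comap (algebraMap R A) p).asIdeal)
        (Localization.AtPrime p.asIdeal)),
      Nonempty ((Localization.AtPrime p.asIdeal) ⊗[Localization.AtPrime
          (PrimeSpectrum.comap (algebraMap R A) p).asIdeal]
          ((Localization.AtPrime (PrimeSpectrum.comap (algebraMap R A) p).asIdeal) ⊗[R] M)
        ≃ₗ[Localization.AtPrime p.asIdeal]
        (Localization.AtPrime p.asIdeal) ⊗[A] (A ⊗[R] M)) := by
  let q := PrimeSpectrum.comap (algebraMap R A) p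
  let Rq := Localization.AtPrime q.asIdeal
  let Ap := Localization.AtPrime p.asIdeal
  letI algebra : Algebra Rq Ap := (Localization.localRingHom
    q.asIdeal p.asIdeal (algebraMap R A) rfl).toAlgebra
  haveI : IsScalarTower R Rq Ap := IsScalarTower.of_algebraMap_eq'
    (by simp [Rq, Ap, algebra, RingHom.algebraMap_toAlgebra, Localization.localRingHom,
        ← IsScalarTower.algebraMap_eq])
  have hflat : (algebraMap R A).Flat := by
    rw [RingHom.flat_algebraMap_iff]; infer_instance
  haveI : Module.Flat Rq Ap := by
    have := RingHom.Flat.localRingHom hflat p.asIdeal q.asIdeal rfl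
    exact this
  haveI : IsLocalHom (algebraMap Rq Ap) :=
    Localization.isLocalHom_localRingHom _ _ _ rfl
  haveI : Module.FaithfullyFlat Rq Ap := Module.FaithfullyFlat.of_flat_of_isLocalHom
  refine ⟨algebra, inferInstance, ⟨?_⟩⟩
  exact AlgebraTensorModule.cancelBaseChange R Rq Ap Ap M ≪≫ₗ
    (AlgebraTensorModule.cancelBaseChange R A Ap Ap M).symm

/-- The support of a module ascends along flat base change (no finiteness needed). -/
theorem mem_support_baseChange_of_flat (p : PrimeSpectrum A)
    (h : PrimeSpectrum.comap (algebraMap R A) p ∈ Module.support R M) :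
    p ∈ Module.support A (A ⊗[R] M) := by
  obtain ⟨alg, hff, ⟨e⟩⟩ := exists_local_descent (R := R) M p
  by_contra hp
  rw [Module.notMem_support_iff] at hp
  have h1 : Subsingleton ((Localization.AtPrime p.asIdeal) ⊗[A] (A ⊗[R] M)) :=
    (LocalizedModule.equivTensorProduct p.asIdeal.primeCompl (A ⊗[R] M)).symm.toEquiv.injective.subsingleton
  have h2 : Subsingleton ((Localization.AtPrime p.asIdeal) ⊗[Localization.AtPrime
          (PrimeSpectrum.comap (algebraMap R A) p).asIdeal]
          ((Localization.AtPrime (PrimeSpectrum.comap (algebraMap R A) p).asIdeal) ⊗[R] M)) :=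
    e.toEquiv.injective.subsingleton
  have h3 : Subsingleton
      ((Localization.AtPrime (PrimeSpectrum.comap (algebraMap R A) p).asIdeal) ⊗[R] M) :=
    Module.FaithfullyFlat.lTensor_reflects_triviality
      (Localization.AtPrime (PrimeSpectrum.comap (algebraMap R A) p).asIdeal)
      (Localization.AtPrime p.asIdeal) _
  have h4 : Subsingleton (LocalizedModule
      (PrimeSpectrum.comap (algebraMap R A) p).asIdeal.primeCompl M) :=
    (LocalizedModule.equivTensorProduct
      (PrimeSpectrum.comap (algebraMap R A) p).asIdeal.primeCompl M).toEquiv.injective.subsingleton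
  exact (Module.notMem_support_iff.mpr h4) h

/-- The free locus of a finitely presented module descends along flat base change. -/
theorem mem_freeLocus_of_baseChange_of_flat [Module.FinitePresentation R M]
    (p : PrimeSpectrum A) (h : p ∈ Module.freeLocus A (A ⊗[R] M)) :
    PrimeSpectrum.comap (algebraMap R A) p ∈ Module.freeLocus R M := by
  obtain ⟨alg, hff, ⟨e⟩⟩ := exists_local_descent (R := R) M p
  rw [Module.mem_freeLocus_iff_tensor _ (Localization.AtPrime p.asIdeal)] at h
  rw [Module.mem_freeLocus_iff_tensor _
    (Localization.AtPrime (PrimeSpectrum.comap (algebraMap R A) p).asIdeal)]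
  haveI : Module.Free (Localization.AtPrime p.asIdeal)
      ((Localization.AtPrime p.asIdeal) ⊗[Localization.AtPrime
          (PrimeSpectrum.comap (algebraMap R A) p).asIdeal]
          ((Localization.AtPrime (PrimeSpectrum.comap (algebraMap R A) p).asIdeal) ⊗[R] M)) :=
    .of_equiv e.symm
  haveI : Module.Flat (Localization.AtPrime (PrimeSpectrum.comap (algebraMap R A) p).asIdeal)
      ((Localization.AtPrime (PrimeSpectrum.comap (algebraMap R A) p).asIdeal) ⊗[R] M) :=
    Module.Flat.of_flat_tensorProduct _ _ (Localization.AtPrime p.asIdeal)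
  exact Module.free_of_flat_of_isLocalRing

end Descent

section H1

variable (R S T : Type u) [CommRing R] [CommRing S] [CommRing T] [Algebra R S] [Algebra R T]
  [Module.Flat R T]

attribute [local instance] Algebra.TensorProduct.rightAlgebra

/-- The `T ⊗[R] S`-linear comparison map for `H¹` of the cotangent complex. -/
noncomputable def h1BaseChangeMap :
    (T ⊗[R] S) ⊗[S] Algebra.H1Cotangent R S →ₗ[T ⊗[R] S] Algebra.H1Cotangent T (T ⊗[R] S) :=
  LinearMap.liftBaseChange (T ⊗[R] S) (Algebra.H1Cotangent.map R T S (T ⊗[R] S))

lemma h1BaseChangeMap_bijective : Function.Bijective (h1BaseChangeMap R S T) := by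
  let c := Algebra.IsPushout.cancelBaseChange R T S (T ⊗[R] S) (Algebra.H1Cotangent R S)
  have hcomp : ∀ z, h1BaseChangeMap R S T (c.symm z) = Algebra.tensorH1CotangentOfFlat R S T z := by
    intro z
    induction z with
    | zero => simp
    | add x y hx hy => simp only [map_add, hx, hy]
    | tmul t x =>
      rw [Algebra.IsPushout.cancelBaseChange_symm_tmul, Algebra.tensorH1CotangentOfFlat_tmul]
      simp only [h1BaseChangeMap, LinearMap.liftBaseChange_tmul]
      rw [algebraMap_smul]
  have : (h1BaseChangeMap R S T : _ → _) =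
      (Algebra.tensorH1CotangentOfFlat R S T) ∘ c := by
    ext z
    obtain ⟨w, rfl⟩ := c.symm.surjective z
    simp [hcomp]
  rw [this]
  exact (Algebra.tensorH1CotangentOfFlat R S T).bijective.comp c.bijective

/-- Descent of smoothness at a prime along flat base change (tensor product form). -/
theorem mem_smoothLocus_of_tensor [Algebra.FinitePresentation R S]
    (q' : PrimeSpectrum (T ⊗[R] S)) (h : q' ∈ Algebra.smoothLocus T (T ⊗[R] S)) :
    PrimeSpectrum.comap (algebraMap S (T ⊗[R] S)) q' ∈ Algebra.smoothLocus R S := by
  haveI : Module.Flat S (T ⊗[R] S) :=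
    Module.Flat.isBaseChange (R := R) (M := T) (S := S) (N := T ⊗[R] S)
      (Algebra.IsPushout.out (R := R) (S := S) (R' := T) (S' := T ⊗[R] S))
  rw [Algebra.smoothLocus_eq_compl_support_inter] at h ⊢
  obtain ⟨h1, h2⟩ := h
  refine ⟨?_, ?_⟩
  · intro hq
    apply h1
    have := mem_support_baseChange_of_flat (R := S) (A := T ⊗[R] S) (Algebra.H1Cotangent R S) q' hq
    rwa [(LinearEquiv.ofBijective _ (h1BaseChangeMap_bijective R S T)).support_eq] at this
  · apply mem_freeLocus_of_baseChange_of_flat (R := S) (A := T ⊗[R] S) Ω[S⁄R] q'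
    rw [Module.freeLocus_congr (KaehlerDifferential.tensorKaehlerEquiv R T S (T ⊗[R] S))]
    exact h2

end H1

section Transport

variable {R S S' : Type u} [CommRing R] [CommRing S] [CommRing S'] [Algebra R S] [Algebra R S']

/-- The smooth locus is invariant under algebra isomorphisms. -/
lemma mem_smoothLocus_comap_algEquiv (e : S ≃ₐ[R] S') (q' : PrimeSpectrum S')
    (h : q' ∈ Algebra.smoothLocus R S') :
    PrimeSpectrum.comap (e : S →+* S') q' ∈ Algebra.smoothLocus R S := by
  set q := PrimeSpectrum.comap (e : S →+* S') q' with hq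
  letI : Algebra S (Localization.AtPrime q'.asIdeal) :=
    ((algebraMap S' (Localization.AtPrime q'.asIdeal)).comp (e : S →+* S')).toAlgebra
  haveI : IsScalarTower R S (Localization.AtPrime q'.asIdeal) :=
    .of_algebraMap_eq (fun r => by
      simp [RingHom.algebraMap_toAlgebra,
        IsScalarTower.algebraMap_apply R S' (Localization.AtPrime q'.asIdeal)])
  have hM : q.asIdeal.primeCompl.map (e.toRingEquiv : S ≃+* S') = q'.asIdeal.primeCompl := by
    ext x
    constructor
    · rintro ⟨y, hy, rfl⟩
      exact hy
    · intro hx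
      refine ⟨e.symm x, ?_, by simp⟩
      change e.symm x ∉ q.asIdeal
      rw [hq, PrimeSpectrum.comap_asIdeal, Ideal.mem_comap]
      simpa using hx
  haveI : IsLocalization.AtPrime (Localization.AtPrime q'.asIdeal) q.asIdeal :=
    IsLocalization.of_ringEquiv_left e.toRingEquiv hM (fun x => rfl)
  have h' : Algebra.FormallySmooth R (Localization.AtPrime q'.asIdeal) := h
  exact Algebra.FormallySmooth.of_equiv
    ((IsLocalization.algEquiv q.asIdeal.primeCompl (Localization.AtPrime q'.asIdeal)
      (Localization.AtPrime q.asIdeal)).restrictScalars R)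

end Transport

section Pushout

variable (A A' B B' : Type u) [CommRing A] [CommRing A'] [CommRing B] [CommRing B']
  [Algebra A A'] [Algebra A B] [Algebra A B'] [Algebra B B'] [Algebra A' B']
  [IsScalarTower A B B'] [IsScalarTower A A' B'] [Algebra.IsPushout A A' B B']
  [Module.Flat A A'] [Algebra.FinitePresentation A B]

/-- **Descent of the smooth locus along flat base change.** -/
theorem mem_smoothLocus_of_isPushout_of_flat (q' : PrimeSpectrum B')
    (h : q' ∈ Algebra.smoothLocus A' B') :
    PrimeSpectrum.comap (algebraMap B B') q' ∈ Algebra.smoothLocus A B := by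
  letI := Algebra.TensorProduct.rightAlgebra (R := A) (A := A') (B := B)
  let e : A' ⊗[A] B ≃ₐ[A'] B' := Algebra.IsPushout.equiv A A' B B'
  have h1 := mem_smoothLocus_comap_algEquiv e q' h
  have h2 := mem_smoothLocus_of_tensor A B A' _ h1
  convert h2 using 1
  ext b
  simp only [PrimeSpectrum.comap_asIdeal, Ideal.mem_comap]
  have : (e : A' ⊗[A] B →+* B') (algebraMap B (A' ⊗[A] B) b) = algebraMap B B' b := by
    change e ((1 : A') ⊗ₜ b) = _
    rw [Algebra.IsPushout.equiv_tmul]
    simp
  rw [this]

end Pushout

end Groth.Agent.Helper16.SmoothBC
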