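import Mathlib

set_option autoImplicit false
universe u

namespace Groth.Agent.Helper16.FlatLocalDescent

open TensorProduct IsLocalRing

/-- `A → B → C` with `C` faithfully flat over `B` and flat over `A`: then `B` is flat over `A`. -/
theorem flat_of_faithfullyFlat_of_flat (A B C : Type u) [CommRing A] [CommRing B] [CommRing C]
    [Algebra A B] [Algebra B C] [Algebra A C] [IsScalarTower A B C]
    [Module.FaithfullyFlat B C] [Module.Flat A C] : Module.Flat A B := by
  rw [Module.Flat.iff_lTensor_preserves_injective_linearMap]
  intro N P _ _ _ _ f hf
  have h1 : Function.Injective (f.baseChange B) ↔ Function.Injective (f.lTensor B) := Iff.rfl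
  rw [← h1, ← Module.FaithfullyFlat.lTensor_injective_iff_injective B C]
  have h2 : LinearMap.lTensor C (f.baseChange B) =
      ((AlgebraTensorModule.cancelBaseChange A B C C P).symm.toLinearMap.restrictScalars B) ∘ₗ
        ((f.baseChange C).restrictScalars B) ∘ₗ
        ((AlgebraTensorModule.cancelBaseChange A B C C N).toLinearMap.restrictScalars B) := by
    ext c n
    simp
  rw [h2]
  have h3 : Function.Injective (f.baseChange C) :=
    Module.Flat.lTensor_preserves_injective_linearMap f hf
  simpa using h3

/-- Descent of formal unramifiedness along a flat local homomorphism of local rings. -/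
theorem formallyUnramified_of_flat_local (A B C : Type u) [CommRing A] [CommRing B] [CommRing C]
    [IsLocalRing A] [IsLocalRing B] [IsLocalRing C] [Algebra A B] [Algebra B C] [Algebra A C]
    [IsScalarTower A B C] [IsLocalHom (algebraMap A B)] [IsLocalHom (algebraMap B C)]
    [Algebra.EssFiniteType A B] [Algebra.EssFiniteType A C]
    [Module.Flat B C] [Algebra.FormallyUnramified A C] : Algebra.FormallyUnramified A B := by
  haveI : IsLocalHom (algebraMap A C) := by
    rw [IsScalarTower.algebraMap_eq A B C]; exact RingHom.isLocalHom_comp _ _
  haveI : Module.FaithfullyFlat B C := Module.FaithfullyFlat.of_flat_of_isLocalHom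
  have hC := Algebra.FormallyUnramified.map_maximalIdeal (R := A) (S := C)
  haveI hsepC : Algebra.IsSeparable (ResidueField A) (ResidueField C) := inferInstance
  haveI : Algebra.IsSeparable (ResidueField A) (ResidueField B) :=
    Algebra.isSeparable_tower_bot_of_isSeparable (ResidueField A) (ResidueField B) (ResidueField C)
  apply Algebra.FormallyUnramified.of_map_maximalIdeal
  apply le_antisymm
  · exact ((local_hom_TFAE (algebraMap A B)).out 0 2 rfl rfl).mp ‹_›
  · intro b hb
    rw [← Ideal.comap_map_eq_self_of_faithfullyFlat (B := C)
      ((maximalIdeal A).map (algebraMap A B)), Ideal.mem_comap, Ideal.map_map,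
      ← IsScalarTower.algebraMap_eq, hC]
    exact ((local_hom_TFAE (algebraMap B C)).out 0 2 rfl rfl).mp ‹_› (Ideal.mem_map_of_mem _ hb)

end Groth.Agent.Helper16.FlatLocalDescent
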