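import Mathlib.RingTheory.Smooth.StandardSmoothOfFree
import Mathlib.RingTheory.Etale.Basic
import Mathlib.RingTheory.Extension.Presentation.Submersive

/-!
# Lifting étale algebras along surjections
-/

set_option autoImplicit false
universe u
open MvPolynomial

namespace Groth.Agent.Helper16.Alg

section

variable {P A B : Type u} [CommRing P] [CommRing A] [CommRing B] [Algebra P A] [Algebra A B]
  [Algebra P B] [IsScalarTower P A B]

open Algebra in
/-- an étale algebra over a quotient `A` of `P` lifts to an étale algebra over `P`. -/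
theorem exists_etale_lift (hπ : Function.Surjective (algebraMap P A)) [Algebra.Etale A B] :
    ∃ (E : Type u) (_ : CommRing E) (_ : Algebra P E) (ψ : E →ₐ[P] B),
      Algebra.Etale P E ∧ Function.Surjective ψ ∧
      RingHom.ker ψ.toRingHom = Ideal.map (algebraMap P E) (RingHom.ker (algebraMap P A)) := by
  classical
  have hB : Algebra.IsStandardSmoothOfRelativeDimension 0 A B :=
    Algebra.Etale.iff_isStandardSmoothOfRelativeDimension_zero.1 inferInstance
  obtain ⟨ι, σ, _, _, Pr, hdim⟩ := hB.out
  haveI : Fintype σ := Fintype.ofFinite σ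
  -- lift the relations
  have hmap : Function.Surjective (MvPolynomial.map (algebraMap P A) :
      MvPolynomial ι P → MvPolynomial ι A) := MvPolynomial.map_surjective _ hπ
  choose F hF using fun s => hmap (Pr.relation s)
  let Q : PreSubmersivePresentation P (MvPolynomial ι P ⧸ Ideal.span (Set.range F)) ι σ :=
    PreSubmersivePresentation.naive Pr.map Pr.map_inj
  let E₀ := MvPolynomial ι P ⧸ Ideal.span (Set.range F)
  let E := Localization.Away Q.jacobian
  -- `E` is étale over `P`
  have hΔ : IsUnit (algebraMap E₀ E Q.jacobian) := IsLocalization.Away.algebraMap_isUnit _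
  let P' : Algebra.SubmersivePresentation P E _ _ :=
    { toPreSubmersivePresentation := .comp (.localizationAway E Q.jacobian) Q,
      jacobian_isUnit := by
        simpa [Algebra.smul_def, -isUnit_map_iff, hΔ] }
  have hQdim : Q.dimension = 0 := by
    have := hdim
    simp only [Algebra.Presentation.dimension] at this ⊢
    exact this
  have hE : Algebra.IsStandardSmoothOfRelativeDimension 0 P E :=
    ⟨_, _, _, inferInstance, P', by
      simp only [Algebra.PreSubmersivePresentation.dimension_comp_eq_dimension_add_dimension, P']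
      rw [hQdim, add_zero]
      exact Algebra.Presentation.localizationAway_dimension_zero _⟩
  haveI : Algebra.Etale P E := inferInstance
  -- the map to `B`
  let θ : MvPolynomial ι P →ₐ[P] B := MvPolynomial.aeval Pr.val
  have hθ : ∀ f, θ f =
      MvPolynomial.aeval (R := A) Pr.val (MvPolynomial.map (algebraMap P A) f) := by
    intro f
    exact (MvPolynomial.aeval_map_algebraMap A Pr.val f).symm
  have hθF : ∀ s, θ (F s) = 0 := by
    intro s
    rw [hθ, hF]
    exact Pr.aeval_val_relation s
  have hker : Ideal.span (Set.range F) ≤ RingHom.ker θ.toRingHom := by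
    rw [Ideal.span_le]
    rintro _ ⟨s, rfl⟩
    exact hθF s
  let ψ₀ : E₀ →ₐ[P] B := Ideal.Quotient.liftₐ _ θ (fun f hf => hker hf)
  have hψ₀mk : ∀ f, ψ₀ (Ideal.Quotient.mk _ f) = θ f := fun f => rfl
  have hjac : ψ₀ Q.jacobian = Pr.jacobian := by
    rw [PreSubmersivePresentation.jacobian_eq_jacobiMatrix_det,
      PreSubmersivePresentation.jacobian_eq_jacobiMatrix_det]
    change θ Q.jacobiMatrix.det = _
    rw [AlgHom.map_det, RingHom.map_det]
    congr 1
    ext i j
    rw [AlgHom.mapMatrix_apply, Matrix.map_apply, RingHom.mapMatrix_apply, Matrix.map_apply,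
      PreSubmersivePresentation.jacobiMatrix_apply, PreSubmersivePresentation.jacobiMatrix_apply,
      hθ, ← MvPolynomial.pderiv_map]
    change _ = algebraMap Pr.Ring B _
    rw [Pr.algebraMap_apply]
    congr 2
    exact hF j
  have hunit : ∀ y : Submonoid.powers Q.jacobian, IsUnit (ψ₀ y) := by
    rintro ⟨_, n, rfl⟩
    rw [map_pow, hjac]
    exact Pr.jacobian_isUnit.pow n
  let ψ : E →ₐ[P] B :=
    IsLocalization.liftAlgHom (M := Submonoid.powers Q.jacobian) (f := ψ₀) hunit
  have hψ : ∀ y : E₀, ψ (algebraMap E₀ E y) = ψ₀ y := fun y => IsLocalization.lift_eq _ _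
  have hθsurj : Function.Surjective θ := by
    intro b
    obtain ⟨f, hf⟩ := Pr.aeval_val_surjective b
    obtain ⟨g, rfl⟩ := hmap f
    exact ⟨g, by rw [hθ]; exact hf⟩
  have hψsurj : Function.Surjective ψ := by
    intro b
    obtain ⟨g, rfl⟩ := hθsurj b
    exact ⟨algebraMap E₀ E (Ideal.Quotient.mk _ g), by rw [hψ]; rfl⟩
  refine ⟨E, inferInstance, inferInstance, ψ, inferInstance, hψsurj, ?_⟩
  apply le_antisymm
  · intro x hx
    obtain ⟨⟨y, ⟨_, n, rfl⟩⟩, hxy⟩ := IsLocalization.surj (Submonoid.powers Q.jacobian) x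
    replace hxy : x * algebraMap E₀ E (Q.jacobian ^ n) = algebraMap E₀ E y := hxy
    have hx0 : ψ x = 0 := hx
    have hy0 : ψ₀ y = 0 := by
      rw [← hψ, ← hxy, map_mul, hx0, zero_mul]
    obtain ⟨f, rfl⟩ := Ideal.Quotient.mk_surjective y
    have hf0 : θ f = 0 := hy0
    have h1 : MvPolynomial.map (algebraMap P A) f ∈ Ideal.span (Set.range Pr.relation) := by
      rw [Pr.span_range_relation_eq_ker, Pr.ker_eq_ker_aeval_val, RingHom.mem_ker]
      rw [hθ] at hf0
      exact hf0
    have h2 : Ideal.span (Set.range Pr.relation) =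
        Ideal.map (MvPolynomial.map (algebraMap P A)) (Ideal.span (Set.range F)) := by
      rw [Ideal.map_span, ← Set.range_comp]
      congr 2
      funext s
      exact (hF s).symm
    rw [h2, Ideal.mem_map_iff_of_surjective _ hmap] at h1
    obtain ⟨f', hf', hff'⟩ := h1
    have h3 : f - f' ∈ Ideal.map (C : P →+* MvPolynomial ι P) (RingHom.ker (algebraMap P A)) := by
      rw [← MvPolynomial.ker_map, RingHom.mem_ker, map_sub, hff', sub_self]
    have h4 : Ideal.Quotient.mk (Ideal.span (Set.range F)) f ∈
        Ideal.map (algebraMap P E₀) (RingHom.ker (algebraMap P A)) := by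
      have e1 : Ideal.Quotient.mk (Ideal.span (Set.range F)) f =
          Ideal.Quotient.mk _ (f - f') := by
        rw [map_sub, Ideal.Quotient.eq_zero_iff_mem.2 hf', sub_zero]
      rw [e1]
      have e2 : algebraMap P E₀ = (Ideal.Quotient.mk (Ideal.span (Set.range F))).comp C := rfl
      rw [e2, ← Ideal.map_map]
      exact Ideal.mem_map_of_mem _ h3
    have h5 : algebraMap E₀ E (Ideal.Quotient.mk _ f) ∈
        Ideal.map (algebraMap P E) (RingHom.ker (algebraMap P A)) := by
      rw [IsScalarTower.algebraMap_eq P E₀ E, ← Ideal.map_map]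
      exact Ideal.mem_map_of_mem _ h4
    have hu : IsUnit (algebraMap E₀ E (Q.jacobian ^ n)) := by
      rw [map_pow]
      exact hΔ.pow n
    rw [← hxy] at h5
    exact (Ideal.mul_unit_mem_iff_mem _ hu).1 h5
  · rw [Ideal.map_le_iff_le_comap]
    intro i hi
    rw [Ideal.mem_comap, RingHom.mem_ker]
    change ψ (algebraMap P E i) = 0
    rw [AlgHom.commutes, IsScalarTower.algebraMap_apply P A B, (RingHom.mem_ker).1 hi, map_zero]

end

end Groth.Agent.Helper16.Alg
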