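import Mathlib
import Groth.Agent.Lib.Helper16.Alg.NormalEtale
set_option autoImplicit false
open TensorProduct
universe u v

namespace Groth.Agent.Helper16.NormalSmooth

theorem mem_range_of_isIntegral' (R : Type u) (T : Type v) (K : Type u) [CommRing R] [IsDomain R] [IsIntegrallyClosed R]
    [CommRing T] [Algebra R T] [Field K] [Algebra R K] [IsFractionRing R K]
    (H : Function.Surjective (TensorProduct.toIntegralClosure R T K)) (x : T ⊗[R] K)
    (hx : IsIntegral T x) : x ∈ Set.range (algebraMap T (T ⊗[R] K)) := by
  obtain ⟨z, hz⟩ := H ⟨x, hx⟩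
  have key : ∀ z : T ⊗[R] integralClosure R K,
      ((TensorProduct.toIntegralClosure R T K z : integralClosure T (T ⊗[R] K)) : T ⊗[R] K) ∈
        Set.range (algebraMap T (T ⊗[R] K)) := by
    intro z
    induction z with
    | zero => exact ⟨0, by simp⟩
    | add a b ha hb =>
      obtain ⟨a', ha'⟩ := ha
      obtain ⟨b', hb'⟩ := hb
      refine ⟨a' + b', ?_⟩
      rw [map_add, map_add, ha', hb']
      rfl
    | tmul t y =>
      have hy : (y : K) ∈ (⊥ : Subalgebra R K) := by
        rw [← IsIntegrallyClosed.integralClosure_eq_bot R K]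
        exact y.2
      obtain ⟨r, hr⟩ := Algebra.mem_bot.mp hy
      refine ⟨r • t, ?_⟩
      have : ((TensorProduct.toIntegralClosure R T K (t ⊗ₜ y) : integralClosure T (T ⊗[R] K)) :
          T ⊗[R] K) = t ⊗ₜ (y : K) := by
        simp [TensorProduct.toIntegralClosure]
      rw [this, ← hr, Algebra.TensorProduct.algebraMap_apply, Algebra.algebraMap_self_apply,
        TensorProduct.smul_tmul, Algebra.algebraMap_eq_smul_one]
  have := key z
  rw [hz] at this
  exact this

/-- Polynomial rings over normal domains are normal. -/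
theorem mvPolynomial_isIntegrallyClosed (R : Type u) [CommRing R] [IsDomain R]
    [IsIntegrallyClosed R] (σ : Type v) : IsIntegrallyClosed (MvPolynomial σ R) := by
  let T := MvPolynomial σ R
  let K := FractionRing R
  let L := T ⊗[R] K
  let e : L ≃+* MvPolynomial σ K :=
    (Algebra.TensorProduct.comm R T K).toRingEquiv.trans
      (MvPolynomial.algebraTensorAlgEquiv (σ := σ) R K).toRingEquiv
  haveI hLdom : IsDomain L := e.toMulEquiv.isDomain (MvPolynomial σ K)
  haveI hLic : IsIntegrallyClosed L := IsIntegrallyClosed.of_equiv e.symm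
  haveI hloc : IsLocalization (Algebra.algebraMapSubmonoid T (nonZeroDivisors R)) L :=
    inferInstance
  have hM : Algebra.algebraMapSubmonoid T (nonZeroDivisors R) ≤ nonZeroDivisors T := by
    rintro _ ⟨r, hr, rfl⟩
    refine mem_nonZeroDivisors_of_ne_zero ?_
    have h0 : (algebraMap R T) r = MvPolynomial.C r := rfl
    rw [h0, Ne, map_eq_zero_iff _ (MvPolynomial.C_injective σ R)]
    exact nonZeroDivisors.ne_zero hr
  let F := FractionRing T
  have hunits : ∀ y : Algebra.algebraMapSubmonoid T (nonZeroDivisors R),
      IsUnit (algebraMap T F y) := fun y =>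
    IsLocalization.map_units F (⟨y.1, hM y.2⟩ : nonZeroDivisors T)
  letI : Algebra L F := (IsLocalization.lift (S := L) hunits).toAlgebra
  haveI : IsScalarTower T L F :=
    IsScalarTower.of_algebraMap_eq' (IsLocalization.lift_comp (S := L) hunits).symm
  haveI : IsFractionRing L F :=
    IsFractionRing.isFractionRing_of_isLocalization
      (Algebra.algebraMapSubmonoid T (nonZeroDivisors R)) L F hM
  rw [isIntegrallyClosed_iff F]
  intro x hx
  have hxL : IsIntegral L x := hx.tower_top
  obtain ⟨l, rfl⟩ := IsIntegrallyClosed.algebraMap_eq_of_integral hxL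
  have hl : IsIntegral T l :=
    (isIntegral_algebraMap_iff (IsFractionRing.injective L F)).mp hx
  have H : Function.Surjective (TensorProduct.toIntegralClosure R T K) :=
    (TensorProduct.toIntegralClosure_mvPolynomial_bijective).2
  obtain ⟨t, rfl⟩ := mem_range_of_isIntegral' R T K H l hl
  exact ⟨t, (IsScalarTower.algebraMap_apply T L F t)⟩


/-- A local ring which is a localization of a smooth algebra over a normal domain is a normal
domain. -/
theorem normal_of_smooth_localization (R B₀ T : Type u) [CommRing R] [IsDomain R]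
    [IsIntegrallyClosed R] [CommRing B₀] [Algebra R B₀] [Algebra.Smooth R B₀] [CommRing T]
    [IsLocalRing T] [Algebra B₀ T] [Algebra R T] [IsScalarTower R B₀ T] (M : Submonoid B₀)
    [IsLocalization M T] : IsDomain T ∧ IsIntegrallyClosed T := by
  let q₀ : Ideal B₀ := (IsLocalRing.maximalIdeal T).comap (algebraMap B₀ T)
  haveI : q₀.IsPrime := Ideal.comap_isPrime _ _
  haveI : Algebra.IsSmoothAt R q₀ := inferInstance
  obtain ⟨f, hfq, n, _, _, _⟩ :=
    Algebra.IsSmoothAt.exists_isStandardEtale_mvPolynomial (R := R) (p := q₀)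
  have hfu : IsUnit (algebraMap B₀ T f) := by
    by_contra h
    exact hfq ((IsLocalRing.mem_maximalIdeal _).mpr h)
  letI : Algebra (Localization.Away f) T := (IsLocalization.Away.lift f hfu).toAlgebra
  haveI : IsScalarTower B₀ (Localization.Away f) T :=
    IsScalarTower.of_algebraMap_eq' (IsLocalization.Away.lift_comp f hfu).symm
  letI : Algebra (MvPolynomial (Fin n) R) T :=
    ((algebraMap (Localization.Away f) T).comp
      (algebraMap (MvPolynomial (Fin n) R) (Localization.Away f))).toAlgebra
  haveI : IsScalarTower (MvPolynomial (Fin n) R) (Localization.Away f) T :=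
    IsScalarTower.of_algebraMap_eq' rfl
  let M' : Submonoid B₀ := M ⊔ Submonoid.powers f
  have hM'u : ∀ r ∈ M', IsUnit (algebraMap B₀ T r) := by
    intro r hr
    obtain ⟨a, ha, b, hb, rfl⟩ := Submonoid.mem_sup.mp hr
    rw [map_mul]
    refine IsUnit.mul (IsLocalization.map_units T ⟨a, ha⟩) ?_
    obtain ⟨k, rfl⟩ := hb
    rw [map_pow]
    exact hfu.pow k
  haveI : IsLocalization M' T := IsLocalization.of_le M M' le_sup_left hM'u
  haveI : IsLocalization (M'.map (algebraMap B₀ (Localization.Away f))) T :=
    IsLocalization.isLocalization_of_submonoid_le (Localization.Away f) T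
      (Submonoid.powers f) M' le_sup_right
  haveI : IsIntegrallyClosed (MvPolynomial (Fin n) R) := mvPolynomial_isIntegrallyClosed R (Fin n)
  haveI : Algebra.Etale (MvPolynomial (Fin n) R) (Localization.Away f) := inferInstance
  exact NormalEtale.normal_of_etale_localization (MvPolynomial (Fin n) R) (Localization.Away f) T
    (M'.map (algebraMap B₀ (Localization.Away f)))

end Groth.Agent.Helper16.NormalSmooth
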