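import Mathlib
import Groth.Agent.Lib.Helper16.Alg.NormalSmooth
import Groth.Agent.Lib.Helper29.NormDesc
set_option autoImplicit false
set_option linter.style.haveILetI false
open TensorProduct
universe u

namespace Groth.Agent.Helper16.NormalSmooth

attribute [local instance] Algebra.TensorProduct.rightAlgebra in
theorem normal_of_smooth_atPrime (A B : Type u) [CommRing A] [CommRing B] [Algebra A B]
    [Algebra.Smooth A B] (p : Ideal A) [p.IsPrime] (q : Ideal B) [q.IsPrime] [hlo : q.LiesOver p]
    (Rp T : Type u) [CommRing Rp] [CommRing T] [Algebra A Rp] [IsLocalization.AtPrime Rp p]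
    [Algebra B T] [IsLocalization.AtPrime T q] [Algebra Rp T] [Algebra A T]
    [IsScalarTower A Rp T] [IsScalarTower A B T]
    [IsDomain Rp] [IsIntegrallyClosed Rp] : IsDomain T ∧ IsIntegrallyClosed T := by
  haveI : IsLocalRing T := IsLocalization.AtPrime.isLocalRing T q
  let φ : Rp ⊗[A] B →ₐ[Rp] T :=
    Algebra.TensorProduct.lift (Algebra.ofId Rp T) (IsScalarTower.toAlgHom A B T)
      (fun _ _ => Commute.all _ _)
  letI : Algebra (Rp ⊗[A] B) T := φ.toRingHom.toAlgebra
  haveI : IsScalarTower Rp (Rp ⊗[A] B) T := IsScalarTower.of_algebraMap_eq' φ.comp_algebraMap.symm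
  haveI : IsScalarTower B (Rp ⊗[A] B) T := by
    refine IsScalarTower.of_algebraMap_eq (fun b => ?_)
    show _ = φ (1 ⊗ₜ b)
    simp [φ]
  haveI : IsLocalization (Algebra.algebraMapSubmonoid B p.primeCompl) (Rp ⊗[A] B) := inferInstance
  have hle : Algebra.algebraMapSubmonoid B p.primeCompl ≤ q.primeCompl := by
    rintro _ ⟨a, ha, rfl⟩
    intro hmem
    apply ha
    rw [hlo.over]
    exact hmem
  haveI := IsLocalization.isLocalization_of_submonoid_le (Rp ⊗[A] B) T _ _ hle
  exact normal_of_smooth_localization Rp (Rp ⊗[A] B) T
    (q.primeCompl.map (algebraMap B (Rp ⊗[A] B)))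

/-- Smooth algebras over normal rings have normal localizations. -/
theorem normal_localization_of_smooth (A B : Type u) [CommRing A] [CommRing B] [Algebra A B]
    [Algebra.Smooth A B] (q : Ideal B) [q.IsPrime]
    [IsDomain (Localization.AtPrime (q.under A))]
    [IsIntegrallyClosed (Localization.AtPrime (q.under A))] :
    IsDomain (Localization.AtPrime q) ∧ IsIntegrallyClosed (Localization.AtPrime q) := by
  letI := Localization.AtPrime.algebraOfLiesOver (q.under A) q
  exact normal_of_smooth_atPrime A B (q.under A) q (Localization.AtPrime (q.under A))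
    (Localization.AtPrime q)

/-- Normality descends along flat maps at primes. -/
theorem normal_localization_descent (A B : Type u) [CommRing A] [CommRing B] [Algebra A B]
    [Module.Flat A B] (q : Ideal B) [q.IsPrime]
    [IsDomain (Localization.AtPrime q)] [IsIntegrallyClosed (Localization.AtPrime q)] :
    IsDomain (Localization.AtPrime (q.under A)) ∧
      IsIntegrallyClosed (Localization.AtPrime (q.under A)) := by
  letI := Localization.AtPrime.algebraOfLiesOver (q.under A) q
  have : IsLocalHom (algebraMap (Localization.AtPrime (q.under A)) (Localization.AtPrime q)) := by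
    rw [RingHom.algebraMap_toAlgebra]
    exact Localization.isLocalHom_localRingHom (q.under A) q (algebraMap A B) Ideal.LiesOver.over
  have : Module.FaithfullyFlat (Localization.AtPrime (q.under A)) (Localization.AtPrime q) :=
    Module.FaithfullyFlat.of_flat_of_isLocalHom
  exact ⟨Groth.Agent.Helper29.NormDesc.isDomain_of_faithfullyFlat
      (Localization.AtPrime (q.under A)) (Localization.AtPrime q),
    Groth.Agent.Helper29.NormDesc.isIntegrallyClosed_of_faithfullyFlat
      (Localization.AtPrime (q.under A)) (Localization.AtPrime q)⟩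

theorem isNormalRing_of_smooth (A B : Type u) [CommRing A] [CommRing B] [Algebra A B]
    [Algebra.Smooth A B] (hA : EGA4.IsNormalRing A) : EGA4.IsNormalRing B := by
  intro q hq
  obtain ⟨h1, h2⟩ := hA (q.under A)
  exact normal_localization_of_smooth A B q

end Groth.Agent.Helper16.NormalSmooth
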