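import Mathlib
set_option autoImplicit false
open TensorProduct
universe u

namespace Groth.Agent.Helper16.UnrSplit

section Step1

variable {R E Sg : Type*} [CommRing R] [CommRing E] [CommRing Sg] [Algebra R E] [Algebra R Sg]
  [Algebra.FormallyUnramified R E] [Algebra.EssFiniteType R E]
  (φ : E →ₐ[R] Sg)

/-- the map `E ⊗ Sg → Sg` -/
noncomputable def pi' : E ⊗[R] Sg →ₐ[R] Sg :=
  Algebra.TensorProduct.lift φ (AlgHom.id R Sg) (fun _ _ => Commute.all _ _)

@[simp] lemma pi'_tmul (x : E) (s : Sg) : pi' φ (x ⊗ₜ s) = φ x * s := by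
  simp [pi']

/-- the idempotent -/
noncomputable def eps : E ⊗[R] Sg :=
  Algebra.TensorProduct.map (AlgHom.id R E) φ (Algebra.FormallyUnramified.elem R E)

lemma pi'_comp_map (w : E ⊗[R] E) :
    pi' φ (Algebra.TensorProduct.map (AlgHom.id R E) φ w) = φ (Algebra.TensorProduct.lmul' R w) := by
  induction w with
  | zero => simp
  | add a b ha hb => simp only [map_add, ha, hb]
  | tmul a b => simp

lemma pi'_eps : pi' φ (eps φ) = 1 := by
  rw [eps, pi'_comp_map, Algebra.FormallyUnramified.lmul_elem, map_one]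

lemma mul_elem (w : E ⊗[R] E) :
    w * Algebra.FormallyUnramified.elem R E =
      (1 ⊗ₜ Algebra.TensorProduct.lmul' R w) * Algebra.FormallyUnramified.elem R E := by
  induction w with
  | zero => simp
  | add a b ha hb => rw [add_mul, ha, hb, map_add, tmul_add, add_mul]
  | tmul a b =>
    have h1 : (a ⊗ₜ[R] b : E ⊗[R] E) = (1 ⊗ₜ b) * (a ⊗ₜ 1) := by
      simp
    rw [h1, mul_assoc, ← Algebra.FormallyUnramified.one_tmul_mul_elem, ← mul_assoc]
    simp [mul_comm]

lemma mul_eps (hφ : Function.Surjective φ) (z : E ⊗[R] Sg) :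
    z * eps φ = (1 ⊗ₜ pi' φ z) * eps φ := by
  have hsurj : Function.Surjective (Algebra.TensorProduct.map (AlgHom.id R E) φ) :=
    Algebra.TensorProduct.map_surjective _ _ Function.surjective_id hφ
  obtain ⟨w, rfl⟩ := hsurj z
  rw [eps, ← map_mul, mul_elem, map_mul, pi'_comp_map]
  congr 1

lemma eps_idem (hφ : Function.Surjective φ) : IsIdempotentElem (eps φ) := by
  show eps φ * eps φ = eps φ
  rw [mul_eps φ hφ, pi'_eps]
  exact one_mul _

lemma ker_pi' (hφ : Function.Surjective φ) :
    RingHom.ker (pi' φ) = Ideal.span {1 - eps φ} := by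
  apply le_antisymm
  · intro z hz
    rw [RingHom.mem_ker] at hz
    have h1 := mul_eps φ hφ z
    rw [hz, tmul_zero, zero_mul] at h1
    rw [Ideal.mem_span_singleton']
    refine ⟨z, ?_⟩
    rw [mul_sub, mul_one, h1, sub_zero]
  · rw [Ideal.span_le, Set.singleton_subset_iff]
    show 1 - eps φ ∈ RingHom.ker (pi' φ)
    rw [RingHom.mem_ker, map_sub, map_one, pi'_eps, sub_self]

end Step1


section Step2

variable {R S E Sg : Type u} [CommRing R] [CommRing S] [CommRing E] [CommRing Sg] [Algebra R S]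
  [Algebra R E] [Algebra.FormallyUnramified R E] [Algebra.EssFiniteType R E]
  [Algebra S Sg] [Algebra R Sg] [IsScalarTower R S Sg] (g : S) [IsLocalization.Away g Sg]
  (φ : E →ₐ[R] Sg)

/-- `E ⊗ S → E ⊗ Sg` -/
noncomputable def loc : E ⊗[R] S →ₐ[R] E ⊗[R] Sg :=
  Algebra.TensorProduct.map (AlgHom.id R E) (IsScalarTower.toAlgHom R S Sg)

variable (S) in
/-- π : E ⊗ S → Sg -/
noncomputable def pi : E ⊗[R] S →ₐ[R] Sg :=
  Algebra.TensorProduct.lift φ (IsScalarTower.toAlgHom R S Sg) (fun _ _ => Commute.all _ _)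

@[simp] lemma pi_tmul (x : E) (s : S) : pi S φ (x ⊗ₜ s) = φ x * algebraMap S Sg s := by
  simp [pi]

lemma pi_eq : pi S φ = (pi' φ).comp (loc (R := R) (S := S) (E := E) (Sg := Sg)) := by
  ext <;> simp [loc]

include g in
lemma pi_surjective (hφ : Function.Surjective φ) : Function.Surjective (pi S φ) := by
  intro y
  obtain ⟨x, rfl⟩ := hφ y
  exact ⟨x ⊗ₜ 1, by simp⟩

lemma flat_pi' (hφ : Function.Surjective φ) : (pi' φ).toRingHom.Flat := by
  have hsurj : Function.Surjective (pi' φ) := fun y => by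
    obtain ⟨x, rfl⟩ := hφ y
    exact ⟨x ⊗ₜ 1, by simp⟩
  have hpure : (RingHom.ker (pi' φ)).Pure := by
    rw [ker_pi' φ hφ]
    refine Ideal.Pure.of_isIdempotentElem (Submodule.fg_span_singleton _) ?_
    rw [Ideal.isIdempotentElem_iff_of_fg _ (Submodule.fg_span_singleton _)]
    exact ⟨1 - eps φ, (eps_idem φ hφ).one_sub, rfl⟩
  have h1 : (Ideal.Quotient.mk (RingHom.ker (pi' φ))).Flat := by
    rw [← Ideal.Quotient.algebraMap_eq, RingHom.flat_algebraMap_iff]
    exact hpure
  have h2 : (pi' φ).toRingHom =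
      (RingHom.quotientKerEquivOfSurjective hsurj).toRingHom.comp
        (Ideal.Quotient.mk (RingHom.ker (pi' φ))) := by
    refine RingHom.ext fun x => ?_
    rfl
  rw [h2]
  exact RingHom.Flat.comp h1 (.of_bijective (RingEquiv.bijective _))

include g in
omit [Algebra.FormallyUnramified R E] [Algebra.EssFiniteType R E] in
lemma flat_loc : (loc (R := R) (S := S) (E := E) (Sg := Sg)).toRingHom.Flat := by
  have h0 : (IsScalarTower.toAlgHom R S Sg).Flat := by
    show (algebraMap S Sg).Flat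
    rw [RingHom.flat_algebraMap_iff]
    exact IsLocalization.flat Sg (Submonoid.powers g)
  exact RingHom.Flat.lTensor (S := R) E h0

include g in
lemma flat_pi (hφ : Function.Surjective φ) : (pi S φ).toRingHom.Flat := by
  rw [pi_eq]
  exact RingHom.Flat.comp (flat_loc g) (flat_pi' φ hφ)

include g in
lemma pure_ker_pi (hφ : Function.Surjective φ) : (RingHom.ker (pi S φ)).Pure := by
  have hsurj := pi_surjective g φ hφ
  show Module.Flat _ _
  rw [← RingHom.flat_algebraMap_iff, Ideal.Quotient.algebraMap_eq]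
  have h2 : Ideal.Quotient.mk (RingHom.ker (pi S φ)) =
      (RingHom.quotientKerEquivOfSurjective hsurj).symm.toRingHom.comp (pi S φ).toRingHom := by
    refine RingHom.ext fun x => ?_
    show _ = (RingHom.quotientKerEquivOfSurjective hsurj).symm (pi S φ x)
    rw [RingEquiv.eq_symm_apply]
    rfl
  rw [h2]
  exact RingHom.Flat.comp (flat_pi g φ hφ) (.of_bijective (RingEquiv.bijective _))

set_option linter.style.haveILetI false in
include g in
lemma fg_ker_pi (hφ : Function.Surjective φ) : (RingHom.ker (pi S φ)).FG := by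
  letI : Algebra (E ⊗[R] S) (E ⊗[R] Sg) :=
    (loc (R := R) (S := S) (E := E) (Sg := Sg)).toRingHom.toAlgebra
  letI : Algebra (E ⊗[R] Sg) Sg := (pi' φ).toRingHom.toAlgebra
  letI : Algebra (E ⊗[R] S) Sg := (pi S φ).toRingHom.toAlgebra
  haveI : IsScalarTower (E ⊗[R] S) (E ⊗[R] Sg) Sg := by
    refine IsScalarTower.of_algebraMap_eq' ?_
    show (pi S φ).toRingHom = (pi' φ).toRingHom.comp (loc (R := R) (S := S) (E := E)).toRingHom
    rw [pi_eq]
    rfl
  haveI : IsScalarTower E (E ⊗[R] S) (E ⊗[R] Sg) := by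
    refine IsScalarTower.of_algebraMap_eq (fun x => ?_)
    show x ⊗ₜ[R] (1 : Sg) = loc (R := R) (S := S) (E := E) (Sg := Sg) (x ⊗ₜ 1)
    simp [loc]
  have hloc : IsLocalization ((Submonoid.powers g).map
      (Algebra.TensorProduct.includeRight (R := R) (A := E))) (E ⊗[R] Sg) := by
    refine IsLocalization.tensorProduct_tensorProduct_right R E (Submonoid.powers g) Sg ?_
    refine RingHom.ext fun s => ?_
    show loc (R := R) (S := S) (E := E) (Sg := Sg) (1 ⊗ₜ s) = 1 ⊗ₜ (algebraMap S Sg s)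
    simp [loc]
  haveI : IsLocalization.Away ((1 : E) ⊗ₜ[R] g) (E ⊗[R] Sg) := by
    rw [IsLocalization.Away]
    convert! hloc
    rw [Submonoid.map_powers]
    rfl
  haveI : Algebra.FinitePresentation (E ⊗[R] S) (E ⊗[R] Sg) :=
    IsLocalization.Away.finitePresentation ((1 : E) ⊗ₜ[R] g)
  have hsurj' : Function.Surjective (pi' φ) := fun y => by
    obtain ⟨x, rfl⟩ := hφ y
    exact ⟨x ⊗ₜ 1, by simp⟩
  haveI : Algebra.FinitePresentation (E ⊗[R] Sg) Sg := by
    refine Algebra.FinitePresentation.of_surjective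
      (f := Algebra.ofId (E ⊗[R] Sg) Sg) hsurj' ?_
    have : RingHom.ker (Algebra.ofId (E ⊗[R] Sg) Sg).toRingHom = RingHom.ker (pi' φ) := rfl
    rw [this, ker_pi' φ hφ]
    exact Submodule.fg_span_singleton _
  haveI : Algebra.FinitePresentation (E ⊗[R] S) Sg :=
    Algebra.FinitePresentation.trans (E ⊗[R] S) (E ⊗[R] Sg) Sg
  exact Algebra.FinitePresentation.ker_fG_of_surjective (Algebra.ofId (E ⊗[R] S) Sg)
    (pi_surjective g φ hφ)

include g in
theorem exists_idem (hφ : Function.Surjective φ) :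
    ∃ e : E ⊗[R] S, IsIdempotentElem e ∧ RingHom.ker (pi S φ) = Ideal.span {e} := by
  haveI := pure_ker_pi g φ hφ
  have h1 : IsIdempotentElem (RingHom.ker (pi S φ)) := Ideal.isIdempotentElem_of_pure _
  exact (Ideal.isIdempotentElem_iff_of_fg _ (fg_ker_pi g φ hφ)).mp h1

end Step2


section Step3

/-- Splitting an algebra along an idempotent generating the kernel of a surjection. -/
theorem exists_algEquiv_prod_of_ker_eq_span {E T A : Type u} [CommRing E] [CommRing T] [CommRing A]
    [Algebra E T] [Algebra E A] (π : T →ₐ[E] A) (hπ : Function.Surjective π) (e : T)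
    (he : IsIdempotentElem e) (hker : RingHom.ker π = Ideal.span {e}) :
    ∃ (B : Type u) (_ : CommRing B) (_ : Algebra E B) (F : T ≃ₐ[E] (A × B)),
      ∀ t, (F t).1 = π t := by
  let B := T ⧸ Ideal.span {1 - e}
  let F : T →ₐ[E] A × B := AlgHom.prod π (Ideal.Quotient.mkₐ E (Ideal.span {1 - e}))
  have hπe : π e = 0 := by
    have : e ∈ RingHom.ker π := by rw [hker]; exact Ideal.mem_span_singleton_self e
    exact this
  have hmk1 : Ideal.Quotient.mk (Ideal.span {1 - e}) (1 - e) = 0 :=
    Ideal.Quotient.eq_zero_iff_mem.mpr (Ideal.mem_span_singleton_self _)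
  have hmke : Ideal.Quotient.mk (Ideal.span {1 - e}) e = 1 := by
    have : Ideal.Quotient.mk (Ideal.span {1 - e}) e =
        Ideal.Quotient.mk (Ideal.span {1 - e}) 1 - Ideal.Quotient.mk (Ideal.span {1 - e}) (1 - e) := by
      rw [← map_sub]; congr 1; ring
    rw [this, hmk1, sub_zero, map_one]
  have hinj : Function.Injective F := by
    rw [injective_iff_map_eq_zero]
    intro t ht
    have h1 : π t = 0 := congrArg Prod.fst ht
    have h2 : Ideal.Quotient.mk (Ideal.span {1 - e}) t = 0 := congrArg Prod.snd ht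
    have h1' : t ∈ Ideal.span {e} := by rw [← hker]; exact h1
    rw [Ideal.Quotient.eq_zero_iff_mem] at h2
    obtain ⟨a, rfl⟩ := Ideal.mem_span_singleton'.mp h1'
    obtain ⟨b, hb⟩ := Ideal.mem_span_singleton'.mp h2
    have : a * e = a * e * e := by rw [mul_assoc, he.eq]
    rw [this, ← hb, mul_assoc, sub_mul, one_mul, he.eq, sub_self, mul_zero]
  have hsurj : Function.Surjective F := by
    rintro ⟨y, b⟩
    obtain ⟨t₁, rfl⟩ := hπ y
    obtain ⟨t₂, rfl⟩ := Ideal.Quotient.mk_surjective b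
    refine ⟨t₁ * (1 - e) + t₂ * e, ?_⟩
    apply Prod.ext
    · show π (t₁ * (1 - e) + t₂ * e) = π t₁
      rw [map_add, map_mul, map_mul, map_sub, map_one, hπe]
      ring
    · show Ideal.Quotient.mk _ (t₁ * (1 - e) + t₂ * e) = Ideal.Quotient.mk _ t₂
      rw [map_add, map_mul, map_mul, hmk1, hmke]
      ring
  exact ⟨B, inferInstance, inferInstance, AlgEquiv.ofBijective F ⟨hinj, hsurj⟩, fun t => rfl⟩

end Step3

end Groth.Agent.Helper16.UnrSplit
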