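import Mathlib
import Groth.Agent.Lib.Helper16.Alg.UnrSplit
set_option autoImplicit false
set_option linter.style.haveILetI false
open TensorProduct
universe u

namespace Groth.Agent.Helper16.UnrSplit

/-- étale-local splitting at one prime (statement S9452) -/
theorem split_at_prime (R : Type u) [CommRing R]
    (S : Type u) [CommRing S] [Algebra R S] [Algebra.FiniteType R S] (q : Ideal S) [q.IsPrime]
    [Algebra.IsUnramifiedAt R q] :
    ∃ (R' : Type u) (_ : CommRing R') (_ : Algebra R R') (_ : Algebra.Etale R R') (p' : Ideal R')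
      (_ : p'.IsPrime) (_ : p'.LiesOver (q.under R)) (A : Type u) (_ : CommRing A) (_ : Algebra R' A)
      (B : Type u) (_ : CommRing B) (_ : Algebra R' B) (e : (R' ⊗[R] S) ≃ₐ[R'] (A × B)),
      Function.Surjective (algebraMap R' A) ∧ (p'.map (algebraMap R' A)).IsPrime ∧
        (p'.map (algebraMap R' A)).comap (algebraMap R' A) = p' ∧
        (p'.map (algebraMap R' A)).comap (((RingHom.fst A B).comp e.toRingHom).comp
          (Algebra.TensorProduct.includeRight : S →ₐ[R] R' ⊗[R] S).toRingHom) = q := by
  obtain ⟨g, hgq, P, φ, hφ⟩ :=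
    Algebra.IsUnramifiedAt.exists_hasStandardEtaleSurjectionOn (R := R) q
  letI : Algebra P.Ring (Localization.Away g) := φ.toRingHom.toAlgebra
  haveI : IsScalarTower R P.Ring (Localization.Away g) :=
    IsScalarTower.of_algebraMap_eq' φ.comp_algebraMap.symm
  obtain ⟨e, he, hker⟩ := Groth.Agent.Helper16.UnrSplit.exists_idem g φ hφ
  let piE : P.Ring ⊗[R] S →ₐ[P.Ring] Localization.Away g :=
    Algebra.TensorProduct.lift (Algebra.ofId P.Ring (Localization.Away g))
      (IsScalarTower.toAlgHom R S (Localization.Away g)) (fun _ _ => Commute.all _ _)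
  have hpiE : ∀ t, piE t = Groth.Agent.Helper16.UnrSplit.pi S φ t := by
    intro t
    induction t with
    | zero => simp
    | add a b ha hb => rw [map_add, map_add, ha, hb]
    | tmul x s =>
      simp only [piE, Algebra.TensorProduct.lift_tmul, Groth.Agent.Helper16.UnrSplit.pi_tmul]
      rfl
  have hsurj : Function.Surjective piE := fun y => by
    obtain ⟨t, ht⟩ := Groth.Agent.Helper16.UnrSplit.pi_surjective g φ hφ y
    exact ⟨t, (hpiE t).trans ht⟩
  have hkerE : RingHom.ker piE = Ideal.span {e} := by
    rw [← hker]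
    ext t
    simp only [RingHom.mem_ker]
    rw [hpiE]
  obtain ⟨B, _, _, F, hF⟩ := Groth.Agent.Helper16.UnrSplit.exists_algEquiv_prod_of_ker_eq_span piE hsurj e he hkerE
  have hdisj : Disjoint (Submonoid.powers g : Set S) (q : Set S) := by
    rw [Ideal.disjoint_powers_iff_notMem_of_isPrime]
    exact hgq
  let qg : Ideal (Localization.Away g) := q.map (algebraMap S (Localization.Away g))
  haveI hqg : qg.IsPrime :=
    IsLocalization.isPrime_of_isPrime_disjoint (Submonoid.powers g) _ _ ‹_› hdisj
  have hqgq : qg.comap (algebraMap S (Localization.Away g)) = q :=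
    IsLocalization.comap_map_of_isPrime_disjoint (Submonoid.powers g) _ ‹_› hdisj
  let p' : Ideal P.Ring := qg.comap φ
  haveI : p'.IsPrime := Ideal.comap_isPrime _ _
  have halg : algebraMap P.Ring (Localization.Away g) = φ.toRingHom := RingHom.algebraMap_toAlgebra _
  have hmap : p'.map (algebraMap P.Ring (Localization.Away g)) = qg := by
    rw [halg]
    exact Ideal.map_comap_of_surjective φ hφ qg
  have hlo : p'.LiesOver (q.under R) := by
    constructor
    show q.comap (algebraMap R S) = (qg.comap φ).comap (algebraMap R P.Ring)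
    rw [← hqgq, Ideal.comap_comap]
    ext r
    simp only [Ideal.mem_comap, RingHom.comp_apply]
    rw [← IsScalarTower.algebraMap_apply, ← φ.commutes r]
  refine ⟨P.Ring, inferInstance, inferInstance, inferInstance, p', inferInstance, hlo,
    Localization.Away g, inferInstance, inferInstance, B, inferInstance, inferInstance, F,
    ?_, ?_, ?_, ?_⟩
  · rw [halg]; exact hφ
  · rw [hmap]; exact hqg
  · rw [hmap, halg]; rfl
  · rw [hmap, ← hqgq]
    congr 1
    refine RingHom.ext fun s => ?_
    show (F (1 ⊗ₜ s)).1 = algebraMap S (Localization.Away g) s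
    rw [hF, hpiE, Groth.Agent.Helper16.UnrSplit.pi_tmul, map_one, one_mul]


/-- ideal version -/
theorem split_at_prime_ideal (R : Type u) [CommRing R]
    (S : Type u) [CommRing S] [Algebra R S] [Algebra.FiniteType R S] (q : Ideal S) [q.IsPrime]
    [Algebra.IsUnramifiedAt R q] :
    ∃ (R' : Type u) (_ : CommRing R') (_ : Algebra R R') (_ : Algebra.Etale R R') (p' : Ideal R')
      (_ : p'.IsPrime) (_ : p'.LiesOver (q.under R)) (I : Ideal R')
      (B : Type u) (_ : CommRing B) (_ : Algebra R' B),
      Nonempty ((R' ⊗[R] S) ≃ₐ[R'] ((R' ⧸ I) × B)) ∧ I ≤ p' := by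
  obtain ⟨R', _, _, _, p', _, _, A, _, _, B, _, _, e, hsurj, hprime, hcomap, -⟩ :=
    split_at_prime R S q
  let I : Ideal R' := RingHom.ker (algebraMap R' A)
  have hI : I ≤ p' := by
    intro x hx
    rw [← hcomap, Ideal.mem_comap]
    have : algebraMap R' A x = 0 := hx
    rw [this]
    exact zero_mem _
  let e' : (R' ⧸ I) ≃ₐ[R'] A :=
    Ideal.quotientKerAlgEquivOfSurjective (f := Algebra.ofId R' A) hsurj
  exact ⟨R', inferInstance, inferInstance, inferInstance, p', inferInstance, inferInstance, I, B,
    inferInstance, inferInstance, ⟨e.trans (AlgEquiv.prodCongr e'.symm AlgEquiv.refl)⟩, hI⟩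

end Groth.Agent.Helper16.UnrSplit
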