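import Mathlib
import Groth.Agent.Lib.Helper16.Alg.UnrSplit2
set_option autoImplicit false
set_option linter.style.haveILetI false
open TensorProduct
universe u

namespace Groth.Agent.Helper16.UnrSplit

attribute [local instance] Localization.AtPrime.algebraOfLiesOver

/-- fibre degree -/
noncomputable def fd {R : Type u} [CommRing R] (p : Ideal R) [p.IsPrime] (S : Type u) [CommRing S]
    [Algebra R S] : ℕ :=
  Module.finrank p.ResidueField (p.ResidueField ⊗[R] S)

lemma fd_baseChange (R R' S : Type u) [CommRing R] [CommRing R'] [CommRing S] [Algebra R R']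
    [Algebra R S] (p : Ideal R) [p.IsPrime] (p' : Ideal R') [p'.IsPrime] [p'.LiesOver p] :
    fd p' (R' ⊗[R] S) = fd p S := by
  let e1 : p'.ResidueField ⊗[R'] (R' ⊗[R] S) ≃ₐ[p'.ResidueField] p'.ResidueField ⊗[R] S :=
    Algebra.TensorProduct.cancelBaseChange R R' p'.ResidueField p'.ResidueField S
  let e2 : p'.ResidueField ⊗[p.ResidueField] (p.ResidueField ⊗[R] S) ≃ₐ[p'.ResidueField]
      p'.ResidueField ⊗[R] S :=
    Algebra.TensorProduct.cancelBaseChange R p.ResidueField p'.ResidueField p'.ResidueField S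
  unfold fd
  rw [e1.toLinearEquiv.finrank_eq, ← e2.toLinearEquiv.finrank_eq, Module.finrank_baseChange]

lemma fd_congr {R A B : Type u} [CommRing R] [CommRing A] [CommRing B] [Algebra R A] [Algebra R B]
    (p : Ideal R) [p.IsPrime] (e : A ≃ₐ[R] B) : fd p A = fd p B := by
  unfold fd
  exact (Algebra.TensorProduct.congr (AlgEquiv.refl (R := p.ResidueField) (A₁ := p.ResidueField))
    e).toLinearEquiv.finrank_eq

lemma fd_prod {R A B : Type u} [CommRing R] [CommRing A] [CommRing B] [Algebra R A] [Algebra R B]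
    (p : Ideal R) [p.IsPrime] [Module.Finite p.ResidueField (p.ResidueField ⊗[R] A)]
    [Module.Finite p.ResidueField (p.ResidueField ⊗[R] B)] :
    fd p (A × B) = fd p A + fd p B := by
  unfold fd
  rw [(TensorProduct.prodRight R p.ResidueField p.ResidueField A B).finrank_eq,
    Module.finrank_prod]

lemma fd_quot_pos {R : Type u} [CommRing R] (p : Ideal R) [p.IsPrime] (I : Ideal R) (hI : I ≤ p) :
    0 < fd p (R ⧸ I) := by
  unfold fd
  have hmap : I.map (algebraMap R p.ResidueField) = ⊥ := by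
    rw [eq_bot_iff, Ideal.map_le_iff_le_comap]
    intro x hx
    rw [Ideal.mem_comap, Ideal.mem_bot, Ideal.algebraMap_residueField_eq_zero]
    exact hI hx
  let e := Algebra.TensorProduct.quotIdealMapEquivTensorQuot p.ResidueField I
  rw [← e.toLinearEquiv.finrank_eq]
  haveI : Nontrivial (p.ResidueField ⧸ I.map (algebraMap R p.ResidueField)) := by
    rw [hmap]
    exact (RingEquiv.quotientBot p.ResidueField).symm.injective.nontrivial
  haveI : Module.Finite p.ResidueField (p.ResidueField ⧸ I.map (algebraMap R p.ResidueField)) :=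
    Module.Finite.of_surjective (Algebra.linearMap _ _) Ideal.Quotient.mk_surjective
  exact Module.finrank_pos


/-- reindexing products over `Option` -/
def optionProdEquiv (E : Type*) [CommSemiring E] {ι : Type*} (W : Option ι → Type*)
    [∀ o, Semiring (W o)] [∀ o, Algebra E (W o)] (Z : Type*) [Semiring Z] [Algebra E Z] :
    (W none × ((Π i, W (some i)) × Z)) ≃ₐ[E] (Π o, W o) × Z where
  toFun x := (fun o => match o with | none => x.1 | some i => x.2.1 i, x.2.2)
  invFun y := (y.1 none, (fun i => y.1 (some i), y.2))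
  left_inv x := rfl
  right_inv y := by
    apply Prod.ext
    · funext o
      cases o <;> rfl
    · rfl
  map_mul' x y := by
    apply Prod.ext
    · funext o
      cases o <;> rfl
    · rfl
  map_add' x y := by
    apply Prod.ext
    · funext o
      cases o <;> rfl
    · rfl
  commutes' r := by
    apply Prod.ext
    · funext o
      cases o <;> rfl
    · rfl

/-- the inductive claim -/
def Claim (R S : Type u) [CommRing R] [CommRing S] [Algebra R S] (p : Ideal R) [p.IsPrime] :
    Prop :=
  ∃ (R' : Type u) (_ : CommRing R') (_ : Algebra R R') (_ : Algebra.Etale R R') (p' : Ideal R')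
    (_ : p'.IsPrime) (_ : p'.LiesOver p) (ι : Type) (_ : Fintype ι) (I : ι → Ideal R')
    (B : Type u) (_ : CommRing B) (_ : Algebra R' B),
    Nonempty ((R' ⊗[R] S) ≃ₐ[R'] ((∀ i, R' ⧸ I i) × B)) ∧ (∀ i, I i ≤ p') ∧
      ∀ (q : Ideal B) [q.IsPrime], q.comap (algebraMap R' B) ≠ p'

lemma claim_of_no_prime (R S : Type u) [CommRing R] [CommRing S] [Algebra R S] (p : Ideal R)
    [p.IsPrime] (h : ∀ (q : Ideal S) [q.IsPrime], q.comap (algebraMap R S) ≠ p) :
    Claim R S p := by
  have hlo : p.LiesOver p := ⟨by simp [Ideal.under]⟩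
  let F : ((∀ i : Empty, R ⧸ (i.elim : Ideal R)) × S) →ₐ[R] S := AlgHom.snd R _ S
  have hF : Function.Bijective F := by
    constructor
    · rintro ⟨a, s⟩ ⟨a', s'⟩ hss
      have : s = s' := hss
      subst this
      congr 1
      funext i
      exact i.elim
    · intro s
      exact ⟨(fun i => i.elim, s), rfl⟩
  refine ⟨R, inferInstance, inferInstance, inferInstance, p, inferInstance, hlo, Empty,
    inferInstance, fun i => i.elim, S, inferInstance, inferInstance,
    ⟨(Algebra.TensorProduct.lid R S).trans (AlgEquiv.ofBijective F hF).symm⟩,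
    fun i => i.elim, h⟩

theorem claim (d : ℕ) : ∀ (R S : Type u) [CommRing R] [CommRing S] [Algebra R S]
    [Algebra.Unramified R S] (p : Ideal R) [p.IsPrime], fd p S = d → Claim R S p := by
  induction d using Nat.strong_induction_on with
  | _ d ih =>
  intro R S _ _ _ _ p _ hd
  by_cases h : ∀ (q : Ideal S) [q.IsPrime], q.comap (algebraMap R S) ≠ p
  · exact claim_of_no_prime R S p h
  push_neg at h
  obtain ⟨q, hq, hqp⟩ := h
  haveI : Algebra.IsUnramifiedAt R q := inferInstance
  obtain ⟨R₁, _, _, _, p₁, _, hlo₁, I₁, B₁, _, _, ⟨e₁⟩, hI₁⟩ := split_at_prime_ideal R S q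
  haveI : p₁.LiesOver p := by
    have : q.under R = p := hqp
    rw [← this]
    exact hlo₁
  -- `B₁` is unramified over `R₁`
  let f : R₁ ⊗[R] S →ₐ[R₁] B₁ := (AlgHom.snd R₁ (R₁ ⧸ I₁) B₁).comp e₁.toAlgHom
  have hf : Function.Surjective f := by
    intro b
    obtain ⟨t, ht⟩ := e₁.surjective (0, b)
    exact ⟨t, by simp [f, ht]⟩
  haveI : Algebra.FormallyUnramified R₁ B₁ := Algebra.FormallyUnramified.of_surjective f hf
  haveI : Algebra.FiniteType R₁ B₁ := Algebra.FiniteType.of_surjective f hf
  haveI : Algebra.Unramified R₁ B₁ := {}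
  -- the measure decreases
  have hfd : fd p₁ B₁ < d := by
    have h1 : fd p₁ (R₁ ⊗[R] S) = d := (fd_baseChange R R₁ S p p₁).trans hd
    haveI : Module.Finite p₁.ResidueField (p₁.ResidueField ⊗[R₁] (R₁ ⧸ I₁)) := inferInstance
    haveI : Module.Finite p₁.ResidueField (p₁.ResidueField ⊗[R₁] B₁) :=
      Algebra.QuasiFinite.finite_fiber p₁
    rw [fd_congr p₁ e₁, fd_prod] at h1
    have := fd_quot_pos p₁ I₁ hI₁
    omega
  obtain ⟨R₂, _, _, _, p₂, _, _, ι, _, I, B₂, _, _, ⟨e₂⟩, hI, hB₂⟩ := ih _ hfd R₁ B₁ p₁ rfl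
  letI : Algebra R R₂ := ((algebraMap R₁ R₂).comp (algebraMap R R₁)).toAlgebra
  haveI : IsScalarTower R R₁ R₂ := IsScalarTower.of_algebraMap_eq' rfl
  haveI : Algebra.Etale R R₂ := Algebra.Etale.comp R R₁ R₂
  haveI : p₂.LiesOver p := Ideal.LiesOver.trans p₂ p₁ p
  let J : Option ι → Ideal R₂ := fun o => o.elim (I₁.map (algebraMap R₁ R₂)) I
  refine ⟨R₂, inferInstance, inferInstance, inferInstance, p₂, inferInstance, inferInstance,
    Option ι, inferInstance, J, B₂, inferInstance, inferInstance, ⟨?_⟩, ?_, hB₂⟩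
  · exact (Algebra.TensorProduct.cancelBaseChange R R₁ R₂ R₂ S).symm.trans <|
      (Algebra.TensorProduct.congr AlgEquiv.refl e₁).trans <|
      (Algebra.TensorProduct.prodRight R₁ R₂ R₂ (R₁ ⧸ I₁) B₁).trans <|
      (AlgEquiv.prodCongr (Algebra.TensorProduct.quotIdealMapEquivTensorQuot R₂ I₁).symm e₂).trans
        (optionProdEquiv R₂ (fun o => R₂ ⧸ J o) B₂)
  · rintro (_ | i)
    · show I₁.map (algebraMap R₁ R₂) ≤ p₂
      rw [Ideal.map_le_iff_le_comap]
      refine hI₁.trans ?_
      rw [Ideal.LiesOver.over (p := p₁) (P := p₂)]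
    · exact hI i

end Groth.Agent.Helper16.UnrSplit
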