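import Mathlib
import Groth.Agent.Lib.Helper16.Alg.UnrSplit3
set_option autoImplicit false
set_option linter.style.haveILetI false
open TensorProduct
universe u

namespace Groth.Agent.Helper16.EtSplit
open Groth.Agent.Helper16.UnrSplit

/-- finite unramified algebras are étale-locally finite products of quotients
(with kernels inside the chosen prime) -/
theorem finite_split' (R₀ S₀ : Type u) [CommRing R₀] [CommRing S₀] [Algebra R₀ S₀]
    [Module.Finite R₀ S₀] [Algebra.FormallyUnramified R₀ S₀] (p₀ : Ideal R₀) [p₀.IsPrime] :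
    ∃ (R'' : Type u) (_ : CommRing R'') (_ : Algebra R₀ R'') (_ : Algebra.Etale R₀ R'')
      (p'' : Ideal R'') (_ : p''.IsPrime) (_ : p''.LiesOver p₀) (n : ℕ) (A : Fin n → Type u)
      (_ : ∀ i, CommRing (A i)) (_ : ∀ i, Algebra R'' (A i)),
      (∀ i, Function.Surjective (algebraMap R'' (A i))) ∧
      (∀ i, RingHom.ker (algebraMap R'' (A i)) ≤ p'') ∧
        Nonempty ((R'' ⊗[R₀] S₀) ≃ₐ[R''] (∀ i, A i)) := by
  classical
  haveI : Algebra.FiniteType R₀ S₀ := inferInstance
  haveI : Algebra.Unramified R₀ S₀ := {}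
  obtain ⟨R', _, _, _, p', _, _, ι, _, I, B, _, _, ⟨e⟩, hI, hB⟩ := claim _ R₀ S₀ p₀ rfl
  -- `B` is finite over `R'`
  let f : R' ⊗[R₀] S₀ →ₐ[R'] B := (AlgHom.snd R' (∀ i, R' ⧸ I i) B).comp e.toAlgHom
  have hf : Function.Surjective f := by
    intro b
    obtain ⟨t, ht⟩ := e.surjective (0, b)
    exact ⟨t, by simp [f, ht]⟩
  haveI : Module.Finite R' B := Module.Finite.of_surjective f.toLinearMap hf
  haveI : Algebra.IsIntegral R' B := inferInstance
  -- an element of the kernel outside `p'`
  have hker : ¬ (RingHom.ker (algebraMap R' B) ≤ p') := by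
    intro hle
    obtain ⟨Q, -, hQ, hQp⟩ := Ideal.exists_ideal_over_prime_of_isIntegral p' (⊥ : Ideal B)
      (by rwa [← RingHom.ker_eq_comap_bot])
    exact hB Q hQp
  obtain ⟨h, hhker, hhp⟩ := Set.not_subset.mp hker
  have hhB : algebraMap R' B h = 0 := hhker
  -- localize
  let R'' := Localization.Away h
  haveI : IsScalarTower R₀ R' R'' := inferInstance
  haveI : Algebra.Etale R' R'' := Algebra.Etale.of_isLocalizationAway h
  haveI : Algebra.Etale R₀ R'' := Algebra.Etale.comp R₀ R' R''
  have hdisj : Disjoint (Submonoid.powers h : Set R') (p' : Set R') := by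
    rw [Ideal.disjoint_powers_iff_notMem_of_isPrime]
    exact hhp
  let p'' : Ideal R'' := p'.map (algebraMap R' R'')
  haveI : p''.IsPrime := IsLocalization.isPrime_of_isPrime_disjoint (.powers h) _ _ ‹_› hdisj
  haveI : p''.LiesOver p' := IsLocalization.liesOver_map_of_isPrime_disjoint (.powers h) _ hdisj
  haveI : p''.LiesOver p₀ := Ideal.LiesOver.trans p'' p' p₀
  -- `R'' ⊗ B` is trivial
  haveI hsub : Subsingleton (R'' ⊗[R'] B) := by
    have h0 : ∀ z : R'' ⊗[R'] B, z = 0 := by
      intro z
      induction z with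
      | zero => rfl
      | add a b ha hb => rw [ha, hb, add_zero]
      | tmul x b =>
        obtain ⟨y, hy⟩ := (IsLocalization.Away.algebraMap_isUnit (S := R'') h).exists_right_inv
        have : x = h • (x * y) := by
          rw [Algebra.smul_def, mul_comm, mul_assoc, mul_comm y, hy, mul_one]
        rw [this, smul_tmul, Algebra.smul_def, hhB, zero_mul, tmul_zero]
    exact ⟨fun a b => (h0 a).trans (h0 b).symm⟩
  haveI : Unique (R'' ⊗[R'] B) := uniqueOfSubsingleton 0
  let eqv := Fintype.equivFin ι
  let E : R'' ⊗[R₀] S₀ ≃ₐ[R''] (∀ i : ι, R'' ⊗[R'] (R' ⧸ I i)) :=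
    (Algebra.TensorProduct.cancelBaseChange R₀ R' R'' R'' S₀).symm.trans <|
      (Algebra.TensorProduct.congr AlgEquiv.refl e).trans <|
      (Algebra.TensorProduct.prodRight R' R'' R'' (∀ i, R' ⧸ I i) B).trans <|
      (AlgEquiv.prodUnique).trans <|
      Algebra.TensorProduct.piRight R' R'' R'' (fun i => R' ⧸ I i)
  refine ⟨R'', inferInstance, inferInstance, inferInstance, p'', inferInstance, inferInstance,
    Fintype.card ι, fun j => R'' ⊗[R'] (R' ⧸ I (eqv.symm j)), fun j => inferInstance,
    fun j => inferInstance, ?_, ?_,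
    ⟨E.trans (AlgEquiv.piCongrLeft' R'' (fun i => R'' ⊗[R'] (R' ⧸ I i)) eqv)⟩⟩
  · intro j
    exact Algebra.TensorProduct.includeLeft_surjective (R := R') (T := R' ⧸ I (eqv.symm j)) R'' R''
      Ideal.Quotient.mk_surjective
  · intro j x hx
    rw [RingHom.mem_ker] at hx
    let Q := Algebra.TensorProduct.quotIdealMapEquivTensorQuot R'' (I (eqv.symm j))
    have h1 : Q (Ideal.Quotient.mk _ x) = algebraMap R'' _ x := by
      have : (Ideal.Quotient.mk ((I (eqv.symm j)).map (algebraMap R' R'')) x) =
          algebraMap R'' (R'' ⧸ (I (eqv.symm j)).map (algebraMap R' R'')) x := rfl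
      rw [this, AlgEquiv.commutes]
    rw [hx] at h1
    have h2 : Ideal.Quotient.mk ((I (eqv.symm j)).map (algebraMap R' R'')) x = 0 := by
      apply Q.injective
      rw [h1, map_zero]
    rw [Ideal.Quotient.eq_zero_iff_mem] at h2
    exact Ideal.map_mono (hI _) h2

/-- kernel of a flat surjection of finite presentation is generated by an idempotent -/
lemma exists_idem_ker {R A : Type u} [CommRing R] [CommRing A] [Algebra R A]
    (hs : Function.Surjective (algebraMap R A)) [Module.Flat R A]
    [Algebra.FinitePresentation R A] :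
    ∃ e : R, IsIdempotentElem e ∧ RingHom.ker (algebraMap R A) = Ideal.span {e} := by
  have hfg : (RingHom.ker (algebraMap R A)).FG :=
    Algebra.FinitePresentation.ker_fG_of_surjective (Algebra.ofId R A) hs
  have e : (R ⧸ RingHom.ker (algebraMap R A)) ≃ₗ[R] A :=
    (Ideal.quotientKerAlgEquivOfSurjective (f := Algebra.ofId R A) hs).toLinearEquiv
  haveI : (RingHom.ker (algebraMap R A)).Pure := Module.Flat.of_linearEquiv e
  have h1 : IsIdempotentElem (RingHom.ker (algebraMap R A)) := Ideal.isIdempotentElem_of_pure _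
  exact (Ideal.isIdempotentElem_iff_of_fg _ hfg).mp h1

/-- factors of an étale product are étale -/
lemma etale_of_pi {R : Type u} [CommRing R] {n : ℕ} (A : Fin n → Type u) [∀ i, CommRing (A i)]
    [∀ i, Algebra R (A i)] [Algebra.Etale R (∀ i, A i)] (i : Fin n) : Algebra.Etale R (A i) := by
  classical
  have h1 : Algebra.FormallyEtale R (A i) :=
    (Algebra.FormallyEtale.pi_iff A).mp inferInstance i
  have h2 : Algebra.FinitePresentation R (A i) := by
    refine Algebra.FinitePresentation.of_surjective (f := Pi.evalAlgHom R A i)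
      (Function.surjective_eval i) ?_
    have : RingHom.ker (Pi.evalAlgHom R A i).toRingHom = Ideal.span {1 - Pi.single i 1} := by
      apply le_antisymm
      · intro x hx
        rw [RingHom.mem_ker] at hx
        have hx' : x i = 0 := hx
        rw [Ideal.mem_span_singleton']
        refine ⟨x, ?_⟩
        funext j
        by_cases hj : j = i
        · subst hj; simp [hx']
        · simp [Pi.single_eq_of_ne hj]
      · rw [Ideal.span_le, Set.singleton_subset_iff]
        show (1 - Pi.single i 1 : ∀ i, A i) i = 0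
        simp
    rw [this]
    exact Submodule.fg_span_singleton _
  exact ⟨h1, h2⟩

/-- finite étale algebras are étale-locally split -/
theorem finite_etale_split (R₀ S₀ : Type u) [CommRing R₀] [CommRing S₀] [Algebra R₀ S₀]
    [Module.Finite R₀ S₀] [Algebra.Etale R₀ S₀] (p₀ : Ideal R₀) [p₀.IsPrime] :
    ∃ (R'' : Type u) (_ : CommRing R'') (_ : Algebra R₀ R'') (_ : Algebra.Etale R₀ R'')
      (p'' : Ideal R'') (_ : p''.IsPrime) (_ : p''.LiesOver p₀) (n : ℕ) (A : Fin n → Type u)
      (_ : ∀ i, CommRing (A i)) (_ : ∀ i, Algebra R'' (A i)),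
      (∀ i, Function.Bijective (algebraMap R'' (A i))) ∧
        Nonempty ((R'' ⊗[R₀] S₀) ≃ₐ[R''] (∀ i, A i)) := by
  classical
  obtain ⟨R', _, _, _, p', _, _, n, A, _, _, hsurj, hker, ⟨E⟩⟩ := finite_split' R₀ S₀ p₀
  haveI : Algebra.Etale R' (R' ⊗[R₀] S₀) := inferInstance
  haveI : Algebra.Etale R' (∀ i, A i) := Algebra.Etale.of_equiv E
  haveI : ∀ i, Algebra.Etale R' (A i) := etale_of_pi A
  haveI : ∀ i, Module.Flat R' (A i) := fun i => inferInstance
  haveI : ∀ i, Algebra.FinitePresentation R' (A i) := fun i => inferInstance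
  choose ε hε hεker using fun i => exists_idem_ker (hsurj i)
  have hεp : ∀ i, ε i ∈ p' := fun i =>
    hker i (by rw [hεker]; exact Ideal.mem_span_singleton_self _)
  let h : R' := ∏ i, (1 - ε i)
  have hh : h ∉ p' := by
    intro hmem
    obtain ⟨i, -, hi⟩ := (Ideal.IsPrime.prod_mem_iff).mp hmem
    apply ‹p'.IsPrime›.one_notMem
    have : (1 : R') = (1 - ε i) + ε i := by ring
    rw [this]
    exact add_mem hi (hεp i)
  let R'' := Localization.Away h
  haveI : IsScalarTower R₀ R' R'' := inferInstance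
  haveI : Algebra.Etale R' R'' := Algebra.Etale.of_isLocalizationAway h
  haveI : Algebra.Etale R₀ R'' := Algebra.Etale.comp R₀ R' R''
  have hdisj : Disjoint (Submonoid.powers h : Set R') (p' : Set R') := by
    rw [Ideal.disjoint_powers_iff_notMem_of_isPrime]
    exact hh
  let p'' : Ideal R'' := p'.map (algebraMap R' R'')
  haveI : p''.IsPrime := IsLocalization.isPrime_of_isPrime_disjoint (.powers h) _ _ ‹_› hdisj
  haveI : p''.LiesOver p' := IsLocalization.liesOver_map_of_isPrime_disjoint (.powers h) _ hdisj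
  haveI : p''.LiesOver p₀ := Ideal.LiesOver.trans p'' p' p₀
  have hε0 : ∀ i, algebraMap R' R'' (ε i) = 0 := by
    intro i
    have h1 : ε i * h = 0 := by
      show ε i * ∏ j, (1 - ε j) = 0
      rw [← Finset.mul_prod_erase Finset.univ (fun j => 1 - ε j) (Finset.mem_univ i), ← mul_assoc,
        mul_sub, mul_one, (hε i).eq, sub_self, zero_mul]
    have hu := IsLocalization.Away.algebraMap_isUnit (S := R'') h
    have h2 : algebraMap R' R'' (ε i) * algebraMap R' R'' h = 0 := by
      rw [← map_mul, h1, map_zero]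
    exact (hu.mul_left_eq_zero).mp h2
  let E'' : R'' ⊗[R₀] S₀ ≃ₐ[R''] (∀ i, R'' ⊗[R'] A i) :=
    (Algebra.TensorProduct.cancelBaseChange R₀ R' R'' R'' S₀).symm.trans <|
      (Algebra.TensorProduct.congr AlgEquiv.refl E).trans <|
      Algebra.TensorProduct.piRight R' R'' R'' A
  refine ⟨R'', inferInstance, inferInstance, inferInstance, p'', inferInstance, inferInstance,
    n, fun i => R'' ⊗[R'] A i, fun i => inferInstance, fun i => inferInstance, ?_, ⟨E''⟩⟩
  intro i
  constructor
  · -- a retraction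
    let q := Ideal.quotientKerAlgEquivOfSurjective (f := Algebra.ofId R' (A i)) (hsurj i)
    have hle : ∀ a ∈ RingHom.ker (Algebra.ofId R' (A i)), (Algebra.ofId R' R'') a = 0 := by
      intro a ha
      have ha' : a ∈ RingHom.ker (algebraMap R' (A i)) := ha
      rw [hεker, Ideal.mem_span_singleton'] at ha'
      obtain ⟨b, rfl⟩ := ha'
      show algebraMap R' R'' (b * ε i) = 0
      rw [map_mul, hε0, mul_zero]
    let g : A i →ₐ[R'] R'' := (Ideal.Quotient.liftₐ _ (Algebra.ofId R' R'') hle).comp q.symm.toAlgHom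
    let ρ : R'' ⊗[R'] A i →ₐ[R''] R'' :=
      Algebra.TensorProduct.lift (AlgHom.id R'' R'') g (fun _ _ => Commute.all _ _)
    have hρ : ∀ r : R'', ρ (algebraMap R'' (R'' ⊗[R'] A i) r) = r := by
      intro r
      rw [AlgHom.commutes]
      rfl
    intro a b hab
    rw [← hρ a, ← hρ b, hab]
  · exact Algebra.TensorProduct.includeLeft_surjective (R := R') (T := A i) R'' R'' (hsurj i)

end Groth.Agent.Helper16.EtSplit
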