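import Mathlib
import Groth.Agent.S2680
import Groth.Agent.Lib.Helper14.LocalDimAlg
import Groth.Agent.Lib.Helper14.LocalDimSpec

set_option autoImplicit false
set_option linter.style.haveILetI false
universe u

namespace Groth.Agent.Helper16.RegLoc

open Groth.Agent.Helper14

section field

variable (k Φ : Type u) [Field k] [CommRing Φ] [Algebra k Φ] [Algebra.FiniteType k Φ]

/-- transcendence degree of a finite type domain from its dimension. -/
theorem trdeg_eq_of_dim (P : Ideal Φ) [P.IsPrime] (d : ℕ)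
    (hd : ringKrullDim (Φ ⧸ P) = (d : WithBot ℕ∞)) : Algebra.trdeg k (Φ ⧸ P) = (d : Cardinal.{u}) := by
  obtain ⟨n, hn1, hn2, -⟩ := Groth.Agent.S2680.result k (Φ ⧸ P)
  have hnd : n = d := by
    rw [hd] at hn2
    exact_mod_cast hn2.symm
  subst hnd
  haveI : Algebra.IsAlgebraic (Φ ⧸ P) (FractionRing (Φ ⧸ P)) :=
    IsLocalization.isAlgebraic (FractionRing (Φ ⧸ P)) (nonZeroDivisors (Φ ⧸ P))
  haveI : FaithfulSMul k (Φ ⧸ P) := inferInstance
  have t1 := _root_.trdeg_add_eq k (Φ ⧸ P) (A := FractionRing (Φ ⧸ P))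
  have t2 : Algebra.trdeg (Φ ⧸ P) (FractionRing (Φ ⧸ P)) = 0 := _root_.trdeg_eq_zero
  rw [t2, add_zero] at t1
  rw [t1, hn1]

/-- in an equidimensional finite type algebra over a field, `ht Q + δ(Q) = d`. -/
theorem height_add_trdeg_eq_of_equidim (d : ℕ)
    (heq : ∀ P ∈ minimalPrimes Φ, ringKrullDim (Φ ⧸ P) = (d : WithBot ℕ∞))
    (Q : Ideal Φ) [Q.IsPrime] :
    ∃ r : ℕ, Algebra.trdeg k (Φ ⧸ Q) = (r : Cardinal.{u}) ∧ Q.height + (r : ℕ∞) = (d : ℕ∞) := by
  haveI : IsNoetherianRing Φ := Algebra.FiniteType.isNoetherianRing k Φ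
  obtain ⟨P, hPp, hPmin, hPQ, hht⟩ := DimIneqGen.exists_minimalPrime_height_le Φ Q
  haveI := hPp
  have h1 := LocalDimAlg.height_map_add_trdeg k Φ P Q hPQ
  have h2 := LocalDimAlg.height_map_le P Q hPQ
  have h3 : (Q.map (Ideal.Quotient.mk P)).height = Q.height := le_antisymm h2 hht
  rw [h3, trdeg_eq_of_dim k Φ P d (heq P hPmin)] at h1
  have hfin : Algebra.trdeg k (Φ ⧸ Q) < Cardinal.aleph0 := by
    refine lt_of_le_of_lt ?_ (Cardinal.natCast_lt_aleph0 (n := d))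
    rw [← h1]
    exact le_add_self
  obtain ⟨r, hr⟩ := Cardinal.lt_aleph0.mp hfin
  refine ⟨r, hr, ?_⟩
  rw [hr] at h1
  have h4 : ((Q.height + (r : ℕ∞) : ℕ∞) : Cardinal.{u}) = ((d : ℕ∞) : Cardinal.{u}) := by
    rw [Cardinal.ofENat_add]
    simpa using h1
  exact_mod_cast h4

end field

end Groth.Agent.Helper16.RegLoc
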