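import Mathlib

set_option autoImplicit false
universe u
open TensorProduct

namespace Groth.Agent.Helper16.GenFin

/-- if no prime of `C` lies over the minimal prime `p` of `A`, some `a ∉ p` dies in `C` -/
theorem exists_notMem_map_eq_zero {A C : Type*} [CommRing A] [CommRing C] (φ : A →+* C)
    (p : Ideal A) [p.IsPrime] (hmin : ∀ q : Ideal A, q.IsPrime → q ≤ p → q = p)
    (hno : ∀ Q : Ideal C, Q.IsPrime → Q.comap φ ≠ p) : ∃ a, a ∉ p ∧ φ a = 0 := by
  by_contra hcon
  push_neg at hcon
  have hdisj : Disjoint ((⊥ : Ideal C) : Set C) (p.primeCompl.map φ : Set C) := by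
    rw [Set.disjoint_left]
    rintro x hx ⟨a, ha, rfl⟩
    exact hcon a ha hx
  obtain ⟨Q, hQ, -, hQM⟩ := Ideal.exists_le_prime_disjoint ⊥ (p.primeCompl.map φ) hdisj
  have hle : Q.comap φ ≤ p := fun x hx => by
    by_contra hxp
    exact Set.disjoint_left.mp hQM hx ⟨x, hxp, rfl⟩
  exact hno Q hQ (hmin _ (Ideal.comap_isPrime φ Q) hle)

section fibre
variable {A B : Type*} [CommRing A] [CommRing B] [Algebra A B] (p : Ideal A) [p.IsPrime]

/-- an element of `B` dying in the fibre over the minimal prime `p` is nilpotent after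
inverting some `a ∉ p` -/
theorem exists_mul_pow_eq_zero_of_tmul_eq_zero
    (hmin : ∀ q : Ideal A, q.IsPrime → q ≤ p → q = p) (b : B)
    (hb : (1 : p.ResidueField) ⊗ₜ[A] b = 0) :
    ∃ a, a ∉ p ∧ ∃ N : ℕ, algebraMap A B a * b ^ N = 0 := by
  obtain ⟨a, hap, ha⟩ := exists_notMem_map_eq_zero
    ((algebraMap B (Localization.Away b)).comp (algebraMap A B)) p hmin (by
      intro Q hQ hQp
      let q₀ : Ideal B := Q.comap (algebraMap B (Localization.Away b))
      have hq₀ : q₀.comap (algebraMap A B) = p := by rw [← hQp]; rfl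
      have hbq₀ : b ∉ q₀ := fun hbq => by
        have hu : IsUnit (algebraMap B (Localization.Away b) b) :=
          IsLocalization.Away.algebraMap_isUnit b
        exact hQ.ne_top (Ideal.eq_top_of_isUnit_mem _ hbq hu)
      let P : PrimeSpectrum A := ⟨p, inferInstance⟩
      let q₁ : PrimeSpectrum.comap (algebraMap A B) ⁻¹' {P} :=
        ⟨⟨q₀, inferInstance⟩, PrimeSpectrum.ext hq₀⟩
      have h1 := (PrimeSpectrum.preimageEquivFiber A B P).left_inv q₁
      have h2 : ((PrimeSpectrum.preimageEquivFiber A B P q₁).asIdeal.comap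
          (Algebra.TensorProduct.includeRight : B →ₐ[A] p.Fiber B).toRingHom) = q₀ :=
        congrArg (fun z => z.1.asIdeal) h1
      apply hbq₀
      rw [← h2, Ideal.mem_comap]
      show (Algebra.TensorProduct.includeRight : B →ₐ[A] p.Fiber B) b ∈ _
      rw [Algebra.TensorProduct.includeRight_apply, hb]
      exact Ideal.zero_mem _)
  refine ⟨a, hap, ?_⟩
  rw [RingHom.comp_apply, IsLocalization.map_eq_zero_iff (Submonoid.powers b)] at ha
  obtain ⟨⟨_, N, rfl⟩, hN⟩ := ha
  exact ⟨N, by rw [mul_comm]; exact hN⟩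

end fibre

end Groth.Agent.Helper16.GenFin
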