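import Mathlib
import Groth.Agent.Lib.Helper16.Alg.GenFin

set_option autoImplicit false
universe u
open TensorProduct Polynomial

namespace Groth.Agent.Helper16.GenFin

section fibre
variable {A B : Type*} [CommRing A] [CommRing B] [Algebra A B] (p : Ideal A) [p.IsPrime]

/-- finitely many primes over `p` + finite type ⇒ the fibre is a finite `κ(p)`-module -/
theorem finite_fiber_of_finite_preimage [Algebra.FiniteType A B]
    (hfin : (PrimeSpectrum.comap (algebraMap A B) ⁻¹' {(⟨p, inferInstance⟩ : PrimeSpectrum A)}).Finite) :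
    Module.Finite p.ResidueField (p.Fiber B) := by
  rw [Module.finite_iff_isArtinianRing, isArtinianRing_iff_isNoetherianRing_krullDimLE_zero]
  have : IsJacobsonRing (p.Fiber B) := isJacobsonRing_of_finiteType (A := p.ResidueField)
  have : Finite (PrimeSpectrum (p.Fiber B)) :=
    (PrimeSpectrum.preimageEquivFiber A B ⟨p, ‹_›⟩).finite_iff.mp hfin
  exact ⟨Algebra.FiniteType.isNoetherianRing p.ResidueField _,
    (PrimeSpectrum.discreteTopology_iff_finite_and_krullDimLE_zero.mp inferInstance).right⟩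

/-- clearing denominators in an integral equation in the fibre -/
theorem exists_monic_tmul_aeval_eq_zero [Module.Finite p.ResidueField (p.Fiber B)] (t : B) :
    ∃ s, s ∉ p ∧ ∃ Q : A[X], Q.Monic ∧
      (1 : p.ResidueField) ⊗ₜ[A] (aeval (s • t) Q) = 0 := by
  have hint : IsIntegral p.ResidueField ((1 : p.ResidueField) ⊗ₜ[A] t : p.Fiber B) :=
    Algebra.IsIntegral.isIntegral _
  obtain ⟨⟨m, hm⟩, hmint⟩ := IsIntegral.exists_multiple_integral_of_isLocalization
    (nonZeroDivisors (A ⧸ p)) _ hint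
  obtain ⟨s, rfl⟩ := Ideal.Quotient.mk_surjective m
  have hsp : s ∉ p := fun hs => by
    have h0 : Ideal.Quotient.mk p s = 0 := Ideal.Quotient.eq_zero_iff_mem.mpr hs
    have := nonZeroDivisors.ne_zero hm
    exact this h0
  refine ⟨s, hsp, ?_⟩
  have hsm : (⟨Ideal.Quotient.mk p s, hm⟩ : nonZeroDivisors (A ⧸ p)) •
      ((1 : p.ResidueField) ⊗ₜ[A] t : p.Fiber B) = (1 : p.ResidueField) ⊗ₜ[A] (s • t) := by
    rw [Submonoid.mk_smul, TensorProduct.tmul_smul, ← Ideal.Quotient.algebraMap_eq,
      algebraMap_smul]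
  rw [hsm] at hmint
  haveI : Algebra.IsIntegral A (A ⧸ p) := Algebra.isIntegral_of_surjective Ideal.Quotient.mk_surjective
  have hA : IsIntegral A ((1 : p.ResidueField) ⊗ₜ[A] (s • t) : p.Fiber B) :=
    isIntegral_trans _ hmint
  obtain ⟨Q, hQ, hQ0⟩ := hA
  refine ⟨Q, hQ, ?_⟩
  rw [← aeval_def] at hQ0
  have : (Algebra.TensorProduct.includeRight : B →ₐ[A] p.Fiber B) (aeval (s • t) Q) =
      aeval ((Algebra.TensorProduct.includeRight : B →ₐ[A] p.Fiber B) (s • t)) Q :=
    (aeval_algHom_apply _ _ _).symm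
  rw [Algebra.TensorProduct.includeRight_apply, Algebra.TensorProduct.includeRight_apply] at this
  rw [this, hQ0]

end fibre

end Groth.Agent.Helper16.GenFin
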