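import Mathlib
import Groth.Agent.Lib.Helper16.Alg.GenFin
import Groth.Agent.Lib.Helper16.Alg.GenFin2

set_option autoImplicit false
universe u
open TensorProduct Polynomial

namespace Groth.Agent.Helper16.GenFin

section fibre
variable {A B : Type u} [CommRing A] [CommRing B] [Algebra A B] (p : Ideal A) [p.IsPrime]

theorem exists_isIntegral_of_isUnit (hmin : ∀ q : Ideal A, q.IsPrime → q ≤ p → q = p)
    [Module.Finite p.ResidueField (p.Fiber B)] (t : B) :
    ∃ a, a ∉ p ∧ ∀ (A' B' : Type u) [CommRing A'] [CommRing B'] [Algebra A A'] [Algebra B B']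
      [Algebra A' B'] [Algebra A B'] [IsScalarTower A A' B'] [IsScalarTower A B B'],
      IsUnit (algebraMap A A' a) → IsIntegral A' (algebraMap B B' t) := by
  obtain ⟨s, hs, Q, hQ, h0⟩ := exists_monic_tmul_aeval_eq_zero p t
  obtain ⟨a₁, ha₁, N, hN⟩ := exists_mul_pow_eq_zero_of_tmul_eq_zero p hmin (aeval (s • t) Q) h0
  refine ⟨s * a₁, fun h => (Ideal.IsPrime.mem_or_mem inferInstance h).elim hs ha₁, ?_⟩
  intro A' B' _ _ _ _ _ _ _ _ hu
  rw [map_mul] at hu
  have hus : IsUnit (algebraMap A A' s) := isUnit_of_mul_isUnit_left hu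
  have hua : IsUnit (algebraMap A A' a₁) := isUnit_of_mul_isUnit_right hu
  have h1 : algebraMap B B' (algebraMap A B a₁) * (algebraMap B B' (aeval (s • t) Q)) ^ N = 0 := by
    rw [← map_pow, ← map_mul, hN, map_zero]
  have hu' : IsUnit (algebraMap B B' (algebraMap A B a₁)) := by
    rw [← IsScalarTower.algebraMap_apply A B B', IsScalarTower.algebraMap_apply A A' B']
    exact hua.map _
  have h2 : (algebraMap B B' (aeval (s • t) Q)) ^ N = 0 := (hu'.mul_right_eq_zero).mp h1
  have h3 : aeval (algebraMap B B' (s • t)) (Q ^ N) = 0 := by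
    rw [map_pow, aeval_algebraMap_apply, h2]
  have h4 : IsIntegral A (algebraMap B B' (s • t)) := ⟨Q ^ N, hQ.pow N, by
    rw [← aeval_def]; exact h3⟩
  have h5 : IsIntegral A' (algebraMap B B' (s • t)) := h4.tower_top
  have h6 : algebraMap B B' (s • t) = algebraMap A' B' (algebraMap A A' s) * algebraMap B B' t := by
    rw [Algebra.smul_def, map_mul, ← IsScalarTower.algebraMap_apply A B B',
      IsScalarTower.algebraMap_apply A A' B']
  obtain ⟨v, hv⟩ := hus
  have h7 : algebraMap B B' t = algebraMap A' B' (↑v⁻¹ : A') * algebraMap B B' (s • t) := by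
    rw [h6, ← mul_assoc, ← map_mul, ← hv, Units.inv_mul, map_one, one_mul]
  rw [h7]
  exact IsIntegral.mul isIntegral_algebraMap h5

/-- **generic finiteness at a minimal prime**: a finite type algebra with finitely many primes
over a minimal prime `p` is finite over a basic open neighbourhood of `p`. -/
theorem exists_finite_away [Algebra.FiniteType A B]
    (hmin : ∀ q : Ideal A, q.IsPrime → q ≤ p → q = p)
    (hfin : (PrimeSpectrum.comap (algebraMap A B) ⁻¹'
      {(⟨p, inferInstance⟩ : PrimeSpectrum A)}).Finite) :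
    ∃ a, a ∉ p ∧ ∀ (A' B' : Type u) [CommRing A'] [CommRing B'] [Algebra A A'] [Algebra B B']
      [Algebra A' B'] [Algebra A B'] [IsScalarTower A A' B'] [IsScalarTower A B B']
      [IsLocalization.Away a A'] [IsLocalization.Away (algebraMap A B a) B'],
      Module.Finite A' B' := by
  classical
  haveI := finite_fiber_of_finite_preimage p hfin
  obtain ⟨G, hG⟩ := (Algebra.FiniteType.out : (⊤ : Subalgebra A B).FG)
  choose a ha hgood using fun t : B => exists_isIntegral_of_isUnit (B := B) p hmin t
  refine ⟨∏ t ∈ G, a t, fun h => ?_, ?_⟩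
  · obtain ⟨t, -, ht⟩ := Ideal.IsPrime.prod_mem_iff.mp h
    exact ha t ht
  intro A' B' _ _ _ _ _ _ _ _ _ _
  have hu₀ : IsUnit (algebraMap A A' (∏ t ∈ G, a t)) := IsLocalization.Away.algebraMap_isUnit _
  have hGint : ∀ t ∈ G, IsIntegral A' (algebraMap B B' t) := fun t ht =>
    hgood t A' B' (isUnit_of_dvd_unit (map_dvd (algebraMap A A') (Finset.dvd_prod_of_mem a ht)) hu₀)
  have hBint : ∀ b : B, IsIntegral A' (algebraMap B B' b) := by
    let S : Subalgebra A B :=
      ((integralClosure A' B').restrictScalars A).comap (IsScalarTower.toAlgHom A B B')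
    have hle : Algebra.adjoin A (G : Set B) ≤ S := Algebra.adjoin_le (fun t ht => hGint t ht)
    rw [hG] at hle
    exact fun b => hle trivial
  haveI : Algebra.IsIntegral A' B' := ⟨fun x => by
    obtain ⟨b, ⟨_, n, rfl⟩, rfl⟩ :=
      IsLocalization.exists_mk'_eq (Submonoid.powers (algebraMap A B (∏ t ∈ G, a t))) x
    obtain ⟨v, hv⟩ := hu₀
    have hx : IsLocalization.mk' B' b
        (⟨algebraMap A B (∏ t ∈ G, a t) ^ n, n, rfl⟩ :
          Submonoid.powers (algebraMap A B (∏ t ∈ G, a t))) =
        algebraMap A' B' ((↑v⁻¹ : A') ^ n) * algebraMap B B' b := by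
      rw [IsLocalization.mk'_eq_iff_eq_mul]
      show algebraMap B B' b = _ * algebraMap B B' (algebraMap A B (∏ t ∈ G, a t) ^ n)
      rw [map_pow (algebraMap B B'), ← IsScalarTower.algebraMap_apply A B B',
        IsScalarTower.algebraMap_apply A A' B',
        ← hv, mul_comm (algebraMap A' B' _) (algebraMap B B' b), mul_assoc, ← map_pow, ← map_mul,
        ← mul_pow, Units.inv_mul, one_pow, map_one, mul_one]
    rw [hx]
    exact IsIntegral.mul isIntegral_algebraMap (hBint b)⟩
  haveI : Algebra.FiniteType B B' :=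
    IsLocalization.finiteType_of_monoid_fg (Submonoid.powers (algebraMap A B (∏ t ∈ G, a t))) B'
  haveI : Algebra.FiniteType A B' := Algebra.FiniteType.trans (S := B) inferInstance inferInstance
  haveI : Algebra.FiniteType A' B' := Algebra.FiniteType.of_restrictScalars_finiteType A A' B'
  exact Algebra.IsIntegral.finite

end fibre

end Groth.Agent.Helper16.GenFin
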