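import Mathlib

/-!
# Lifting primes along going-down with the same height (helper16)
-/

set_option autoImplicit false
set_option linter.style.haveILetI false
universe u

namespace Groth.Agent.Helper16.GoingDownHt

/-- **Going down with height control**: for a prime `p` below a prime `Q` of an algebra with
going-down there is a prime `q ≤ Q` lying over `p` with the same height as `p`. -/
theorem exists_prime_le_liesOver_height_eq {A B : Type*} [CommRing A] [CommRing B] [Algebra A B]
    [IsNoetherianRing A] [IsNoetherianRing B] [Algebra.HasGoingDown A B] (p : Ideal A) [p.IsPrime] (Q : Ideal B)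
    [Q.IsPrime] (hpQ : p ≤ Q.under A) :
    ∃ q : Ideal B, q.IsPrime ∧ q ≤ Q ∧ q.under A = p ∧ q.height = p.height := by
  obtain ⟨q₁, hq₁Q, hq₁prime, hq₁over⟩ := Ideal.exists_ideal_le_liesOver_of_le Q hpQ
  have hmap : p.map (algebraMap A B) ≤ q₁ := by
    rw [Ideal.map_le_iff_le_comap]
    exact hq₁over.over.le
  obtain ⟨q, hqmin, hqle⟩ := Ideal.exists_minimalPrimes_le hmap
  haveI hqprime : q.IsPrime := hqmin.1.1
  have hover : q.under A = p := by
    apply le_antisymm
    · calc q.under A ≤ q₁.under A := Ideal.comap_mono hqle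
        _ = p := hq₁over.over.symm
    · have := hqmin.1.2
      rw [Ideal.map_le_iff_le_comap] at this
      exact this
  refine ⟨q, hqprime, hqle.trans hq₁Q, hover, ?_⟩
  haveI : q.LiesOver p := ⟨hover.symm⟩
  rw [Ideal.height_eq_height_add_of_liesOver_of_hasGoingDown p q]
  have h0 : (q.map (Ideal.Quotient.mk (p.map (algebraMap A B)))).height = 0 := by
    rw [Ideal.minimalPrimes_eq_comap] at hqmin
    obtain ⟨q', hq', rfl⟩ := hqmin
    rw [Ideal.map_comap_of_surjective _ Ideal.Quotient.mk_surjective]
    haveI := hq'.1.1
    exact Ideal.height_eq_zero_iff.mpr hq'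
  rw [h0, add_zero]

end Groth.Agent.Helper16.GoingDownHt
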