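import Mathlib
import Groth.Agent.Lib.Helper1.LocalCriterion

set_option autoImplicit false
set_option linter.style.haveILetI false
universe u
open IsLocalRing TensorProduct

namespace Groth.Agent.Helper16.QuotLevels

variable {A B : Type u} [CommRing A] [CommRing B] [IsLocalRing A] [IsLocalRing B]
  (ψ : A →+* B) [IsLocalHom ψ]

theorem map_maximalIdeal_le : (maximalIdeal A).map ψ ≤ maximalIdeal B :=
  ((local_hom_TFAE ψ).out 0 2 rfl rfl).mp ‹_›

theorem map_pow_le (n : ℕ) : (maximalIdeal A ^ n).map ψ ≤ maximalIdeal B ^ n := by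
  rw [Ideal.map_pow]
  exact Ideal.pow_right_mono (map_maximalIdeal_le ψ) n

/-- Levelwise surjectivity from `𝔪_A B = 𝔪_B` and trivial residue field extension. -/
theorem surjective_of_map_eq (hmax : (maximalIdeal A).map ψ = maximalIdeal B)
    (hres : ∀ b : B, ∃ a : A, b - ψ a ∈ maximalIdeal B) (n : ℕ) :
    Function.Surjective ((Ideal.Quotient.mk (maximalIdeal B ^ n)).comp ψ) := by
  -- key: approximation of elements of `𝔪_B ^ n`
  have key : ∀ n : ℕ, ∀ x ∈ maximalIdeal B ^ n,
      ∃ a ∈ maximalIdeal A ^ n, x - ψ a ∈ maximalIdeal B ^ (n + 1) := by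
    intro n x hx
    rw [← hmax, ← Ideal.map_pow, Ideal.map] at hx
    induction hx using Submodule.span_induction with
    | mem x hx =>
      obtain ⟨c, hc, rfl⟩ := hx
      exact ⟨c, hc, by simp⟩
    | zero => exact ⟨0, zero_mem _, by simp⟩
    | add x y _ _ hx hy =>
      obtain ⟨a, ha, ha'⟩ := hx
      obtain ⟨b, hb, hb'⟩ := hy
      refine ⟨a + b, add_mem ha hb, ?_⟩
      have : x + y - ψ (a + b) = (x - ψ a) + (y - ψ b) := by rw [map_add]; ring
      rw [this]
      exact add_mem ha' hb'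
    | smul b' x _ hx =>
      obtain ⟨a, ha, ha'⟩ := hx
      obtain ⟨a', ha''⟩ := hres b'
      refine ⟨a' * a, Ideal.mul_mem_left _ _ ha, ?_⟩
      have : b' • x - ψ (a' * a) = b' * (x - ψ a) + (b' - ψ a') * ψ a := by
        rw [map_mul, smul_eq_mul]; ring
      rw [this]
      refine add_mem (Ideal.mul_mem_left _ _ ha') ?_
      rw [pow_succ']
      exact Ideal.mul_mem_mul ha'' (map_pow_le ψ n (Ideal.mem_map_of_mem _ ha))
  have main : ∀ n : ℕ, ∀ b : B, ∃ a : A, b - ψ a ∈ maximalIdeal B ^ n := by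
    intro n
    induction n with
    | zero => intro b; exact ⟨0, by simp⟩
    | succ n ih =>
      intro b
      obtain ⟨a, ha⟩ := ih b
      obtain ⟨a', -, ha'⟩ := key n _ ha
      refine ⟨a + a', ?_⟩
      have : b - ψ (a + a') = b - ψ a - ψ a' := by rw [map_add]; ring
      rw [this]
      exact ha'
  intro y
  obtain ⟨b, rfl⟩ := Ideal.Quotient.mk_surjective y
  obtain ⟨a, ha⟩ := main n b
  refine ⟨a, ?_⟩
  rw [RingHom.comp_apply, eq_comm, Ideal.Quotient.eq]
  exact ha

/-- From levelwise surjectivity at levels 1 and 2: `𝔪_A B = 𝔪_B` (B Noetherian). -/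
theorem map_eq_of_surjective [IsNoetherianRing B]
    (h2 : Function.Surjective ((Ideal.Quotient.mk (maximalIdeal B ^ 2)).comp ψ)) :
    (maximalIdeal A).map ψ = maximalIdeal B := by
  refine le_antisymm (map_maximalIdeal_le ψ) ?_
  refine Submodule.le_of_le_smul_of_le_jacobson_bot (IsNoetherian.noetherian _)
    (IsLocalRing.maximalIdeal_le_jacobson _) ?_
  intro b hb
  obtain ⟨a, ha⟩ := h2 (Ideal.Quotient.mk _ b)
  rw [RingHom.comp_apply, Ideal.Quotient.eq] at ha
  have ha' : a ∈ maximalIdeal A := by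
    by_contra hcon
    have hu : IsUnit a := by
      rwa [mem_maximalIdeal, mem_nonunits_iff, not_not] at hcon
    have hu' : IsUnit (ψ a) := hu.map ψ
    have h3 : ψ a - b ∈ maximalIdeal B :=
      Ideal.pow_le_self two_ne_zero ha
    have h4 : ψ a ∈ maximalIdeal B := by
      have := add_mem h3 hb
      rwa [sub_add_cancel] at this
    exact (mem_maximalIdeal _).mp h4 hu'
  have : b = ψ a - (ψ a - b) := by ring
  rw [this]
  refine Submodule.sub_mem _ (Submodule.mem_sup_left (Ideal.mem_map_of_mem _ ha')) ?_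
  refine Submodule.mem_sup_right ?_
  rw [Ideal.smul_eq_mul, ← pow_two]
  exact ha

theorem res_surjective_of_surjective
    (h1 : Function.Surjective ((Ideal.Quotient.mk (maximalIdeal B ^ 1)).comp ψ)) :
    ∀ b : B, ∃ a : A, b - ψ a ∈ maximalIdeal B := by
  intro b
  obtain ⟨a, ha⟩ := h1 (Ideal.Quotient.mk _ b)
  rw [RingHom.comp_apply, eq_comm, Ideal.Quotient.eq, pow_one] at ha
  exact ⟨a, ha⟩

/-- For a flat local homomorphism with `𝔪_A B = 𝔪_B`, the kernel of `A → B / 𝔪_B ^ n` is
`𝔪_A ^ n`. -/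
theorem ker_eq_of_flat (hflat : ψ.Flat) (hmax : (maximalIdeal A).map ψ = maximalIdeal B) (n : ℕ) :
    RingHom.ker ((Ideal.Quotient.mk (maximalIdeal B ^ n)).comp ψ) = maximalIdeal A ^ n := by
  algebraize [ψ]
  haveI : IsLocalHom (algebraMap A B) := ‹IsLocalHom ψ›
  haveI : Module.FaithfullyFlat A B := Module.FaithfullyFlat.of_flat_of_isLocalHom
  rw [← RingHom.comap_ker, Ideal.mk_ker, ← hmax, ← Ideal.map_pow]
  exact Ideal.comap_map_eq_self_of_faithfullyFlat (B := B) _

/-- Flatness from levelwise bijectivity. -/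
theorem flat_of_levels [IsNoetherianRing A] [IsNoetherianRing B]
    (hsurj : ∀ n : ℕ, Function.Surjective ((Ideal.Quotient.mk (maximalIdeal B ^ n)).comp ψ))
    (hker : ∀ n : ℕ, RingHom.ker ((Ideal.Quotient.mk (maximalIdeal B ^ n)).comp ψ) =
      maximalIdeal A ^ n) : ψ.Flat := by
  have hmax := map_eq_of_surjective ψ (hsurj 2)
  algebraize [ψ]
  show Module.Flat A B
  refine Groth.Agent.Helper1.flat_of_flat_quotient_pow (S := B) (maximalIdeal A) ?_ ?_
  · rw [show (maximalIdeal A).map (algebraMap A B) = maximalIdeal B from hmax]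
    exact IsLocalRing.maximalIdeal_le_jacobson _
  · intro n _
    -- `(A ⧸ 𝔪^n) ⊗ B` is free of rank one over `A ⧸ 𝔪^n`
    let μ : (A ⧸ maximalIdeal A ^ n) →ₗ[A ⧸ maximalIdeal A ^ n]
        (A ⧸ maximalIdeal A ^ n) ⊗[A] B :=
      (Algebra.TensorProduct.includeLeft :
        (A ⧸ maximalIdeal A ^ n) →ₐ[A ⧸ maximalIdeal A ^ n] (A ⧸ maximalIdeal A ^ n) ⊗[A] B).toLinearMap
    let e := TensorProduct.quotTensorEquivQuotSMul B (maximalIdeal A ^ n)
    have hcomp : ∀ a : A, e (μ (Ideal.Quotient.mk _ a)) = Submodule.Quotient.mk (algebraMap A B a) := by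
      intro a
      simp [μ, e, Algebra.algebraMap_eq_smul_one]
    have hset : ∀ b : B, b ∈ (maximalIdeal A ^ n • ⊤ : Submodule A B) ↔ b ∈ maximalIdeal B ^ n := by
      intro b
      rw [Ideal.smul_top_eq_map, Submodule.restrictScalars_mem, Ideal.map_pow]
      rw [show (maximalIdeal A).map (algebraMap A B) = maximalIdeal B from hmax]
    let ν : (A ⧸ maximalIdeal A ^ n) →ₗ[A] B ⧸ (maximalIdeal A ^ n • ⊤ : Submodule A B) :=
      e.toLinearMap ∘ₗ (μ.restrictScalars A)
    have hν : ∀ a : A, ν (Ideal.Quotient.mk _ a) = Submodule.Quotient.mk (algebraMap A B a) := hcomp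
    have hbij : Function.Bijective μ := by
      rw [← Function.Bijective.of_comp_iff' e.bijective]
      show Function.Bijective ν
      constructor
      · rw [injective_iff_map_eq_zero]
        intro r hr
        obtain ⟨a, rfl⟩ := Ideal.Quotient.mk_surjective r
        rw [hν, Submodule.Quotient.mk_eq_zero, hset] at hr
        have : a ∈ RingHom.ker ((Ideal.Quotient.mk (maximalIdeal B ^ n)).comp ψ) := by
          rw [RingHom.mem_ker, RingHom.comp_apply, Ideal.Quotient.eq_zero_iff_mem]
          exact hr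
        rw [hker n] at this
        exact Ideal.Quotient.eq_zero_iff_mem.mpr this
      · intro y
        obtain ⟨b, rfl⟩ := Submodule.Quotient.mk_surjective _ y
        obtain ⟨a, ha⟩ := hsurj n (Ideal.Quotient.mk _ b)
        refine ⟨Ideal.Quotient.mk _ a, ?_⟩
        rw [hν, Submodule.Quotient.eq, hset]
        rw [RingHom.comp_apply, Ideal.Quotient.eq] at ha
        exact ha
    exact Module.Flat.of_linearEquiv (LinearEquiv.ofBijective μ hbij).symm

end Groth.Agent.Helper16.QuotLevels
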