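import Mathlib

set_option autoImplicit false
set_option linter.style.haveILetI false
universe u v w
open MvPolynomial

noncomputable section

namespace Groth.Agent.Helper16.GenRF

variable {σ : Type v} (m : MonomialOrder σ) {A : Type u} [CommRing A] {C : Type w} [CommRing C]
  [Algebra A C]

/-- Macaulay-type lemma: if `G` (with unit leading coefficients) lies in the kernel of a surjection
`π : A[x] → C` and no nonzero element of the kernel is supported on the standard monomials, then
`G` generates the kernel and `C` is free over `A`. -/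
theorem ker_eq_span_and_free {ι : Type*} (π : MvPolynomial σ A →ₐ[A] C)
    (hπ : Function.Surjective π) (G : ι → MvPolynomial σ A) (hGker : ∀ i, π (G i) = 0)
    (hGu : ∀ i, IsUnit (m.leadingCoeff (G i)))
    (hstar : ∀ r : MvPolynomial σ A, π r = 0 →
      (∀ c ∈ r.support, ∀ i, ¬ m.degree (G i) ≤ c) → r = 0) :
    RingHom.ker π.toRingHom = Ideal.span (Set.range G) ∧ Module.Free A C := by
  have hlin : ∀ g : ι →₀ MvPolynomial σ A, π (Finsupp.linearCombination _ G g) = 0 := by
    intro g
    rw [Finsupp.linearCombination_apply, Finsupp.sum, map_sum]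
    refine Finset.sum_eq_zero fun i _ => ?_
    rw [smul_eq_mul, map_mul, hGker, mul_zero]
  constructor
  · apply le_antisymm
    · intro f hf
      have hf0 : π f = 0 := hf
      obtain ⟨g, r, hfr, -, hr⟩ := m.div hGu f
      have hr0 : r = 0 := by
        apply hstar r _ hr
        have : π f = π (Finsupp.linearCombination _ G g) + π r := by rw [← map_add, ← hfr]
        rw [hf0, hlin, zero_add] at this
        exact this.symm
      rw [hfr, hr0, add_zero]
      rw [Finsupp.linearCombination_apply, Finsupp.sum]
      refine Ideal.sum_mem _ fun i _ => ?_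
      rw [smul_eq_mul]
      exact Ideal.mul_mem_left _ _ (Ideal.subset_span ⟨i, rfl⟩)
    · rw [Ideal.span_le]
      rintro _ ⟨i, rfl⟩
      exact hGker i
  · let S : Set (σ →₀ ℕ) := {c | ∀ i, ¬ m.degree (G i) ≤ c}
    let N : Submodule A (MvPolynomial σ A) := restrictSupport A S
    let Φ : N →ₗ[A] C := π.toLinearMap.domRestrict N
    have hinj : Function.Injective Φ := by
      rw [injective_iff_map_eq_zero]
      rintro ⟨x, hx⟩ h0
      have hx' : (x.support : Set (σ →₀ ℕ)) ⊆ S := (mem_restrictSupport_iff A).mp hx
      have : x = 0 := hstar x h0 (fun c hc i => hx' hc i)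
      exact Subtype.ext this
    have hsurj : Function.Surjective Φ := by
      intro y
      obtain ⟨f, rfl⟩ := hπ y
      obtain ⟨g, r, hfr, -, hr⟩ := m.div hGu f
      have hrN : r ∈ N := (mem_restrictSupport_iff A).mpr (fun c hc i => hr c hc i)
      refine ⟨⟨r, hrN⟩, ?_⟩
      show π r = π f
      rw [hfr, map_add, hlin, zero_add]
    haveI : Module.Free A N := Module.Free.of_basis (basisRestrictSupport A S)
    exact Module.Free.of_equiv (LinearEquiv.ofBijective Φ ⟨hinj, hsurj⟩)

end Groth.Agent.Helper16.GenRF
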