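import Mathlib

set_option autoImplicit false
set_option linter.style.haveILetI false
universe u v w
open MvPolynomial

noncomputable section

namespace Groth.Agent.Helper16.GenRF

variable {σ : Type v} (m : MonomialOrder σ) {A : Type u} [CommRing A]

/-- monomials that are leading monomials of elements of `I` with leading coefficient outside `p` -/
def leadSet (I : Ideal (MvPolynomial σ A)) (p : Ideal A) : Set (σ →₀ ℕ) :=
  {c | ∃ g ∈ I, m.degree g = c ∧ m.leadingCoeff g ∉ p}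

/-- the corresponding monomial ideal over `ℚ` -/
def leadIdeal (I : Ideal (MvPolynomial σ A)) (p : Ideal A) : Ideal (MvPolynomial σ ℚ) :=
  Ideal.span ((fun c => monomial c (1 : ℚ)) '' leadSet m I p)

theorem key [IsReduced A] (I : Ideal (MvPolynomial σ A)) (s : A) (D : Finset (σ →₀ ℕ))
    (hD : ∀ q ∈ minimalPrimes A, s ∉ q → ∀ c ∈ leadSet m I q, ∃ d ∈ D, d ≤ c)
    (g : MvPolynomial σ A) (hg : g ∈ I) (hsupp : ∀ c ∈ g.support, ∀ d ∈ D, ¬ d ≤ c) :
    ∃ N : ℕ, s ^ N • g = 0 := by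
  classical
  by_contra hcon
  push Not at hcon
  -- exponents killing torsion coefficients
  let Nf : (σ →₀ ℕ) → ℕ := fun c' =>
    if h : ∃ N, s ^ N * coeff c' g = 0 then Classical.choose h else 0
  have hNf : ∀ c', (∃ N, s ^ N * coeff c' g = 0) → s ^ Nf c' * coeff c' g = 0 := by
    intro c' h
    simp only [Nf, dif_pos h]
    exact Classical.choose_spec h
  let N₀ := g.support.sup Nf
  have hN₀ : ∀ c' ∈ g.support, (∃ N, s ^ N * coeff c' g = 0) → s ^ N₀ * coeff c' g = 0 := by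
    intro c' hc' h
    have hle : Nf c' ≤ N₀ := Finset.le_sup hc'
    rw [← Nat.sub_add_cancel hle, pow_add, mul_assoc, hNf c' h, mul_zero]
  let T := g.support.filter (fun c => ∀ N, s ^ N * coeff c g ≠ 0)
  have hT : T.Nonempty := by
    by_contra hTe
    rw [Finset.not_nonempty_iff_eq_empty] at hTe
    apply hcon N₀
    ext c'
    rw [coeff_smul, smul_eq_mul, coeff_zero]
    by_cases hc' : c' ∈ g.support
    · apply hN₀ c' hc'
      by_contra hne
      push Not at hne
      have : c' ∈ T := Finset.mem_filter.mpr ⟨hc', hne⟩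
      rw [hTe] at this
      exact absurd this (Finset.notMem_empty _)
    · rw [notMem_support_iff.mp hc', mul_zero]
  obtain ⟨c, hcT, hcmax⟩ := Finset.exists_max_image T m.toSyn hT
  have hcsupp : c ∈ g.support := (Finset.mem_filter.mp hcT).1
  have hcne : ∀ N, s ^ N * coeff c g ≠ 0 := (Finset.mem_filter.mp hcT).2
  have hg' : s ^ N₀ • g ∈ I := by
    rw [smul_eq_C_mul]
    exact Ideal.mul_mem_left _ _ hg
  have hcoeff : ∀ c', coeff c' (s ^ N₀ • g) = s ^ N₀ * coeff c' g := fun c' => by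
    rw [coeff_smul, smul_eq_mul]
  have hdeg : m.degree (s ^ N₀ • g) = c := by
    apply m.toSyn.injective
    apply le_antisymm
    · rw [m.degree_le_iff]
      intro c' hc'
      rw [mem_support_iff, hcoeff] at hc'
      have hc'g : c' ∈ g.support := by
        rw [mem_support_iff]
        intro h0
        rw [h0, mul_zero] at hc'
        exact hc' rfl
      have hc'T : c' ∈ T := by
        refine Finset.mem_filter.mpr ⟨hc'g, ?_⟩
        by_contra hne
        push Not at hne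
        exact hc' (hN₀ c' hc'g hne)
      exact hcmax c' hc'T
    · apply m.le_degree
      rw [mem_support_iff, hcoeff]
      exact hcne N₀
  have hlc : m.leadingCoeff (s ^ N₀ • g) = s ^ N₀ * coeff c g := by
    rw [MonomialOrder.leadingCoeff, hdeg, hcoeff]
  have hx : s * (s ^ N₀ * coeff c g) ≠ 0 := by
    rw [← mul_assoc, ← pow_succ']
    exact hcne (N₀ + 1)
  have hxnil : s * (s ^ N₀ * coeff c g) ∉ sInf (minimalPrimes A) := by
    rw [minimalPrimes, Ideal.sInf_minimalPrimes]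
    intro hmem
    have : IsNilpotent (s * (s ^ N₀ * coeff c g)) := by
      rwa [← mem_nilradical, nilradical]
    exact hx this.eq_zero
  rw [Submodule.mem_sInf] at hxnil
  push Not at hxnil
  obtain ⟨q, hq, hxq⟩ := hxnil
  have hsq : s ∉ q := fun h => hxq (Ideal.mul_mem_right _ _ h)
  have hlcq : m.leadingCoeff (s ^ N₀ • g) ∉ q := by
    rw [hlc]
    exact fun h => hxq (Ideal.mul_mem_left _ _ h)
  obtain ⟨d, hdD, hdc⟩ := hD q hq hsq c ⟨s ^ N₀ • g, hg', hdeg, hlcq⟩
  exact hsupp c hcsupp d hdD hdc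

end Groth.Agent.Helper16.GenRF

namespace Groth.Agent.Helper16.GenRF

variable {σ : Type v} (m : MonomialOrder σ) {A : Type u} [CommRing A]

theorem exists_good_basis [Finite σ] [IsReduced A] [Nontrivial A]
    (I : Ideal (MvPolynomial σ A)) :
    ∃ (s : A) (D : Finset (σ →₀ ℕ)) (G : (σ →₀ ℕ) → MvPolynomial σ A), ¬ IsNilpotent s ∧
      (∀ d ∈ D, G d ∈ I ∧ m.degree (G d) = d ∧ m.leadingCoeff (G d) ∣ s) ∧
      ∀ g ∈ I, (∀ c ∈ g.support, ∀ d ∈ D, ¬ d ≤ c) → ∃ N : ℕ, s ^ N • g = 0 := by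
  classical
  obtain ⟨M, hM⟩ := Ideal.exists_maximal A
  haveI := hM.isPrime
  obtain ⟨p₁, hp₁, -⟩ := Ideal.exists_minimalPrimes_le (bot_le : (⊥ : Ideal A) ≤ M)
  have hne : ((fun p => leadIdeal m I p) '' minimalPrimes A).Nonempty := ⟨_, ⟨p₁, hp₁, rfl⟩⟩
  obtain ⟨E₀, ⟨p₀, hp₀, rfl⟩, hmax⟩ := set_has_maximal_iff_noetherian.mpr
    (inferInstance : IsNoetherian (MvPolynomial σ ℚ) (MvPolynomial σ ℚ)) _ hne
  have hp₀prime : p₀.IsPrime := hp₀.1.1
  have hfg : (leadIdeal m I p₀).FG := IsNoetherian.noetherian _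
  obtain ⟨T, hTsub, hTeq⟩ := (Submodule.fg_span_iff_fg_span_finset_subset _).mp hfg
  obtain ⟨D, hDsub, rfl⟩ := Finset.subset_set_image_iff.mp hTsub
  have hch : ∀ d, d ∈ D → ∃ g, g ∈ I ∧ m.degree g = d ∧ m.leadingCoeff g ∉ p₀ := by
    intro d hd
    obtain ⟨g, hg, hdeg, hlc⟩ := hDsub hd
    exact ⟨g, hg, hdeg, hlc⟩
  choose! G hGI hGdeg hGlc using hch
  have hdvd : ∀ d ∈ D, m.leadingCoeff (G d) ∣ ∏ d ∈ D, m.leadingCoeff (G d) :=
    fun d hd => Finset.dvd_prod_of_mem _ hd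
  have hs : (∏ d ∈ D, m.leadingCoeff (G d)) ∉ p₀ := by
    intro hmem
    obtain ⟨d, hd, hdmem⟩ := (Ideal.IsPrime.prod_mem_iff (hp := hp₀prime)).mp hmem
    exact hGlc d hd hdmem
  have hDq : ∀ q ∈ minimalPrimes A, (∏ d ∈ D, m.leadingCoeff (G d)) ∉ q →
      ∀ c ∈ leadSet m I q, ∃ d ∈ D, d ≤ c := by
    intro q hq hsq c hc
    have hDq : (D : Set (σ →₀ ℕ)) ⊆ leadSet m I q := by
      intro d hd
      refine ⟨G d, hGI d hd, hGdeg d hd, fun hmem => hsq ?_⟩
      exact Ideal.mem_of_dvd _ (hdvd d hd) hmem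
    have hle : leadIdeal m I p₀ ≤ leadIdeal m I q := by
      show Submodule.span _ _ ≤ _
      rw [hTeq]
      apply Submodule.span_mono
      rw [Finset.coe_image]
      exact Set.image_mono hDq
    have heq : leadIdeal m I q = leadIdeal m I p₀ := by
      by_contra hne'
      exact hmax _ ⟨q, hq, rfl⟩ (lt_of_le_of_ne hle (Ne.symm hne'))
    have hmem : monomial c (1 : ℚ) ∈ leadIdeal m I q := Ideal.subset_span ⟨c, hc, rfl⟩
    rw [heq] at hmem
    have hmem' : monomial c (1 : ℚ) ∈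
        Ideal.span ((fun c => monomial c (1 : ℚ)) '' (D : Set (σ →₀ ℕ))) := by
      show _ ∈ Submodule.span _ _
      rw [← Finset.coe_image, ← hTeq]
      exact hmem
    rw [mem_ideal_span_monomial_image] at hmem'
    have hcs : c ∈ (monomial c (1 : ℚ)).support := by
      rw [mem_support_iff, coeff_monomial, if_pos rfl]
      exact one_ne_zero
    obtain ⟨d, hd, hdc⟩ := hmem' c hcs
    exact ⟨d, hd, hdc⟩
  refine ⟨∏ d ∈ D, m.leadingCoeff (G d), D, G, ?_, ?_, ?_⟩
  · rintro ⟨k, hk⟩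
    apply hs
    apply hp₀prime.mem_of_pow_mem k
    rw [hk]
    exact zero_mem _
  · intro d hd
    exact ⟨hGI d hd, hGdeg d hd, hdvd d hd⟩
  · intro g hg hsupp
    exact key m I _ D hDq g hg hsupp

end Groth.Agent.Helper16.GenRF
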