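import Mathlib

set_option autoImplicit false
set_option linter.style.haveILetI false
universe u v w
open MvPolynomial TensorProduct

noncomputable section

namespace Groth.Agent.Helper16.GenRF

variable {σ : Type v} (m : MonomialOrder σ) {A : Type u} [CommRing A]

theorem degree_map_of_ne_zero {A' : Type*} [CommRing A'] (φ : A →+* A') (g : MvPolynomial σ A)
    (h : φ (m.leadingCoeff g) ≠ 0) :
    m.degree (map φ g) = m.degree g ∧ m.leadingCoeff (map φ g) = φ (m.leadingCoeff g) := by
  have hdeg : m.degree (map φ g) = m.degree g := by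
    apply m.toSyn.injective
    apply le_antisymm
    · rw [m.degree_le_iff]
      intro c hc
      apply m.le_degree
      rw [mem_support_iff, coeff_map] at hc
      rw [mem_support_iff]
      intro h0
      rw [h0, map_zero] at hc
      exact hc rfl
    · apply m.le_degree
      rw [mem_support_iff, coeff_map]
      exact h
  refine ⟨hdeg, ?_⟩
  rw [MonomialOrder.leadingCoeff, hdeg, coeff_map]
  rfl

variable {B : Type w} [CommRing B] [Algebra A B] (A' : Type*) [CommRing A'] [Algebra A A']

/-- the base change of a presentation map -/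
def baseChangeHom (π : MvPolynomial σ A →ₐ[A] B) : MvPolynomial σ A' →ₐ[A'] A' ⊗[A] B :=
  aeval (fun i => (1 : A') ⊗ₜ[A] π (X i))

theorem baseChangeHom_map (π : MvPolynomial σ A →ₐ[A] B) (g : MvPolynomial σ A) :
    baseChangeHom A' π (map (algebraMap A A') g) = 1 ⊗ₜ π g := by
  induction g using MvPolynomial.induction_on with
  | C a =>
    rw [map_C, baseChangeHom, aeval_C, Algebra.TensorProduct.algebraMap_apply, algHom_C,
      Algebra.algebraMap_eq_smul_one (A := B), TensorProduct.tmul_smul,
      TensorProduct.smul_tmul', ← Algebra.algebraMap_eq_smul_one (A := A')]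
    rfl
  | add p q hp hq => rw [map_add, map_add, hp, hq, map_add, TensorProduct.tmul_add]
  | mul_X p i hp =>
    rw [map_mul, map_mul, hp, map_X, map_mul, baseChangeHom, aeval_X,
      Algebra.TensorProduct.tmul_mul_tmul, one_mul]

theorem baseChangeHom_surjective (π : MvPolynomial σ A →ₐ[A] B) (hπ : Function.Surjective π) :
    Function.Surjective (baseChangeHom A' π) := by
  intro y
  induction y using TensorProduct.induction_on with
  | zero => exact ⟨0, map_zero _⟩
  | tmul a b =>
    obtain ⟨f, rfl⟩ := hπ b
    refine ⟨a • map (algebraMap A A') f, ?_⟩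
    rw [map_smul, baseChangeHom_map, TensorProduct.smul_tmul', smul_eq_mul, mul_one]
  | add x y hx hy =>
    obtain ⟨x', rfl⟩ := hx
    obtain ⟨y', rfl⟩ := hy
    exact ⟨x' + y', map_add _ _ _⟩

end Groth.Agent.Helper16.GenRF
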