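import Mathlib
import Groth.Agent.Lib.Helper16.Alg.GenRF3

set_option autoImplicit false
set_option linter.style.haveILetI false
universe u v w
open MvPolynomial TensorProduct

noncomputable section

namespace Groth.Agent.Helper16.GenRF

variable {σ : Type v} {A : Type u} [CommRing A]
variable {B : Type w} [CommRing B] [Algebra A B] (A' : Type*) [CommRing A'] [Algebra A A']
variable (s : A) [IsLocalization.Away s A']

theorem map_smul' (a : A) (g : MvPolynomial σ A) :
    map (algebraMap A A') (a • g) = algebraMap A A' a • map (algebraMap A A') g := by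
  rw [smul_eq_C_mul, map_mul, map_C, ← smul_eq_C_mul]

include s in
theorem exists_map_eq_smul (r : MvPolynomial σ A') :
    ∃ (k : ℕ) (g : MvPolynomial σ A), map (algebraMap A A') g = (algebraMap A A' s) ^ k • r := by
  induction r using MvPolynomial.induction_on with
  | C a =>
    obtain ⟨n, x, hx⟩ := IsLocalization.Away.surj s a
    refine ⟨n, C x, ?_⟩
    rw [map_C, ← hx, smul_eq_C_mul, ← C_mul, mul_comm]
  | add p q hp hq =>
    obtain ⟨k₁, g₁, h₁⟩ := hp
    obtain ⟨k₂, g₂, h₂⟩ := hq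
    refine ⟨k₁ + k₂, s ^ k₂ • g₁ + s ^ k₁ • g₂, ?_⟩
    rw [map_add, map_smul', map_smul', h₁, h₂, smul_add, smul_smul, smul_smul, map_pow, map_pow,
      ← pow_add, ← pow_add, add_comm k₂ k₁]
  | mul_X p i hp =>
    obtain ⟨k, g, h⟩ := hp
    refine ⟨k, g * X i, ?_⟩
    rw [map_mul, h, map_X, smul_mul_assoc]

theorem hstar_localization (π : MvPolynomial σ A →ₐ[A] B) (D : Finset (σ →₀ ℕ))
    (hkey : ∀ g : MvPolynomial σ A, π g = 0 → (∀ c ∈ g.support, ∀ d ∈ D, ¬ d ≤ c) →
      ∃ N : ℕ, s ^ N • g = 0)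
    (r : MvPolynomial σ A') (hr : baseChangeHom A' π r = 0)
    (hsupp : ∀ c ∈ r.support, ∀ d ∈ D, ¬ d ≤ c) : r = 0 := by
  classical
  have hu : IsUnit (algebraMap A A' s) := IsLocalization.Away.algebraMap_isUnit s
  obtain ⟨k, g0, hg0⟩ := exists_map_eq_smul A' s r
  have h1 : (1 : A') ⊗ₜ[A] π g0 = 0 := by
    rw [← baseChangeHom_map, hg0, map_smul, hr, smul_zero]
  obtain ⟨⟨_, N, rfl⟩, hN⟩ := (IsLocalizedModule.eq_zero_iff (Submonoid.powers s)
    (TensorProduct.mk A A' B 1)).mp h1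
  have hN' : s ^ N • π g0 = 0 := hN
  -- g¹
  have hπ1 : π (s ^ N • g0) = 0 := by rw [map_smul, hN']
  have hmap1 : map (algebraMap A A') (s ^ N • g0) = (algebraMap A A' s) ^ (N + k) • r := by
    rw [map_smul', hg0, smul_smul, map_pow, ← pow_add]
  -- kill coefficients outside the standard monomials
  have hout : ∀ c, (∃ d ∈ D, d ≤ c) → ∃ n : ℕ, s ^ n * coeff c (s ^ N • g0) = 0 := by
    intro c hc
    have hcr : coeff c r = 0 := by
      by_contra hne
      obtain ⟨d, hd, hdc⟩ := hc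
      exact hsupp c (mem_support_iff.mpr hne) d hd hdc
    have h0 : algebraMap A A' (coeff c (s ^ N • g0)) = 0 := by
      rw [← coeff_map, hmap1, coeff_smul, hcr, smul_zero]
    obtain ⟨⟨_, n, rfl⟩, hn⟩ := (IsLocalization.map_eq_zero_iff (Submonoid.powers s) A' _).mp h0
    exact ⟨n, hn⟩
  let Nf : (σ →₀ ℕ) → ℕ := fun c =>
    if h : ∃ d ∈ D, d ≤ c then Classical.choose (hout c h) else 0
  have hNf : ∀ c, (∃ d ∈ D, d ≤ c) → s ^ Nf c * coeff c (s ^ N • g0) = 0 := by
    intro c h
    simp only [Nf, dif_pos h]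
    exact Classical.choose_spec (hout c h)
  let N' := (s ^ N • g0).support.sup Nf
  have hπ2 : π (s ^ N' • (s ^ N • g0)) = 0 := by rw [map_smul, hπ1, smul_zero]
  have hsupp2 : ∀ c ∈ (s ^ N' • (s ^ N • g0)).support, ∀ d ∈ D, ¬ d ≤ c := by
    intro c hc d hd hdc
    rw [mem_support_iff, coeff_smul, smul_eq_mul] at hc
    have hc1 : c ∈ (s ^ N • g0).support := by
      rw [mem_support_iff]
      intro h0
      rw [h0, mul_zero] at hc
      exact hc rfl
    have hle : Nf c ≤ N' := Finset.le_sup hc1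
    apply hc
    rw [← Nat.sub_add_cancel hle, pow_add, mul_assoc, hNf c ⟨d, hd, hdc⟩, mul_zero]
  obtain ⟨N'', hN''⟩ := hkey _ hπ2 hsupp2
  have hfin : (algebraMap A A' s) ^ (N'' + N' + (N + k)) • r = 0 := by
    have := congrArg (map (algebraMap A A')) hN''
    rw [map_smul', map_smul', hmap1, smul_smul, smul_smul, map_pow, map_pow, ← pow_add, ← pow_add,
      map_zero] at this
    exact this
  exact ((hu.pow _).smul_eq_zero).mp hfin

end Groth.Agent.Helper16.GenRF
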