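import Mathlib
import Groth.Agent.Lib.Helper16.Alg.GenRF1
import Groth.Agent.Lib.Helper16.Alg.GenRF2
import Groth.Agent.Lib.Helper16.Alg.GenRF4

set_option autoImplicit false
set_option linter.style.haveILetI false
universe u v w
open MvPolynomial TensorProduct

noncomputable section

namespace Groth.Agent.Helper16.GenRF

variable {σ : Type v} {A : Type u} [CommRing A]
variable {B : Type w} [CommRing B] [Algebra A B]

/-- generic freeness over a reduced ring, for a presented algebra -/
theorem exists_free_fp_away_of_surjective (m : MonomialOrder σ) [Finite σ] [IsReduced A]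
    [Nontrivial A] (π : MvPolynomial σ A →ₐ[A] B) (hπ : Function.Surjective π) :
    ∃ s : A, ¬ IsNilpotent s ∧ Module.Free (Localization.Away s) (Localization.Away s ⊗[A] B) ∧
      Algebra.FinitePresentation (Localization.Away s) (Localization.Away s ⊗[A] B) := by
  classical
  obtain ⟨s, D, G, hs, hG, hkey⟩ := exists_good_basis m (RingHom.ker π.toRingHom)
  refine ⟨s, hs, ?_⟩
  haveI : Nontrivial (Localization.Away s) := by
    rw [← not_subsingleton_iff_nontrivial,
      IsLocalization.subsingleton_iff (M := Submonoid.powers s)]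
    rintro ⟨k, hk⟩
    exact hs ⟨k, hk⟩
  have hu : IsUnit (algebraMap A (Localization.Away s) s) :=
    IsLocalization.Away.algebraMap_isUnit s
  have hGu : ∀ d : D, IsUnit (algebraMap A (Localization.Away s) (m.leadingCoeff (G d))) :=
    fun d => isUnit_of_dvd_unit (map_dvd _ (hG d d.2).2.2) hu
  have hGd := fun d : D => degree_map_of_ne_zero m (algebraMap A (Localization.Away s)) (G d)
    (hGu d).ne_zero
  have hkey' : ∀ g : MvPolynomial σ A, π g = 0 → (∀ c ∈ g.support, ∀ d ∈ D, ¬ d ≤ c) →
      ∃ N : ℕ, s ^ N • g = 0 := fun g hg => hkey g hg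
  obtain ⟨hker, hfree⟩ := ker_eq_span_and_free m (baseChangeHom (Localization.Away s) π)
    (baseChangeHom_surjective _ π hπ)
    (fun d : D => map (algebraMap A (Localization.Away s)) (G d))
    (fun d => by
      rw [baseChangeHom_map]
      have : π (G d) = 0 := (hG d d.2).1
      rw [this, TensorProduct.tmul_zero])
    (fun d => by rw [(hGd d).2]; exact hGu d)
    (fun r hr hsupp => hstar_localization (Localization.Away s) s π D hkey' r hr
      (fun c hc d hd hdc => hsupp c hc ⟨d, hd⟩ (by rw [(hGd ⟨d, hd⟩).1, (hG d hd).2.1]; exact hdc)))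
  refine ⟨hfree, ?_⟩
  refine Algebra.FinitePresentation.of_surjective (baseChangeHom_surjective _ π hπ) ?_
  rw [hker]
  exact ⟨(Finset.univ : Finset D).image
    (fun d : D => map (algebraMap A (Localization.Away s)) (G d)),
    by rw [Finset.coe_image, Finset.coe_univ, Set.image_univ]⟩

/-- generic freeness over a reduced ring -/
theorem exists_free_fp_away (A B : Type u) [CommRing A] [CommRing B] [Algebra A B] [IsReduced A]
    [Nontrivial A] [Algebra.FiniteType A B] :
    ∃ s : A, ¬ IsNilpotent s ∧ Module.Free (Localization.Away s) (Localization.Away s ⊗[A] B) ∧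
      Algebra.FinitePresentation (Localization.Away s) (Localization.Away s ⊗[A] B) := by
  obtain ⟨n, π, hπ⟩ := Algebra.FiniteType.iff_quotient_mvPolynomial''.mp
    (inferInstance : Algebra.FiniteType A B)
  exact exists_free_fp_away_of_surjective (MonomialOrder.lex (σ := Fin n)) π hπ

end Groth.Agent.Helper16.GenRF
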