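import Mathlib
import Groth.Agent.Lib.Helper16.Alg.GenRF5
import Groth.Agent.Lib.Helper16.Sch.GenGS5

set_option autoImplicit false
set_option linter.style.haveILetI false
universe u v w
open MvPolynomial TensorProduct

noncomputable section

namespace Groth.Agent.Helper16.GenRF

open Groth.Agent.Helper16.GenGS

theorem nontrivial_away {A : Type u} [CommRing A] (s : A) (hs : ¬ IsNilpotent s) :
    Nontrivial (Localization.Away s) := by
  rw [← not_subsingleton_iff_nontrivial,
    IsLocalization.subsingleton_iff (M := Submonoid.powers s)]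
  rintro ⟨k, hk⟩
  exact hs ⟨k, hk⟩

/-- generic flatness over a reduced ring, base change form -/
theorem exists_flat_fp_of_reduced (A B : Type u) [CommRing A] [CommRing B] [Algebra A B]
    [IsReduced A] [Nontrivial A] [Algebra.FiniteType A B] :
    ∃ s : A, ¬ IsNilpotent s ∧ ∀ (S : Type u) [CommRing S] [Algebra A S],
      IsUnit (algebraMap A S s) →
        Module.Flat S (S ⊗[A] B) ∧ Algebra.FinitePresentation S (S ⊗[A] B) := by
  obtain ⟨s, hs, hfree, hfp⟩ := exists_free_fp_away A B
  refine ⟨s, hs, fun S _ _ hu => ?_⟩
  let φ : Localization.Away s →+* S := IsLocalization.Away.lift s (g := algebraMap A S) hu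
  letI : Algebra (Localization.Away s) S := φ.toAlgebra
  haveI : IsScalarTower A (Localization.Away s) S := IsScalarTower.of_algebraMap_eq' (by
    ext x
    exact (IsLocalization.Away.lift_eq s hu x).symm)
  exact flat_fp_baseChange A (Localization.Away s) B S

/-- generic flatness over a reduced ring for finitely many algebras -/
theorem exists_flat_fp_of_reduced_finset {ι : Type v} (t : Finset ι) :
    ∀ (A : Type u) [CommRing A] [IsReduced A] [Nontrivial A] (B : ι → Type u)
      [∀ i, CommRing (B i)] [∀ i, Algebra A (B i)] [∀ i, Algebra.FiniteType A (B i)],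
    ∃ s : A, ¬ IsNilpotent s ∧ ∀ (S : Type u) [CommRing S] [Algebra A S],
      IsUnit (algebraMap A S s) → ∀ i ∈ t,
        Module.Flat S (S ⊗[A] B i) ∧ Algebra.FinitePresentation S (S ⊗[A] B i) := by
  classical
  induction t using Finset.induction_on with
  | empty =>
    intro A _ _ _ B _ _ _
    exact ⟨1, fun h => one_ne_zero (h.eq_zero), fun S _ _ _ i hi => absurd hi (Finset.notMem_empty i)⟩
  | insert i₀ t' hi₀ ih =>
    intro A _ _ _ B _ _ _
    obtain ⟨s₀, hs₀, H₀⟩ := exists_flat_fp_of_reduced A (B i₀)
    haveI := nontrivial_away s₀ hs₀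
    obtain ⟨s₁, hs₁, H₁⟩ := ih (Localization.Away s₀) (fun i => Localization.Away s₀ ⊗[A] B i)
    obtain ⟨k, t₁, ht₁⟩ := IsLocalization.Away.surj s₀ s₁
    have hu₀ : IsUnit (algebraMap A (Localization.Away s₀) s₀) :=
      IsLocalization.Away.algebraMap_isUnit s₀
    refine ⟨s₀ * t₁, ?_, ?_⟩
    · intro hnil
      have h1 : IsNilpotent (algebraMap A (Localization.Away s₀) (s₀ * t₁)) := hnil.map _
      rw [map_mul, ← ht₁] at h1
      have h2 : IsUnit (algebraMap A (Localization.Away s₀) s₀ *
          algebraMap A (Localization.Away s₀) s₀ ^ k) := hu₀.mul (hu₀.pow k)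
      have h3 : algebraMap A (Localization.Away s₀) s₀ *
          (s₁ * algebraMap A (Localization.Away s₀) s₀ ^ k) =
          (algebraMap A (Localization.Away s₀) s₀ *
          algebraMap A (Localization.Away s₀) s₀ ^ k) * s₁ := by ring
      rw [h3] at h1
      apply hs₁
      obtain ⟨n, hn⟩ := h1
      rw [mul_pow] at hn
      exact ⟨n, ((h2.pow n).mul_right_eq_zero).mp hn⟩
    · intro S _ _ hu i hi
      have hus₀ : IsUnit (algebraMap A S s₀) := by
        rw [map_mul] at hu
        exact isUnit_of_mul_isUnit_left hu
      have hut₁ : IsUnit (algebraMap A S t₁) := by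
        rw [map_mul] at hu
        exact isUnit_of_mul_isUnit_right hu
      rcases Finset.mem_insert.mp hi with rfl | hi'
      · exact H₀ S hus₀
      · let φ : Localization.Away s₀ →+* S :=
          IsLocalization.Away.lift s₀ (g := algebraMap A S) hus₀
        letI : Algebra (Localization.Away s₀) S := φ.toAlgebra
        haveI : IsScalarTower A (Localization.Away s₀) S := IsScalarTower.of_algebraMap_eq' (by
          ext x
          exact (IsLocalization.Away.lift_eq s₀ hus₀ x).symm)
        have hus₁ : IsUnit (algebraMap (Localization.Away s₀) S s₁) := by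
          have h1 := congrArg (algebraMap (Localization.Away s₀) S) ht₁
          rw [map_mul, ← IsScalarTower.algebraMap_apply] at h1
          have h2 : IsUnit (algebraMap (Localization.Away s₀) S s₁ *
              algebraMap (Localization.Away s₀) S (algebraMap A (Localization.Away s₀) s₀ ^ k)) := by
            rw [h1]; exact hut₁
          exact isUnit_of_mul_isUnit_left h2
        exact flat_fp_cancel A (Localization.Away s₀) (B i) S (H₁ S hus₁ i hi')

end Groth.Agent.Helper16.GenRF
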