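import Mathlib

set_option autoImplicit false
set_option linter.style.haveILetI false
universe u

namespace Groth.Agent.Helper16.LocIso

variable {A B : Type u} [CommRing A] [CommRing B] [Algebra A B]
  (p : Ideal A) [p.IsPrime] (P : Ideal B) [P.IsPrime]
  (Ap Bp : Type u) [CommRing Ap] [CommRing Bp] [Algebra A Ap] [Algebra B Bp]
  [IsLocalization.AtPrime Ap p] [IsLocalization.AtPrime Bp P]
  (ψ : Ap →+* Bp) (hψ : ψ.comp (algebraMap A Ap) = (algebraMap B Bp).comp (algebraMap A B))

include hψ in
theorem mem_iff (hbij : Function.Bijective ψ) (a : A) : a ∈ p ↔ algebraMap A B a ∈ P := by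
  have h1 : IsUnit (algebraMap A Ap a) ↔ IsUnit (algebraMap B Bp (algebraMap A B a)) := by
    have : algebraMap B Bp (algebraMap A B a) = ψ (algebraMap A Ap a) :=
      (RingHom.congr_fun hψ a).symm
    rw [this]
    let e := RingEquiv.ofBijective ψ hbij
    refine ⟨fun h => h.map ψ, fun h => ?_⟩
    have h2 := h.map e.symm.toRingHom
    have h3 : e.symm.toRingHom (ψ (algebraMap A Ap a)) = algebraMap A Ap a :=
      e.symm_apply_apply _
    rwa [h3] at h2
  rw [IsLocalization.AtPrime.isUnit_to_map_iff Ap p,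
    IsLocalization.AtPrime.isUnit_to_map_iff Bp P] at h1
  exact not_iff_not.mp h1

include hψ in
/-- every element of `B` is, up to an element outside `P`, a fraction of elements of `A` -/
theorem exists_approx (hsurj : Function.Surjective ψ) (β : B) :
    ∃ α s : A, s ∉ p ∧ ∃ c : B, c ∉ P ∧ c * (algebraMap A B s * β - algebraMap A B α) = 0 := by
  obtain ⟨z, hz⟩ := hsurj (algebraMap B Bp β)
  obtain ⟨α, ⟨s, hs⟩, rfl⟩ := IsLocalization.exists_mk'_eq p.primeCompl z
  have h1 : algebraMap B Bp (algebraMap A B s * β) = algebraMap B Bp (algebraMap A B α) := by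
    rw [map_mul, ← hz]
    have h2 : algebraMap B Bp (algebraMap A B s) = ψ (algebraMap A Ap s) :=
      (RingHom.congr_fun hψ s).symm
    have h3 : algebraMap B Bp (algebraMap A B α) = ψ (algebraMap A Ap α) :=
      (RingHom.congr_fun hψ α).symm
    rw [h2, h3, ← map_mul, mul_comm, IsLocalization.mk'_spec]
  obtain ⟨⟨c, hc⟩, hc'⟩ := (IsLocalization.eq_iff_exists P.primeCompl Bp).mp h1
  exact ⟨α, s, hs, c, hc, by rw [mul_sub]; exact sub_eq_zero.mpr hc'⟩

/-- the subalgebra of elements which become fractions with denominator a power of `s`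
after multiplying with `c` -/
def approxSubalgebra (s : A) (c : B) : Subalgebra A B where
  carrier := {β | ∃ (n : ℕ) (α : A), c * (algebraMap A B s ^ n * β - algebraMap A B α) = 0}
  mul_mem' := by
    rintro β β' ⟨n, α, h⟩ ⟨m, α', h'⟩
    refine ⟨n + m, α * α', ?_⟩
    have : c * (algebraMap A B s ^ (n + m) * (β * β') - algebraMap A B (α * α')) =
        (algebraMap A B s ^ n * β) * (c * (algebraMap A B s ^ m * β' - algebraMap A B α')) +
        algebraMap A B α' * (c * (algebraMap A B s ^ n * β - algebraMap A B α)) := by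
      rw [map_mul, pow_add]; ring
    rw [this, h, h', mul_zero, mul_zero, add_zero]
  add_mem' := by
    rintro β β' ⟨n, α, h⟩ ⟨m, α', h'⟩
    refine ⟨n + m, s ^ m * α + s ^ n * α', ?_⟩
    have : c * (algebraMap A B s ^ (n + m) * (β + β') - algebraMap A B (s ^ m * α + s ^ n * α')) =
        algebraMap A B s ^ m * (c * (algebraMap A B s ^ n * β - algebraMap A B α)) +
        algebraMap A B s ^ n * (c * (algebraMap A B s ^ m * β' - algebraMap A B α')) := by
      rw [map_add, map_mul, map_mul, map_pow, map_pow, pow_add]; ring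
    rw [this, h, h', mul_zero, mul_zero, add_zero]
  algebraMap_mem' := by
    intro α
    exact ⟨0, α, by rw [pow_zero, one_mul, sub_self, mul_zero]⟩
  one_mem' := ⟨0, 1, by rw [pow_zero, one_mul, map_one, sub_self, mul_zero]⟩
  zero_mem' := ⟨0, 0, by rw [pow_zero, one_mul, map_zero, sub_self, mul_zero]⟩

include hψ in
theorem exists_approxSubalgebra_eq_top [Algebra.FiniteType A B] (hsurj : Function.Surjective ψ) :
    ∃ s : A, s ∉ p ∧ ∃ c : B, c ∉ P ∧ approxSubalgebra s c = ⊤ := by
  classical
  obtain ⟨G, hG⟩ := (Algebra.FiniteType.out : (⊤ : Subalgebra A B).FG)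
  choose α s hs c hc h using fun β : B => exists_approx p P Ap Bp ψ hψ hsurj β
  refine ⟨∏ t ∈ G, s t, ?_, ∏ t ∈ G, c t, ?_, ?_⟩
  · intro hmem
    obtain ⟨t, -, ht⟩ := Ideal.IsPrime.prod_mem_iff.mp hmem
    exact hs t ht
  · intro hmem
    obtain ⟨t, -, ht⟩ := Ideal.IsPrime.prod_mem_iff.mp hmem
    exact hc t ht
  · rw [eq_top_iff, ← hG]
    apply Algebra.adjoin_le
    intro t ht
    refine ⟨1, α t * ∏ t' ∈ G.erase t, s t', ?_⟩
    rw [← Finset.mul_prod_erase G s ht, ← Finset.mul_prod_erase G c ht]
    have h1 : (c t * ∏ x ∈ G.erase t, c x) *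
        (algebraMap A B (s t * ∏ x ∈ G.erase t, s x) ^ 1 * t -
          algebraMap A B (α t * ∏ t' ∈ G.erase t, s t')) =
        (∏ x ∈ G.erase t, c x) * algebraMap A B (∏ x ∈ G.erase t, s x) *
          (c t * (algebraMap A B (s t) * t - algebraMap A B (α t))) := by
      rw [map_mul, map_mul, pow_one]; ring
    rw [h1, h t, mul_zero]

include hψ in
/-- surjectivity part: after inverting suitable elements, `A' → B'` is surjective -/
theorem exists_surjective_away [Algebra.FiniteType A B] (hbij : Function.Bijective ψ) :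
    ∃ a : A, a ∉ p ∧ ∃ b : B, b ∉ P ∧ (∀ β : B, ∃ (n : ℕ) (α : A),
        b * (algebraMap A B a ^ n * β - algebraMap A B α) = 0) ∧
      ∀ (a' : A) (_ : a ∣ a') (A' B' : Type u) [CommRing A'] [CommRing B'] [Algebra A A']
        [Algebra B B'] [Algebra A' B'] [Algebra A B'] [IsScalarTower A A' B']
        [IsScalarTower A B B'] [IsLocalization.Away a' A']
        [IsLocalization.Away (b * algebraMap A B a') B'],
        Function.Surjective (algebraMap A' B') := by
  obtain ⟨s, hs, c, hc, htop⟩ := exists_approxSubalgebra_eq_top p P Ap Bp ψ hψ hbij.2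
  have happ : ∀ β : B, ∃ (n : ℕ) (α : A),
      c * (algebraMap A B s ^ n * β - algebraMap A B α) = 0 := by
    intro β
    have : β ∈ approxSubalgebra s c := by rw [htop]; trivial
    exact this
  obtain ⟨n₀, γ, hγ⟩ := happ c
  have hγp : γ ∉ p := by
    intro hmem
    have h1 : algebraMap A B γ ∈ P := (mem_iff p P Ap Bp ψ hψ hbij γ).mp hmem
    have h2 : c * (algebraMap A B s ^ n₀ * c) = c * algebraMap A B γ := by
      rw [mul_sub] at hγ; exact sub_eq_zero.mp hγ
    have h3 : c * (algebraMap A B s ^ n₀ * c) ∈ P := by rw [h2]; exact P.mul_mem_left _ h1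
    rcases (Ideal.IsPrime.mem_or_mem inferInstance h3) with h | h
    · exact hc h
    · rcases (Ideal.IsPrime.mem_or_mem inferInstance h) with h | h
      · exact hs ((mem_iff p P Ap Bp ψ hψ hbij s).mpr (Ideal.IsPrime.mem_of_pow_mem inferInstance _ h))
      · exact hc h
  refine ⟨s * γ, fun h => ?_, c, hc, ?_, ?_⟩
  · rcases (Ideal.IsPrime.mem_or_mem inferInstance h) with h | h
    · exact hs h
    · exact hγp h
  · intro β
    obtain ⟨n, α, h⟩ := happ β
    refine ⟨n, γ ^ n * α, ?_⟩
    have : c * (algebraMap A B (s * γ) ^ n * β - algebraMap A B (γ ^ n * α)) =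
        algebraMap A B γ ^ n * (c * (algebraMap A B s ^ n * β - algebraMap A B α)) := by
      rw [map_mul, map_mul, map_pow, mul_pow]; ring
    rw [this, h, mul_zero]
  · intro a' hdvd A' B' _ _ _ _ _ _ _ _ _ _
    have hua : IsUnit (algebraMap A A' a') := IsLocalization.Away.algebraMap_isUnit a'
    have hus : IsUnit (algebraMap A A' s) :=
      isUnit_of_dvd_unit (map_dvd (algebraMap A A') ((Dvd.intro _ rfl).trans hdvd)) hua
    have huγ : IsUnit (algebraMap A A' γ) :=
      isUnit_of_dvd_unit (map_dvd (algebraMap A A') ((Dvd.intro_left _ rfl).trans hdvd)) hua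
    have hub : IsUnit (algebraMap B B' (c * algebraMap A B a')) :=
      IsLocalization.Away.algebraMap_isUnit _
    have huc : IsUnit (algebraMap B B' c) :=
      isUnit_of_dvd_unit (map_dvd (algebraMap B B') (Dvd.intro _ rfl)) hub
    have hcomm : ∀ α : A, algebraMap A' B' (algebraMap A A' α) =
        algebraMap B B' (algebraMap A B α) := by
      intro α
      rw [← IsScalarTower.algebraMap_apply A A' B', ← IsScalarTower.algebraMap_apply A B B']
    -- images of elements of `B`
    have hB : ∀ β : B, algebraMap B B' β ∈ (algebraMap A' B').range := by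
      intro β
      obtain ⟨n, α, h⟩ := happ β
      have h1 : algebraMap B B' c * (algebraMap B B' (algebraMap A B s) ^ n * algebraMap B B' β -
          algebraMap B B' (algebraMap A B α)) = 0 := by
        rw [← map_pow, ← map_mul, ← map_sub, ← map_mul, h, map_zero]
      have h2 := (huc.mul_right_eq_zero).mp h1
      rw [sub_eq_zero] at h2
      obtain ⟨us, hus'⟩ := hus
      refine ⟨algebraMap A A' α * ((us⁻¹ : A'ˣ) : A') ^ n, ?_⟩
      rw [map_mul, hcomm, ← h2, map_pow, mul_comm, ← mul_assoc, ← mul_pow, ← hcomm s, ← hus',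
        ← map_mul, Units.inv_mul, map_one, one_pow, one_mul]
    -- the inverse of `c`
    have hcinv : ∃ w : A', algebraMap A' B' w * algebraMap B B' (c * algebraMap A B a') = 1 := by
      have h1 : algebraMap B B' c * (algebraMap B B' (algebraMap A B s) ^ n₀ * algebraMap B B' c -
          algebraMap B B' (algebraMap A B γ)) = 0 := by
        rw [← map_pow, ← map_mul, ← map_sub, ← map_mul, hγ, map_zero]
      have h2 := (huc.mul_right_eq_zero).mp h1
      rw [sub_eq_zero] at h2
      obtain ⟨us, hus'⟩ := hus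
      obtain ⟨uγ, huγ'⟩ := huγ
      obtain ⟨ua, hua'⟩ := hua
      refine ⟨((uγ⁻¹ : A'ˣ) : A') * (us : A') ^ n₀ * ((ua⁻¹ : A'ˣ) : A'), ?_⟩
      rw [map_mul (algebraMap B B'), ← hcomm a', ← hua', map_mul, map_mul, map_pow, hus', hcomm s]
      calc algebraMap A' B' ((uγ⁻¹ : A'ˣ) : A') * algebraMap B B' (algebraMap A B s) ^ n₀ *
            algebraMap A' B' ((ua⁻¹ : A'ˣ) : A') * (algebraMap B B' c * algebraMap A' B' (ua : A'))
          = algebraMap A' B' ((uγ⁻¹ : A'ˣ) : A') *
            (algebraMap B B' (algebraMap A B s) ^ n₀ * algebraMap B B' c) *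
            (algebraMap A' B' ((ua⁻¹ : A'ˣ) : A') * algebraMap A' B' (ua : A')) := by ring
        _ = 1 := by
          rw [h2, ← hcomm γ, ← huγ', ← map_mul, ← map_mul, Units.inv_mul, Units.inv_mul,
            map_one, one_mul]
    obtain ⟨w, hw⟩ := hcinv
    intro x
    obtain ⟨β, ⟨_, k, rfl⟩, rfl⟩ :=
      IsLocalization.exists_mk'_eq (Submonoid.powers (c * algebraMap A B a')) x
    obtain ⟨β', hβ'⟩ := hB β
    refine ⟨β' * w ^ k, ?_⟩
    have hk : algebraMap A' B' w ^ k * algebraMap B B' ((c * algebraMap A B a') ^ k) = 1 := by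
      rw [map_pow, ← mul_pow, hw, one_pow]
    rw [eq_comm, IsLocalization.mk'_eq_iff_eq_mul, map_mul, hβ', map_pow, mul_assoc]
    exact (by rw [hk, mul_one] : algebraMap B B' β = algebraMap B B' β *
      (algebraMap A' B' w ^ k * algebraMap B B' ((c * algebraMap A B a') ^ k)))

/-- injectivity from a kernel condition -/
theorem injective_away_of_cond (a' : A) (b : B)
    (hK : ∀ (α : A) (m : ℕ), (b * algebraMap A B a') ^ m * algebraMap A B α = 0 →
      ∃ l : ℕ, a' ^ l * α = 0)
    (A' B' : Type u) [CommRing A'] [CommRing B'] [Algebra A A']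
    [Algebra B B'] [Algebra A' B'] [Algebra A B'] [IsScalarTower A A' B']
    [IsScalarTower A B B'] [IsLocalization.Away a' A']
    [IsLocalization.Away (b * algebraMap A B a') B'] :
    Function.Injective (algebraMap A' B') := by
  rw [injective_iff_map_eq_zero]
  intro x hx
  obtain ⟨α, ⟨_, k, rfl⟩, rfl⟩ := IsLocalization.exists_mk'_eq (Submonoid.powers a') x
  have hcomm : ∀ α : A, algebraMap A' B' (algebraMap A A' α) =
      algebraMap B B' (algebraMap A B α) := by
    intro α
    rw [← IsScalarTower.algebraMap_apply A A' B', ← IsScalarTower.algebraMap_apply A B B']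
  have h1 : algebraMap B B' (algebraMap A B α) = 0 := by
    rw [← hcomm, ← IsLocalization.mk'_spec A' α
      (⟨(fun x => a' ^ x) k, k, rfl⟩ : Submonoid.powers a'), map_mul, hx, zero_mul]
  obtain ⟨⟨_, m, rfl⟩, hm⟩ := (IsLocalization.map_eq_zero_iff
    (Submonoid.powers (b * algebraMap A B a')) B' _).mp h1
  obtain ⟨l, hl⟩ := hK _ _ hm
  have hu : IsUnit (algebraMap A A' a') := IsLocalization.Away.algebraMap_isUnit _
  have h3 : algebraMap A A' α = 0 := by
    have h4 : algebraMap A A' a' ^ l * algebraMap A A' α = 0 := by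
      rw [← map_pow, ← map_mul, hl, map_zero]
    exact (hu.pow l).mul_right_eq_zero.mp h4
  rw [IsLocalization.mk'_eq_iff_eq_mul, h3, zero_mul]

include p hψ in
theorem cond_of_isDomain [IsDomain A] (hinj : Function.Injective ψ) (a : A) (b : B)
    (hb : b * algebraMap A B a ∉ P)
    (α : A) (m : ℕ) (h : (b * algebraMap A B a) ^ m * algebraMap A B α = 0) : α = 0 := by
  have h1 : algebraMap B Bp (algebraMap A B α) = 0 := by
    have hu : IsUnit (algebraMap B Bp ((b * algebraMap A B a) ^ m)) := by
      rw [IsLocalization.AtPrime.isUnit_to_map_iff Bp P]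
      exact fun hmem => hb (Ideal.IsPrime.mem_of_pow_mem inferInstance _ hmem)
    have h2 : algebraMap B Bp ((b * algebraMap A B a) ^ m) * algebraMap B Bp (algebraMap A B α)
        = 0 := by rw [← map_mul, h, map_zero]
    exact hu.mul_right_eq_zero.mp h2
  have h2 : algebraMap A Ap α = 0 := by
    apply hinj
    rw [map_zero, ← h1]
    exact RingHom.congr_fun hψ α
  obtain ⟨⟨w, hw⟩, hw'⟩ := (IsLocalization.map_eq_zero_iff p.primeCompl Ap α).mp h2
  have hw0 : w ≠ 0 := fun h0 => hw (by rw [h0]; exact p.zero_mem)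
  exact (mul_eq_zero.mp hw').resolve_left hw0

include p hψ in
/-- spreading out an isomorphism of local rings, domain case -/
theorem exists_bijective_away_of_isDomain [IsDomain A] [Algebra.FiniteType A B]
    (hbij : Function.Bijective ψ) :
    ∃ a : A, a ∉ p ∧ ∃ b : B, b ∉ P ∧
      ∀ (A' B' : Type u) [CommRing A'] [CommRing B'] [Algebra A A']
        [Algebra B B'] [Algebra A' B'] [Algebra A B'] [IsScalarTower A A' B']
        [IsScalarTower A B B'] [IsLocalization.Away a A']
        [IsLocalization.Away (b * algebraMap A B a) B'],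
        Function.Bijective (algebraMap A' B') := by
  obtain ⟨a, ha, b, hb, -, hsurj⟩ := exists_surjective_away p P Ap Bp ψ hψ hbij
  refine ⟨a, ha, b, hb, ?_⟩
  intro A' B' _ _ _ _ _ _ _ _ _ _
  refine ⟨?_, hsurj a dvd_rfl A' B'⟩
  have hbP : b * algebraMap A B a ∉ P := by
    intro h
    rcases (Ideal.IsPrime.mem_or_mem inferInstance h) with h | h
    · exact hb h
    · exact ha ((mem_iff p P Ap Bp ψ hψ hbij a).mpr h)
  apply injective_away_of_cond a b _ A' B'
  intro α m h
  exact ⟨0, by rw [pow_zero, one_mul]; exact cond_of_isDomain p P Ap Bp ψ hψ hbij.1 a b hbP α m h⟩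

include p hψ in
/-- the kernel condition in the finitely presented case -/
theorem exists_cond_of_finitePresentation [Algebra.FinitePresentation A B]
    (hinj : Function.Injective ψ) (a : A) (b : B) (hbP : b * algebraMap A B a ∉ P)
    (hsurj : ∀ (A' B' : Type u) [CommRing A'] [CommRing B'] [Algebra A A']
        [Algebra B B'] [Algebra A' B'] [Algebra A B'] [IsScalarTower A A' B']
        [IsScalarTower A B B'] [IsLocalization.Away a A']
        [IsLocalization.Away (b * algebraMap A B a) B'],
        Function.Surjective (algebraMap A' B')) :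
    ∃ v : A, v ∉ p ∧ ∀ (α : A) (m : ℕ), (b * algebraMap A B a) ^ m * algebraMap A B α = 0 →
      ∃ l : ℕ, a ^ l * (v * α) = 0 := by
  classical
  let A₁ := Localization.Away a
  let B₁ := Localization.Away (b * algebraMap A B a)
  have hub : IsUnit (algebraMap B B₁ (b * algebraMap A B a)) :=
    IsLocalization.Away.algebraMap_isUnit _
  have hu : IsUnit (algebraMap A B₁ a) := by
    rw [IsScalarTower.algebraMap_apply A B B₁]
    exact isUnit_of_dvd_unit (map_dvd (algebraMap B B₁) (Dvd.intro_left _ rfl)) hub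
  letI : Algebra A₁ B₁ := (IsLocalization.Away.lift a hu).toAlgebra
  haveI : IsScalarTower A A₁ B₁ := .of_algebraMap_eq' (IsLocalization.Away.lift_comp a hu).symm
  have hs : Function.Surjective (algebraMap A₁ B₁) := hsurj A₁ B₁
  haveI : Algebra.FinitePresentation B B₁ :=
    IsLocalization.Away.finitePresentation (b * algebraMap A B a)
  haveI : Algebra.FinitePresentation A B₁ := Algebra.FinitePresentation.trans A B B₁
  haveI : Algebra.FiniteType A A₁ := IsLocalization.finiteType_of_monoid_fg (Submonoid.powers a) A₁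
  haveI : Algebra.FinitePresentation A₁ B₁ :=
    Algebra.FinitePresentation.of_restrict_scalars_finitePresentation A A₁ B₁
  have hker : (RingHom.ker (Algebra.ofId A₁ B₁).toRingHom).FG :=
    Algebra.FinitePresentation.ker_fG_of_surjective (Algebra.ofId A₁ B₁) hs
  have hcomm : ∀ α : A, algebraMap A₁ B₁ (algebraMap A A₁ α) =
      algebraMap B B₁ (algebraMap A B α) := by
    intro α
    rw [← IsScalarTower.algebraMap_apply A A₁ B₁, ← IsScalarTower.algebraMap_apply A B B₁]
  -- elements of `A` dying in `B₁` are killed by an element outside `p`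
  have hA : ∀ κ : A, algebraMap B B₁ (algebraMap A B κ) = 0 → ∃ w : A, w ∉ p ∧ w * κ = 0 := by
    intro κ hκ
    obtain ⟨⟨_, m, rfl⟩, hm⟩ := (IsLocalization.map_eq_zero_iff
      (Submonoid.powers (b * algebraMap A B a)) B₁ _).mp hκ
    have h1 : algebraMap B Bp (algebraMap A B κ) = 0 := by
      have hu : IsUnit (algebraMap B Bp ((b * algebraMap A B a) ^ m)) := by
        rw [IsLocalization.AtPrime.isUnit_to_map_iff Bp P]
        exact fun hmem => hbP (Ideal.IsPrime.mem_of_pow_mem inferInstance _ hmem)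
      have h2 : algebraMap B Bp ((b * algebraMap A B a) ^ m) *
          algebraMap B Bp (algebraMap A B κ) = 0 := by rw [← map_mul, hm, map_zero]
      exact hu.mul_right_eq_zero.mp h2
    have h2 : algebraMap A Ap κ = 0 := by
      apply hinj
      rw [map_zero, ← h1]
      exact RingHom.congr_fun hψ κ
    obtain ⟨⟨w, hw⟩, hw'⟩ := (IsLocalization.map_eq_zero_iff p.primeCompl Ap κ).mp h2
    exact ⟨w, hw, hw'⟩
  have hk : ∀ k : A₁, algebraMap A₁ B₁ k = 0 → ∃ w : A, w ∉ p ∧ algebraMap A A₁ w * k = 0 := by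
    intro k hk0
    obtain ⟨κ, ⟨_, n, rfl⟩, rfl⟩ := IsLocalization.exists_mk'_eq (Submonoid.powers a) k
    have h1 : algebraMap B B₁ (algebraMap A B κ) = 0 := by
      rw [← hcomm, ← IsLocalization.mk'_spec A₁ κ
        (⟨(fun x => a ^ x) n, n, rfl⟩ : Submonoid.powers a), map_mul, hk0, zero_mul]
    obtain ⟨w, hw, hw'⟩ := hA κ h1
    refine ⟨w, hw, ?_⟩
    rw [mul_comm, IsLocalization.mk'_eq_mul_mk'_one, mul_assoc, mul_comm _ (algebraMap A A₁ w),
      ← mul_assoc, ← map_mul, mul_comm κ w, hw', map_zero, zero_mul]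
  obtain ⟨F, hF⟩ := hker
  have hFker : ∀ k ∈ F, algebraMap A₁ B₁ k = 0 := by
    intro k hkF
    have : k ∈ RingHom.ker (Algebra.ofId A₁ B₁).toRingHom := by
      rw [← hF]; exact Ideal.subset_span hkF
    exact this
  choose! w hw hw' using hk
  refine ⟨∏ k ∈ F, w k, ?_, ?_⟩
  · intro hmem
    obtain ⟨k, hkF, hk⟩ := Ideal.IsPrime.prod_mem_iff.mp hmem
    exact hw k (hFker k hkF) hk
  · intro α m hα
    have h1 : algebraMap B B₁ (algebraMap A B α) = 0 := by
      have h2 : algebraMap B B₁ ((b * algebraMap A B a) ^ m) *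
          algebraMap B B₁ (algebraMap A B α) = 0 := by rw [← map_mul, hα, map_zero]
      rw [map_pow] at h2
      exact (hub.pow m).mul_right_eq_zero.mp h2
    have h2 : algebraMap A A₁ α ∈ Ideal.span (F : Set A₁) := by
      rw [hF]
      show algebraMap A₁ B₁ (algebraMap A A₁ α) = 0
      rw [hcomm, h1]
    have h3 : ∀ k ∈ Ideal.span (F : Set A₁), algebraMap A A₁ (∏ k ∈ F, w k) * k = 0 := by
      intro k hk
      induction hk using Submodule.span_induction with
      | mem k hkF =>
        rw [← Finset.mul_prod_erase F w hkF, map_mul, mul_comm (algebraMap A A₁ (w k)), mul_assoc,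
          hw' k (hFker k hkF), mul_zero]
      | zero => exact mul_zero _
      | add x y _ _ hx hy => rw [mul_add, hx, hy, add_zero]
      | smul r x _ hx => rw [smul_eq_mul, mul_left_comm, hx, mul_zero]
    have h4 := h3 _ h2
    rw [← map_mul] at h4
    obtain ⟨⟨_, l, rfl⟩, hl⟩ := (IsLocalization.map_eq_zero_iff (Submonoid.powers a) A₁ _).mp h4
    exact ⟨l, hl⟩

include p hψ in
/-- spreading out an isomorphism of local rings, finitely presented case -/
theorem exists_bijective_away_of_finitePresentation [Algebra.FinitePresentation A B]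
    (hbij : Function.Bijective ψ) :
    ∃ a : A, a ∉ p ∧ ∃ b : B, b ∉ P ∧
      ∀ (A' B' : Type u) [CommRing A'] [CommRing B'] [Algebra A A']
        [Algebra B B'] [Algebra A' B'] [Algebra A B'] [IsScalarTower A A' B']
        [IsScalarTower A B B'] [IsLocalization.Away a A']
        [IsLocalization.Away (b * algebraMap A B a) B'],
        Function.Bijective (algebraMap A' B') := by
  obtain ⟨a₀, ha₀, b, hb, -, hsurj⟩ := exists_surjective_away p P Ap Bp ψ hψ hbij
  have hbP : b * algebraMap A B a₀ ∉ P := by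
    intro h
    rcases (Ideal.IsPrime.mem_or_mem inferInstance h) with h | h
    · exact hb h
    · exact ha₀ ((mem_iff p P Ap Bp ψ hψ hbij a₀).mpr h)
  obtain ⟨v, hv, hK⟩ := exists_cond_of_finitePresentation p P Ap Bp ψ hψ hbij.1 a₀ b hbP
    (fun A' B' _ _ _ _ _ _ _ _ _ _ => hsurj a₀ dvd_rfl A' B')
  refine ⟨a₀ * v, fun h => ?_, b, hb, ?_⟩
  · rcases (Ideal.IsPrime.mem_or_mem inferInstance h) with h | h
    · exact ha₀ h
    · exact hv h
  intro A' B' _ _ _ _ _ _ _ _ _ _
  refine ⟨?_, hsurj (a₀ * v) (Dvd.intro _ rfl) A' B'⟩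
  apply injective_away_of_cond (a₀ * v) b _ A' B'
  intro α m h
  have h1 : (b * algebraMap A B a₀) ^ m * algebraMap A B (v ^ m * α) = 0 := by
    have : (b * algebraMap A B a₀) ^ m * algebraMap A B (v ^ m * α) =
        (b * algebraMap A B (a₀ * v)) ^ m * algebraMap A B α := by
      rw [map_mul, map_mul, map_pow]; ring
    rw [this, h]
  obtain ⟨l, hl⟩ := hK _ _ h1
  refine ⟨l + m + 1, ?_⟩
  have : (a₀ * v) ^ (l + m + 1) * α = a₀ ^ (m + 1) * v ^ l * (a₀ ^ l * (v * (v ^ m * α))) := by
    ring
  rw [this, hl, mul_zero]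

end Groth.Agent.Helper16.LocIso
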