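import Mathlib
import Groth.Agent.Lib.Helper16.Alg.LocIso

set_option autoImplicit false
set_option linter.style.haveILetI false
set_option linter.unusedSectionVars false
universe u

namespace Groth.Agent.Helper16.LocIso

variable {A B : Type u} [CommRing A] [CommRing B] [Algebra A B]
  (p : Ideal A) [p.IsPrime] (P : Ideal B) [P.IsPrime]
  (Ap Bp : Type u) [CommRing Ap] [CommRing Bp] [Algebra A Ap] [Algebra B Bp]
  [IsLocalization.AtPrime Ap p] [IsLocalization.AtPrime Bp P]
  (ψ : Ap →+* Bp) (hψ : ψ.comp (algebraMap A Ap) = (algebraMap B Bp).comp (algebraMap A B))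

include p hψ in
theorem cond_of_injective (hA : Function.Injective (algebraMap A Ap))
    (hinj : Function.Injective ψ) (a : A) (b : B)
    (hb : b * algebraMap A B a ∉ P)
    (α : A) (m : ℕ) (h : (b * algebraMap A B a) ^ m * algebraMap A B α = 0) : α = 0 := by
  have h1 : algebraMap B Bp (algebraMap A B α) = 0 := by
    have hu : IsUnit (algebraMap B Bp ((b * algebraMap A B a) ^ m)) := by
      rw [IsLocalization.AtPrime.isUnit_to_map_iff Bp P]
      exact fun hmem => hb (Ideal.IsPrime.mem_of_pow_mem inferInstance _ hmem)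
    have h2 : algebraMap B Bp ((b * algebraMap A B a) ^ m) * algebraMap B Bp (algebraMap A B α)
        = 0 := by rw [← map_mul, h, map_zero]
    exact hu.mul_right_eq_zero.mp h2
  have h2 : algebraMap A Ap α = 0 := by
    apply hinj
    rw [map_zero, ← h1]
    exact RingHom.congr_fun hψ α
  exact hA (h2.trans (map_zero _).symm)

include p hψ in
/-- spreading out an isomorphism of local rings, when `A → A_p` is injective -/
theorem exists_bijective_away_of_injective [Algebra.FiniteType A B]
    (hA : Function.Injective (algebraMap A Ap)) (hbij : Function.Bijective ψ) :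
    ∃ a : A, a ∉ p ∧ ∃ b : B, b ∉ P ∧
      ∀ (A' B' : Type u) [CommRing A'] [CommRing B'] [Algebra A A']
        [Algebra B B'] [Algebra A' B'] [Algebra A B'] [IsScalarTower A A' B']
        [IsScalarTower A B B'] [IsLocalization.Away a A']
        [IsLocalization.Away (b * algebraMap A B a) B'],
        Function.Bijective (algebraMap A' B') := by
  obtain ⟨a, ha, b, hb, -, hsurj⟩ := exists_surjective_away p P Ap Bp ψ hψ hbij
  refine ⟨a, ha, b, hb, ?_⟩
  intro A' B' _ _ _ _ _ _ _ _ _ _
  refine ⟨?_, hsurj a dvd_rfl A' B'⟩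
  have hbP : b * algebraMap A B a ∉ P := by
    intro h
    rcases (Ideal.IsPrime.mem_or_mem inferInstance h) with h | h
    · exact hb h
    · exact ha ((mem_iff p P Ap Bp ψ hψ hbij a).mpr h)
  apply injective_away_of_cond a b _ A' B'
  intro α m h
  have h0 := cond_of_injective p P Ap Bp ψ hψ hA hbij.1 a b hbP α m h
  exact ⟨0, by rw [pow_zero, one_mul]; exact h0⟩

end Groth.Agent.Helper16.LocIso
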