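import Mathlib

set_option autoImplicit false
universe u
open TensorProduct

namespace Groth.Agent.Helper16.FlatQuot

variable {A B : Type u} [CommRing A] [CommRing B] [Algebra A B]

/-- If `B ⧸ I` is flat over `A`, then `I ∩ 𝔞B = 𝔞I` for every ideal `𝔞` of `A`. -/
theorem mem_smul_of_mem_inf (I : Ideal B) [Module.Flat A (B ⧸ I)] (𝔞 : Ideal A) (x : B)
    (hxI : x ∈ I) (hx𝔞 : x ∈ 𝔞.map (algebraMap A B)) :
    x ∈ 𝔞 • (I.restrictScalars A) := by
  -- the maps
  let ι : (I.restrictScalars A) →ₗ[A] B := (I.restrictScalars A).subtype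
  let π : B →ₗ[A] (B ⧸ I) := (Ideal.Quotient.mkₐ A I).toLinearMap
  have hex : Function.Exact ι π := by
    intro b
    constructor
    · intro hb
      have : b ∈ I := Ideal.Quotient.eq_zero_iff_mem.mp hb
      exact ⟨⟨b, this⟩, rfl⟩
    · rintro ⟨⟨b', hb'⟩, rfl⟩
      exact Ideal.Quotient.eq_zero_iff_mem.mpr hb'
  have hπ : Function.Surjective π := Ideal.Quotient.mk_surjective
  have hex' : Function.Exact (LinearMap.lTensor 𝔞 ι) (LinearMap.lTensor 𝔞 π) :=
    lTensor_exact 𝔞 hex hπ
  -- multiplication maps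
  let μB : 𝔞 ⊗[A] B →ₗ[A] B := (TensorProduct.lid A B).toLinearMap ∘ₗ LinearMap.rTensor B 𝔞.subtype
  let μC : 𝔞 ⊗[A] (B ⧸ I) →ₗ[A] (B ⧸ I) :=
    (TensorProduct.lid A (B ⧸ I)).toLinearMap ∘ₗ LinearMap.rTensor (B ⧸ I) 𝔞.subtype
  have hμC : Function.Injective μC := by
    refine (TensorProduct.lid A (B ⧸ I)).injective.comp ?_
    exact Module.Flat.rTensor_preserves_injective_linearMap _ Subtype.val_injective
  have hcomm : μC ∘ₗ LinearMap.lTensor 𝔞 π = π ∘ₗ μB := by
    apply TensorProduct.ext'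
    intro a b
    simp only [LinearMap.coe_comp, LinearEquiv.coe_coe, Function.comp_apply,
      LinearMap.lTensor_tmul, LinearMap.rTensor_tmul, Submodule.subtype_apply, lid_tmul, μC, μB]
    exact (map_smul π (a : A) b).symm
  -- image of 𝔞 ⊗ I lies in 𝔞 • I
  have key : ∀ t', μB (LinearMap.lTensor 𝔞 ι t') ∈ 𝔞 • (I.restrictScalars A) := by
    intro t'
    induction t' using TensorProduct.induction_on with
    | zero => simp
    | tmul a y =>
      have : μB (LinearMap.lTensor 𝔞 ι (a ⊗ₜ y)) = (a : A) • (y : B) := by simp [μB, ι]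
      rw [this]
      exact Submodule.smul_mem_smul a.2 y.2
    | add t₁ t₂ h₁ h₂ =>
      rw [map_add, map_add]
      exact add_mem h₁ h₂
  -- x is in the image of μB
  have hx : ∃ t, μB t = x := by
    have hx' : x ∈ (𝔞 • (⊤ : Submodule A B)) := by
      rw [Ideal.smul_top_eq_map]; exact hx𝔞
    refine Submodule.smul_induction_on hx' ?_ ?_
    · intro a ha b _
      exact ⟨(⟨a, ha⟩ : 𝔞) ⊗ₜ b, by simp [μB]⟩
    · rintro _ _ ⟨t, rfl⟩ ⟨t', rfl⟩
      exact ⟨t + t', map_add _ _ _⟩
  obtain ⟨t, rfl⟩ := hx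
  have h1 : μC (LinearMap.lTensor 𝔞 π t) = 0 := by
    have := LinearMap.congr_fun hcomm t
    simp only [LinearMap.comp_apply] at this
    rw [this]
    exact Ideal.Quotient.eq_zero_iff_mem.mpr hxI
  have h2 : LinearMap.lTensor 𝔞 π t = 0 := hμC (by rw [h1, map_zero])
  obtain ⟨t', rfl⟩ := (hex' t).mp h2
  exact key t'

/-- Lemma D: a surjection `φ : B → C` with finitely generated kernel contained in `𝔞B`,
`C` flat over `A` and `𝔞B` in the Jacobson radical, is injective. -/
theorem injective_of_flat_of_ker_le {C : Type u} [CommRing C] (φ : B →+* C)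
    (hφ : Function.Surjective φ) (hflat : (φ.comp (algebraMap A B)).Flat) (𝔞 : Ideal A)
    (h𝔞 : 𝔞.map (algebraMap A B) ≤ Ideal.jacobson ⊥)
    (hker : RingHom.ker φ ≤ 𝔞.map (algebraMap A B)) (hfg : (RingHom.ker φ).FG) :
    Function.Injective φ := by
  let I := RingHom.ker φ
  -- B ⧸ I ≃ C as A-algebras
  have hflat' : Module.Flat A (B ⧸ I) := by
    let _ : Algebra A C := (φ.comp (algebraMap A B)).toAlgebra
    have hC : Module.Flat A C := hflat
    let e : (B ⧸ I) ≃+* C := RingHom.quotientKerEquivOfSurjective hφ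
    let e' : (B ⧸ I) ≃ₗ[A] C :=
      { e.toAddEquiv with
        map_smul' := by
          intro a q
          obtain ⟨b, rfl⟩ := Ideal.Quotient.mk_surjective q
          simp only [RingHom.id_apply]
          change e (a • Ideal.Quotient.mk I b) = a • e (Ideal.Quotient.mk I b)
          rw [Algebra.smul_def, Algebra.smul_def, map_mul]
          rfl }
    exact Module.Flat.of_linearEquiv (R := A) (M := C) (N := B ⧸ I) e'
  have hle : I ≤ Ideal.jacobson (⊥ : Ideal B) • I := by
    intro x hx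
    have h1 := mem_smul_of_mem_inf I 𝔞 x hx (hker hx)
    refine Submodule.smul_induction_on h1 ?_ ?_
    · intro a ha y hy
      rw [Algebra.smul_def]
      exact Submodule.smul_mem_smul (h𝔞 (Ideal.mem_map_of_mem _ ha)) hy
    · intro y z hy hz
      exact add_mem hy hz
  have hbot : I = ⊥ :=
    Submodule.eq_bot_of_le_smul_of_le_jacobson_bot (Ideal.jacobson (⊥ : Ideal B)) I hfg hle le_rfl
  exact (RingHom.injective_iff_ker_eq_bot φ).mpr hbot

end Groth.Agent.Helper16.FlatQuot
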