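import Mathlib

set_option autoImplicit false
universe u
open TensorProduct IsLocalRing

namespace Groth.Agent.Helper16.FlatTensorSelf

/-- nilpotent Nakayama -/
theorem eq_top_of_sup_smul_eq_top {R M : Type*} [CommRing R] [AddCommGroup M] [Module R M]
    (I : Ideal R) (hI : IsNilpotent I) (N : Submodule R M) (h : N ⊔ I • (⊤ : Submodule R M) = ⊤) :
    N = ⊤ := by
  obtain ⟨n, hn⟩ := hI
  have key : ∀ m : ℕ, N ⊔ (I ^ m) • (⊤ : Submodule R M) = ⊤ := by
    intro m
    induction m with
    | zero => simp
    | succ m ih =>
      rw [eq_top_iff]
      calc (⊤ : Submodule R M) = N ⊔ I • (⊤ : Submodule R M) := h.symm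
        _ = N ⊔ I • (N ⊔ (I ^ m) • (⊤ : Submodule R M)) := by rw [ih]
        _ = N ⊔ (I • N ⊔ I • ((I ^ m) • (⊤ : Submodule R M))) := by rw [Submodule.smul_sup]
        _ ≤ N ⊔ (I ^ (m + 1)) • (⊤ : Submodule R M) := by
          rw [← Submodule.mul_smul, ← pow_succ']
          refine sup_le le_sup_left (sup_le ?_ le_sup_right)
          exact le_trans Submodule.smul_le_right le_sup_left
  have := key n
  rw [hn] at this
  simpa using this

variable {A B : Type u} [CommRing A] [CommRing B] [Algebra A B] [IsLocalRing A] [IsArtinianRing A]
  [IsLocalRing B]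

theorem isLocalHom_of_artinian : IsLocalHom (algebraMap A B) := by
  constructor
  intro a ha
  by_contra h
  have hm : a ∈ maximalIdeal A := h
  have hnil : IsNilpotent a := by
    have h1 : IsNilpotent (maximalIdeal A) := by
      have := IsArtinianRing.isNilpotent_jacobson_bot (R := A)
      rwa [IsLocalRing.jacobson_eq_maximalIdeal ⊥ bot_ne_top] at this
    obtain ⟨n, hn⟩ := h1
    refine ⟨n, ?_⟩
    have : a ^ n ∈ (maximalIdeal A) ^ n := Ideal.pow_mem_pow hm n
    rw [hn] at this
    simpa using this
  obtain ⟨n, hn⟩ : IsNilpotent (algebraMap A B a) := hnil.map _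
  have h2 : IsUnit ((algebraMap A B a) ^ n) := ha.pow n
  rw [hn] at h2
  exact not_isUnit_zero h2


/-- **Key lemma.** Let `A` be an artinian local ring and `A → B` an injective homomorphism to a
local ring such that `B ⊗[A] B` is flat over `B`. Then `B` is free over `A`. -/
theorem free_of_flat_tensor (hinj : Function.Injective (algebraMap A B))
    [Module.Flat B (B ⊗[A] B)] : Module.Free A B := by
  haveI : IsLocalHom (algebraMap A B) := isLocalHom_of_artinian
  let bb := Module.Free.chooseBasis (ResidueField A) (ResidueField A ⊗[A] B)
  have hsurj : Function.Surjective (TensorProduct.mk A (ResidueField A) B 1) :=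
    TensorProduct.mk_surjective A B (ResidueField A) residue_surjective
  choose v hv using fun l => hsurj (bb l)
  let w : Module.Free.ChooseBasisIndex (ResidueField A) (ResidueField A ⊗[A] B) → B ⊗[A] B :=
    fun l => 1 ⊗ₜ v l
  have hw' : LinearIndependent (ResidueField B)
      (TensorProduct.mk B (ResidueField B) (B ⊗[A] B) 1 ∘ w) := by
    classical
    rw [linearIndependent_iff']
    intro s c hc l₀ hl₀
    let θ : B →ₗ[A] ResidueField B :=
      ((Algebra.linearMap (ResidueField A) (ResidueField B)).restrictScalars A) ∘ₗ
        ((bb.coord l₀).restrictScalars A) ∘ₗ (TensorProduct.mk A (ResidueField A) B 1)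
    let ξ : ResidueField B ⊗[B] (B ⊗[A] B) →ₗ[ResidueField B] ResidueField B :=
      (θ.liftBaseChange B).liftBaseChange (ResidueField B)
    have hθ : ∀ l, θ (v l) = if l = l₀ then 1 else 0 := by
      intro l
      simp only [θ, LinearMap.coe_comp, Function.comp_apply, LinearMap.coe_restrictScalars, hv]
      rw [Module.Basis.coord_apply, Module.Basis.repr_self, Finsupp.single_apply]
      split_ifs <;> simp
    have h1 := congrArg ξ hc
    rw [map_sum, map_zero] at h1
    have h2 : ∀ l ∈ s, ξ (c l • (TensorProduct.mk B (ResidueField B) (B ⊗[A] B) 1 ∘ w) l) =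
        if l = l₀ then c l else 0 := by
      intro l _
      rw [map_smul]
      simp only [ξ, w, Function.comp_apply, TensorProduct.mk_apply,
        LinearMap.liftBaseChange_tmul, one_smul, hθ]
      split_ifs <;> simp
    rw [Finset.sum_congr rfl h2, Finset.sum_ite_eq' s l₀] at h1
    simpa [hl₀] using h1
  have hw : LinearIndependent B w := Module.IsLocalRing.linearIndependent_of_flat w hw'
  have hwA : LinearIndependent A w := by
    refine LinearIndependent.restrict_scalars (R := A) (K := B) ?_ hw
    intro a a' h
    apply hinj
    simpa [Algebra.smul_def] using h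
  have hli : LinearIndependent A v :=
    LinearIndependent.of_comp (TensorProduct.mk A B B 1) hwA
  have hnil : IsNilpotent (maximalIdeal A) := by
    have := IsArtinianRing.isNilpotent_jacobson_bot (R := A)
    rwa [IsLocalRing.jacobson_eq_maximalIdeal ⊥ bot_ne_top] at this
  have hspan : Submodule.span A (Set.range v) = ⊤ := by
    apply eq_top_of_sup_smul_eq_top (maximalIdeal A) hnil
    have hx : ∀ x : ResidueField A ⊗[A] B,
        x ∈ Submodule.map (TensorProduct.mk A (ResidueField A) B 1)
          (Submodule.span A (Set.range v)) := by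
      intro x
      have hxs : x ∈ Submodule.span (ResidueField A) (Set.range bb) := by
        rw [bb.span_eq]; trivial
      induction hxs using Submodule.span_induction with
      | mem y hy =>
        obtain ⟨l, rfl⟩ := hy
        exact ⟨v l, Submodule.subset_span ⟨l, rfl⟩, hv l⟩
      | zero => exact zero_mem _
      | add y z _ _ hy hz => exact add_mem hy hz
      | smul c y _ hy =>
        obtain ⟨a, rfl⟩ := residue_surjective c
        have : (residue A a) • y = a • y := by
          rw [← algebraMap_smul (ResidueField A) a y]; rfl
        rw [this]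
        exact Submodule.smul_mem _ a hy
    rw [eq_top_iff]
    intro b _
    obtain ⟨b', hb', hbb'⟩ := hx (TensorProduct.mk A (ResidueField A) B 1 b)
    have hker : b - b' ∈ LinearMap.ker (TensorProduct.mk A (ResidueField A) B 1) := by
      rw [LinearMap.mem_ker, map_sub, hbb', sub_self]
    have hker' : b - b' ∈ (maximalIdeal A) • (⊤ : Submodule A B) := by
      have := LinearMap.ker_tensorProductMk (R := A) (Q := B) (I := maximalIdeal A)
      rw [← this]
      exact hker
    have : b = b' + (b - b') := by ring
    rw [this]
    exact Submodule.add_mem_sup hb' hker'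
  exact Module.Free.of_basis (Module.Basis.mk hli hspan.ge)

theorem flat_of_flat_tensor (hinj : Function.Injective (algebraMap A B))
    [Module.Flat B (B ⊗[A] B)] : Module.Flat A B := by
  haveI := free_of_flat_tensor hinj
  infer_instance

end Groth.Agent.Helper16.FlatTensorSelf
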