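import Mathlib
set_option autoImplicit false
set_option linter.style.haveILetI false
set_option linter.dupNamespace false
open TensorProduct
universe u

namespace Groth.Agent.Helper16.ResEW

/-- every element of the residue field at a prime is a fraction of images of ring elements -/
theorem exists_frac {R : Type u} [CommRing R] (p : Ideal R) [p.IsPrime] (c : p.ResidueField) :
    ∃ a b : R, b ∉ p ∧ c * algebraMap R p.ResidueField b = algebraMap R p.ResidueField a := by
  obtain ⟨x, y, hy, rfl⟩ := IsFractionRing.div_surjective (A := R ⧸ p) c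
  obtain ⟨a, rfl⟩ := Ideal.Quotient.mk_surjective x
  obtain ⟨b, rfl⟩ := Ideal.Quotient.mk_surjective y
  have hb : b ∉ p := by
    intro hb
    have : Ideal.Quotient.mk p b = 0 := Ideal.Quotient.eq_zero_iff_mem.mpr hb
    rw [this] at hy
    exact zero_notMem_nonZeroDivisors hy
  refine ⟨a, b, hb, ?_⟩
  have h1 : algebraMap (R ⧸ p) p.ResidueField (Ideal.Quotient.mk p b) =
      algebraMap R p.ResidueField b := rfl
  have h2 : algebraMap (R ⧸ p) p.ResidueField (Ideal.Quotient.mk p a) =
      algebraMap R p.ResidueField a := rfl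
  rw [h1, h2]
  have hne : algebraMap R p.ResidueField b ≠ 0 := by
    rw [Ne, Ideal.algebraMap_residueField_eq_zero]
    exact hb
  field_simp

/-- elementwise form of a trivial residue field extension -/
theorem ew_of_bij {R R' : Type u} [CommRing R] [CommRing R'] [Algebra R R'] (p : Ideal R)
    [p.IsPrime] (p' : Ideal R') [p'.IsPrime] [p'.LiesOver p]
    (hbij : Function.Bijective
      (Ideal.ResidueField.mapₐ p p' (Algebra.ofId _ _) (p'.over_def p)))
    (a' b' : R') (hb' : b' ∉ p') :
    ∃ a b : R, b ∉ p ∧ a' * algebraMap R R' b - b' * algebraMap R R' a ∈ p' := by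
  have hne' : algebraMap R' p'.ResidueField b' ≠ 0 := by
    rw [Ne, Ideal.algebraMap_residueField_eq_zero]
    exact hb'
  obtain ⟨c, hc⟩ := hbij.2 (algebraMap R' p'.ResidueField a' / algebraMap R' p'.ResidueField b')
  obtain ⟨a, b, hb, hab⟩ := exists_frac p c
  refine ⟨a, b, hb, ?_⟩
  rw [← Ideal.algebraMap_residueField_eq_zero, map_sub, map_mul, map_mul]
  have h1 := congrArg (Ideal.ResidueField.mapₐ p p' (Algebra.ofId _ _) (p'.over_def p)) hab
  rw [map_mul, hc, AlgHom.commutes, AlgHom.commutes,
    IsScalarTower.algebraMap_apply R R' p'.ResidueField,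
    IsScalarTower.algebraMap_apply R R' p'.ResidueField] at h1
  field_simp at h1
  rw [sub_eq_zero, h1]

end Groth.Agent.Helper16.ResEW
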