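import Mathlib
import Groth.Agent.Lib.Helper15.EtNbhdResField
import Groth.Agent.Lib.Helper16.Alg.ResEW

set_option autoImplicit false
universe u
open Polynomial

namespace Groth.Agent.Helper16.ENR

/-- étale neighbourhood (ring level) realizing a finite separable residue field extension -/
theorem exists_etale_residue_ext (R : Type u) [CommRing R] (p : Ideal R) [p.IsPrime]
    (k' : Type u) [Field k'] [Algebra p.ResidueField k'] [FiniteDimensional p.ResidueField k']
    [Algebra.IsSeparable p.ResidueField k'] :
    ∃ (R₁ : Type u) (_ : CommRing R₁) (_ : Algebra R R₁) (_ : Algebra.Etale R R₁) (p₁ : Ideal R₁)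
      (_ : p₁.IsPrime) (_ : p₁.LiesOver p) (σ : k' →+* p₁.ResidueField),
      σ.comp (algebraMap p.ResidueField k') =
        Ideal.ResidueField.map p p₁ (algebraMap R R₁) (p₁.over_def p) := by
  letI : Algebra R k' := ((algebraMap p.ResidueField k').comp (algebraMap R p.ResidueField)).toAlgebra
  haveI : IsScalarTower R p.ResidueField k' := IsScalarTower.of_algebraMap_eq fun _ => rfl
  have hfrac : ∀ c : p.ResidueField, ∃ a b : R, algebraMap R p.ResidueField b ≠ 0 ∧
      c * algebraMap R p.ResidueField b = algebraMap R p.ResidueField a := by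
    intro c
    obtain ⟨a, b, hb, hab⟩ := Groth.Agent.Helper16.ResEW.exists_frac p c
    refine ⟨a, b, ?_, hab⟩
    rw [Ne, Ideal.algebraMap_residueField_eq_zero]
    exact hb
  obtain ⟨P, φ, hφ⟩ := Groth.Agent.Helper15.exists_standardEtalePair_lift (A := R)
    (K := p.ResidueField) (k := k') hfrac
  let p₁ : Ideal P.Ring := RingHom.ker φ.toRingHom
  haveI : p₁.IsPrime := RingHom.ker_isPrime φ.toRingHom
  have hover : p₁.LiesOver p := by
    constructor
    ext a
    show a ∈ p ↔ φ (algebraMap R P.Ring a) = 0
    rw [φ.commutes]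
    show a ∈ p ↔ algebraMap p.ResidueField k' (algebraMap R p.ResidueField a) = 0
    rw [map_eq_zero, Ideal.algebraMap_residueField_eq_zero]
  haveI := hover
  -- the embedding κ(p₁) → k'
  let ψ : p₁.ResidueField →+* k' := Ideal.ResidueField.lift p₁ φ.toRingHom le_rfl (by
    intro b hb
    show IsUnit (φ b)
    rw [isUnit_iff_ne_zero]
    exact hb)
  have hψ : ∀ b : P.Ring, ψ (algebraMap P.Ring p₁.ResidueField b) = φ b := fun b =>
    Ideal.ResidueField.lift_algebraMap _ _ _ _ b
  have hψK : ψ.comp (Ideal.ResidueField.map p p₁ (algebraMap R P.Ring) (p₁.over_def p)) =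
      algebraMap p.ResidueField k' := by
    apply Ideal.ResidueField.ringHom_ext
    ext a
    show ψ (Ideal.ResidueField.map p p₁ (algebraMap R P.Ring) _ (algebraMap R p.ResidueField a)) =
      algebraMap p.ResidueField k' (algebraMap R p.ResidueField a)
    rw [Ideal.ResidueField.map_algebraMap, hψ, φ.commutes]
    rfl
  -- surjectivity
  let Lr : IntermediateField p.ResidueField k' :=
    Subfield.toIntermediateField ψ.fieldRange (fun c =>
      ⟨Ideal.ResidueField.map p p₁ (algebraMap R P.Ring) (p₁.over_def p) c,
        congrArg (fun g => g c) hψK⟩)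
  have hLr : Lr = ⊤ := hφ Lr (fun b => ⟨algebraMap P.Ring p₁.ResidueField b, hψ b⟩)
  have hsurj : Function.Surjective ψ := by
    intro z
    have : z ∈ Lr := by rw [hLr]; trivial
    exact RingHom.mem_fieldRange.mp this
  let e : p₁.ResidueField ≃+* k' := RingEquiv.ofBijective ψ ⟨ψ.injective, hsurj⟩
  refine ⟨P.Ring, inferInstance, inferInstance, inferInstance, p₁, inferInstance, hover,
    e.symm.toRingHom, ?_⟩
  refine RingHom.ext fun c => ?_
  show e.symm (algebraMap p.ResidueField k' c) = _
  rw [RingEquiv.symm_apply_eq]
  exact (congrArg (fun g => g c) hψK).symm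

set_option backward.isDefEq.respectTransparency.types false in
/-- the residue field extension at a quasi-finite prime is finite -/
theorem finite_residueField_of_quasiFiniteAt {R A : Type u} [CommRing R] [CommRing A] [Algebra R A]
    (p : Ideal R) [p.IsPrime] (q : Ideal A) [q.IsPrime] (hq : p = q.comap (algebraMap R A))
    [Algebra.QuasiFiniteAt R q] :
    letI := (Ideal.ResidueField.map p q (algebraMap R A) hq).toAlgebra
    Module.Finite p.ResidueField q.ResidueField := by
  haveI : q.LiesOver p := ⟨hq⟩
  letI a1 : Algebra (Localization.AtPrime p) (Localization.AtPrime q) :=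
    Localization.AtPrime.algebraOfLiesOver p q
  letI inst1 : Algebra p.ResidueField q.ResidueField := inferInstance
  have h : @Module.Finite p.ResidueField q.ResidueField _ _ inst1.toModule := inferInstance
  letI inst2 := (Ideal.ResidueField.map p q (algebraMap R A) hq).toAlgebra
  refine @Module.Finite.of_equiv_equiv p.ResidueField q.ResidueField p.ResidueField q.ResidueField
    _ _ _ _ inst1 inst2 (RingEquiv.refl _) (RingEquiv.refl _) ?_ h
  rfl

end Groth.Agent.Helper16.ENR
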