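import Mathlib
import Groth.Agent.Lib.Helper16.Alg.UnrSplit3
import Groth.Agent.Lib.Helper16.Alg.EtSplit
set_option autoImplicit false
set_option linter.style.haveILetI false
set_option linter.dupNamespace false
open TensorProduct
universe u

namespace Groth.Agent.Helper16.SplitD
open Groth.Agent.Helper16.UnrSplit

/-- splitting data for `R' ⊗[R] S` at the prime `p'` of `R'`, with prescribed ideals -/
def SplitDataI (R R' S : Type u) [CommRing R] [CommRing R'] [Algebra R R'] [CommRing S]
    [Algebra R S] (p' : Ideal R') (ι : Type) (I : ι → Ideal R') : Prop :=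
  ∃ (B : Type u) (_ : CommRing B) (_ : Algebra R' B),
    Nonempty ((R' ⊗[R] S) ≃ₐ[R'] ((∀ i, R' ⧸ I i) × B)) ∧
      ∀ (q : Ideal B) [q.IsPrime], q.comap (algebraMap R' B) ≠ p'

/-- splitting data for `R' ⊗[R] S` at the prime `p'` of `R'` -/
def SplitData (R R' S : Type u) [CommRing R] [CommRing R'] [Algebra R R'] [CommRing S]
    [Algebra R S] (p' : Ideal R') : Prop :=
  ∃ (ι : Type) (_ : Fintype ι) (I : ι → Ideal R'), SplitDataI R R' S p' ι I ∧ ∀ i, I i ≤ p'

theorem exists_splitData (R S : Type u) [CommRing R] [CommRing S] [Algebra R S]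
    [Algebra.Unramified R S] (p : Ideal R) [p.IsPrime] :
    ∃ (R' : Type u) (_ : CommRing R') (_ : Algebra R R') (_ : Algebra.Etale R R') (p' : Ideal R')
      (_ : p'.IsPrime) (_ : p'.LiesOver p), SplitData R R' S p' := by
  obtain ⟨R', _, _, _, p', _, _, ι, _, I, B, _, _, he, hI, hB⟩ := claim _ R S p rfl
  exact ⟨R', inferInstance, inferInstance, inferInstance, p', inferInstance, inferInstance,
    ι, inferInstance, I, ⟨B, inferInstance, inferInstance, he, hB⟩, hI⟩

/-- base change of splitting data -/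
theorem SplitDataI.baseChange {R R' R'' S : Type u} [CommRing R] [CommRing R'] [CommRing R'']
    [CommRing S] [Algebra R R'] [Algebra R S] [Algebra R' R''] [Algebra R R'']
    [IsScalarTower R R' R''] {p' : Ideal R'} {p'' : Ideal R''}
    (hp : p''.comap (algebraMap R' R'') = p') {ι : Type} [Finite ι] {I : ι → Ideal R'}
    (h : SplitDataI R R' S p' ι I) :
    SplitDataI R R'' S p'' ι (fun i => (I i).map (algebraMap R' R'')) := by
  classical
  haveI := Fintype.ofFinite ι
  obtain ⟨B, _, _, ⟨e⟩, hB⟩ := h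
  let E : R'' ⊗[R] S ≃ₐ[R''] ((∀ i, R'' ⧸ (I i).map (algebraMap R' R'')) × (R'' ⊗[R'] B)) :=
    (Algebra.TensorProduct.cancelBaseChange R R' R'' R'' S).symm.trans <|
      (Algebra.TensorProduct.congr AlgEquiv.refl e).trans <|
      (Algebra.TensorProduct.prodRight R' R'' R'' (∀ i, R' ⧸ I i) B).trans <|
      AlgEquiv.prodCongr
        ((Algebra.TensorProduct.piRight R' R'' R'' (fun i => R' ⧸ I i)).trans
          (AlgEquiv.piCongrRight fun i =>
            (Algebra.TensorProduct.quotIdealMapEquivTensorQuot R'' (I i)).symm))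
        AlgEquiv.refl
  refine ⟨R'' ⊗[R'] B, inferInstance, inferInstance, ⟨E⟩, ?_⟩
  intro q _ hq
  let qB : Ideal B := q.comap (Algebra.TensorProduct.includeRight : B →ₐ[R'] R'' ⊗[R'] B).toRingHom
  haveI : qB.IsPrime := Ideal.comap_isPrime _ _
  apply hB qB
  rw [← hp, ← hq, Ideal.comap_comap, Ideal.comap_comap]
  congr 1
  ext r
  simp [Algebra.algebraMap_eq_smul_one]

theorem SplitData.baseChange {R R' R'' S : Type u} [CommRing R] [CommRing R'] [CommRing R'']
    [CommRing S] [Algebra R R'] [Algebra R S] [Algebra R' R''] [Algebra R R'']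
    [IsScalarTower R R' R''] {p' : Ideal R'} {p'' : Ideal R''}
    (hp : p''.comap (algebraMap R' R'') = p') (h : SplitData R R' S p') :
    SplitData R R'' S p'' := by
  obtain ⟨ι, _, I, h1, hI⟩ := h
  refine ⟨ι, inferInstance, _, h1.baseChange hp, fun i => ?_⟩
  rw [Ideal.map_le_iff_le_comap, hp]
  exact hI i

theorem SplitData.of_tensor {R R₁ R₂ A : Type u} [CommRing R] [CommRing R₁] [CommRing R₂]
    [CommRing A] [Algebra R R₁] [Algebra R₁ R₂] [Algebra R R₂] [IsScalarTower R R₁ R₂]
    [Algebra R A] {p₂ : Ideal R₂} (h : SplitData R₁ R₂ (R₁ ⊗[R] A) p₂) : SplitData R R₂ A p₂ := by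
  obtain ⟨ι, _, I, ⟨B, _, _, ⟨e⟩, hB⟩, hI⟩ := h
  exact ⟨ι, inferInstance, I, ⟨B, inferInstance, inferInstance,
    ⟨(Algebra.TensorProduct.cancelBaseChange R R₁ R₂ R₂ A).symm.trans e⟩, hB⟩, hI⟩

/-- simultaneous splitting of a finite family of unramified algebras -/
theorem family_splitData (R : Type u) [CommRing R] (p : Ideal R) [p.IsPrime] :
    ∀ (m : ℕ) (A : Fin m → Type u) [∀ k, CommRing (A k)] [∀ k, Algebra R (A k)]
      [∀ k, Algebra.Unramified R (A k)],
    ∃ (R' : Type u) (_ : CommRing R') (_ : Algebra R R') (_ : Algebra.Etale R R') (p' : Ideal R')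
      (_ : p'.IsPrime) (_ : p'.LiesOver p), ∀ k, SplitData R R' (A k) p' := by
  intro m
  induction m with
  | zero =>
    intro A _ _ _
    exact ⟨R, inferInstance, inferInstance, inferInstance, p, inferInstance,
      ⟨by simp [Ideal.under]⟩, fun k => k.elim0⟩
  | succ m ih =>
    intro A _ _ _
    obtain ⟨R₁, _, _, _, p₁, _, _, h₁⟩ := ih (fun k : Fin m => A k.castSucc)
    haveI : Algebra.FormallyUnramified R (A (Fin.last m)) :=
      (inferInstance : Algebra.Unramified R (A (Fin.last m))).formallyUnramified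
    haveI : Algebra.FiniteType R (A (Fin.last m)) :=
      (inferInstance : Algebra.Unramified R (A (Fin.last m))).finiteType
    haveI : Algebra.Unramified R₁ (R₁ ⊗[R] A (Fin.last m)) := {}
    obtain ⟨R₂, _, _, _, p₂, _, _, h₂⟩ := exists_splitData R₁ (R₁ ⊗[R] A (Fin.last m)) p₁
    letI : Algebra R R₂ := ((algebraMap R₁ R₂).comp (algebraMap R R₁)).toAlgebra
    haveI : IsScalarTower R R₁ R₂ := IsScalarTower.of_algebraMap_eq' rfl
    haveI : Algebra.Etale R R₂ := Algebra.Etale.comp R R₁ R₂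
    haveI : p₂.LiesOver p := Ideal.LiesOver.trans p₂ p₁ p
    refine ⟨R₂, inferInstance, inferInstance, inferInstance, p₂, inferInstance, inferInstance, ?_⟩
    intro k
    refine Fin.lastCases ?_ (fun k => ?_) k
    · exact SplitData.of_tensor h₂
    · exact SplitData.baseChange (Ideal.over_def p₂ p₁).symm (h₁ k)

/-- in the étale case the ideals are generated by idempotents -/
theorem SplitDataI.exists_idem {R R' S : Type u} [CommRing R] [CommRing R'] [CommRing S]
    [Algebra R R'] [Algebra R S] [Algebra.Etale R S] {p' : Ideal R'} {ι : Type} [Finite ι]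
    {I : ι → Ideal R'} (h : SplitDataI R R' S p' ι I) (i : ι) :
    ∃ ε : R', IsIdempotentElem ε ∧ I i = Ideal.span {ε} := by
  classical
  haveI := Fintype.ofFinite ι
  obtain ⟨B, _, _, ⟨e⟩, hB⟩ := h
  haveI : Algebra.Etale R' (R' ⊗[R] S) := inferInstance
  haveI : Algebra.Etale R' ((∀ i, R' ⧸ I i) × B) := Algebra.Etale.of_equiv e
  let π : ((∀ i, R' ⧸ I i) × B) →ₐ[R'] R' ⧸ I i :=
    (Pi.evalAlgHom R' (fun i => R' ⧸ I i) i).comp (AlgHom.fst R' (∀ i, R' ⧸ I i) B)
  letI : Algebra ((∀ i, R' ⧸ I i) × B) (R' ⧸ I i) := π.toRingHom.toAlgebra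
  haveI : IsScalarTower R' ((∀ i, R' ⧸ I i) × B) (R' ⧸ I i) :=
    IsScalarTower.of_algebraMap_eq' π.comp_algebraMap.symm
  let δ : (∀ i, R' ⧸ I i) × B := (Pi.single i 1, 0)
  have hδ : IsIdempotentElem δ := by
    show δ * δ = δ
    apply Prod.ext
    · show (Pi.single i (1 : R' ⧸ I i) : ∀ i, R' ⧸ I i) * Pi.single i 1 = Pi.single i 1
      rw [← Pi.single_mul, mul_one]
    · show (0 : B) * 0 = 0
      rw [mul_zero]
  have hsurj : Function.Surjective (algebraMap ((∀ i, R' ⧸ I i) × B) (R' ⧸ I i)) := by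
    intro y
    exact ⟨(Pi.single i y, 0), by show (Pi.single i y : ∀ i, R' ⧸ I i) i = y; simp⟩
  have hker : RingHom.ker (algebraMap ((∀ i, R' ⧸ I i) × B) (R' ⧸ I i)) = Ideal.span {1 - δ} := by
    apply le_antisymm
    · rintro ⟨x, b⟩ hx
      rw [RingHom.mem_ker] at hx
      have hx' : x i = 0 := hx
      rw [Ideal.mem_span_singleton']
      refine ⟨(x, b), ?_⟩
      apply Prod.ext
      · funext j
        show x j * (1 - (Pi.single i (1 : R' ⧸ I i) : ∀ i, R' ⧸ I i) j) = x j
        by_cases hj : j = i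
        · subst hj; simp [hx']
        · simp [Pi.single_eq_of_ne hj]
      · show b * (1 - 0) = b
        simp
    · rw [Ideal.span_le, Set.singleton_subset_iff]
      show ((1 - δ).1 : ∀ i, R' ⧸ I i) i = 0
      simp [δ]
  haveI : IsLocalization.Away δ (R' ⧸ I i) :=
    IsLocalization.away_of_isIdempotentElem hδ hker hsurj
  haveI : Algebra.Etale ((∀ i, R' ⧸ I i) × B) (R' ⧸ I i) := Algebra.Etale.of_isLocalizationAway δ
  haveI : Algebra.Etale R' (R' ⧸ I i) := Algebra.Etale.comp R' ((∀ i, R' ⧸ I i) × B) (R' ⧸ I i)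
  haveI : Module.Flat R' (R' ⧸ I i) := inferInstance
  haveI : Algebra.FinitePresentation R' (R' ⧸ I i) := inferInstance
  obtain ⟨ε, hε, hk⟩ := Groth.Agent.Helper16.EtSplit.exists_idem_ker (R := R') (A := R' ⧸ I i)
    Ideal.Quotient.mk_surjective
  refine ⟨ε, hε, ?_⟩
  rw [← hk, Ideal.Quotient.algebraMap_eq, Ideal.mk_ker]

/-- split form of the splitting data: all pieces are copies of the base -/
def SplitDataEt (R R' S : Type u) [CommRing R] [CommRing R'] [Algebra R R'] [CommRing S]
    [Algebra R S] (p' : Ideal R') : Prop :=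
  ∃ (ι : Type) (_ : Fintype ι) (B : Type u) (_ : CommRing B) (_ : Algebra R' B),
    Nonempty ((R' ⊗[R] S) ≃ₐ[R'] ((ι → R') × B)) ∧
      ∀ (q : Ideal B) [q.IsPrime], q.comap (algebraMap R' B) ≠ p'

theorem SplitDataI.toEt {R R' S : Type u} [CommRing R] [CommRing R'] [CommRing S]
    [Algebra R R'] [Algebra R S] {p' : Ideal R'} {ι : Type} [Fintype ι]
    (h : SplitDataI R R' S p' ι (fun _ => ⊥)) : SplitDataEt R R' S p' := by
  obtain ⟨B, _, _, ⟨e⟩, hB⟩ := h
  exact ⟨ι, inferInstance, B, inferInstance, inferInstance,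
    ⟨e.trans (AlgEquiv.prodCongr (AlgEquiv.piCongrRight fun _ => AlgEquiv.quotientBot R' R')
      AlgEquiv.refl)⟩, hB⟩

/-- simultaneous splitting of a finite family of étale algebras -/
theorem family_splitDataEt (R : Type u) [CommRing R] (p : Ideal R) [p.IsPrime]
    (m : ℕ) (A : Fin m → Type u) [∀ k, CommRing (A k)] [∀ k, Algebra R (A k)]
    [∀ k, Algebra.Etale R (A k)] :
    ∃ (R' : Type u) (_ : CommRing R') (_ : Algebra R R') (_ : Algebra.Etale R R') (p' : Ideal R')
      (_ : p'.IsPrime) (_ : p'.LiesOver p), ∀ k, SplitDataEt R R' (A k) p' := by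
  classical
  haveI : ∀ k, Algebra.Unramified R (A k) := fun k => {}
  obtain ⟨R₁, _, _, _, p₁, _, _, h₁⟩ := family_splitData R p m A
  choose ι hι I hI hIp using h₁
  have hid : ∀ k i, ∃ ε : R₁, IsIdempotentElem ε ∧ I k i = Ideal.span {ε} :=
    fun k i => (hI k).exists_idem i
  choose ε hε hIε using hid
  let h : R₁ := ∏ k, ∏ i, (1 - ε k i)
  have hεp : ∀ k i, ε k i ∈ p₁ := fun k i =>
    hIp k i (by rw [hIε]; exact Ideal.mem_span_singleton_self _)
  have hh : h ∉ p₁ := by
    intro hmem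
    obtain ⟨k, -, hk⟩ := (Ideal.IsPrime.prod_mem_iff).mp hmem
    obtain ⟨i, -, hi⟩ := (Ideal.IsPrime.prod_mem_iff).mp hk
    apply ‹p₁.IsPrime›.one_notMem
    have : (1 : R₁) = (1 - ε k i) + ε k i := by ring
    rw [this]
    exact add_mem hi (hεp k i)
  let R₂ := Localization.Away h
  haveI : IsScalarTower R R₁ R₂ := inferInstance
  haveI : Algebra.Etale R₁ R₂ := Algebra.Etale.of_isLocalizationAway h
  haveI : Algebra.Etale R R₂ := Algebra.Etale.comp R R₁ R₂
  have hdisj : Disjoint (Submonoid.powers h : Set R₁) (p₁ : Set R₁) := by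
    rw [Ideal.disjoint_powers_iff_notMem_of_isPrime]
    exact hh
  let p₂ : Ideal R₂ := p₁.map (algebraMap R₁ R₂)
  haveI : p₂.IsPrime := IsLocalization.isPrime_of_isPrime_disjoint (.powers h) _ _ ‹_› hdisj
  haveI : p₂.LiesOver p₁ := IsLocalization.liesOver_map_of_isPrime_disjoint (.powers h) _ hdisj
  haveI : p₂.LiesOver p := Ideal.LiesOver.trans p₂ p₁ p
  have hε0 : ∀ k i, algebraMap R₁ R₂ (ε k i) = 0 := by
    intro k i
    have h1 : ε k i * h = 0 := by
      show ε k i * ∏ k', ∏ i', (1 - ε k' i') = 0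
      rw [← Finset.mul_prod_erase Finset.univ (fun k' => ∏ i', (1 - ε k' i')) (Finset.mem_univ k),
        ← Finset.mul_prod_erase Finset.univ (fun i' => 1 - ε k i') (Finset.mem_univ i),
        ← mul_assoc, ← mul_assoc, mul_sub, mul_one, (hε k i).eq, sub_self, zero_mul, zero_mul]
    have hu := IsLocalization.Away.algebraMap_isUnit (S := R₂) h
    have h2 : algebraMap R₁ R₂ (ε k i) * algebraMap R₁ R₂ h = 0 := by
      rw [← map_mul, h1, map_zero]
    exact (hu.mul_left_eq_zero).mp h2
  refine ⟨R₂, inferInstance, inferInstance, inferInstance, p₂, inferInstance, inferInstance, ?_⟩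
  intro k
  have h2 := (hI k).baseChange (R'' := R₂) (p'' := p₂) (Ideal.over_def p₂ p₁).symm
  have hbot : (fun i => (I k i).map (algebraMap R₁ R₂)) = fun _ => ⊥ := by
    funext i
    rw [hIε, Ideal.map_span, Set.image_singleton, hε0, Ideal.span_singleton_eq_bot]
  rw [hbot] at h2
  exact h2.toEt

/-- `family_splitData` for an arbitrary finite index type -/
theorem family_splitData' (R : Type u) [CommRing R] (p : Ideal R) [p.IsPrime]
    {ι : Type} [Finite ι] (A : ι → Type u) [∀ k, CommRing (A k)] [∀ k, Algebra R (A k)]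
    [∀ k, Algebra.Unramified R (A k)] :
    ∃ (R' : Type u) (_ : CommRing R') (_ : Algebra R R') (_ : Algebra.Etale R R') (p' : Ideal R')
      (_ : p'.IsPrime) (_ : p'.LiesOver p), ∀ k, SplitData R R' (A k) p' := by
  obtain ⟨n, ⟨e⟩⟩ := Finite.exists_equiv_fin ι
  obtain ⟨R', _, _, _, p', _, _, h⟩ := family_splitData R p n (fun k => A (e.symm k))
  refine ⟨R', inferInstance, inferInstance, inferInstance, p', inferInstance, inferInstance, ?_⟩
  intro k
  have h1 := h (e k)
  have h2 : ∀ k' : ι, k' = k → SplitData R R' (A k') p' → SplitData R R' (A k) p' := by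
    rintro _ rfl h; exact h
  exact h2 _ (e.symm_apply_apply k) h1

/-- `family_splitDataEt` for an arbitrary finite index type -/
theorem family_splitDataEt' (R : Type u) [CommRing R] (p : Ideal R) [p.IsPrime]
    {ι : Type} [Finite ι] (A : ι → Type u) [∀ k, CommRing (A k)] [∀ k, Algebra R (A k)]
    [∀ k, Algebra.Etale R (A k)] :
    ∃ (R' : Type u) (_ : CommRing R') (_ : Algebra R R') (_ : Algebra.Etale R R') (p' : Ideal R')
      (_ : p'.IsPrime) (_ : p'.LiesOver p), ∀ k, SplitDataEt R R' (A k) p' := by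
  obtain ⟨n, ⟨e⟩⟩ := Finite.exists_equiv_fin ι
  obtain ⟨R', _, _, _, p', _, _, h⟩ := family_splitDataEt R p n (fun k => A (e.symm k))
  refine ⟨R', inferInstance, inferInstance, inferInstance, p', inferInstance, inferInstance, ?_⟩
  intro k
  have h1 := h (e k)
  have h2 : ∀ k' : ι, k' = k → SplitDataEt R R' (A k') p' → SplitDataEt R R' (A k) p' := by
    rintro _ rfl h; exact h
  exact h2 _ (e.symm_apply_apply k) h1

end Groth.Agent.Helper16.SplitD
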