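import Mathlib
import Groth.Agent.Lib.Helper21.Slice2

/-!
# Slicing a flat algebra by a fibrewise regular sequence (helper16)

* `RegOn I as`: the sequence `as` is regular modulo `I` (ideal-level formulation);
  `regOn_of_isWeaklyRegular`.
* `map_comap_aeval`: for `X ↦ h₀ ∈ Q`, the prime of `R[X]` below `Q` generates `𝔭 LX + h₀ LX`.
* `slice_seq`: `R → C` of finite presentation, `C_Q` flat over `R`, `rs` in `Q` regular on
  `C_Q/𝔭C_Q`; then for some `g ∉ Q` and all `g'` the reversed sequence is regular on `C_{gg'}` and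
  `C_{gg'}/(rs)` is flat over `R` (iterating helper21's `flat_polynomial` with base `R[X]`).
-/

set_option autoImplicit false
set_option linter.style.haveILetI false
universe u

open TensorProduct Polynomial

namespace Groth.Agent.Helper16.SliceSeq

/-- `RegOn I as`: the sequence `as` is regular modulo the ideal `I`, i.e. each `a_i` is a
nonzerodivisor modulo `I + (a_1, …, a_{i-1})`. -/
def RegOn {A : Type*} [CommRing A] : Ideal A → List A → Prop
  | _, [] => True
  | I, a :: as => (∀ x : A, a * x ∈ I → x ∈ I) ∧ RegOn (I ⊔ Ideal.span {a}) as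

@[simp] theorem regOn_nil {A : Type*} [CommRing A] (I : Ideal A) : RegOn I ([] : List A) := trivial

theorem regOn_cons {A : Type*} [CommRing A] (I : Ideal A) (a : A) (as : List A) :
    RegOn I (a :: as) ↔ (∀ x : A, a * x ∈ I → x ∈ I) ∧ RegOn (I ⊔ Ideal.span {a}) as := Iff.rfl

/-- the third isomorphism: `(A/I)/a(A/I) ≃ A/(I + (a))`. -/
noncomputable def quotSMulTopEquiv {A : Type*} [CommRing A] (I : Ideal A) (a : A) :
    QuotSMulTop a (A ⧸ I) ≃ₗ[A] A ⧸ (I ⊔ Ideal.span {a}) :=
  Submodule.quotEquivOfEq _ _ (by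
    ext y
    obtain ⟨y, rfl⟩ := Submodule.Quotient.mk_surjective _ y
    rw [Submodule.mem_smul_pointwise_iff_exists, Submodule.mem_map]
    constructor
    · rintro ⟨z, -, hz⟩
      obtain ⟨z, rfl⟩ := Submodule.Quotient.mk_surjective _ z
      exact ⟨a * z, Ideal.mul_mem_right _ _ (Ideal.mem_span_singleton_self a), hz⟩
    · rintro ⟨x, hx, hxy⟩
      obtain ⟨c, rfl⟩ := Ideal.mem_span_singleton'.mp hx
      refine ⟨Submodule.Quotient.mk c, Submodule.mem_top, ?_⟩
      rw [← hxy, mul_comm]
      rfl) ≪≫ₗ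
    Submodule.quotientQuotientEquivQuotientSup I (Ideal.span {a})

/-- weak regularity on `A/I` gives `RegOn I`. -/
theorem regOn_of_isWeaklyRegular {A : Type*} [CommRing A] (as : List A) :
    ∀ (I : Ideal A), RingTheory.Sequence.IsWeaklyRegular (A ⧸ I) as → RegOn I as := by
  induction as with
  | nil => intro I _; trivial
  | cons a as ih =>
    intro I h
    rw [RingTheory.Sequence.isWeaklyRegular_cons_iff] at h
    refine ⟨?_, ?_⟩
    · intro x hx
      have h1 : a • (Ideal.Quotient.mk I x) = a • (0 : A ⧸ I) := by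
        rw [smul_zero]
        change Ideal.Quotient.mk I (a * x) = 0
        exact Ideal.Quotient.eq_zero_iff_mem.mpr hx
      exact Ideal.Quotient.eq_zero_iff_mem.mp (h.1 h1)
    · exact ih _ (((quotSMulTopEquiv I a).isWeaklyRegular_congr as).mp h.2)

/-- The prime of `R[X]` below `Q` (for `X ↦ h₀ ∈ Q`) generates `𝔭 LX + h₀ LX`. -/
theorem map_comap_aeval {R C LX : Type u} [CommRing R] [CommRing C] [Algebra R C] [CommRing LX]
    [Algebra C LX] [Algebra R LX] [IsScalarTower R C LX] (Q : Ideal C) (h₀ : C) (hQ : h₀ ∈ Q) :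
    (Q.comap (Polynomial.aeval h₀ : R[X] →ₐ[R] C).toRingHom).map
      ((algebraMap C LX).comp (Polynomial.aeval h₀ : R[X] →ₐ[R] C).toRingHom) =
    (Q.comap (algebraMap R C)).map (algebraMap R LX) ⊔ Ideal.span {algebraMap C LX h₀} := by
  apply le_antisymm
  · rw [Ideal.map_le_iff_le_comap]
    intro f hf
    rw [Ideal.mem_comap] at hf ⊢
    have hdecomp : f = f.divX * X + Polynomial.C (f.coeff 0) := (Polynomial.divX_mul_X_add f).symm
    have h1 : (Polynomial.aeval h₀ : R[X] →ₐ[R] C) f =
        (Polynomial.aeval h₀ : R[X] →ₐ[R] C) f.divX * h₀ + algebraMap R C (f.coeff 0) := by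
      conv_lhs => rw [hdecomp]
      simp
    have h2 : algebraMap R C (f.coeff 0) ∈ Q := by
      have hf' : (Polynomial.aeval h₀ : R[X] →ₐ[R] C) f ∈ Q := hf
      rw [h1] at hf'
      exact (Ideal.add_mem_iff_right Q (Ideal.mul_mem_left _ _ hQ)).mp hf'
    change algebraMap C LX ((Polynomial.aeval h₀ : R[X] →ₐ[R] C) f) ∈ _
    rw [h1, map_add, map_mul]
    refine Ideal.add_mem _ (Ideal.mem_sup_right
      (Ideal.mul_mem_left _ _ (Ideal.mem_span_singleton_self _))) (Ideal.mem_sup_left ?_)
    rw [← IsScalarTower.algebraMap_apply R C LX]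
    exact Ideal.mem_map_of_mem _ h2
  · refine sup_le ?_ ?_
    · rw [Ideal.map_le_iff_le_comap]
      intro r hr
      rw [Ideal.mem_comap] at hr ⊢
      have : algebraMap R LX r = ((algebraMap C LX).comp
          (Polynomial.aeval h₀ : R[X] →ₐ[R] C).toRingHom) (Polynomial.C r) := by
        simp [← IsScalarTower.algebraMap_apply R C LX]
      rw [this]
      refine Ideal.mem_map_of_mem _ ?_
      rw [Ideal.mem_comap]
      simpa using hr
    · rw [Ideal.span_singleton_le_iff_mem]
      have : algebraMap C LX h₀ = ((algebraMap C LX).comp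
          (Polynomial.aeval h₀ : R[X] →ₐ[R] C).toRingHom) X := by simp
      rw [this]
      refine Ideal.mem_map_of_mem _ ?_
      rw [Ideal.mem_comap]
      simpa using hQ

/-- the ideal generated by a list only depends on its set of members. -/
theorem ofList_reverse {A : Type*} [CommRing A] (l : List A) :
    Ideal.ofList l.reverse = Ideal.ofList l := by
  unfold Ideal.ofList
  congr 1
  ext x
  simp

/-- Base case: a principal localization flat over `R`. -/
theorem exists_flat_away {R C : Type u} [CommRing R] [CommRing C] [Algebra R C]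
    [Algebra.FinitePresentation R C] (Q : Ideal C) [Q.IsPrime]
    {LX : Type u} [CommRing LX] [Algebra C LX] [IsLocalization.AtPrime LX Q]
    [Algebra R LX] [IsScalarTower R C LX] [Module.Flat R LX] :
    ∃ g : C, g ∉ Q ∧ ∀ (g' : C) (Cg : Type u) [CommRing Cg] [Algebra C Cg]
      [IsLocalization.Away (g * g') Cg] [Algebra R Cg] [IsScalarTower R C Cg], Module.Flat R Cg := by
  have hopen := Groth.Agent.Helper21.FL.isOpen_flatLocus (R := R) (S := C) (M := C)
  have hQmem : (⟨Q, inferInstance⟩ : PrimeSpectrum C) ∈ {q : PrimeSpectrum C |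
      Module.Flat R (LocalizedModule q.asIdeal.primeCompl C)} := by
    haveI hloc : IsLocalizedModule Q.primeCompl (Algebra.linearMap C LX) :=
      (isLocalizedModule_iff_isLocalization).mpr inferInstance
    let e : LocalizedModule Q.primeCompl C ≃ₗ[C] LX :=
      IsLocalizedModule.iso Q.primeCompl (Algebra.linearMap C LX)
    exact Module.Flat.of_linearEquiv (e.restrictScalars R)
  obtain ⟨_, ⟨_, ⟨g, rfl⟩, rfl⟩, hQg, hgsub⟩ :=
    PrimeSpectrum.isBasis_basic_opens.exists_subset_of_mem_open hQmem hopen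
  refine ⟨g, hQg, ?_⟩
  intro g' Cg _ _ _ _ _
  exact Groth.Agent.Helper21.Slice.flat_away_of_forall (g * g') Cg (fun q _ hgq =>
    hgsub (show (⟨q, inferInstance⟩ : PrimeSpectrum C) ∈
      (PrimeSpectrum.basicOpen g : Set (PrimeSpectrum C)) from
        fun hg => hgq (Ideal.mul_mem_right _ _ hg)))

/-- nonzerodivisors and `IsSMulRegular` on the quotient module. -/
theorem isSMulRegular_quot_of_nzd {A : Type*} [CommRing A] (I : Ideal A) (a : A)
    (h : Ideal.Quotient.mk I a ∈ nonZeroDivisors (A ⧸ I)) :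
    IsSMulRegular (A ⧸ (I • ⊤ : Submodule A A)) a := by
  have hI : (I • ⊤ : Submodule A A) = I := by simp
  intro x y hxy
  obtain ⟨x, rfl⟩ := Submodule.Quotient.mk_surjective _ x
  obtain ⟨y, rfl⟩ := Submodule.Quotient.mk_surjective _ y
  have h1 : a • (x - y) ∈ (I • ⊤ : Submodule A A) := by
    rw [← Submodule.Quotient.mk_eq_zero, Submodule.Quotient.mk_smul, Submodule.Quotient.mk_sub,
      smul_sub]
    exact sub_eq_zero.mpr hxy
  rw [hI] at h1
  have h2 : Ideal.Quotient.mk I a * Ideal.Quotient.mk I (x - y) = 0 := by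
    rw [← map_mul]
    exact Ideal.Quotient.eq_zero_iff_mem.mpr h1
  have h3 := (mem_nonZeroDivisors_iff_left.mp h) _ h2
  have h4 : x - y ∈ (I • ⊤ : Submodule A A) := by
    rw [hI]; exact Ideal.Quotient.eq_zero_iff_mem.mp h3
  rw [← sub_eq_zero, ← Submodule.Quotient.mk_sub]
  exact (Submodule.Quotient.mk_eq_zero _).mpr h4

set_option maxHeartbeats 1600000 in
set_option synthInstance.maxHeartbeats 400000 in
/-- **Slicing by a fibrewise regular sequence.** -/
theorem slice_seq {C : Type u} [CommRing C] (Q : Ideal C) [Q.IsPrime]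
    {LX : Type u} [CommRing LX] [Algebra C LX] [IsLocalization.AtPrime LX Q] (rs : List C) :
    ∀ {R : Type u} [CommRing R] [Algebra R C] [Algebra.FinitePresentation R C]
      [Algebra R LX] [IsScalarTower R C LX] [Module.Flat R LX]
      (IX : Ideal LX) (_ : IX = (Q.comap (algebraMap R C)).map (algebraMap R LX))
      (_ : ∀ r ∈ rs, r ∈ Q) (_ : RegOn IX (rs.map (algebraMap C LX))),
    ∃ g : C, g ∉ Q ∧ ∀ (g' : C) (Cg : Type u) [CommRing Cg] [Algebra C Cg]
      [IsLocalization.Away (g * g') Cg] [Algebra R Cg] [IsScalarTower R C Cg],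
      RingTheory.Sequence.IsWeaklyRegular Cg ((rs.map (algebraMap C Cg)).reverse) ∧
        Module.Flat R (Cg ⧸ Ideal.ofList (rs.map (algebraMap C Cg))) := by
  induction rs with
  | nil =>
    intro R _ _ _ _ _ _ IX hIX hQ hreg
    obtain ⟨g, hg, H⟩ := exists_flat_away (R := R) Q (LX := LX)
    refine ⟨g, hg, ?_⟩
    intro g' Cg _ _ _ _ _
    haveI := H g' Cg
    refine ⟨by simp, ?_⟩
    change Module.Flat R (Cg ⧸ (Ideal.ofList [] : Ideal Cg))
    rw [Ideal.ofList_nil]
    exact Module.Flat.of_linearEquiv (AlgEquiv.quotientBot R Cg).toLinearEquiv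
  | cons h₀ rs ih =>
    intro R _ _ _ _ _ _ IX hIX hQ hreg
    classical
    have hQ₀ : h₀ ∈ Q := hQ h₀ (List.mem_cons_self)
    rw [List.map_cons] at hreg
    obtain ⟨hreg₀, hreg'⟩ := hreg
    have hnzd : Ideal.Quotient.mk IX (algebraMap C LX h₀) ∈ nonZeroDivisors (LX ⧸ IX) := by
      rw [mem_nonZeroDivisors_iff_left]
      intro y hy
      obtain ⟨y, rfl⟩ := Ideal.Quotient.mk_surjective y
      rw [← map_mul, Ideal.Quotient.eq_zero_iff_mem] at hy
      exact Ideal.Quotient.eq_zero_iff_mem.mpr (hreg₀ y hy)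
    letI aBC : Algebra R[X] C := (Polynomial.aeval h₀ : R[X] →ₐ[R] C).toRingHom.toAlgebra
    haveI tRBC : IsScalarTower R R[X] C := IsScalarTower.of_algebraMap_eq fun r => by
      change algebraMap R C r = Polynomial.aeval h₀ (Polynomial.C r)
      rw [Polynomial.aeval_C]
    have hX : algebraMap R[X] C X = h₀ := Polynomial.aeval_X h₀
    letI aBLX : Algebra R[X] LX := ((algebraMap C LX).comp (algebraMap R[X] C)).toAlgebra
    haveI tBCLX : IsScalarTower R[X] C LX := IsScalarTower.of_algebraMap_eq fun _ => rfl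
    haveI tRBLX : IsScalarTower R R[X] LX := IsScalarTower.of_algebraMap_eq fun r => by
      change algebraMap R LX r = algebraMap C LX (algebraMap R[X] C (algebraMap R R[X] r))
      rw [← IsScalarTower.algebraMap_apply R R[X] C, ← IsScalarTower.algebraMap_apply R C LX]
    haveI hBLX : Module.Flat R[X] LX :=
      Groth.Agent.Helper21.Slice.flat_polynomial (Q.comap (algebraMap R C)) Q rfl IX hIX h₀ hX
        hQ₀ hnzd
    haveI : Algebra.FinitePresentation R[X] C :=
      Algebra.FinitePresentation.of_restrict_scalars_finitePresentation (R := R) (A := R[X]) (B := C)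
    have hIX' : IX ⊔ Ideal.span {algebraMap C LX h₀} =
        (Q.comap (algebraMap R[X] C)).map (algebraMap R[X] LX) := by
      rw [hIX]
      exact (map_comap_aeval (R := R) (LX := LX) Q h₀ hQ₀).symm
    obtain ⟨g, hg, H⟩ := ih (R := R[X]) (IX ⊔ Ideal.span {algebraMap C LX h₀}) hIX'
      (fun r hr => hQ r (List.mem_cons_of_mem _ hr)) hreg'
    refine ⟨g, hg, ?_⟩
    intro g' Cg _ _ _ _ _
    letI aBCg : Algebra R[X] Cg := ((algebraMap C Cg).comp (algebraMap R[X] C)).toAlgebra
    haveI tBCCg : IsScalarTower R[X] C Cg := IsScalarTower.of_algebraMap_eq fun _ => rfl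
    haveI tRBCg : IsScalarTower R R[X] Cg := IsScalarTower.of_algebraMap_eq fun r => by
      change algebraMap R Cg r = algebraMap C Cg (algebraMap R[X] C (algebraMap R R[X] r))
      rw [← IsScalarTower.algebraMap_apply R R[X] C, ← IsScalarTower.algebraMap_apply R C Cg]
    obtain ⟨hwr, hfl⟩ := H g' Cg
    haveI := hfl
    have hXCg : algebraMap R[X] (Cg ⧸ Ideal.ofList (rs.map (algebraMap C Cg))) X =
        Ideal.Quotient.mk _ (algebraMap C Cg h₀) := by
      rw [IsScalarTower.algebraMap_apply R[X] Cg, IsScalarTower.algebraMap_apply R[X] C Cg, hX]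
      rfl
    have hnz : Ideal.Quotient.mk (Ideal.ofList (rs.map (algebraMap C Cg))) (algebraMap C Cg h₀) ∈
        nonZeroDivisors (Cg ⧸ Ideal.ofList (rs.map (algebraMap C Cg))) := by
      rw [← hXCg]
      exact Groth.Agent.Helper21.Slice.nzd_of_flat (X : R[X]) Polynomial.X_mem_nonzeroDivisors
    constructor
    · rw [List.map_cons, List.reverse_cons, RingTheory.Sequence.isWeaklyRegular_append_iff,
        RingTheory.Sequence.isWeaklyRegular_singleton_iff, ofList_reverse]
      exact ⟨hwr, isSMulRegular_quot_of_nzd _ _ hnz⟩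
    · have h1 : Module.Flat R ((Cg ⧸ Ideal.ofList (rs.map (algebraMap C Cg))) ⧸
          Ideal.span {Ideal.Quotient.mk (Ideal.ofList (rs.map (algebraMap C Cg)))
            (algebraMap C Cg h₀)}) :=
        Groth.Agent.Helper21.Slice.flat_quotient_X _ hXCg
      rw [List.map_cons, Ideal.ofList_cons]
      have e := DoubleQuot.quotQuotEquivQuotSupₐ R (Ideal.ofList (rs.map (algebraMap C Cg)))
        (Ideal.span {algebraMap C Cg h₀})
      have hJ : (Ideal.span {algebraMap C Cg h₀}).map
          (Ideal.Quotient.mkₐ R (Ideal.ofList (rs.map (algebraMap C Cg)))) =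
          Ideal.span {Ideal.Quotient.mk (Ideal.ofList (rs.map (algebraMap C Cg)))
            (algebraMap C Cg h₀)} := by
        rw [Ideal.map_span, Set.image_singleton]
        rfl
      haveI h2 : Module.Flat R ((Cg ⧸ Ideal.ofList (rs.map (algebraMap C Cg))) ⧸
          (Ideal.span {algebraMap C Cg h₀}).map
          (Ideal.Quotient.mkₐ R (Ideal.ofList (rs.map (algebraMap C Cg))))) := by
        rw [hJ]
        exact h1
      rw [sup_comm]
      exact Module.Flat.of_linearEquiv e.symm.toLinearEquiv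

end Groth.Agent.Helper16.SliceSeq
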