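import Mathlib
import Groth.Agent.Lib.Helper21.FS6

/-!
# Noetherian models of finitely presented modules over finitely presented algebras (helper16)

The same construction as in the proof of `S9456` (helper21's library `FS6`), without flatness.
-/

set_option autoImplicit false
set_option linter.style.haveILetI false
set_option linter.unusedSectionVars false
universe u

open TensorProduct

namespace Groth.Agent.Helper16.ModCons

/-- a finitely presented module over a finitely presented algebra descends to a finite type
`ℤ`-algebra. -/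
theorem exists_model_mod (R : Type u) [CommRing R]
    (S : Type u) [CommRing S] [Algebra R S] [Algebra.FinitePresentation R S] (M : Type u)
    [AddCommGroup M] [Module S M] [Module.FinitePresentation S M] :
    ∃ (R₀ : Type u) (_ : CommRing R₀) (_ : Algebra R₀ R) (S₀ : Type u) (_ : CommRing S₀)
      (_ : Algebra R₀ S₀) (_ : Algebra S₀ S) (_ : Algebra R₀ S) (_ : IsScalarTower R₀ R S)
      (_ : IsScalarTower R₀ S₀ S) (M₀ : Type u) (_ : AddCommGroup M₀) (_ : Module S₀ M₀)
      (_ : Module S₀ M) (_ : IsScalarTower S₀ S M)
      (f : M₀ →ₗ[S₀] M),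
      Algebra.FiniteType ℤ R₀ ∧ Algebra.FiniteType R₀ S₀ ∧ Module.Finite S₀ M₀ ∧
        Algebra.IsPushout R₀ R S₀ S ∧ IsBaseChange S f := by
  classical
  -- presentation of `S`
  let P := Algebra.Presentation.ofFinitePresentation R S
  -- presentation of `M`
  obtain ⟨n, m, f, g, hf, hfg⟩ := Module.FinitePresentation.exists_fin' S M
  -- lift the matrix entries to polynomials
  have hsurj : ∀ (k : Fin m) (l : Fin n), ∃ w : MvPolynomial _ R,
      MvPolynomial.aeval P.val w = g (Pi.single k 1) l := fun k l => by
    obtain ⟨w, hw⟩ := P.algebraMap_surjective (g (Pi.single k 1) l)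
    exact ⟨w, by rw [← hw, Algebra.Generators.algebraMap_apply]⟩
  choose w hw using hsurj
  -- the coefficient ring
  let s : Set R := P.coeffs ∪ ⋃ k, ⋃ l, ((w k l).coeffs : Set R)
  have hsfin : s.Finite := by
    refine Set.Finite.union P.finite_coeffs ?_
    exact Set.finite_iUnion fun k => Set.finite_iUnion fun l => Finset.finite_toSet _
  let A : Subalgebra ℤ R := Algebra.adjoin ℤ s
  haveI : P.HasCoeffs A := ⟨fun x hx => ⟨⟨x, Algebra.subset_adjoin (Or.inl hx)⟩, rfl⟩⟩
  haveI : Algebra.FiniteType ℤ A := Algebra.FiniteType.adjoin_of_finite hsfin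
  haveI : IsNoetherianRing A := Algebra.FiniteType.isNoetherianRing ℤ A
  let S₁ := P.ModelOfHasCoeffs A
  letI : Algebra S₁ S := Groth.Agent.Helper21.FS.modelAlgebra P A
  haveI : IsScalarTower A S₁ S := Groth.Agent.Helper21.FS.model_isScalarTower P A
  have hpo : Algebra.IsPushout A R S₁ S := Groth.Agent.Helper21.FS.model_isPushout P A
  -- descend the matrix
  have hw' : ∀ k l, ∃ w' : MvPolynomial _ A, MvPolynomial.map (algebraMap A R) w' = w k l := by
    intro k l
    have : w k l ∈ Set.range (MvPolynomial.map (algebraMap A R)) := by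
      rw [MvPolynomial.mem_range_map_iff_coeffs_subset]
      intro x hx
      exact ⟨⟨x, Algebra.subset_adjoin (Or.inr (Set.mem_iUnion₂.mpr ⟨k, l, hx⟩))⟩, rfl⟩
    exact this
  choose w' hw' using hw'
  let c' : Fin m → Fin n → S₁ := fun k l => Ideal.Quotient.mk _ (w' k l)
  -- module structure of `M` over `S₁`
  letI : Module S₁ M := Module.compHom M (algebraMap S₁ S)
  haveI : IsScalarTower S₁ S M := IsScalarTower.of_algebraMap_smul fun _ _ => rfl
  have hc : ∀ k l, algebraMap S₁ S (c' k l) = g (Pi.single k 1) l := by
    intro k l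
    rw [Groth.Agent.Helper21.FS.modelAlgebra_mk, ← hw, ← hw', MvPolynomial.aeval_map_algebraMap]
  obtain ⟨h, hh⟩ := Groth.Agent.Helper21.FS.exists_isBaseChange_cokerModel c' f g hf hfg hc
  haveI : Module.Finite S₁ (Groth.Agent.Helper21.FS.CokerModel c') := Module.Finite.quotient S₁ _
  exact ⟨A, inferInstance, inferInstance, S₁, inferInstance, inferInstance, inferInstance,
    inferInstance, inferInstance, inferInstance, Groth.Agent.Helper21.FS.CokerModel c',
    inferInstance, inferInstance, inferInstance, inferInstance, h,
    inferInstance, inferInstance, inferInstance, hpo, hh⟩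

end Groth.Agent.Helper16.ModCons
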