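import Mathlib

set_option autoImplicit false
set_option linter.style.haveILetI false
universe u

namespace Groth.Agent.Helper16.CMCoord

/-- a ring map from a domain sending nonzero elements to units is flat. -/
theorem flat_of_forall_isUnit {A A' : Type*} [CommRing A] [IsDomain A] [CommRing A']
    (φ : A →+* A') (h : ∀ a : A, a ≠ 0 → IsUnit (φ a)) : φ.Flat := by
  let ψ : FractionRing A →+* A' :=
    IsLocalization.lift (M := nonZeroDivisors A) (g := φ)
      (fun y => h y (nonZeroDivisors.ne_zero y.2))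
  have hφ : φ = ψ.comp (algebraMap A (FractionRing A)) := by
    ext a
    exact (IsLocalization.lift_eq _ a).symm
  rw [hφ]
  refine RingHom.Flat.comp ?_ ?_
  · exact RingHom.flat_algebraMap_iff.mpr (IsLocalization.flat (FractionRing A) (nonZeroDivisors A))
  · letI := ψ.toAlgebra
    change Module.Flat (FractionRing A) A'
    infer_instance

/-- **Transcendence coordinates.** For a finite type algebra `R → C` and a prime `Q` of `C` there
are finitely many elements of `C` which are algebraically independent modulo `Q` over `R/𝔭` and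
such that `Q` is maximal among the primes with the same contraction to `R[c]`. -/
theorem exists_trans_coords {R C : Type u} [CommRing R] [CommRing C] [Algebra R C]
    [Algebra.FiniteType R C] (Q : Ideal C) [hQ : Q.IsPrime] :
    ∃ (τ : Type u) (_ : Finite τ) (c : τ → C),
      (∀ P : MvPolynomial τ R, MvPolynomial.aeval c P ∈ Q →
        P ∈ (Q.comap (algebraMap R C)).map MvPolynomial.C) ∧
      ∀ P' : Ideal C, P'.IsPrime → Q ≤ P' →
        (∀ P : MvPolynomial τ R, MvPolynomial.aeval c P ∈ P' → MvPolynomial.aeval c P ∈ Q) →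
        P' = Q := by
  classical
  haveI : (Q.comap (algebraMap R C)).IsPrime := Ideal.comap_isPrime _ _
  -- the domains
  haveI : IsDomain (C ⧸ Q) := Ideal.Quotient.isDomain Q
  haveI : FaithfulSMul (R ⧸ Q.comap (algebraMap R C)) (C ⧸ Q) :=
    (faithfulSMul_iff_algebraMap_injective _ _).mpr Ideal.algebraMap_quotient_injective
  obtain ⟨s₀, hs₀⟩ := (Algebra.FiniteType.out : (⊤ : Subalgebra R C).FG)
  set s : Set (C ⧸ Q) := Ideal.Quotient.mk Q '' (s₀ : Set C) with hs
  have hsfin : s.Finite := s₀.finite_toSet.image _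
  have hmkalg : ∀ r : R, Ideal.Quotient.mk Q (algebraMap R C r) =
      algebraMap (R ⧸ Q.comap (algebraMap R C)) (C ⧸ Q) (Ideal.Quotient.mk _ r) := fun r => rfl
  have htop : Algebra.adjoin (R ⧸ Q.comap (algebraMap R C)) s = ⊤ := by
    rw [eq_top_iff]
    rintro a -
    obtain ⟨c, rfl⟩ := Ideal.Quotient.mk_surjective a
    have hc : c ∈ Algebra.adjoin R (s₀ : Set C) := by rw [hs₀]; trivial
    induction hc using Algebra.adjoin_induction with
    | mem x hx => exact Algebra.subset_adjoin ⟨x, hx, rfl⟩
    | algebraMap r =>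
      rw [hmkalg]
      exact Subalgebra.algebraMap_mem _ _
    | add x y _ _ hx hy => rw [map_add]; exact Subalgebra.add_mem _ hx hy
    | mul x y _ _ hx hy => rw [map_mul]; exact Subalgebra.mul_mem _ hx hy
  haveI : Algebra.IsAlgebraic (Algebra.adjoin (R ⧸ Q.comap (algebraMap R C)) s) (C ⧸ Q) := by
    constructor
    intro a
    have ha : a ∈ Algebra.adjoin (R ⧸ Q.comap (algebraMap R C)) s := by rw [htop]; trivial
    exact isAlgebraic_algebraMap (⟨a, ha⟩ : Algebra.adjoin (R ⧸ Q.comap (algebraMap R C)) s)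
  obtain ⟨t, hts, ht⟩ := exists_isTranscendenceBasis_subset (R := R ⧸ Q.comap (algebraMap R C)) s
  haveI : Finite t := (hsfin.subset hts).to_subtype
  have hlift : ∀ i : t, ∃ c : C, Ideal.Quotient.mk Q c = i.1 := fun i => by
    obtain ⟨c, -, hc⟩ := hts i.2
    exact ⟨c, hc⟩
  choose c hc using hlift
  -- the key identity
  have key : ∀ P : MvPolynomial t R, Ideal.Quotient.mk Q (MvPolynomial.aeval c P) =
      MvPolynomial.aeval ((↑) : t → C ⧸ Q)
        (MvPolynomial.map (Ideal.Quotient.mk (Q.comap (algebraMap R C))) P) := by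
    intro P
    induction P using MvPolynomial.induction_on with
    | C r =>
      rw [MvPolynomial.aeval_C, MvPolynomial.map_C, MvPolynomial.aeval_C, hmkalg]
    | add p q hp hq => rw [map_add, map_add, hp, hq, map_add, map_add]
    | mul_X p i hp =>
      rw [map_mul, map_mul, hp, map_mul, map_mul, MvPolynomial.aeval_X, MvPolynomial.map_X,
        MvPolynomial.aeval_X, hc]
  refine ⟨t, inferInstance, c, ?_, ?_⟩
  · intro P hP
    have h1 : Ideal.Quotient.mk Q (MvPolynomial.aeval c P) = 0 :=
      Ideal.Quotient.eq_zero_iff_mem.mpr hP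
    rw [key] at h1
    have h2 : MvPolynomial.map (Ideal.Quotient.mk (Q.comap (algebraMap R C))) P = 0 := by
      apply ht.1
      rw [h1, map_zero]
    have h3 : P ∈ RingHom.ker (MvPolynomial.map (σ := t)
        (Ideal.Quotient.mk (Q.comap (algebraMap R C)))) := h2
    rw [MvPolynomial.ker_map, Ideal.mk_ker] at h3
    exact h3
  · intro P' hP' hle hsub
    by_contra hne
    have hlt : ∃ e ∈ P', e ∉ Q := by
      by_contra hcon
      push Not at hcon
      exact hne (le_antisymm hcon hle)
    obtain ⟨e, heP', heQ⟩ := hlt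
    have hker : RingHom.ker (Ideal.Quotient.mk Q) ≤ P' := by rw [Ideal.mk_ker]; exact hle
    have hcomap : (P'.map (Ideal.Quotient.mk Q)).comap (Ideal.Quotient.mk Q) = P' := by
      rw [Ideal.comap_map_of_surjective _ Ideal.Quotient.mk_surjective, sup_eq_left,
        ← RingHom.ker_eq_comap_bot]
      exact hker
    have he0 : Ideal.Quotient.mk Q e ≠ 0 := fun h => heQ (Ideal.Quotient.eq_zero_iff_mem.mp h)
    have he𝔓 : Ideal.Quotient.mk Q e ∈ P'.map (Ideal.Quotient.mk Q) :=
      Ideal.mem_map_of_mem _ heP'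
    have halg := ht.isAlgebraic
    have h1 := Ideal.comap_ne_bot_of_algebraic_mem
      (R := Algebra.adjoin (R ⧸ Q.comap (algebraMap R C)) (Set.range ((↑) : t → C ⧸ Q)))
      he0 he𝔓 (Algebra.IsAlgebraic.isAlgebraic _)
    apply h1
    rw [eq_bot_iff]
    rintro ⟨z, hz⟩ hz𝔓
    rw [Ideal.mem_comap] at hz𝔓
    change z ∈ P'.map (Ideal.Quotient.mk Q) at hz𝔓
    rw [Algebra.adjoin_range_eq_range_aeval] at hz
    obtain ⟨Pbar, hPbar⟩ := hz
    obtain ⟨P, rfl⟩ := MvPolynomial.map_surjective
      (Ideal.Quotient.mk (Q.comap (algebraMap R C))) Ideal.Quotient.mk_surjective Pbar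
    have hPbar' : Ideal.Quotient.mk Q (MvPolynomial.aeval c P) = z := by
      rw [key]; exact hPbar
    have h2 : MvPolynomial.aeval c P ∈ P' := by
      rw [← hcomap, Ideal.mem_comap, hPbar']
      exact hz𝔓
    have h3 := hsub P h2
    have h4 : z = 0 := by
      rw [← hPbar']
      exact Ideal.Quotient.eq_zero_iff_mem.mpr h3
    rw [Ideal.mem_bot]
    exact Subtype.ext h4

end Groth.Agent.Helper16.CMCoord
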