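import Mathlib
import Groth.Agent.Lib.Helper21.Slice1
import Groth.Agent.Lib.Helper16.Alg.CMCoord1

set_option autoImplicit false
set_option linter.style.haveILetI false
universe u

namespace Groth.Agent.Helper16.CMCoord

set_option maxHeartbeats 1600000 in
set_option synthInstance.maxHeartbeats 400000 in
/-- flatness of `C_Q` over `R[c]` when the `c` are algebraically independent modulo `Q`. -/
theorem flat_mvPolynomial_of_trans {R C : Type u} [CommRing R] [CommRing C] [Algebra R C]
    [Algebra.FinitePresentation R C] (Q : Ideal C) [Q.IsPrime]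
    {LX : Type u} [CommRing LX] [Algebra C LX] [IsLocalization.AtPrime LX Q]
    [Algebra R LX] [IsScalarTower R C LX] [Module.Flat R LX]
    {τ : Type u} [Finite τ] (c : τ → C)
    (htrans : ∀ P : MvPolynomial τ R, MvPolynomial.aeval c P ∈ Q →
      P ∈ (Q.comap (algebraMap R C)).map MvPolynomial.C)
    [Algebra (MvPolynomial τ R) C] [IsScalarTower R (MvPolynomial τ R) C]
    (hB : ∀ P, algebraMap (MvPolynomial τ R) C P = MvPolynomial.aeval c P)
    [Algebra (MvPolynomial τ R) LX] [IsScalarTower (MvPolynomial τ R) C LX]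
    [IsScalarTower R (MvPolynomial τ R) LX] :
    Module.Flat (MvPolynomial τ R) LX ∧
      (Q.comap (algebraMap (MvPolynomial τ R) C)).map (algebraMap (MvPolynomial τ R) LX) =
        (Q.comap (algebraMap R C)).map (algebraMap R LX) := by
  set p : Ideal R := Q.comap (algebraMap R C) with hp
  haveI : p.IsPrime := Ideal.comap_isPrime _ _
  have hcomap : Q.comap (algebraMap (MvPolynomial τ R) C) = p.map (algebraMap R (MvPolynomial τ R)) := by
    apply le_antisymm
    · intro P hP
      rw [Ideal.mem_comap, hB] at hP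
      exact htrans P hP
    · rw [Ideal.map_le_iff_le_comap]
      intro r hr
      rw [Ideal.mem_comap, Ideal.mem_comap, ← IsScalarTower.algebraMap_apply]
      exact hr
  have hIXeq : (Q.comap (algebraMap (MvPolynomial τ R) C)).map (algebraMap (MvPolynomial τ R) LX) =
      p.map (algebraMap R LX) := by
    rw [hcomap, Ideal.map_map, ← IsScalarTower.algebraMap_eq]
  refine ⟨?_, hIXeq⟩
  set IX : Ideal LX := p.map (algebraMap R LX) with hIX
  haveI hprime : (p.map (algebraMap R (MvPolynomial τ R))).IsPrime := by
    rw [← hcomap]; exact Ideal.comap_isPrime _ _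
  have hle : p.map (algebraMap R (MvPolynomial τ R)) ≤ IX.comap (algebraMap (MvPolynomial τ R) LX) := by
    rw [← Ideal.map_le_iff_le_comap, Ideal.map_map, ← IsScalarTower.algebraMap_eq]
  let φ : (MvPolynomial τ R ⧸ p.map (algebraMap R (MvPolynomial τ R))) →+* LX ⧸ IX :=
    Ideal.quotientMap IX (algebraMap (MvPolynomial τ R) LX) hle
  letI : Algebra (MvPolynomial τ R ⧸ p.map (algebraMap R (MvPolynomial τ R))) (LX ⧸ IX) :=
    φ.toAlgebra
  haveI : IsScalarTower (MvPolynomial τ R)
      (MvPolynomial τ R ⧸ p.map (algebraMap R (MvPolynomial τ R))) (LX ⧸ IX) :=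
    IsScalarTower.of_algebraMap_eq (R := MvPolynomial τ R)
      (S := MvPolynomial τ R ⧸ p.map (algebraMap R (MvPolynomial τ R))) (A := LX ⧸ IX) fun b => by
      change Ideal.Quotient.mk IX (algebraMap (MvPolynomial τ R) LX b) =
        φ (Ideal.Quotient.mk _ b)
      rfl
  haveI : Module.Flat (MvPolynomial τ R ⧸ p.map (algebraMap R (MvPolynomial τ R))) (LX ⧸ IX) := by
    have : φ.Flat := by
      apply flat_of_forall_isUnit
      intro b hb
      obtain ⟨b, rfl⟩ := Ideal.Quotient.mk_surjective b
      have hb' : b ∉ p.map (algebraMap R (MvPolynomial τ R)) := fun h =>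
        hb (Ideal.Quotient.eq_zero_iff_mem.mpr h)
      rw [← hcomap, Ideal.mem_comap] at hb'
      have hu : IsUnit (algebraMap C LX (algebraMap (MvPolynomial τ R) C b)) :=
        IsLocalization.map_units LX (⟨_, hb'⟩ : Q.primeCompl)
      change IsUnit (Ideal.Quotient.mk IX (algebraMap (MvPolynomial τ R) LX b))
      rw [IsScalarTower.algebraMap_apply (MvPolynomial τ R) C LX]
      exact hu.map _
    exact this
  exact Groth.Agent.Helper21.Slice.cpf_ft_loc (R := R) (B := MvPolynomial τ R) (C := C) p Q rfl
    IX rfl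

end Groth.Agent.Helper16.CMCoord
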