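import Mathlib

set_option autoImplicit false
set_option linter.style.haveILetI false
universe u

namespace Groth.Agent.Helper16.CMCoord

/-- `Good LX φ`: there are finitely many elements `c` of `C` such that `LX` is flat and
quasi-finite over `R[c]`. -/
def Good {R C : Type u} [CommRing R] [CommRing C] (LX : Type u) [CommRing LX] [Algebra C LX]
    (φ : R →+* C) : Prop :=
  ∃ (σ : Type u) (_ : Finite σ) (c : σ → C),
    ((algebraMap C LX).comp (MvPolynomial.eval₂Hom φ c)).Flat ∧
    ((algebraMap C LX).comp (MvPolynomial.eval₂Hom φ c)).QuasiFinite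

variable {R C : Type u} [CommRing R] [CommRing C] {LX : Type u} [CommRing LX] [Algebra C LX]

theorem quasiFinite_of_bijective {A B : Type*} [CommRing A] [CommRing B] (e : A →+* B)
    (he : Function.Bijective e) : e.QuasiFinite :=
  RingHom.QuasiFinite.of_finite (RingHom.Finite.of_surjective e he.2)

theorem good_base (φ : R →+* C) (h1 : ((algebraMap C LX).comp φ).Flat)
    (h2 : ((algebraMap C LX).comp φ).QuasiFinite) : Good LX φ := by
  refine ⟨PEmpty, inferInstance, PEmpty.elim, ?_, ?_⟩
  all_goals
    have h : MvPolynomial.eval₂Hom φ (PEmpty.elim : PEmpty.{u+1} → C) =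
        φ.comp (MvPolynomial.isEmptyAlgEquiv R PEmpty.{u+1}).toRingEquiv.toRingHom := by
      apply MvPolynomial.ringHom_ext
      · intro r
        change MvPolynomial.eval₂Hom φ _ (MvPolynomial.C r) =
          φ ((MvPolynomial.isEmptyAlgEquiv R PEmpty.{u+1}) (MvPolynomial.C r))
        rw [← MvPolynomial.algebraMap_eq, AlgEquiv.commutes, MvPolynomial.algebraMap_eq,
          MvPolynomial.eval₂Hom_C]
        rfl
      · intro i; exact i.elim
    rw [h, ← RingHom.comp_assoc]
  · exact RingHom.Flat.comp (RingHom.Flat.of_bijective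
      (MvPolynomial.isEmptyAlgEquiv R PEmpty.{u+1}).toRingEquiv.bijective) h1
  · exact RingHom.QuasiFinite.comp h2 (quasiFinite_of_bijective _
      (MvPolynomial.isEmptyAlgEquiv R PEmpty.{u+1}).toRingEquiv.bijective)

theorem good_of_polynomial (φ' : Polynomial R →+* C) (h : Good LX φ') :
    Good LX (φ'.comp Polynomial.C) := by
  obtain ⟨σ, _, c, h1, h2⟩ := h
  refine ⟨Option σ, inferInstance, fun o => o.elim (φ' Polynomial.X) c, ?_, ?_⟩
  all_goals
    have h : MvPolynomial.eval₂Hom (φ'.comp Polynomial.C)
          (fun o : Option σ => o.elim (φ' Polynomial.X) c) =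
        (MvPolynomial.eval₂Hom φ' c).comp
          (MvPolynomial.optionEquivRight R σ).toRingEquiv.toRingHom := by
      apply MvPolynomial.ringHom_ext
      · intro r
        simp
      · intro i
        cases i with
        | none => simp
        | some i => simp
    rw [h, ← RingHom.comp_assoc]
  · exact RingHom.Flat.comp (RingHom.Flat.of_bijective
      (MvPolynomial.optionEquivRight R σ).toRingEquiv.bijective) h1
  · exact RingHom.QuasiFinite.comp h2 (quasiFinite_of_bijective _
      (MvPolynomial.optionEquivRight R σ).toRingEquiv.bijective)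

theorem good_of_mvPolynomial (φ : R →+* C) {τ : Type u} [Finite τ] (cτ : τ → C)
    (h : Good LX (MvPolynomial.eval₂Hom φ cτ)) : Good LX φ := by
  obtain ⟨σ, _, c, h1, h2⟩ := h
  refine ⟨σ ⊕ τ, inferInstance, Sum.elim c cτ, ?_, ?_⟩
  all_goals
    have h : MvPolynomial.eval₂Hom φ (Sum.elim c cτ) =
        (MvPolynomial.eval₂Hom (MvPolynomial.eval₂Hom φ cτ) c).comp
          (MvPolynomial.sumAlgEquiv R σ τ).toRingEquiv.toRingHom := by
      apply MvPolynomial.ringHom_ext
      · intro r
        simp
      · intro i
        cases i with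
        | inl i => simp
        | inr i => simp
    rw [h, ← RingHom.comp_assoc]
  · exact RingHom.Flat.comp (RingHom.Flat.of_bijective (RingEquiv.bijective _)) h1
  · exact RingHom.QuasiFinite.comp h2 (quasiFinite_of_bijective _ (RingEquiv.bijective _))

theorem good_fin (φ : R →+* C) (h : Good LX φ) :
    ∃ (n : ℕ) (c : ULift.{u} (Fin n) → C),
      ((algebraMap C LX).comp (MvPolynomial.eval₂Hom φ c)).Flat ∧
      ((algebraMap C LX).comp (MvPolynomial.eval₂Hom φ c)).QuasiFinite := by
  obtain ⟨σ, _, c, h1, h2⟩ := h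
  obtain ⟨n, ⟨e⟩⟩ := Finite.exists_equiv_fin σ
  let e' : ULift.{u} (Fin n) ≃ σ := Equiv.ulift.trans e.symm
  refine ⟨n, c ∘ e', ?_, ?_⟩
  all_goals
    have h : MvPolynomial.eval₂Hom φ (c ∘ e') =
        (MvPolynomial.eval₂Hom φ c).comp
          (MvPolynomial.renameEquiv R e').toRingEquiv.toRingHom := by
      apply MvPolynomial.ringHom_ext
      · intro r
        simp
      · intro i
        simp
    rw [h, ← RingHom.comp_assoc]
  · exact RingHom.Flat.comp (RingHom.Flat.of_bijective
      (MvPolynomial.renameEquiv R e').toRingEquiv.bijective) h1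
  · exact RingHom.QuasiFinite.comp h2 (quasiFinite_of_bijective _
      (MvPolynomial.renameEquiv R e').toRingEquiv.bijective)

end Groth.Agent.Helper16.CMCoord
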