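import Mathlib
import Groth.Prelude.Def_CAlg
import Groth.Agent.Lib.Lead.Depth5
import Groth.Agent.Lib.Helper16.Alg.SliceSeq1

/-!
# Systems of parameters in Cohen–Macaulay fibres (helper16)

* `exists_regular_sop`: a CM local ring has a regular sequence cutting out only the maximal ideal.
* `exists_lift_regOn`, `exists_sop_lift`: lifting such a sequence from `C_Q/IX` to `C`.
* `quasiFiniteAt_of_isolated`: a prime isolated in its fibre is a quasi-finite point.
-/

set_option autoImplicit false
set_option linter.style.haveILetI false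
universe u

open IsLocalRing RingTheory.Sequence

namespace Groth.Agent.Helper16.SliceSeq

theorem le_zero_of_add_nat_le (x : WithBot ℕ∞) (d : ℕ)
    (h : x + (d : WithBot ℕ∞) ≤ (d : WithBot ℕ∞)) : x ≤ 0 := by
  induction x using WithBot.recBotCoe with
  | bot => exact bot_le
  | coe n =>
    have h' : n + (d : ℕ∞) ≤ (d : ℕ∞) := by
      have : ((n + (d : ℕ∞) : ℕ∞) : WithBot ℕ∞) ≤ ((d : ℕ∞) : WithBot ℕ∞) := by
        simpa using h
      exact WithBot.coe_le_coe.mp this
    have hn : n ≤ 0 := by
      induction n using ENat.recTopCoe with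
      | top => simp at h'
      | coe m =>
        have : m + d ≤ d := by exact_mod_cast h'
        have : m = 0 := by omega
        simp [this]
    exact_mod_cast hn

/-- A Cohen–Macaulay local ring has a regular sequence in the maximal ideal such that the only prime
containing it is the maximal ideal. -/
theorem exists_regular_sop (A : Type u) [CommRing A] [hA : LocCoh.IsCohenMacaulayLocalRing A] :
    ∃ as : List A, (∀ a ∈ as, a ∈ maximalIdeal A) ∧ IsWeaklyRegular A as ∧
      ∀ P : Ideal A, P.IsPrime → Ideal.ofList as ≤ P → P = maximalIdeal A := by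
  haveI : IsNoetherianRing A := inferInstance
  haveI : IsLocalRing A := inferInstance
  have hdim := hA.supportDim_eq_depth
  rw [Module.supportDim_self_eq_ringKrullDim] at hdim
  -- the depth is finite
  have hne : LocCoh.depth A A ≠ ⊤ := Groth.Agent.Lead.Depth.depth_ne_top (R := A) A
  obtain ⟨d, hd⟩ := ENat.ne_top_iff_exists.mp hne
  have htop : maximalIdeal A • (⊤ : Submodule A A) ≠ ⊤ :=
    Groth.Agent.Lead.Depth.maximalIdeal_smul_top_ne_top (R := A) A
  obtain ⟨as, hlen, hwr, hmem⟩ := Groth.Agent.Lead.Depth.exists_of_le_idealDepth (maximalIdeal A) A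
    htop d (by rw [hd]; exact le_rfl)
  refine ⟨as, hmem, hwr, ?_⟩
  have hreg : IsRegular A as :=
    Groth.Agent.Lead.Depth.isRegular_of_isWeaklyRegular_of_mem htop hwr hmem
  have hkd := ringKrullDim_add_length_eq_ringKrullDim_of_isRegular as hreg
  rw [hdim, ← hd, hlen] at hkd
  -- `dim A/(as) = 0`
  have h0 : ringKrullDim (A ⧸ Ideal.ofList as) ≤ 0 := by
    exact le_zero_of_add_nat_le _ d hkd.le
  haveI : Ring.KrullDimLE 0 (A ⧸ Ideal.ofList as) := (Ring.krullDimLE_iff).mpr (by simpa using h0)
  intro P hP hle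
  -- image of `P` in the quotient is prime hence maximal
  have hker : RingHom.ker (Ideal.Quotient.mk (Ideal.ofList as)) ≤ P := by
    rw [Ideal.mk_ker]; exact hle
  haveI hP' : (P.map (Ideal.Quotient.mk (Ideal.ofList as))).IsPrime :=
    Ideal.map_isPrime_of_surjective Ideal.Quotient.mk_surjective hker
  have hmax : (P.map (Ideal.Quotient.mk (Ideal.ofList as))).IsMaximal :=
    Ideal.IsPrime.isMaximal' hP'
  have hcomap : (P.map (Ideal.Quotient.mk (Ideal.ofList as))).comap
      (Ideal.Quotient.mk (Ideal.ofList as)) = P := by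
    rw [Ideal.comap_map_of_surjective _ Ideal.Quotient.mk_surjective, sup_eq_left]
    rw [← RingHom.ker_eq_comap_bot]
    exact hker
  have hPmax : P.IsMaximal := by
    rw [← hcomap]
    exact Ideal.comap_isMaximal_of_surjective _ Ideal.Quotient.mk_surjective
  exact IsLocalRing.eq_maximalIdeal hPmax

/-- lifting a sequence regular modulo `I` from a localization to the ring, up to units. -/
theorem exists_lift_regOn {C LX : Type*} [CommRing C] [CommRing LX] [Algebra C LX]
    (M : Submonoid C) [IsLocalization M LX] (P : Ideal LX) :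
    ∀ (as : List LX) (I : Ideal LX), (∀ a ∈ as, a ∈ P) → RegOn I as →
      ∃ rs : List C, (∀ r ∈ rs, algebraMap C LX r ∈ P) ∧ RegOn I (rs.map (algebraMap C LX)) ∧
        I ⊔ Ideal.ofList (rs.map (algebraMap C LX)) = I ⊔ Ideal.ofList as := by
  intro as
  induction as with
  | nil =>
    intro I _ _
    exact ⟨[], by simp, by simp, by simp⟩
  | cons a t ih =>
    intro I hmem hreg
    rw [regOn_cons] at hreg
    obtain ⟨c, s, hcs⟩ := IsLocalization.exists_mk'_eq M a
    have hu : IsUnit (algebraMap C LX s) := IsLocalization.map_units LX s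
    have hac : algebraMap C LX c = a * algebraMap C LX s := by
      rw [← hcs, IsLocalization.mk'_spec]
    have hspan : Ideal.span {algebraMap C LX c} = Ideal.span {a} := by
      rw [hac]
      exact Ideal.span_singleton_mul_right_unit hu a
    obtain ⟨rs, h1, h2, h3⟩ := ih (I ⊔ Ideal.span {a})
      (fun x hx => hmem x (List.mem_cons_of_mem _ hx)) hreg.2
    refine ⟨c :: rs, ?_, ?_, ?_⟩
    · intro r hr
      rcases List.mem_cons.mp hr with rfl | hr
      · rw [hac]
        exact P.mul_mem_right _ (hmem a List.mem_cons_self)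
      · exact h1 r hr
    · rw [List.map_cons, regOn_cons, hspan]
      refine ⟨?_, h2⟩
      intro x hx
      rw [hac] at hx
      have h4 : a * (algebraMap C LX s * x) ∈ I := by rwa [← mul_assoc]
      have h5 := hreg.1 _ h4
      obtain ⟨v, hv⟩ := hu
      have : x = (↑v⁻¹ : LX) * (algebraMap C LX s * x) := by
        rw [← hv, ← mul_assoc, Units.inv_mul, one_mul]
      rw [this]
      exact I.mul_mem_left _ h5
    · rw [List.map_cons, Ideal.ofList_cons, Ideal.ofList_cons, hspan, ← sup_assoc, ← sup_assoc, h3]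

/-- In a local ring `LX` with `LX/IX` Cohen–Macaulay, a system of parameters of `LX/IX` cuts out
only the maximal ideal. -/
theorem exists_sop_lift {C : Type u} [CommRing C] (Q : Ideal C) [Q.IsPrime]
    {LX : Type u} [CommRing LX] [Algebra C LX] [IsLocalization.AtPrime LX Q] (IX : Ideal LX)
    [hCM : LocCoh.IsCohenMacaulayLocalRing (LX ⧸ IX)] :
    ∃ rs : List C, (∀ r ∈ rs, r ∈ Q) ∧ RegOn IX (rs.map (algebraMap C LX)) ∧
      ∀ P' : Ideal LX, P'.IsPrime → IX ≤ P' → (∀ r ∈ rs, algebraMap C LX r ∈ P') →
        ∀ [IsLocalRing LX], P' = maximalIdeal LX := by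
  haveI : IsLocalRing LX := IsLocalization.AtPrime.isLocalRing LX Q
  haveI : IsLocalRing (LX ⧸ IX) := inferInstance
  obtain ⟨as₀, hmem₀, hwr₀, hprime₀⟩ := exists_regular_sop (LX ⧸ IX)
  obtain ⟨as, rfl⟩ := (List.map_surjective_iff.mpr
    (Ideal.Quotient.mk_surjective (I := IX))) as₀
  have hmem : ∀ a ∈ as, a ∈ maximalIdeal LX := by
    intro a ha
    rw [IsLocalRing.mem_maximalIdeal, mem_nonunits_iff]
    intro hu
    have := hmem₀ _ (List.mem_map_of_mem ha)
    rw [IsLocalRing.mem_maximalIdeal, mem_nonunits_iff] at this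
    exact this (hu.map _)
  have hwr : IsWeaklyRegular (LX ⧸ IX) as :=
    (isWeaklyRegular_map_algebraMap_iff (LX ⧸ IX) (LX ⧸ IX) as).mp hwr₀
  have hreg : RegOn IX as := regOn_of_isWeaklyRegular as IX hwr
  obtain ⟨rs, h1, h2, h3⟩ := exists_lift_regOn Q.primeCompl (maximalIdeal LX) as IX hmem hreg
  refine ⟨rs, fun r hr => (IsLocalization.AtPrime.to_map_mem_maximal_iff LX Q r).mp (h1 r hr),
    h2, ?_⟩
  intro P' hP' hIX hrs _
  have hle : IX ⊔ Ideal.ofList as ≤ P' := by
    rw [← h3]
    refine sup_le hIX ?_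
    rw [Ideal.ofList, Ideal.span_le]
    intro x hx
    obtain ⟨r, hr, rfl⟩ := List.mem_map.mp hx
    exact hrs r hr
  have hker : RingHom.ker (Ideal.Quotient.mk IX) ≤ P' := by
    rw [Ideal.mk_ker]; exact hIX
  have hP'' : (P'.map (Ideal.Quotient.mk IX)).IsPrime :=
    Ideal.map_isPrime_of_surjective Ideal.Quotient.mk_surjective hker
  have hle' : Ideal.ofList (as.map (Ideal.Quotient.mk IX)) ≤ P'.map (Ideal.Quotient.mk IX) := by
    rw [← Ideal.map_ofList]
    exact Ideal.map_mono (le_sup_right.trans hle)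
  have hmax := hprime₀ _ hP'' hle'
  have hcomap : (P'.map (Ideal.Quotient.mk IX)).comap (Ideal.Quotient.mk IX) = P' := by
    rw [Ideal.comap_map_of_surjective _ Ideal.Quotient.mk_surjective, sup_eq_left]
    rw [← RingHom.ker_eq_comap_bot]
    exact hker
  have hPmax : P'.IsMaximal := by
    rw [← hcomap, hmax]
    exact Ideal.comap_isMaximal_of_surjective _ Ideal.Quotient.mk_surjective
  exact IsLocalRing.eq_maximalIdeal hPmax

/-- A prime which is isolated in its fibre (neither specializes nor generalizes inside the fibre)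
is a quasi-finite point. -/
theorem quasiFiniteAt_of_isolated {R S : Type u} [CommRing R] [CommRing S] [Algebra R S]
    [Algebra.FiniteType R S] (q : Ideal S) [hq : q.IsPrime]
    (h : ∀ P : Ideal S, P.IsPrime → P.comap (algebraMap R S) = q.comap (algebraMap R S) →
      (q ≤ P ∨ P ≤ q) → P = q) : Algebra.QuasiFiniteAt R q := by
  let q' : PrimeSpectrum S := ⟨q, hq⟩
  refine Algebra.QuasiFiniteAt.of_isOpen_singleton_fiber q' ?_
  let p := q'.comap (algebraMap R S)
  let e := PrimeSpectrum.preimageHomeomorphFiber R S p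
  let e' := PrimeSpectrum.preimageOrderIsoFiber R S p
  rw [← e.isOpen_image, Set.image_singleton]
  haveI : IsNoetherianRing (p.asIdeal.Fiber S) :=
    Algebra.FiniteType.isNoetherianRing p.asIdeal.ResidueField _
  haveI : IsJacobsonRing (p.asIdeal.Fiber S) :=
    isJacobsonRing_of_finiteType (A := p.asIdeal.ResidueField)
  refine ((PrimeSpectrum.isOpen_singleton_tfae_of_isNoetherian_of_isJacobsonRing _).out 0 2).mpr ?_
  rw [PrimeSpectrum.isClosed_singleton_iff_isMaximal, ← PrimeSpectrum.isMax_iff,
    PrimeSpectrum.stableUnderGeneralization_singleton, ← PrimeSpectrum.isMin_iff]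
  have he : e ⟨q', rfl⟩ = e' ⟨q', rfl⟩ := rfl
  rw [he, OrderIso.isMax_apply, OrderIso.isMin_apply]
  constructor
  · intro b hb
    have : b.1.asIdeal = q := by
      refine h _ b.1.2 ?_ (Or.inl hb)
      exact congrArg PrimeSpectrum.asIdeal b.2
    have : b = ⟨q', rfl⟩ := Subtype.ext (PrimeSpectrum.ext this)
    rw [this]
  · intro b hb
    have : b.1.asIdeal = q := by
      refine h _ b.1.2 ?_ (Or.inr hb)
      exact congrArg PrimeSpectrum.asIdeal b.2
    have : b = ⟨q', rfl⟩ := Subtype.ext (PrimeSpectrum.ext this)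
    rw [this]

end Groth.Agent.Helper16.SliceSeq
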