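import Mathlib
import Groth.Agent.Lib.Helper16.Alg.SliceSeq2
import Groth.Agent.Lib.Helper16.Alg.CMCoord3

set_option autoImplicit false
set_option linter.style.haveILetI false
universe u

open Polynomial IsLocalRing

namespace Groth.Agent.Helper16.CMCoord

open Groth.Agent.Helper16.SliceSeq

set_option maxHeartbeats 1600000 in
set_option synthInstance.maxHeartbeats 400000 in
/-- **Coordinates from a fibrewise regular system of parameters.** -/
theorem good_of_regOn {C : Type u} [CommRing C] (Q : Ideal C) [Q.IsPrime]
    {LX : Type u} [CommRing LX] [Algebra C LX] [IsLocalization.AtPrime LX Q] [IsLocalRing LX]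
    (rs : List C) :
    ∀ {R : Type u} [CommRing R] [Algebra R C] [Algebra.FinitePresentation R C]
      [Algebra R LX] [IsScalarTower R C LX] [Module.Flat R LX]
      (IX : Ideal LX) (_ : IX = (Q.comap (algebraMap R C)).map (algebraMap R LX))
      (_ : ∀ r ∈ rs, r ∈ Q) (_ : RegOn IX (rs.map (algebraMap C LX)))
      (_ : ∀ P' : Ideal C, P'.IsPrime → Q ≤ P' →
        P'.comap (algebraMap R C) = Q.comap (algebraMap R C) → P' = Q)
      (_ : ∀ P' : Ideal LX, P'.IsPrime → IX ≤ P' → (∀ r ∈ rs, algebraMap C LX r ∈ P') →
        P' = maximalIdeal LX),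
      Good LX (algebraMap R C) := by
  induction rs with
  | nil =>
    intro R _ _ _ _ _ _ IX hIX hQ hreg hcl hart
    apply good_base
    · rw [← IsScalarTower.algebraMap_eq]
      exact RingHom.flat_algebraMap_iff.mpr inferInstance
    · rw [← IsScalarTower.algebraMap_eq, RingHom.quasiFinite_algebraMap]
      -- `Q` is isolated in its fibre
      haveI : Algebra.QuasiFiniteAt R Q := by
        refine quasiFiniteAt_of_isolated Q ?_
        intro P' hP' hover hor
        rcases hor with h1 | h1
        · exact hcl P' hP' h1 hover
        · have hdisj : Disjoint (Q.primeCompl : Set C) P' := by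
            rw [Set.disjoint_left]
            intro x hx hx'
            exact hx (h1 hx')
          have hPL : (P'.map (algebraMap C LX)).IsPrime :=
            IsLocalization.isPrime_of_isPrime_disjoint Q.primeCompl LX _ hP' hdisj
          have h2 : IX ≤ P'.map (algebraMap C LX) := by
            rw [hIX, IsScalarTower.algebraMap_eq R C LX, ← Ideal.map_map]
            apply Ideal.map_mono
            rw [Ideal.map_le_iff_le_comap, hover]
          have h4 := hart _ hPL h2 (by simp)
          rw [← IsLocalization.under_map_of_isPrime_disjoint Q.primeCompl LX hP' hdisj, h4,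
            IsLocalization.AtPrime.under_maximalIdeal LX Q]
      -- transfer to the model `LX`
      let e : Localization.AtPrime Q ≃ₐ[C] LX := IsLocalization.algEquiv Q.primeCompl _ _
      exact Algebra.QuasiFinite.of_surjective_algHom (e.toAlgHom.restrictScalars R) e.surjective
  | cons h₀ rs ih =>
    intro R _ _ _ _ _ _ IX hIX hQ hreg hcl hart
    classical
    have hQ₀ : h₀ ∈ Q := hQ h₀ (List.mem_cons_self)
    rw [List.map_cons] at hreg
    obtain ⟨hreg₀, hreg'⟩ := hreg
    have hnzd : Ideal.Quotient.mk IX (algebraMap C LX h₀) ∈ nonZeroDivisors (LX ⧸ IX) := by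
      rw [mem_nonZeroDivisors_iff_left]
      intro y hy
      obtain ⟨y, rfl⟩ := Ideal.Quotient.mk_surjective y
      rw [← map_mul, Ideal.Quotient.eq_zero_iff_mem] at hy
      exact Ideal.Quotient.eq_zero_iff_mem.mpr (hreg₀ y hy)
    letI aBC : Algebra R[X] C := (Polynomial.aeval h₀ : R[X] →ₐ[R] C).toRingHom.toAlgebra
    haveI tRBC : IsScalarTower R R[X] C := IsScalarTower.of_algebraMap_eq fun r => by
      change algebraMap R C r = Polynomial.aeval h₀ (Polynomial.C r)
      rw [Polynomial.aeval_C]
    have hX : algebraMap R[X] C X = h₀ := Polynomial.aeval_X h₀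
    letI aBLX : Algebra R[X] LX := ((algebraMap C LX).comp (algebraMap R[X] C)).toAlgebra
    haveI tBCLX : IsScalarTower R[X] C LX := IsScalarTower.of_algebraMap_eq fun _ => rfl
    haveI tRBLX : IsScalarTower R R[X] LX := IsScalarTower.of_algebraMap_eq fun r => by
      change algebraMap R LX r = algebraMap C LX (algebraMap R[X] C (algebraMap R R[X] r))
      rw [← IsScalarTower.algebraMap_apply R R[X] C, ← IsScalarTower.algebraMap_apply R C LX]
    haveI hBLX : Module.Flat R[X] LX :=
      Groth.Agent.Helper21.Slice.flat_polynomial (Q.comap (algebraMap R C)) Q rfl IX hIX h₀ hX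
        hQ₀ hnzd
    haveI : Algebra.FinitePresentation R[X] C :=
      Algebra.FinitePresentation.of_restrict_scalars_finitePresentation (R := R) (A := R[X]) (B := C)
    have hIX' : IX ⊔ Ideal.span {algebraMap C LX h₀} =
        (Q.comap (algebraMap R[X] C)).map (algebraMap R[X] LX) := by
      rw [hIX]
      exact (map_comap_aeval (R := R) (LX := LX) Q h₀ hQ₀).symm
    have hgood := ih (R := R[X]) (IX ⊔ Ideal.span {algebraMap C LX h₀}) hIX'
      (fun r hr => hQ r (List.mem_cons_of_mem _ hr)) hreg'
      (by
        intro P' hP' hle hover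
        refine hcl P' hP' hle ?_
        have h1 := congrArg (Ideal.comap (algebraMap R R[X])) hover
        rw [Ideal.comap_comap, Ideal.comap_comap, ← IsScalarTower.algebraMap_eq] at h1
        exact h1)
      (by
        intro P' hP' hle hmem
        refine hart P' hP' (le_sup_left.trans hle) ?_
        intro r hr
        rcases List.mem_cons.mp hr with rfl | hr
        · exact hle (Ideal.mem_sup_right (Ideal.mem_span_singleton_self _))
        · exact hmem r hr)
    have h2 := good_of_polynomial (LX := LX) (algebraMap R[X] C) hgood
    rw [← Polynomial.algebraMap_eq, ← IsScalarTower.algebraMap_eq] at h2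
    exact h2

end Groth.Agent.Helper16.CMCoord
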