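import Mathlib
import Groth.Prelude.Def_CAlg
import Groth.Agent.Lib.Helper16.Alg.CMCoord2
import Groth.Agent.Lib.Helper16.Alg.CMCoord4

set_option autoImplicit false
set_option linter.style.haveILetI false
universe u

open IsLocalRing

namespace Groth.Agent.Helper16.CMCoord

open Groth.Agent.Helper16.SliceSeq

set_option maxHeartbeats 1600000 in
set_option synthInstance.maxHeartbeats 400000 in
/-- **Quasi-finite flat coordinates at a Cohen–Macaulay point (ring version).** -/
theorem cm_coords {R C : Type u} [CommRing R] [CommRing C] [Algebra R C]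
    [Algebra.FinitePresentation R C] (Q : Ideal C) [Q.IsPrime]
    {LX : Type u} [CommRing LX] [Algebra C LX] [IsLocalization.AtPrime LX Q]
    [Algebra R LX] [IsScalarTower R C LX] [Module.Flat R LX]
    (IX : Ideal LX) (hIX : IX = (Q.comap (algebraMap R C)).map (algebraMap R LX))
    [hCM : LocCoh.IsCohenMacaulayLocalRing (LX ⧸ IX)] :
    ∃ (n : ℕ) (c : ULift.{u} (Fin n) → C),
      ((algebraMap C LX).comp (MvPolynomial.eval₂Hom (algebraMap R C) c)).Flat ∧
      ((algebraMap C LX).comp (MvPolynomial.eval₂Hom (algebraMap R C) c)).QuasiFinite := by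
  haveI : IsLocalRing LX := IsLocalization.AtPrime.isLocalRing LX Q
  obtain ⟨τ, _, cτ, htrans, hclB⟩ := exists_trans_coords (R := R) Q
  letI aBC : Algebra (MvPolynomial τ R) C :=
    (MvPolynomial.aeval cτ : MvPolynomial τ R →ₐ[R] C).toRingHom.toAlgebra
  haveI tRBC : IsScalarTower R (MvPolynomial τ R) C := IsScalarTower.of_algebraMap_eq fun r => by
    change algebraMap R C r = MvPolynomial.aeval cτ (MvPolynomial.C r)
    rw [MvPolynomial.aeval_C]
  have hB : ∀ P, algebraMap (MvPolynomial τ R) C P = MvPolynomial.aeval cτ P := fun _ => rfl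
  letI aBLX : Algebra (MvPolynomial τ R) LX :=
    ((algebraMap C LX).comp (algebraMap (MvPolynomial τ R) C)).toAlgebra
  haveI tBCLX : IsScalarTower (MvPolynomial τ R) C LX := IsScalarTower.of_algebraMap_eq fun _ => rfl
  haveI tRBLX : IsScalarTower R (MvPolynomial τ R) LX := IsScalarTower.of_algebraMap_eq fun r => by
    change algebraMap R LX r =
      algebraMap C LX (algebraMap (MvPolynomial τ R) C (algebraMap R (MvPolynomial τ R) r))
    rw [← IsScalarTower.algebraMap_apply R (MvPolynomial τ R) C,
      ← IsScalarTower.algebraMap_apply R C LX]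
  obtain ⟨hflatB, hIXB⟩ := flat_mvPolynomial_of_trans (R := R) (C := C) (LX := LX) Q cτ htrans hB
  haveI := hflatB
  haveI : Algebra.FinitePresentation (MvPolynomial τ R) C :=
    Algebra.FinitePresentation.of_restrict_scalars_finitePresentation (R := R)
      (A := MvPolynomial τ R) (B := C)
  obtain ⟨rs, hrsQ, hreg, hart⟩ := exists_sop_lift Q IX
  have hgood : Good LX (algebraMap (MvPolynomial τ R) C) :=
    good_of_regOn Q rs (R := MvPolynomial τ R) IX (by rw [hIXB, hIX]) hrsQ hreg
      (by
        intro P' hP' hle hover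
        refine hclB P' hP' hle ?_
        intro P hP
        have : P ∈ P'.comap (algebraMap (MvPolynomial τ R) C) := hP
        rw [hover] at this
        exact this)
      (fun P' hP' h1 h2 => hart P' hP' h1 h2)
  have h2 : Good LX (algebraMap R C) := good_of_mvPolynomial (algebraMap R C) cτ hgood
  exact good_fin _ h2

end Groth.Agent.Helper16.CMCoord
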