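import Mathlib
import Groth.Prelude.Def_CAlg
import Groth.Agent.Lib.Helper16.Alg.CMCoord5

set_option autoImplicit false
set_option linter.style.haveILetI false
universe u

open IsLocalRing

namespace Groth.Agent.Helper16.CMCoord

open Groth.Agent.Helper16.SliceSeq

set_option maxHeartbeats 1600000 in
set_option synthInstance.maxHeartbeats 400000 in
/-- **Quasi-finite flat coordinates near a Cohen–Macaulay point (ring version).** -/
theorem cm_coords_nhd {R C : Type u} [CommRing R] [CommRing C] [Algebra R C]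
    [Algebra.FinitePresentation R C] (Q : Ideal C) [Q.IsPrime]
    {LX : Type u} [CommRing LX] [Algebra C LX] [IsLocalization.AtPrime LX Q]
    [Algebra R LX] [IsScalarTower R C LX] [Module.Flat R LX]
    (IX : Ideal LX) (hIX : IX = (Q.comap (algebraMap R C)).map (algebraMap R LX))
    [hCM : LocCoh.IsCohenMacaulayLocalRing (LX ⧸ IX)] :
    ∃ (n : ℕ) (c : ULift.{u} (Fin n) → C) (g : C), g ∉ Q ∧
      ∀ (Cg : Type u) [CommRing Cg] [Algebra C Cg] [IsLocalization.Away g Cg],
        ((algebraMap C Cg).comp (MvPolynomial.eval₂Hom (algebraMap R C) c)).Flat ∧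
        ((algebraMap C Cg).comp (MvPolynomial.eval₂Hom (algebraMap R C) c)).QuasiFinite := by
  obtain ⟨n, c, hfl, hqf⟩ := cm_coords Q IX hIX
  letI aBC : Algebra (MvPolynomial (ULift.{u} (Fin n)) R) C :=
    (MvPolynomial.eval₂Hom (algebraMap R C) c).toAlgebra
  haveI tRBC : IsScalarTower R (MvPolynomial (ULift.{u} (Fin n)) R) C :=
    IsScalarTower.of_algebraMap_eq fun r => by
      change algebraMap R C r = MvPolynomial.eval₂Hom (algebraMap R C) c (MvPolynomial.C r)
      rw [MvPolynomial.eval₂Hom_C]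
  letI aBLX : Algebra (MvPolynomial (ULift.{u} (Fin n)) R) LX :=
    ((algebraMap C LX).comp (algebraMap (MvPolynomial (ULift.{u} (Fin n)) R) C)).toAlgebra
  haveI tBCLX : IsScalarTower (MvPolynomial (ULift.{u} (Fin n)) R) C LX :=
    IsScalarTower.of_algebraMap_eq fun _ => rfl
  haveI hflat : Module.Flat (MvPolynomial (ULift.{u} (Fin n)) R) LX := hfl
  haveI hqf' : Algebra.QuasiFinite (MvPolynomial (ULift.{u} (Fin n)) R) LX := hqf
  haveI : Algebra.FinitePresentation (MvPolynomial (ULift.{u} (Fin n)) R) C :=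
    Algebra.FinitePresentation.of_restrict_scalars_finitePresentation (R := R)
      (A := MvPolynomial (ULift.{u} (Fin n)) R) (B := C)
  obtain ⟨g₁, hg₁, Hflat⟩ := exists_flat_away (R := MvPolynomial (ULift.{u} (Fin n)) R) Q (LX := LX)
  -- quasi-finite at `Q`
  haveI : Algebra.QuasiFiniteAt (MvPolynomial (ULift.{u} (Fin n)) R) Q := by
    let e : LX ≃ₐ[C] Localization.AtPrime Q := IsLocalization.algEquiv Q.primeCompl _ _
    exact Algebra.QuasiFinite.of_surjective_algHom
      (e.toAlgHom.restrictScalars (MvPolynomial (ULift.{u} (Fin n)) R)) e.surjective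
  have H : Algebra.ZariskisMainProperty (MvPolynomial (ULift.{u} (Fin n)) R) Q :=
    Algebra.ZariskisMainProperty.of_finiteType Q
  obtain ⟨S', hS', r, hrQ, Hbij⟩ := H.exists_fg_and_exists_notMem_and_awayMap_bijective Q
  haveI : Module.Finite (MvPolynomial (ULift.{u} (Fin n)) R) S' := ⟨(Submodule.fg_top _).mpr hS'⟩
  haveI : Algebra.QuasiFinite (MvPolynomial (ULift.{u} (Fin n)) R) (Localization.Away r) :=
    .trans _ S' _
  haveI hqfr : Algebra.QuasiFinite (MvPolynomial (ULift.{u} (Fin n)) R) (Localization.Away r.1) :=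
    Algebra.QuasiFinite.of_surjective_algHom (R := MvPolynomial (ULift.{u} (Fin n)) R)
      (S := Localization.Away r) (T := Localization.Away r.1) (Localization.awayMapₐ S'.val r) Hbij.2
  refine ⟨n, c, g₁ * r.1, fun h => (‹Q.IsPrime›.mem_or_mem h).elim hg₁ hrQ, ?_⟩
  intro Cg _ _ _
  letI aBCg : Algebra (MvPolynomial (ULift.{u} (Fin n)) R) Cg :=
    ((algebraMap C Cg).comp (algebraMap (MvPolynomial (ULift.{u} (Fin n)) R) C)).toAlgebra
  haveI tBCCg : IsScalarTower (MvPolynomial (ULift.{u} (Fin n)) R) C Cg :=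
    IsScalarTower.of_algebraMap_eq fun _ => rfl
  refine ⟨Hflat r.1 Cg, ?_⟩
  change Algebra.QuasiFinite (MvPolynomial (ULift.{u} (Fin n)) R) Cg
  have hunit_g : IsUnit (algebraMap C Cg (g₁ * r.1)) := IsLocalization.Away.algebraMap_isUnit _
  have hunit_r : IsUnit (algebraMap C Cg r.1) := by
    rw [map_mul] at hunit_g
    exact isUnit_of_mul_isUnit_right hunit_g
  let f : Localization.Away r.1 →ₐ[MvPolynomial (ULift.{u} (Fin n)) R] Cg :=
    IsLocalization.liftAlgHom (M := Submonoid.powers r.1)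
      (f := IsScalarTower.toAlgHom (MvPolynomial (ULift.{u} (Fin n)) R) C Cg) (by
        rintro ⟨_, m, rfl⟩
        change IsUnit (algebraMap C Cg (r.1 ^ m))
        rw [map_pow]
        exact hunit_r.pow m)
  have hf : ∀ b : C, f (algebraMap C (Localization.Away r.1) b) = algebraMap C Cg b := by
    intro b
    simp [f]
  refine Algebra.QuasiFinite.of_forall_exists_mul_mem_range f (fun x => ?_)
  obtain ⟨b, ⟨_, m, rfl⟩, rfl⟩ := IsLocalization.exists_mk'_eq (Submonoid.powers (g₁ * r.1)) x
  refine ⟨algebraMap C _ ((g₁ * r.1) ^ m), ?_, algebraMap C _ b, ?_⟩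
  · rw [hf, map_pow]
    exact hunit_g.pow m
  · show f _ = _ * f _
    rw [hf, hf, IsLocalization.mk'_spec]

end Groth.Agent.Helper16.CMCoord
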