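import Mathlib
import Groth.Agent.Lib.Lead.DimF3
import Groth.Agent.Lib.Lead.Depth21
import Groth.Agent.Lib.Helper21.DepthFin

/-!
# Invariance of depth and support dimension along surjections (helper16)

No Noetherian hypotheses.
-/

set_option autoImplicit false
set_option linter.style.haveILetI false
set_option linter.unusedSectionVars false
universe u

open IsLocalRing TensorProduct RingTheory.Sequence LocCoh

namespace Groth.Agent.Helper16.FibModAlg

open Groth.Agent.Lead.Depth Groth.Agent.Lead.DimF

section Surj

variable {R₁ R₂ : Type u} [CommRing R₁] [CommRing R₂] [Algebra R₁ R₂]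

/-- depth along a surjection of rings: no finiteness needed. -/
theorem idealDepth_eq_map_of_surjective (h : Function.Surjective (algebraMap R₁ R₂))
    (a : Ideal R₁) (N : Type u) [AddCommGroup N] [Module R₂ N] [Module R₁ N]
    [IsScalarTower R₁ R₂ N] :
    idealDepth a N = idealDepth (a.map (algebraMap R₁ R₂)) N := by
  apply ENat.eq_of_forall_natCast_le_iff
  intro n
  refine ⟨Groth.Agent.Helper21.DF.le_idealDepth_map_of_le a N n, fun hn => ?_⟩
  by_cases htop : a • (⊤ : Submodule R₁ N) = ⊤
  · rw [idealDepth_of_eq_top a N htop]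
    exact le_top
  · have htopB : (a.map (algebraMap R₁ R₂)) • (⊤ : Submodule R₂ N) ≠ ⊤ :=
      fun hB => htop ((Groth.Agent.Helper21.DF.smul_top_eq_top_iff a N).mpr hB)
    obtain ⟨rs, hlen, hreg, hmem⟩ := exists_of_le_idealDepth _ N htopB n hn
    -- lift the sequence
    have hlift : ∀ r ∈ rs, ∃ r' : R₁, r' ∈ a ∧ algebraMap R₁ R₂ r' = r := by
      intro r hr
      exact (Ideal.mem_map_iff_of_surjective _ h).mp (hmem r hr)
    choose! g hg1 hg2 using hlift
    have hmap : (rs.map g).map (algebraMap R₁ R₂) = rs := by
      rw [List.map_map]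
      conv_rhs => rw [← List.map_id rs]
      exact List.map_congr_left fun r hr => hg2 r hr
    have hreg' : IsWeaklyRegular N (rs.map g) := by
      rw [← isWeaklyRegular_map_algebraMap_iff (S := R₂) (M := N), hmap]
      exact hreg
    have := le_idealDepth_of_isWeaklyRegular a N (rs.map g) hreg' (by
      intro r hr
      rw [List.mem_map] at hr
      obtain ⟨r', hr', rfl⟩ := hr
      exact hg1 r' hr')
    rwa [List.length_map, hlen] at this

/-- depth along a surjective local map: no finiteness needed. -/
theorem depth_eq_of_surjective' [IsLocalRing R₁] [IsLocalRing R₂]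
    (h : Function.Surjective (algebraMap R₁ R₂))
    (N : Type u) [AddCommGroup N] [Module R₂ N] [Module R₁ N] [IsScalarTower R₁ R₂ N] :
    LocCoh.depth R₁ N = LocCoh.depth R₂ N := by
  unfold LocCoh.depth
  rw [idealDepth_eq_map_of_surjective h (maximalIdeal R₁) N,
    IsLocalRing.map_maximalIdeal_of_surjective _ h]

/-- transport of the support dimension and the depth from a quotient ring (with a module over
it) to a module over the big ring. -/
theorem invariants_eq_of_surjective [IsLocalRing R₁] [IsLocalRing R₂]
    (h : Function.Surjective (algebraMap R₁ R₂))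
    (G₁ : Type u) [AddCommGroup G₁] [Module R₂ G₁] [Module R₁ G₁] [IsScalarTower R₁ R₂ G₁]
    [Module.Finite R₂ G₁]
    (G₂ : Type u) [AddCommGroup G₂] [Module R₁ G₂] (ψ : G₁ ≃ₗ[R₁] G₂) :
    Module.supportDim R₂ G₁ = Module.supportDim R₁ G₂ ∧
      LocCoh.depth R₂ G₁ = LocCoh.depth R₁ G₂ := by
  refine ⟨?_, ?_⟩
  · rw [← supportDim_eq_of_surjective h G₁, Module.supportDim_eq_of_equiv ψ]
  · rw [← depth_eq_of_surjective' h G₁]
    exact idealDepth_congr _ ψ

end Surj

end Groth.Agent.Helper16.FibModAlg
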