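import Mathlib
import Groth.Agent.Lib.Helper16.Alg.FibModAlg1
import Groth.Agent.Lib.Lead.Fib4
import Groth.Agent.Lib.Lead.Fib3
import Groth.Agent.Lib.Lead.DimF2

/-!
# Dimension and depth of a base change along a flat local homomorphism with CM fibre (helper16)
-/

set_option autoImplicit false
set_option linter.style.haveILetI false
set_option linter.unusedSectionVars false
universe u

open IsLocalRing TensorProduct LocCoh

namespace Groth.Agent.Helper16.FibModAlg

open Groth.Agent.Lead.Depth Groth.Agent.Lead.DimF Groth.Agent.Lead.Fib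

/-- flat local homomorphism with Cohen–Macaulay closed fibre of dimension `d`: ring dimension,
support dimension and depth of base-changed finite modules all increase by `d`. -/
theorem tensor_invariants {R S : Type u} [CommRing R] [CommRing S] [IsLocalRing R]
    [IsLocalRing S] [IsNoetherianRing R] [IsNoetherianRing S] [Algebra R S]
    [IsLocalHom (algebraMap R S)] [Module.Flat R S]
    (I : Ideal S) (hI : I = (maximalIdeal R).map (algebraMap R S)) [IsLocalRing (S ⧸ I)]
    (hCM : LocCoh.IsCohenMacaulayLocalRing (S ⧸ I)) :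
    ∃ d : ℕ, ringKrullDim S = ringKrullDim R + (d : WithBot ℕ∞) ∧
      LocCoh.depth S S = LocCoh.depth R R + (d : ℕ∞) ∧
      ∀ (M : Type u) [AddCommGroup M] [Module R M] [Module.Finite R M],
        Module.supportDim S (S ⊗[R] M) = Module.supportDim R M + (d : WithBot ℕ∞) ∧
        LocCoh.depth S (S ⊗[R] M) = LocCoh.depth R M + (d : ℕ∞) := by
  subst hI
  have hh := height_eq_add_fibre (R := R) (S := S) _ rfl
  have hd0 := depth_eq_add_fibre (R := R) (S := S) _ rfl
  have h2 := (isCMLocal_iff (S ⧸ (maximalIdeal R).map (algebraMap R S))).mp hCM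
  have h1 : (maximalIdeal (S ⧸ (maximalIdeal R).map (algebraMap R S))).height ≠ ⊤ :=
    Ideal.height_ne_top_of_isPrime
  obtain ⟨d, hd'⟩ := ENat.ne_top_iff_exists.mp h1
  have hdimfib : ringKrullDim (S ⧸ (maximalIdeal R).map (algebraMap R S)) = (d : WithBot ℕ∞) := by
    rw [← IsLocalRing.maximalIdeal_height_eq_ringKrullDim, ← hd']
    rfl
  refine ⟨d, ?_, ?_, ?_⟩
  · rw [← IsLocalRing.maximalIdeal_height_eq_ringKrullDim,
      ← IsLocalRing.maximalIdeal_height_eq_ringKrullDim, hh, ← hd']
    push_cast
    rfl
  · rw [hd0, ← h2, ← hd']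
  · intro M _ _ _
    refine ⟨?_, ?_⟩
    · rcases subsingleton_or_nontrivial M with hM | hM
      · rw [Module.supportDim_eq_bot_of_subsingleton, Module.supportDim_eq_bot_of_subsingleton,
          WithBot.bot_add]
      · rw [supportDim_tensor_eq (R := R) (S := S) S M]
        congr 1
        have e : (S ⧸ (maximalIdeal R).map (algebraMap R S) • (⊤ : Submodule S S)) ≃ₗ[S]
            (S ⧸ (maximalIdeal R).map (algebraMap R S)) :=
          Submodule.quotEquivOfEq _ _ (by rw [smul_eq_mul, Ideal.mul_top])
        rw [Module.supportDim_eq_of_equiv e, Module.supportDim_quotient_eq_ringKrullDim, hdimfib]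
    · rw [depth_tensor_eq_add_fibre_ring _ rfl M, ← h2, ← hd']

end Groth.Agent.Helper16.FibModAlg
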