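import Mathlib
import Groth.Agent.Lib.Helper16.Alg.FibModAlg2
import Groth.Prelude.Def_EGA4b

/-!
# The fibre invariants of a module in an affine chart (helper16)
-/

set_option autoImplicit false
set_option linter.style.haveILetI false
set_option linter.unusedSectionVars false
universe u

open IsLocalRing TensorProduct LocCoh

namespace Groth.Agent.Helper16.FibModAlg

open Groth.Agent.Lead.Depth Groth.Agent.Lead.DimF

section Defs

variable (A B : Type u) [CommRing A] [CommRing B] [Algebra A B] (q : Ideal B) [q.IsPrime]
  (M : Type u) [AddCommGroup M] [Module B M]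

/-- support dimension of the fibre module `M_q / p M_q`. -/
noncomputable def adim : WithBot ℕ∞ :=
  Module.supportDim (Localization.AtPrime q) (EGA4.FibLocMod A B q M)

/-- depth of the fibre module `M_q / p M_q`. -/
noncomputable def adepth : ℕ∞ :=
  LocCoh.depth (Localization.AtPrime q) (EGA4.FibLocMod A B q M)

end Defs

section Chart

variable {A B : Type u} [CommRing A] [CommRing B] [Algebra A B] (q : Ideal B) [q.IsPrime]
  {S : Type u} [CommRing S] [IsLocalRing S] [Algebra B S] [IsLocalization.AtPrime S q]
  (I : Ideal S) (hI : I = ((q.comap (algebraMap A B)).map (algebraMap A B)).map (algebraMap B S))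
  {M : Type u} [AddCommGroup M] [Module B M] [Module.Finite B M]
  {N : Type u} [AddCommGroup N] [Module S N] [Module B N] [IsScalarTower B S N]

include hI in
/-- **Abstract chart lemma**: the invariants of `N / I N` over a localization `S` of `B` at `q`
are the invariants of the fibre module `M_q / p M_q`. -/
theorem chart_invariants (g : M →ₗ[B] N) [IsLocalizedModule q.primeCompl g] :
    Module.supportDim S (N ⧸ I • (⊤ : Submodule S N)) = adim A B q M ∧
      LocCoh.depth S (N ⧸ I • (⊤ : Submodule S N)) = adepth A B q M := by
  let ε : Localization.AtPrime q ≃ₐ[B] S := IsLocalization.algEquiv q.primeCompl _ _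
  letI algLS : Algebra (Localization.AtPrime q) S := ε.toRingEquiv.toRingHom.toAlgebra
  have hsurj : Function.Surjective (algebraMap (Localization.AtPrime q) S) := ε.surjective
  haveI towBLS : IsScalarTower B (Localization.AtPrime q) S :=
    IsScalarTower.of_algebraMap_eq fun b => (ε.commutes b).symm
  -- `N` as a module over the localization
  letI modLN : Module (Localization.AtPrime q) N :=
    Module.compHom N (algebraMap (Localization.AtPrime q) S)
  haveI towLSN : IsScalarTower (Localization.AtPrime q) S N :=
    IsScalarTower.of_algebraMap_smul fun r x => rfl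
  haveI towBLN : IsScalarTower B (Localization.AtPrime q) N :=
    IsScalarTower.of_algebraMap_smul fun b x => by
      change algebraMap (Localization.AtPrime q) S (algebraMap B (Localization.AtPrime q) b) • x =
        b • x
      rw [← IsScalarTower.algebraMap_apply B (Localization.AtPrime q) S, algebraMap_smul]
  -- the comparison of localized modules
  let φ₀ : LocalizedModule q.primeCompl M ≃ₗ[B] N := IsLocalizedModule.iso q.primeCompl g
  let φ : LocalizedModule q.primeCompl M ≃ₗ[Localization.AtPrime q] N :=
    φ₀.extendScalarsOfIsLocalization q.primeCompl (Localization.AtPrime q)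
  -- the ideals
  set J : Ideal (Localization.AtPrime q) :=
    (q.comap (algebraMap A B)).map (algebraMap A (Localization.AtPrime q)) with hJ
  have hJI : J.map (algebraMap (Localization.AtPrime q) S) = I := by
    rw [hI, hJ, IsScalarTower.algebraMap_eq A B (Localization.AtPrime q), ← Ideal.map_map,
      Ideal.map_map (algebraMap B (Localization.AtPrime q)),
      ← IsScalarTower.algebraMap_eq B (Localization.AtPrime q) S]
  have hsub : (J • (⊤ : Submodule (Localization.AtPrime q) (LocalizedModule q.primeCompl M))).map
      φ.toLinearMap =
      (I • (⊤ : Submodule S N)).restrictScalars (Localization.AtPrime q) := by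
    rw [Submodule.map_smul'', Submodule.map_top, LinearEquiv.range, ← hJI,
      Ideal.smul_restrictScalars, Submodule.restrictScalars_top]
  let ψ₁ : (EGA4.FibLocMod A B q M) ≃ₗ[Localization.AtPrime q]
      (N ⧸ (I • (⊤ : Submodule S N)).restrictScalars (Localization.AtPrime q)) :=
    Submodule.Quotient.equiv _ _ φ hsub
  let ψ₂ : (N ⧸ (I • (⊤ : Submodule S N)).restrictScalars (Localization.AtPrime q))
      ≃ₗ[Localization.AtPrime q] (N ⧸ I • (⊤ : Submodule S N)) :=
    Submodule.Quotient.restrictScalarsEquiv (Localization.AtPrime q) (I • (⊤ : Submodule S N))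
  haveI : Module.Finite S N := by
    haveI : Module.Finite (Localization.AtPrime q) (LocalizedModule q.primeCompl M) :=
      Module.Finite.of_isLocalizedModule q.primeCompl
        (LocalizedModule.mkLinearMap q.primeCompl M)
    haveI : Module.Finite (Localization.AtPrime q) N := Module.Finite.equiv φ
    exact Module.Finite.of_restrictScalars_finite (Localization.AtPrime q) S N
  have key := invariants_eq_of_surjective hsurj (N ⧸ I • (⊤ : Submodule S N))
    (EGA4.FibLocMod A B q M) (ψ₁.trans ψ₂).symm
  exact key

end Chart

end Groth.Agent.Helper16.FibModAlg
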