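import Mathlib
import Groth.Agent.Lib.Lead.DimF1

set_option autoImplicit false
universe u

namespace Groth.Agent.Helper16.TriDim

open IsLocalRing

/-- going-down passes to quotients by extended ideals. -/
theorem hasGoingDown_quotient (R S : Type*) [CommRing R] [CommRing S] [Algebra R S]
    [Algebra.HasGoingDown R S] (p : Ideal R) :
    Algebra.HasGoingDown (R ⧸ p) (S ⧸ p.map (algebraMap R S)) := by
  constructor
  intro p' hp' Q hQ hlt
  let mR := Ideal.Quotient.mk p
  let mS := Ideal.Quotient.mk (p.map (algebraMap R S))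
  have hcomm : (algebraMap (R ⧸ p) (S ⧸ p.map (algebraMap R S))).comp mR =
      mS.comp (algebraMap R S) := by
    ext r; rfl
  let q' : Ideal R := p'.comap mR
  let Q₀ : Ideal S := Q.comap mS
  haveI : q'.IsPrime := Ideal.comap_isPrime mR p'
  haveI : Q₀.IsPrime := Ideal.comap_isPrime mS Q
  have hunder : Q₀.under R = (Q.under (R ⧸ p)).comap mR := by
    show (Q.comap mS).comap (algebraMap R S) = (Q.comap (algebraMap _ _)).comap mR
    rw [Ideal.comap_comap, Ideal.comap_comap, hcomm]
  have hlt' : q' < Q₀.under R := by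
    rw [hunder]
    refine lt_of_le_of_ne (Ideal.comap_mono hlt.le) ?_
    intro h
    have := Ideal.comap_injective_of_surjective mR Ideal.Quotient.mk_surjective h
    exact hlt.ne this
  obtain ⟨P₀, hP₀Q, hP₀prime, hP₀over⟩ :=
    Algebra.HasGoingDown.exists_ideal_le_liesOver_of_lt (p := q') Q₀ hlt'
  have hpq' : p ≤ q' := by
    intro r hr
    show mR r ∈ p'
    rw [(Ideal.Quotient.eq_zero_iff_mem).mpr hr]
    exact p'.zero_mem
  have hker : RingHom.ker mS ≤ P₀ := by
    rw [Ideal.mk_ker, Ideal.map_le_iff_le_comap]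
    have : q' = P₀.comap (algebraMap R S) := hP₀over.over
    rw [← this]
    exact hpq'
  refine ⟨P₀.map mS, ?_, Ideal.map_isPrime_of_surjective Ideal.Quotient.mk_surjective hker, ⟨?_⟩⟩
  · rw [Ideal.map_le_iff_le_comap]
    exact hP₀Q
  · apply Ideal.comap_injective_of_surjective mR Ideal.Quotient.mk_surjective
    show p'.comap mR = ((P₀.map mS).comap (algebraMap _ _)).comap mR
    rw [Ideal.comap_comap, hcomm, ← Ideal.comap_comap,
      Ideal.comap_map_of_surjective mS Ideal.Quotient.mk_surjective, ← RingHom.ker_eq_comap_bot,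
      sup_eq_left.mpr hker]
    exact hP₀over.over

variable {B C : Type u} [CommRing B] [IsLocalRing B] [CommRing C] [IsLocalRing C]
  [Algebra B C] [IsLocalHom (algebraMap B C)]

/-- dimension formula for local homomorphisms with going-down. -/
theorem dim_eq_of_hasGoingDown [IsNoetherianRing B] [IsNoetherianRing C] [Algebra.HasGoingDown B C]
    [IsLocalRing (C ⧸ (maximalIdeal B).map (algebraMap B C))] :
    ringKrullDim C = ringKrullDim B +
      ringKrullDim (C ⧸ (maximalIdeal B).map (algebraMap B C)) := by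
  haveI : (maximalIdeal C).LiesOver (maximalIdeal B) :=
    ⟨(IsLocalRing.maximalIdeal_comap (algebraMap B C)).symm⟩
  have h1 := Ideal.height_eq_height_add_of_liesOver_of_hasGoingDown (maximalIdeal B) (maximalIdeal C)
  rw [← Groth.Agent.Lead.DimF.maximalIdeal_quotient] at h1
  rw [← IsLocalRing.maximalIdeal_height_eq_ringKrullDim (R := C),
    ← IsLocalRing.maximalIdeal_height_eq_ringKrullDim (R := B),
    ← IsLocalRing.maximalIdeal_height_eq_ringKrullDim
      (R := C ⧸ (maximalIdeal B).map (algebraMap B C)), ← WithBot.coe_add]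
  exact congrArg _ h1


omit [IsLocalHom (algebraMap B C)] in
theorem isLocalRing_quotient (J : Ideal C) (hJ : J ≤ maximalIdeal C) : IsLocalRing (C ⧸ J) := by
  haveI : Nontrivial (C ⧸ J) := Ideal.Quotient.nontrivial_iff.mpr (fun h => by
    rw [h] at hJ
    exact (maximalIdeal.isMaximal C).ne_top (top_le_iff.mp hJ))
  exact IsLocalRing.of_surjective' (Ideal.Quotient.mk J) Ideal.Quotient.mk_surjective

theorem tri_dim {A : Type u} [CommRing A] [IsLocalRing A] [Algebra A B] [Algebra A C]
    [IsScalarTower A B C] [IsLocalHom (algebraMap A B)] [Module.Flat B C]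
    (hB : IsNoetherianRing (B ⧸ (maximalIdeal A).map (algebraMap A B)))
    (hC : IsNoetherianRing
      (C ⧸ ((maximalIdeal A).map (algebraMap A B)).map (algebraMap B C))) :
    ringKrullDim (C ⧸ ((maximalIdeal A).map (algebraMap A B)).map (algebraMap B C)) =
      ringKrullDim (B ⧸ (maximalIdeal A).map (algebraMap A B)) +
        ringKrullDim (C ⧸ (maximalIdeal B).map (algebraMap B C)) := by
  set I : Ideal B := (maximalIdeal A).map (algebraMap A B) with hI
  have hIle : I ≤ maximalIdeal B := by
    rw [hI, Ideal.map_le_iff_le_comap, IsLocalRing.maximalIdeal_comap]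
  set J : Ideal C := (maximalIdeal B).map (algebraMap B C) with hJ
  have hJle : J ≤ maximalIdeal C := by
    rw [hJ, Ideal.map_le_iff_le_comap, IsLocalRing.maximalIdeal_comap]
  have hIJ : I.map (algebraMap B C) ≤ J := Ideal.map_mono hIle
  haveI : IsLocalRing (B ⧸ I) := isLocalRing_quotient (C := B) I hIle
  haveI : IsLocalRing (C ⧸ I.map (algebraMap B C)) :=
    isLocalRing_quotient _ (hIJ.trans hJle)
  haveI : IsLocalRing (C ⧸ J) := isLocalRing_quotient J hJle
  haveI : IsLocalHom (Ideal.Quotient.mk (I.map (algebraMap B C))) :=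
    IsLocalHom.of_surjective _ Ideal.Quotient.mk_surjective
  have hcomm : (algebraMap (B ⧸ I) (C ⧸ I.map (algebraMap B C))).comp (Ideal.Quotient.mk I) =
      (Ideal.Quotient.mk (I.map (algebraMap B C))).comp (algebraMap B C) := by
    ext r; rfl
  haveI : IsLocalHom (algebraMap (B ⧸ I) (C ⧸ I.map (algebraMap B C))) := by
    constructor
    intro b hb
    obtain ⟨b, rfl⟩ := Ideal.Quotient.mk_surjective b
    have h1 : IsUnit ((Ideal.Quotient.mk (I.map (algebraMap B C))) (algebraMap B C b)) := by
      have := congrArg (fun φ => φ b) hcomm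
      simp only [RingHom.comp_apply] at this
      rw [← this]
      exact hb
    have h2 : IsUnit (algebraMap B C b) := IsUnit.of_map _ _ h1
    have h3 : IsUnit b := IsUnit.of_map _ _ h2
    exact h3.map _
  haveI : Algebra.HasGoingDown (B ⧸ I) (C ⧸ I.map (algebraMap B C)) :=
    hasGoingDown_quotient B C I
  haveI : IsLocalRing ((C ⧸ I.map (algebraMap B C)) ⧸
      (maximalIdeal (B ⧸ I)).map (algebraMap (B ⧸ I) (C ⧸ I.map (algebraMap B C)))) := by
    refine isLocalRing_quotient (C := C ⧸ I.map (algebraMap B C)) _ ?_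
    rw [Ideal.map_le_iff_le_comap, IsLocalRing.maximalIdeal_comap]
  have h1 := dim_eq_of_hasGoingDown (B := B ⧸ I) (C := C ⧸ I.map (algebraMap B C))
  rw [h1]
  congr 1
  have hmax : (maximalIdeal (B ⧸ I)).map (algebraMap (B ⧸ I) (C ⧸ I.map (algebraMap B C))) =
      J.map (Ideal.Quotient.mk (I.map (algebraMap B C))) := by
    rw [Groth.Agent.Lead.DimF.maximalIdeal_quotient I,
      Ideal.map_map (Ideal.Quotient.mk I) (algebraMap (B ⧸ I) (C ⧸ I.map (algebraMap B C))),
      hcomm, ← Ideal.map_map (algebraMap B C) (Ideal.Quotient.mk (I.map (algebraMap B C)))]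
  have hsup : I.map (algebraMap B C) ⊔ J = J := sup_eq_right.mpr hIJ
  exact ringKrullDim_eq_of_ringEquiv
    ((Ideal.quotEquivOfEq hmax).trans
      ((DoubleQuot.quotQuotEquivQuotSup (I.map (algebraMap B C)) J).trans
        (Ideal.quotEquivOfEq hsup)))

end Groth.Agent.Helper16.TriDim
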