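import Mathlib

set_option autoImplicit false
universe u
open TensorProduct

namespace Groth.Agent.Helper16.AlgOver

theorem exists_prime_over_isAlgebraic {A B : Type u} [CommRing A] [CommRing B] [Algebra A B]
    [Algebra.FiniteType A B] (p : Ideal A) [p.IsPrime] (q1 : Ideal B) [q1.IsPrime]
    [q1.LiesOver p] :
    ∃ (q : Ideal B) (_ : q.IsPrime) (_ : q.LiesOver p), Algebra.IsAlgebraic (A ⧸ p) (B ⧸ q) := by
  classical
  have hne : Nonempty (PrimeSpectrum (p.Fiber B)) :=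
    ⟨PrimeSpectrum.preimageEquivFiber A B ⟨p, inferInstance⟩
      ⟨⟨q1, inferInstance⟩, PrimeSpectrum.ext (Ideal.over_def q1 p).symm⟩⟩
  haveI : Nontrivial (p.Fiber B) := PrimeSpectrum.nonempty_iff_nontrivial.mp hne
  obtain ⟨𝔪, h𝔪⟩ := Ideal.exists_maximal (p.Fiber B)
  haveI := h𝔪
  set q : Ideal B := 𝔪.comap (Algebra.TensorProduct.includeRight : B →ₐ[A] p.Fiber B) with hq
  haveI hqp : q.IsPrime := Ideal.IsPrime.comap _
  haveI hql : q.LiesOver p := by
    have h := ((PrimeSpectrum.preimageEquivFiber A B ⟨p, inferInstance⟩).symm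
      ⟨𝔪, inferInstance⟩).2
    constructor
    have h' := congrArg PrimeSpectrum.asIdeal h
    exact h'.symm
  refine ⟨q, hqp, hql, ?_⟩
  letI : Field (p.Fiber B ⧸ 𝔪) := Ideal.Quotient.field 𝔪
  haveI : Algebra.FiniteType p.ResidueField (p.Fiber B) := inferInstance
  haveI : Algebra.FiniteType p.ResidueField (p.Fiber B ⧸ 𝔪) :=
    Algebra.FiniteType.of_surjective (Ideal.Quotient.mkₐ p.ResidueField 𝔪)
      (Ideal.Quotient.mkₐ_surjective p.ResidueField 𝔪)
  haveI : Module.Finite p.ResidueField (p.Fiber B ⧸ 𝔪) :=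
    finite_of_finite_type_of_isJacobsonRing p.ResidueField (p.Fiber B ⧸ 𝔪)
  haveI : Algebra.IsAlgebraic p.ResidueField (p.Fiber B ⧸ 𝔪) :=
    Algebra.IsAlgebraic.of_finite p.ResidueField (p.Fiber B ⧸ 𝔪)
  letI alg : Algebra (A ⧸ p) (p.Fiber B ⧸ 𝔪) := Ideal.Quotient.algebra (A ⧸ p)
  haveI : IsScalarTower (A ⧸ p) p.ResidueField (p.Fiber B ⧸ 𝔪) :=
    Ideal.Quotient.isScalarTower _ _ _
  haveI : Algebra.IsAlgebraic (A ⧸ p) p.ResidueField :=
    IsLocalization.isAlgebraic p.ResidueField (nonZeroDivisors (A ⧸ p))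
  haveI : Algebra.IsAlgebraic (A ⧸ p) (p.Fiber B ⧸ 𝔪) :=
    Algebra.IsAlgebraic.trans (A ⧸ p) p.ResidueField (p.Fiber B ⧸ 𝔪)
  let ψ : B →+* p.Fiber B ⧸ 𝔪 := (Ideal.Quotient.mk 𝔪).comp
    (Algebra.TensorProduct.includeRight : B →ₐ[A] p.Fiber B).toRingHom
  have hψ : ∀ b ∈ q, ψ b = 0 := fun b hb => Ideal.Quotient.eq_zero_iff_mem.mpr hb
  let g : B ⧸ q →+* p.Fiber B ⧸ 𝔪 := Ideal.Quotient.lift q ψ hψ
  have hg : Function.Injective g := by
    rw [injective_iff_map_eq_zero]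
    intro x hx
    obtain ⟨b, rfl⟩ := Ideal.Quotient.mk_surjective x
    rw [Ideal.Quotient.lift_mk] at hx
    exact Ideal.Quotient.eq_zero_iff_mem.mpr
      (show b ∈ q from (Ideal.Quotient.eq_zero_iff_mem (I := 𝔪)).mp hx)
  let gA : B ⧸ q →ₐ[A ⧸ p] p.Fiber B ⧸ 𝔪 :=
    { g with
      commutes' := by
        intro d
        obtain ⟨a, rfl⟩ := Ideal.Quotient.mk_surjective d
        change g (algebraMap (A ⧸ p) (B ⧸ q) (Ideal.Quotient.mk p a)) =
          algebraMap (A ⧸ p) (p.Fiber B ⧸ 𝔪) (Ideal.Quotient.mk p a)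
        rw [IsScalarTower.algebraMap_apply (A ⧸ p) p.ResidueField (p.Fiber B ⧸ 𝔪),
          Ideal.Quotient.algebraMap_mk_of_liesOver, Ideal.Quotient.lift_mk]
        have h1 : algebraMap (A ⧸ p) p.ResidueField (Ideal.Quotient.mk p a) =
            algebraMap A p.ResidueField a :=
          (IsScalarTower.algebraMap_apply A (A ⧸ p) p.ResidueField a).symm
        rw [h1]
        change Ideal.Quotient.mk 𝔪 ((Algebra.TensorProduct.includeRight : B →ₐ[A] p.Fiber B)
          (algebraMap A B a)) = Ideal.Quotient.mk 𝔪 (algebraMap p.ResidueField (p.Fiber B)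
            (algebraMap A p.ResidueField a))
        rw [AlgHom.commutes, ← IsScalarTower.algebraMap_apply A p.ResidueField (p.Fiber B)] }
  exact Algebra.IsAlgebraic.of_injective gA hg

end Groth.Agent.Helper16.AlgOver
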