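import Mathlib

set_option autoImplicit false
open TensorProduct

namespace Groth.Agent.Helper16.FlatGD

/-- for a flat `A`-module `M`, elements outside a prime `p` are regular on `M ⧸ pM`. -/
theorem mem_smul_top_of_smul_mem {A M : Type*} [CommRing A] [AddCommGroup M] [Module A M]
    [Module.Flat A M] (p : Ideal A) [p.IsPrime] (s : A) (hs : s ∉ p) (m : M)
    (h : s • m ∈ (p • ⊤ : Submodule A M)) : m ∈ (p • ⊤ : Submodule A M) := by
  have h1 : IsSMulRegular (A ⧸ p) s := by
    intro a b hab
    have h2 : (Ideal.Quotient.mk p s) * a = (Ideal.Quotient.mk p s) * b := by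
      simpa [Algebra.smul_def] using hab
    have h3 : Ideal.Quotient.mk p s ≠ 0 := by
      rwa [Ne, Ideal.Quotient.eq_zero_iff_mem]
    exact mul_left_cancel₀ h3 h2
  have h4 : IsSMulRegular (M ⊗[A] (A ⧸ p)) s := IsSMulRegular.lTensor M h1
  let e := TensorProduct.tensorQuotEquivQuotSMul M p
  have h5 : IsSMulRegular (M ⧸ (p • ⊤ : Submodule A M)) s := by
    intro a b hab
    apply e.symm.injective
    apply h4
    simp only [← map_smul]
    exact congrArg e.symm hab
  have h6 : s • (Submodule.Quotient.mk m : M ⧸ (p • ⊤ : Submodule A M)) = s • 0 := by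
    rw [smul_zero, ← Submodule.Quotient.mk_smul, Submodule.Quotient.mk_eq_zero]
    exact h
  have h7 := h5 h6
  rwa [Submodule.Quotient.mk_eq_zero] at h7

/-- **Going down for flat modules**: `A → B` local homomorphism of local rings, `M` a nonzero finite
`B`-module which is flat over `A`; every prime `p` of `A` is the contraction of a prime of `B` in the
support of `M`. -/
theorem exists_prime_support_comap {A B M : Type*} [CommRing A] [CommRing B] [IsLocalRing A]
    [IsLocalRing B] [Algebra A B] [IsLocalHom (algebraMap A B)] [AddCommGroup M] [Module A M]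
    [Module B M] [IsScalarTower A B M] [Module.Finite B M] [Nontrivial M] [Module.Flat A M]
    (p : Ideal A) [p.IsPrime] :
    ∃ q : PrimeSpectrum B, q.asIdeal.comap (algebraMap A B) = p ∧ q ∈ Module.support B M := by
  set P : Submodule B M := (p.map (algebraMap A B)) • ⊤ with hP
  have hPr : P.restrictScalars A = (p • ⊤ : Submodule A M) := by
    rw [hP, Ideal.smul_restrictScalars]
    rfl
  -- Nakayama: P ≠ ⊤
  have hPtop : P ≠ ⊤ := by
    intro h
    have hle : p.map (algebraMap A B) ≤ Ideal.jacobson ⊥ := by
      rw [IsLocalRing.jacobson_eq_maximalIdeal ⊥ bot_ne_top]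
      rw [Ideal.map_le_iff_le_comap]
      intro a ha
      have : a ∈ IsLocalRing.maximalIdeal A := IsLocalRing.le_maximalIdeal (Ideal.IsPrime.ne_top ‹_›) ha
      rw [Ideal.mem_comap]
      rw [IsLocalRing.mem_maximalIdeal] at this ⊢
      exact fun hu => this (isUnit_of_map_unit (algebraMap A B) a hu)
    have h2 : (⊤ : Submodule B M) = ⊥ :=
      Submodule.eq_bot_of_le_smul_of_le_jacobson_bot (p.map (algebraMap A B)) ⊤
        Module.Finite.fg_top (by rw [← hP, h]) hle
    exact top_ne_bot h2
  set I : Ideal B := Module.annihilator B (M ⧸ P) with hI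
  have hdisj : Disjoint (I : Set B) ((p.primeCompl.map (algebraMap A B) : Submonoid B) : Set B) := by
    rw [Set.disjoint_left]
    rintro _ hb ⟨s, hs, rfl⟩
    apply hPtop
    rw [eq_top_iff]
    intro m _
    have h1 : algebraMap A B s • (Submodule.Quotient.mk m : M ⧸ P) = 0 :=
      Module.mem_annihilator.mp hb _
    rw [← Submodule.Quotient.mk_smul, Submodule.Quotient.mk_eq_zero, algebraMap_smul] at h1
    have h2 : s • m ∈ (p • ⊤ : Submodule A M) := by
      rw [← hPr]
      exact h1
    have h3 := mem_smul_top_of_smul_mem p s hs m h2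
    rw [← hPr] at h3
    exact h3
  obtain ⟨q, hq, hIq, hqd⟩ := Ideal.exists_le_prime_disjoint I _ hdisj
  refine ⟨⟨q, hq⟩, ?_, ?_⟩
  · apply le_antisymm
    · intro a ha
      by_contra hap
      rw [Set.disjoint_left] at hqd
      exact hqd ha ⟨a, hap, rfl⟩
    · intro a ha
      rw [Ideal.mem_comap]
      apply hIq
      rw [hI, Module.mem_annihilator]
      intro n
      obtain ⟨m, rfl⟩ := Submodule.Quotient.mk_surjective P n
      rw [← Submodule.Quotient.mk_smul, Submodule.Quotient.mk_eq_zero, hP]
      exact Submodule.smul_mem_smul (Ideal.mem_map_of_mem _ ha) Submodule.mem_top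
  · rw [Module.mem_support_iff_of_finite]
    refine le_trans ?_ hIq
    intro b hb
    rw [hI, Module.mem_annihilator]
    intro n
    obtain ⟨m, rfl⟩ := Submodule.Quotient.mk_surjective P n
    rw [← Submodule.Quotient.mk_smul, Module.mem_annihilator.mp hb m, Submodule.Quotient.mk_zero]

end Groth.Agent.Helper16.FlatGD
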