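import Mathlib
import Groth.Prelude
import Groth.Agent.Lib.Helper3.AssFlat
import Groth.Agent.Lib.Helper13.TensorStalk
import Groth.Agent.Lib.Helper13.PullbackStalk
import Groth.Agent.Lib.Helper16.Alg.FlatGD

set_option autoImplicit false
set_option linter.style.haveILetI false
universe u
open CategoryTheory CategoryTheory.Limits AlgebraicGeometry Opposite TopologicalSpace TensorProduct

namespace Groth.Agent.Helper16.AssTen

/-- local algebra: for a local homomorphism `A → B` of local rings with `A` Noetherian, `N` a
`B`-module flat over `A` and `M` an `A`-module, the maximal ideal of `B` is associated to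
`N ⊗_A M` iff the maximal ideal of `A` is associated to `M` and the maximal ideal of `B` is
associated to `N / m_A N`. -/
theorem isAssociatedPrime_maximalIdeal_tensor_iff {A B : Type u} [CommRing A] [CommRing B]
    [IsLocalRing A] [IsLocalRing B] [IsNoetherianRing A] [Algebra A B]
    [IsLocalHom (algebraMap A B)] (N : Type u) [AddCommGroup N] [Module B N] [Module A N]
    [IsScalarTower A B N] [Module.Flat A N] (M : Type u) [AddCommGroup M] [Module A M] :
    IsAssociatedPrime (IsLocalRing.maximalIdeal B) (N ⊗[A] M) ↔
      IsAssociatedPrime (IsLocalRing.maximalIdeal A) M ∧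
        IsAssociatedPrime (IsLocalRing.maximalIdeal B)
          (N ⧸ (IsLocalRing.maximalIdeal A).map (algebraMap A B) • (⊤ : Submodule B N)) := by
  have key := Groth.Agent.Helper3.AssFlat.s2069 (R := A) (S := B) (N := N) (M := M)
  have hmem : IsLocalRing.maximalIdeal B ∈ associatedPrimes B (N ⊗[A] M) ↔
      ∃ p ∈ associatedPrimes A M, IsLocalRing.maximalIdeal B ∈
        associatedPrimes B (N ⧸ p.map (algebraMap A B) • (⊤ : Submodule B N)) := by
    rw [key]
    simp only [Set.mem_iUnion, exists_prop]
  change IsLocalRing.maximalIdeal B ∈ associatedPrimes B (N ⊗[A] M) ↔ _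
  rw [hmem]
  constructor
  · rintro ⟨p, hp, hq⟩
    haveI : p.IsPrime := hp.isPrime
    -- p = m_A
    have hpm : p = IsLocalRing.maximalIdeal A := by
      apply le_antisymm (IsLocalRing.le_maximalIdeal (Ideal.IsPrime.ne_top ‹_›))
      intro a ha
      by_contra hap
      obtain ⟨-, t, ht⟩ := hq
      obtain ⟨t, rfl⟩ := Submodule.Quotient.mk_surjective _ t
      have hb : algebraMap A B a ∈ IsLocalRing.maximalIdeal B := by
        rw [IsLocalRing.mem_maximalIdeal] at ha ⊢
        exact fun hu => ha (isUnit_of_map_unit (algebraMap A B) a hu)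
      rw [ht, Ideal.mem_radical_iff] at hb
      obtain ⟨n, hn⟩ := hb
      rw [Submodule.mem_colon_singleton, Submodule.mem_bot, ← map_pow,
        ← Submodule.Quotient.mk_smul, Submodule.Quotient.mk_eq_zero, algebraMap_smul] at hn
      have hPr : (p.map (algebraMap A B) • (⊤ : Submodule B N)).restrictScalars A =
          (p • ⊤ : Submodule A N) := by
        rw [Ideal.smul_restrictScalars]
        rfl
      have h2 : a ^ n • t ∈ (p • ⊤ : Submodule A N) := by
        rw [← hPr]
        exact hn
      have h3 := Groth.Agent.Helper16.FlatGD.mem_smul_top_of_smul_mem p (a ^ n)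
        (fun h => hap (Ideal.IsPrime.mem_of_pow_mem ‹_› n h)) t h2
      rw [← hPr] at h3
      have h4 : (Submodule.Quotient.mk t :
          N ⧸ p.map (algebraMap A B) • (⊤ : Submodule B N)) = 0 := by
        rw [Submodule.Quotient.mk_eq_zero]
        exact h3
      have h5 : IsLocalRing.maximalIdeal B = ⊤ := by
        rw [ht, h4, Ideal.radical_eq_top, Ideal.eq_top_iff_one, Submodule.mem_colon_singleton]
        simp
      exact (IsLocalRing.maximalIdeal.isMaximal B).ne_top h5
    subst hpm
    exact ⟨hp, hq⟩
  · rintro ⟨hp, hq⟩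
    exact ⟨_, hp, hq⟩

end Groth.Agent.Helper16.AssTen
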