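import Mathlib
import Groth.Agent.Lib.Helper16.Alg.FibModAlg2
import Groth.Agent.Lib.Helper9.Depth

/-!
# Associatedness of the maximal ideal under a flat local base change with CM closed fibre
(helper16)
-/

set_option autoImplicit false
set_option linter.style.haveILetI false
set_option linter.unusedSectionVars false
universe u

open IsLocalRing TensorProduct LocCoh

namespace Groth.Agent.Helper16.AssTensor

open Groth.Agent.Helper16.FibModAlg

/-- transport of associatedness backwards along an injective linear map, for an element in the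
range. -/
theorem isAssociatedPrime_of_injective_of_mem_range {S : Type*} [CommRing S] {N N' : Type*}
    [AddCommGroup N] [AddCommGroup N'] [Module S N] [Module S N'] (φ : N →ₗ[S] N')
    (hφ : Function.Injective φ) {I : Ideal S} (hI : I.IsPrime) (t : N')
    (ht : I = (Submodule.colon (⊥ : Submodule S N') {t}).radical) (ht' : t ∈ LinearMap.range φ) :
    IsAssociatedPrime I N := by
  obtain ⟨t₀, rfl⟩ := ht'
  refine ⟨hI, t₀, ?_⟩
  rw [ht]
  ext r
  simp_rw [Ideal.mem_radical_iff, Submodule.mem_colon_singleton, Submodule.mem_bot, ← map_smul,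
    map_eq_zero_iff φ hφ]

/-- **Associatedness of the maximal ideal after a flat local base change with Cohen–Macaulay
closed fibre**, for arbitrary modules. -/
theorem isAssociatedPrime_maximalIdeal_tensor_iff {R S : Type u} [CommRing R] [CommRing S]
    [IsLocalRing R] [IsLocalRing S] [IsNoetherianRing R] [IsNoetherianRing S] [Algebra R S]
    [IsLocalHom (algebraMap R S)] [Module.Flat R S]
    (I : Ideal S) (hI : I = (maximalIdeal R).map (algebraMap R S)) [IsLocalRing (S ⧸ I)]
    (hCM : LocCoh.IsCohenMacaulayLocalRing (S ⧸ I))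
    (M : Type u) [AddCommGroup M] [Module R M] :
    IsAssociatedPrime (maximalIdeal S) (S ⊗[R] M) ↔
      IsAssociatedPrime (maximalIdeal R) M ∧ ringKrullDim S = ringKrullDim R := by
  obtain ⟨d, hd1, -, hd3⟩ := tensor_invariants I hI hCM
  -- `d = 0` iff the dimensions agree
  have hdim : ringKrullDim S = ringKrullDim R ↔ d = 0 := by
    obtain ⟨n, hn⟩ : ∃ n : ℕ, ringKrullDim R = (n : WithBot ℕ∞) := by
      have h1 : ringKrullDim R ≠ ⊤ := ringKrullDim_ne_top
      have h2 : ringKrullDim R ≠ ⊥ := ringKrullDim_ne_bot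
      obtain ⟨m, hm⟩ := WithBot.ne_bot_iff_exists.mp h2
      have h3 : m ≠ ⊤ := by
        rintro rfl
        exact h1 hm.symm
      obtain ⟨n, hn⟩ := ENat.ne_top_iff_exists.mp h3
      exact ⟨n, by rw [← hm, ← hn]; rfl⟩
    rw [hd1, hn]
    constructor
    · intro h
      have h' : ((n + d : ℕ) : WithBot ℕ∞) = ((n : ℕ) : WithBot ℕ∞) := by
        push_cast
        exact h
      have : n + d = n := by exact_mod_cast h'
      omega
    · rintro rfl
      simp
  rw [hdim]
  constructor
  · rintro ⟨hprime, t, ht⟩
    obtain ⟨M₀, hfin, hsub⟩ := TensorProduct.exists_finite_submodule_right_of_setFinite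
      ({t} : Set (S ⊗[R] M)) (Set.finite_singleton t)
    have htmem : t ∈ LinearMap.range (M₀.subtype.lTensor S) := hsub (Set.mem_singleton t)
    have hinj : Function.Injective (M₀.subtype.lTensor S) :=
      Module.Flat.lTensor_preserves_injective_linearMap _ M₀.injective_subtype
    -- upgrade to an `S`-linear map
    let φ : S ⊗[R] M₀ →ₗ[S] S ⊗[R] M := (M₀.subtype.baseChange S)
    have hφ : Function.Injective φ := hinj
    have hass : IsAssociatedPrime (maximalIdeal S) (S ⊗[R] M₀) :=
      isAssociatedPrime_of_injective_of_mem_range φ hφ hprime t ht htmem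
    haveI := hfin
    obtain ⟨-, hdep⟩ := hd3 M₀
    have h0 : LocCoh.depth S (S ⊗[R] M₀) = 0 :=
      (Groth.Agent.Helper9.Depth.depth_eq_zero_iff_mem_associatedPrimes (A := S) (S ⊗[R] M₀)).mpr
        hass
    rw [hdep] at h0
    have hd0 : (d : ℕ∞) = 0 := by
      have := le_of_le_of_eq (le_add_self : (d : ℕ∞) ≤ LocCoh.depth R M₀ + (d : ℕ∞)) h0
      exact le_antisymm this zero_le
    have hR0 : LocCoh.depth R M₀ = 0 := by
      have := le_of_le_of_eq (le_self_add : LocCoh.depth R M₀ ≤ LocCoh.depth R M₀ + (d : ℕ∞)) h0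
      exact le_antisymm this zero_le
    have hassR : IsAssociatedPrime (maximalIdeal R) M₀ :=
      (Groth.Agent.Helper9.Depth.depth_eq_zero_iff_mem_associatedPrimes (A := R) M₀).mp hR0
    exact ⟨hassR.map_of_injective M₀.subtype M₀.injective_subtype, by exact_mod_cast hd0⟩
  · rintro ⟨hass, rfl⟩
    obtain ⟨-, ψ, hψ⟩ := (isAssociatedPrime_iff_exists_injective_linearMap _ _).mp hass
    -- the residue field as a module
    have hk : IsAssociatedPrime (maximalIdeal R) (R ⧸ maximalIdeal R) :=
      (isAssociatedPrime_iff_exists_injective_linearMap _ _).mpr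
        ⟨inferInstance, LinearMap.id, Function.injective_id⟩
    have h0 : LocCoh.depth R (R ⧸ maximalIdeal R) = 0 :=
      (Groth.Agent.Helper9.Depth.depth_eq_zero_iff_mem_associatedPrimes (A := R) _).mpr hk
    obtain ⟨-, hdep⟩ := hd3 (R ⧸ maximalIdeal R)
    rw [h0] at hdep
    have hS0 : LocCoh.depth S (S ⊗[R] (R ⧸ maximalIdeal R)) = 0 := by
      rw [hdep]
      simp
    have hassS : IsAssociatedPrime (maximalIdeal S) (S ⊗[R] (R ⧸ maximalIdeal R)) :=
      (Groth.Agent.Helper9.Depth.depth_eq_zero_iff_mem_associatedPrimes (A := S) _).mp hS0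
    have hinj : Function.Injective (ψ.baseChange S) :=
      Module.Flat.lTensor_preserves_injective_linearMap ψ hψ
    exact hassS.map_of_injective (ψ.baseChange S) hinj

end Groth.Agent.Helper16.AssTensor
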