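import Mathlib

/-!
# Chains of "good" coordinate vectors (helper16)

In a Noetherian ring `B` with a prime ideal `𝔪`, a vector `w : ι → B` is *good* if `𝔪` is a minimal
prime over the ideal generated by the `w i - c i` for some constants `c i`.  Any two good vectors
are connected by a chain of good vectors, consecutive members of which differ in at most one
coordinate.
-/

set_option autoImplicit false
set_option linter.style.haveILetI false
universe u

namespace Groth.Agent.Helper16.Chain

open Ideal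

section Fin

/-- a reflexive-transitive chain as a `Fin`-indexed family -/
theorem exists_fin_chain {α : Type*} {r : α → α → Prop} {a b : α}
    (h : Relation.ReflTransGen r a b) :
    ∃ (m : ℕ) (w : Fin (m + 1) → α), w 0 = a ∧ w (Fin.last m) = b ∧
      ∀ j : Fin m, r (w j.castSucc) (w j.succ) := by
  induction h with
  | refl => exact ⟨0, fun _ => a, rfl, rfl, fun j => j.elim0⟩
  | @tail b c _ hbc ih =>
    obtain ⟨m, w, h0, hl, hs⟩ := ih
    refine ⟨m + 1, Fin.snoc (α := fun _ => α) w c, ?_, ?_, ?_⟩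
    · rw [← Fin.castSucc_zero, Fin.snoc_castSucc]
      exact h0
    · exact Fin.snoc_last (α := fun _ => α) c w
    · intro j
      induction j using Fin.lastCases with
      | last =>
        rw [Fin.snoc_castSucc, Fin.succ_last, Fin.snoc_last, hl]
        exact hbc
      | cast j' =>
        rw [Fin.snoc_castSucc, ← Fin.castSucc_succ, Fin.snoc_castSucc]
        exact hs j'

end Fin

section Good

variable (R : Type u) {B : Type u} [CommRing R] [CommRing B] [Algebra R B] (𝔪 : Ideal B)
  {ι : Type u}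

/-- a vector is good if `𝔪` is minimal over the ideal generated by `w i - c i` for suitable
constants `c i`. -/
def Good (w : ι → B) : Prop :=
  ∃ c : ι → R, 𝔪 ∈ (Ideal.span (Set.range fun i => w i - algebraMap R B (c i))).minimalPrimes

/-- two vectors differing in at most one coordinate -/
def Step (w w' : ι → B) : Prop := ∃ i, ∀ i', i' ≠ i → w i' = w' i'

variable {R}

theorem span_update [DecidableEq ι] (w : ι → B) (c : ι → R) (i : ι) (e : B) (r : R) :
    Ideal.span (Set.range fun j =>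
        Function.update w i e j - algebraMap R B (Function.update c i r j)) =
      Ideal.span ((fun j => w j - algebraMap R B (c j)) '' {j | j ≠ i}) ⊔
        Ideal.span {e - algebraMap R B r} := by
  apply le_antisymm
  · rw [Ideal.span_le]
    rintro _ ⟨j, rfl⟩
    by_cases hj : j = i
    · subst hj
      simp only [Function.update_self]
      exact Ideal.mem_sup_right (Ideal.subset_span rfl)
    · simp only [Function.update_of_ne hj]
      exact Ideal.mem_sup_left (Ideal.subset_span ⟨j, hj, rfl⟩)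
  · rw [sup_le_iff, Ideal.span_le, Ideal.span_le]
    constructor
    · rintro _ ⟨j, hj, rfl⟩
      refine Ideal.subset_span ⟨j, ?_⟩
      simp only [Function.update_of_ne (show j ≠ i from hj)]
    · rintro _ rfl
      refine Ideal.subset_span ⟨i, ?_⟩
      simp only [Function.update_self]

theorem span_eq_sup [DecidableEq ι] (w : ι → B) (c : ι → R) (i : ι) :
    Ideal.span (Set.range fun j => w j - algebraMap R B (c j)) =
      Ideal.span ((fun j => w j - algebraMap R B (c j)) '' {j | j ≠ i}) ⊔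
        Ideal.span {w i - algebraMap R B (c i)} := by
  rw [← span_update w c i (w i) (c i), Function.update_eq_self, Function.update_eq_self]

variable [IsNoetherianRing B] [h𝔪 : 𝔪.IsPrime]

/-- the key exchange step -/
theorem key (I : Ideal B) (t e : B) (h : 𝔪 ∈ (I ⊔ span {t}).minimalPrimes) (he : e ∈ 𝔪)
    (hav : ∀ P ∈ I.minimalPrimes, P ≤ 𝔪 → P ≠ 𝔪 → e ∉ P) :
    𝔪 ∈ (I ⊔ span {e}).minimalPrimes := by
  have hI : I ≤ 𝔪 := le_sup_left.trans h.1.2
  have ht : t ∈ 𝔪 := h.1.2 (Ideal.mem_sup_right (Ideal.mem_span_singleton_self t))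
  refine ⟨⟨h𝔪, sup_le hI ((Ideal.span_singleton_le_iff_mem _).mpr he)⟩, ?_⟩
  rintro Q ⟨hQ, hQle⟩ hQm
  obtain ⟨P, hP, hPQ⟩ := Ideal.exists_minimalPrimes_le (le_sup_left.trans hQle)
  by_cases hPm : P = 𝔪
  · exact hPm ▸ hPQ
  · have heP : e ∉ P := hav P hP (hPQ.trans hQm) hPm
    have heQ : e ∈ Q := hQle (Ideal.mem_sup_right (Ideal.mem_span_singleton_self e))
    haveI := hP.1.1
    have hmin : 𝔪 ∈ (P ⊔ span {t}).minimalPrimes :=
      ⟨⟨h𝔪, sup_le (hPQ.trans hQm) ((Ideal.span_singleton_le_iff_mem _).mpr ht)⟩,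
        fun Q' hQ' hQ'm => h.2 ⟨hQ'.1, (sup_le_sup_right hP.1.2 _).trans hQ'.2⟩ hQ'm⟩
    have hht := Ideal.map_height_le_one_of_mem_minimalPrimes hmin
    by_contra hne
    have hQ' : (Q.map (Ideal.Quotient.mk P)).IsPrime :=
      Ideal.isPrime_map_quotientMk_of_isPrime hPQ
    have hlt : Q.map (Ideal.Quotient.mk P) < 𝔪.map (Ideal.Quotient.mk P) := by
      refine lt_of_le_of_ne (Ideal.map_mono hQm) ?_
      intro heq
      apply hne
      have h1 : 𝔪 ≤ (𝔪.map (Ideal.Quotient.mk P)).comap (Ideal.Quotient.mk P) := Ideal.le_comap_map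
      rw [← heq, Ideal.comap_map_of_surjective _ Ideal.Quotient.mk_surjective,
        ← RingHom.ker_eq_comap_bot, Ideal.mk_ker, sup_eq_left.mpr hPQ] at h1
      exact h1
    haveI h𝔪' : (𝔪.map (Ideal.Quotient.mk P)).IsPrime :=
      Ideal.isPrime_map_quotientMk_of_isPrime (hPQ.trans hQm)
    have h0 : (Q.map (Ideal.Quotient.mk P)).height = 0 := by
      have := Ideal.height_le_iff.mp hht _ hQ' hlt
      exact Order.lt_one_iff.mp this
    rw [Ideal.height_eq_zero_iff] at h0
    have hbot : Q.map (Ideal.Quotient.mk P) ≤ ⊥ := h0.2 ⟨Ideal.isPrime_bot, bot_le⟩ bot_le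
    have : Ideal.Quotient.mk P e ∈ (⊥ : Ideal (B ⧸ P)) := hbot (Ideal.mem_map_of_mem _ heQ)
    rw [Ideal.mem_bot, Ideal.Quotient.eq_zero_iff_mem] at this
    exact heP this

theorem exchange [DecidableEq ι] {a b : ι → B} (ha : Good R 𝔪 a) (hb : Good R 𝔪 b) (i : ι) :
    ∃ e : B, Good R 𝔪 (Function.update a i e) ∧ Good R 𝔪 (Function.update b i e) := by
  obtain ⟨ca, hca⟩ := ha
  obtain ⟨cb, hcb⟩ := hb
  rw [span_eq_sup a ca i] at hca
  rw [span_eq_sup b cb i] at hcb
  set Ia := Ideal.span ((fun j => a j - algebraMap R B (ca j)) '' {j | j ≠ i}) with hIa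
  set Ib := Ideal.span ((fun j => b j - algebraMap R B (cb j)) '' {j | j ≠ i}) with hIb
  -- prime avoidance
  have hfin : (Ia.minimalPrimes ∪ Ib.minimalPrimes).Finite :=
    (Ideal.finite_minimalPrimes_of_isNoetherianRing B Ia).union
      (Ideal.finite_minimalPrimes_of_isNoetherianRing B Ib)
  classical
  let PP : Finset (Ideal B) := hfin.toFinset.filter fun P => P ≤ 𝔪 ∧ P ≠ 𝔪
  have hex : ∃ e ∈ 𝔪, ∀ P ∈ PP, e ∉ P := by
    by_contra hcon
    push Not at hcon
    have hsub : (𝔪 : Set B) ⊆ ⋃ P ∈ (PP : Set (Ideal B)), (P : Set B) := by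
      intro e he
      obtain ⟨P, hP, heP⟩ := hcon e he
      exact Set.mem_biUnion hP heP
    have hprime : ∀ P ∈ PP, P ≠ ⊥ → P ≠ ⊥ → (id P : Ideal B).IsPrime := by
      intro P hP _ _
      have hP' := (Finset.mem_filter.mp hP).1
      rw [Set.Finite.mem_toFinset] at hP'
      rcases hP' with h | h
      · exact h.1.1
      · exact h.1.1
    obtain ⟨P, hP, hle⟩ := (Ideal.subset_union_prime (f := fun P : Ideal B => P) ⊥ ⊥ hprime).mp hsub
    have hP2 := (Finset.mem_filter.mp hP).2
    exact hP2.2 (le_antisymm hP2.1 hle)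
  obtain ⟨e, he, hav⟩ := hex
  have hava : ∀ P ∈ Ia.minimalPrimes, P ≤ 𝔪 → P ≠ 𝔪 → e ∉ P := fun P hP h1 h2 =>
    hav P (Finset.mem_filter.mpr ⟨hfin.mem_toFinset.mpr (Or.inl hP), h1, h2⟩)
  have havb : ∀ P ∈ Ib.minimalPrimes, P ≤ 𝔪 → P ≠ 𝔪 → e ∉ P := fun P hP h1 h2 =>
    hav P (Finset.mem_filter.mpr ⟨hfin.mem_toFinset.mpr (Or.inr hP), h1, h2⟩)
  refine ⟨e, ⟨Function.update ca i 0, ?_⟩, ⟨Function.update cb i 0, ?_⟩⟩
  · rw [span_update, map_zero, sub_zero]
    exact key 𝔪 Ia _ e hca he hava
  · rw [span_update, map_zero, sub_zero]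
    exact key 𝔪 Ib _ e hcb he havb

variable [Finite ι]

theorem chain_rtg : ∀ (N : ℕ) (x y : {w : ι → B // Good R 𝔪 w}),
    Set.ncard {i | x.1 i ≠ y.1 i} ≤ N →
    Relation.ReflTransGen (fun x y : {w : ι → B // Good R 𝔪 w} => Step x.1 y.1) x y := by
  classical
  intro N
  induction N with
  | zero =>
    intro x y h
    have h0 : {i | x.1 i ≠ y.1 i} = ∅ := (Set.ncard_eq_zero (Set.toFinite _)).mp (Nat.le_zero.mp h)
    have : x = y := by
      apply Subtype.ext
      funext i
      by_contra hne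
      have : i ∈ ({i | x.1 i ≠ y.1 i} : Set ι) := hne
      rw [h0] at this
      exact this
    rw [this]
  | succ N ih =>
    intro x y h
    by_cases hxy : x.1 = y.1
    · rw [Subtype.ext hxy]
    · obtain ⟨i, hi⟩ := Function.ne_iff.mp hxy
      obtain ⟨e, hx', hy'⟩ := exchange 𝔪 x.2 y.2 i
      have hsub : {j | (Function.update x.1 i e) j ≠ (Function.update y.1 i e) j} ⊆
          {j | x.1 j ≠ y.1 j} \ {i} := by
        intro j hj
        have hji : j ≠ i := by
          rintro rfl
          exact hj (by simp)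
        refine ⟨?_, hji⟩
        simpa [Function.update_of_ne hji] using hj
      have hcard : Set.ncard {j | (Function.update x.1 i e) j ≠ (Function.update y.1 i e) j} ≤ N := by
        refine (Set.ncard_le_ncard hsub (Set.toFinite _)).trans ?_
        rw [Set.ncard_sdiff_singleton_of_mem (show i ∈ {j | x.1 j ≠ y.1 j} from hi)]
        omega
      have h1 := ih ⟨_, hx'⟩ ⟨_, hy'⟩ hcard
      refine Relation.ReflTransGen.head ?_ (h1.tail ?_)
      · exact ⟨i, fun i' hi' => (Function.update_of_ne hi' _ _).symm⟩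
      · exact ⟨i, fun i' hi' => Function.update_of_ne hi' _ _⟩

/-- **Chain lemma.** Any two good vectors are joined by a chain of good vectors, consecutive
members differing in at most one coordinate. -/
theorem exists_chain {a b : ι → B} (ha : Good R 𝔪 a) (hb : Good R 𝔪 b) :
    ∃ (m : ℕ) (w : Fin (m + 1) → ι → B), w 0 = a ∧ w (Fin.last m) = b ∧
      (∀ j, Good R 𝔪 (w j)) ∧
      ∀ j : Fin m, ∃ i, ∀ i', i' ≠ i → w j.castSucc i' = w j.succ i' := by
  obtain ⟨m, w, h0, hl, hs⟩ := exists_fin_chain (chain_rtg 𝔪 _ ⟨a, ha⟩ ⟨b, hb⟩ le_rfl)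
  exact ⟨m, fun j => (w j).1, congrArg Subtype.val h0, congrArg Subtype.val hl,
    fun j => (w j).2, hs⟩

end Good

end Groth.Agent.Helper16.Chain
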