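import Mathlib
import Groth.Prelude.Def_CAlg
import Groth.Agent.Lib.Lead.Flat1
import Groth.Agent.Lib.Lead.Miracle

/-!
# Flatness at a prime with zero-dimensional fibre over a regular ring (helper16)
-/

set_option autoImplicit false
set_option linter.style.haveILetI false
universe u

namespace Groth.Agent.Helper16.Chain

open Ideal IsLocalRing

set_option maxHeartbeats 800000 in
set_option synthInstance.maxHeartbeats 200000 in
/-- Let `P` be a regular ring, `B` a Noetherian `P`-algebra, `𝔪` a prime of `B` which is isolated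
in its fibre (minimal over the extension of its contraction `𝔫`), with `B_𝔪` Cohen–Macaulay.
Then `B_𝔪` is flat over `P` iff `dim B_𝔪 = ht 𝔫`. -/
theorem flat_iff_dim {P B : Type u} [CommRing P] [CommRing B] [IsRegularRing P] [Algebra P B]
    (𝔪 : Ideal B) [𝔪.IsPrime] {LX : Type u} [CommRing LX] [Algebra B LX]
    [IsLocalization.AtPrime LX 𝔪] [Algebra P LX] [IsScalarTower P B LX]
    (hCM : LocCoh.IsCohenMacaulayLocalRing LX)
    (hmin : 𝔪 ∈ ((𝔪.comap (algebraMap P B)).map (algebraMap P B)).minimalPrimes) :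
    Module.Flat P LX ↔
      ringKrullDim LX = ((𝔪.comap (algebraMap P B)).height : WithBot ℕ∞) := by
  set 𝔫 := 𝔪.comap (algebraMap P B) with h𝔫
  haveI : 𝔫.IsPrime := Ideal.IsPrime.comap _
  haveI : IsLocalRing LX := IsLocalization.AtPrime.isLocalRing LX 𝔪
  have hunit : ∀ y : 𝔫.primeCompl, IsUnit (algebraMap P LX y) := by
    intro y
    rw [IsScalarTower.algebraMap_apply P B LX]
    exact IsLocalization.map_units LX (⟨algebraMap P B y, y.2⟩ : 𝔪.primeCompl)
  let φ : Localization.AtPrime 𝔫 →+* LX :=
    IsLocalization.lift (M := 𝔫.primeCompl) (g := algebraMap P LX) hunit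
  letI : Algebra (Localization.AtPrime 𝔫) LX := φ.toAlgebra
  haveI : IsScalarTower P (Localization.AtPrime 𝔫) LX :=
    IsScalarTower.of_algebraMap_eq fun p => (IsLocalization.lift_eq hunit p).symm
  have hmapmax : (maximalIdeal (Localization.AtPrime 𝔫)).map
      (algebraMap (Localization.AtPrime 𝔫) LX) =
      (𝔫.map (algebraMap P B)).map (algebraMap B LX) := by
    rw [← IsLocalization.AtPrime.map_eq_maximalIdeal 𝔫 (Localization.AtPrime 𝔫), Ideal.map_map,
      Ideal.map_map, ← IsScalarTower.algebraMap_eq, ← IsScalarTower.algebraMap_eq]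
  have hmin' : maximalIdeal LX ∈ ((maximalIdeal (Localization.AtPrime 𝔫)).map
      (algebraMap (Localization.AtPrime 𝔫) LX)).minimalPrimes := by
    rw [hmapmax, IsLocalization.minimalPrimes_map 𝔪.primeCompl LX]
    show (maximalIdeal LX).under B ∈ (𝔫.map (algebraMap P B)).minimalPrimes
    rw [IsLocalization.AtPrime.under_maximalIdeal LX 𝔪]
    exact hmin
  haveI : IsLocalHom (algebraMap (Localization.AtPrime 𝔫) LX) :=
    ((IsLocalRing.local_hom_TFAE (algebraMap (Localization.AtPrime 𝔫) LX)).out 0 2).mpr hmin'.1.2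
  haveI : IsNoetherianRing LX := hCM.1
  have hA : ringKrullDim (Localization.AtPrime 𝔫) = (𝔫.height : WithBot ℕ∞) :=
    IsLocalization.AtPrime.ringKrullDim_eq_height 𝔫 (Localization.AtPrime 𝔫)
  rw [← Module.flat_iff_of_isLocalization (Localization.AtPrime 𝔫) 𝔫.primeCompl]
  constructor
  · intro hfl
    rw [← hA]
    exact Groth.Agent.Lead.Depth.ringKrullDim_eq_of_flat_of_minimal hmin'
  · intro hdim
    refine Groth.Agent.Lead.Miracle.flat_of_isCohenMacaulayModule (Localization.AtPrime 𝔫) LX LX
      hCM.supportDim_eq_depth ?_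
    have hI : ((maximalIdeal (Localization.AtPrime 𝔫)).map
        (algebraMap (Localization.AtPrime 𝔫) LX)) • (⊤ : Submodule LX LX) =
        (maximalIdeal (Localization.AtPrime 𝔫)).map (algebraMap (Localization.AtPrime 𝔫) LX) :=
      Ideal.mul_top _
    haveI : IsArtinianRing (LX ⧸ (maximalIdeal (Localization.AtPrime 𝔫)).map
        (algebraMap (Localization.AtPrime 𝔫) LX)) :=
      IsLocalRing.quotient_artinian_of_mem_minimalPrimes_of_isLocalRing _ hmin'
    haveI : Nontrivial (LX ⧸ (maximalIdeal (Localization.AtPrime 𝔫)).map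
        (algebraMap (Localization.AtPrime 𝔫) LX)) :=
      Ideal.Quotient.nontrivial_iff.mpr (fun h => (maximalIdeal.isMaximal LX).ne_top
        (top_le_iff.mp (h ▸ hmin'.1.2)))
    have h0 : ringKrullDim (LX ⧸ (maximalIdeal (Localization.AtPrime 𝔫)).map
        (algebraMap (Localization.AtPrime 𝔫) LX)) = 0 :=
      ringKrullDimZero_iff_ringKrullDim_eq_zero.mp inferInstance
    rw [Module.supportDim_self_eq_ringKrullDim, hI, Module.supportDim_quotient_eq_ringKrullDim,
      h0, add_zero, hA, hdim]

end Groth.Agent.Helper16.Chain
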