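import Mathlib
import Groth.Agent.Lib.Helper16.Alg.SliceSeq2

/-!
# Spreading out flatness and quasi-finiteness at a prime (helper16)
-/

set_option autoImplicit false
set_option linter.style.haveILetI false
universe u

namespace Groth.Agent.Helper16.Chain

open Groth.Agent.Helper16.SliceSeq

set_option maxHeartbeats 1600000 in
set_option synthInstance.maxHeartbeats 400000 in
/-- If a finitely presented `P`-algebra `C` is flat and quasi-finite at a prime `Q`, it is flat
and quasi-finite over a principal open neighbourhood of `Q` (and over all smaller principal opens). -/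
theorem nhd_of_flat_qfAt {P C : Type u} [CommRing P] [CommRing C] [Algebra P C]
    [Algebra.FinitePresentation P C] (Q : Ideal C) [Q.IsPrime]
    {LX : Type u} [CommRing LX] [Algebra C LX] [IsLocalization.AtPrime LX Q]
    [Algebra P LX] [IsScalarTower P C LX] [Module.Flat P LX] [Algebra.QuasiFiniteAt P Q] :
    ∃ g : C, g ∉ Q ∧ ∀ g' : C, g ∣ g' → ∀ (Cg : Type u) [CommRing Cg] [Algebra C Cg]
      [IsLocalization.Away g' Cg],
        ((algebraMap C Cg).comp (algebraMap P C)).Flat ∧
        ((algebraMap C Cg).comp (algebraMap P C)).QuasiFinite := by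
  obtain ⟨g₁, hg₁, Hflat⟩ := exists_flat_away (R := P) Q (LX := LX)
  have H : Algebra.ZariskisMainProperty P Q := Algebra.ZariskisMainProperty.of_finiteType Q
  obtain ⟨S', hS', r, hrQ, Hbij⟩ := H.exists_fg_and_exists_notMem_and_awayMap_bijective Q
  haveI : Module.Finite P S' := ⟨(Submodule.fg_top _).mpr hS'⟩
  haveI : Algebra.QuasiFinite P (Localization.Away r) := .trans _ S' _
  haveI hqfr : Algebra.QuasiFinite P (Localization.Away r.1) :=
    Algebra.QuasiFinite.of_surjective_algHom (R := P)
      (S := Localization.Away r) (T := Localization.Away r.1) (Localization.awayMapₐ S'.val r) Hbij.2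
  refine ⟨g₁ * r.1, fun h => (‹Q.IsPrime›.mem_or_mem h).elim hg₁ hrQ, ?_⟩
  rintro g' ⟨d, rfl⟩ Cg _ _ _
  letI aBCg : Algebra P Cg := ((algebraMap C Cg).comp (algebraMap P C)).toAlgebra
  haveI tBCCg : IsScalarTower P C Cg := IsScalarTower.of_algebraMap_eq fun _ => rfl
  haveI : IsLocalization.Away (g₁ * (r.1 * d)) Cg := by
    rw [← mul_assoc]; infer_instance
  refine ⟨Hflat (r.1 * d) Cg, ?_⟩
  change Algebra.QuasiFinite P Cg
  have hunit_g : IsUnit (algebraMap C Cg (g₁ * r.1 * d)) := IsLocalization.Away.algebraMap_isUnit _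
  have hunit_r : IsUnit (algebraMap C Cg r.1) := by
    rw [map_mul, map_mul] at hunit_g
    exact isUnit_of_mul_isUnit_right (isUnit_of_mul_isUnit_left hunit_g)
  let f : Localization.Away r.1 →ₐ[P] Cg :=
    IsLocalization.liftAlgHom (M := Submonoid.powers r.1)
      (f := IsScalarTower.toAlgHom P C Cg) (by
        rintro ⟨_, m, rfl⟩
        change IsUnit (algebraMap C Cg (r.1 ^ m))
        rw [map_pow]
        exact hunit_r.pow m)
  have hf : ∀ b : C, f (algebraMap C (Localization.Away r.1) b) = algebraMap C Cg b := by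
    intro b
    simp [f]
  refine Algebra.QuasiFinite.of_forall_exists_mul_mem_range f (fun x => ?_)
  obtain ⟨b, ⟨_, m, rfl⟩, rfl⟩ := IsLocalization.exists_mk'_eq (Submonoid.powers (g₁ * r.1 * d)) x
  refine ⟨algebraMap C _ ((g₁ * r.1 * d) ^ m), ?_, algebraMap C _ b, ?_⟩
  · rw [hf, map_pow]
    exact hunit_g.pow m
  · show f _ = _ * f _
    rw [hf, hf, IsLocalization.mk'_spec]

end Groth.Agent.Helper16.Chain
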