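import Mathlib
import Groth.Prelude.Def_CAlg
import Groth.Agent.Lib.Helper14.SmoothDim
import Groth.Agent.Lib.Helper16.Alg.ChainA
import Groth.Agent.Lib.Helper16.Alg.ChainB
import Groth.Agent.Lib.Helper16.Alg.ChainB2

/-!
# Chains of quasi-finite flat coordinate systems at a Cohen–Macaulay rational point (helper16)
-/

set_option autoImplicit false
set_option linter.style.haveILetI false
universe u

namespace Groth.Agent.Helper16.Chain

open Ideal IsLocalRing MvPolynomial

section Poly

variable {R : Type u} [CommRing R] {ι : Type u}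

theorem sub_C_eval_mem (c : ι → R) (p : MvPolynomial ι R) :
    p - C (eval c p) ∈ Ideal.span (Set.range fun i => (X i : MvPolynomial ι R) - C (c i)) := by
  set I := Ideal.span (Set.range fun i => (X i : MvPolynomial ι R) - C (c i)) with hI
  have h : (Ideal.Quotient.mk I).comp ((C : R →+* MvPolynomial ι R).comp (eval c)) =
      Ideal.Quotient.mk I := by
    apply MvPolynomial.ringHom_ext
    · intro r
      simp
    · intro i
      simp only [RingHom.comp_apply, eval_X]
      symm
      rw [Ideal.Quotient.eq]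
      exact Ideal.subset_span ⟨i, rfl⟩
  have h2 := congrArg (fun f => f p) h
  simp only [RingHom.comp_apply] at h2
  rw [← Ideal.Quotient.eq]
  exact h2.symm

end Poly

section Field

variable {R B : Type u} [Field R] [CommRing B] [Algebra R B] (𝔪 : Ideal B) [h𝔪 : 𝔪.IsMaximal]
  {ι : Type u}

theorem comap_eq_span (w : ι → B) (c : ι → R) (hc : ∀ i, w i - algebraMap R B (c i) ∈ 𝔪) :
    𝔪.comap (eval₂Hom (algebraMap R B) w) =
      Ideal.span (Set.range fun i => (X i : MvPolynomial ι R) - C (c i)) := by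
  have hge : Ideal.span (Set.range fun i => (X i : MvPolynomial ι R) - C (c i)) ≤
      𝔪.comap (eval₂Hom (algebraMap R B) w) := by
    rw [Ideal.span_le]
    rintro _ ⟨i, rfl⟩
    show eval₂Hom (algebraMap R B) w (X i - C (c i)) ∈ 𝔪
    rw [map_sub, eval₂Hom_X', eval₂Hom_C]
    exact hc i
  refine le_antisymm ?_ hge
  intro p hp
  have h1 := hge (sub_C_eval_mem c p)
  have h2 : eval₂Hom (algebraMap R B) w (C (eval c p)) ∈ 𝔪 := by
    have := 𝔪.sub_mem hp h1
    rwa [← map_sub, sub_sub_cancel] at this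
  rw [eval₂Hom_C] at h2
  have h3 : eval c p = 0 := by
    by_contra hne
    have hu : IsUnit (algebraMap R B (eval c p)) := (IsUnit.mk0 _ hne).map _
    exact h𝔪.ne_top (Ideal.eq_top_of_isUnit_mem _ h2 hu)
  have := sub_C_eval_mem c p
  rwa [h3, map_zero, sub_zero] at this

theorem map_comap_eq (w : ι → B) (c : ι → R) (hc : ∀ i, w i - algebraMap R B (c i) ∈ 𝔪) :
    (𝔪.comap (eval₂Hom (algebraMap R B) w)).map (eval₂Hom (algebraMap R B) w) =
      Ideal.span (Set.range fun i => w i - algebraMap R B (c i)) := by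
  rw [comap_eq_span 𝔪 w c hc, Ideal.map_span, ← Set.range_comp]
  congr 2
  funext i
  simp only [Function.comp_apply, map_sub, eval₂Hom_X', eval₂Hom_C]

/-- good vectors are isolated in their fibre -/
theorem good'_of_good {w : ι → B} (hw : Good R 𝔪 w) :
    𝔪 ∈ ((𝔪.comap (eval₂Hom (algebraMap R B) w)).map
      (eval₂Hom (algebraMap R B) w)).minimalPrimes := by
  obtain ⟨c, hc⟩ := hw
  have hc' : ∀ i, w i - algebraMap R B (c i) ∈ 𝔪 := fun i =>
    hc.1.2 (Ideal.subset_span ⟨i, rfl⟩)
  rw [map_comap_eq 𝔪 w c hc']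
  exact hc

theorem good_of_good' (hres : Function.Surjective (algebraMap R (B ⧸ 𝔪))) {w : ι → B}
    (hw : 𝔪 ∈ ((𝔪.comap (eval₂Hom (algebraMap R B) w)).map
      (eval₂Hom (algebraMap R B) w)).minimalPrimes) : Good R 𝔪 w := by
  choose c hc using fun i => hres (Ideal.Quotient.mk 𝔪 (w i))
  have hc' : ∀ i, w i - algebraMap R B (c i) ∈ 𝔪 := fun i => by
    rw [← Ideal.Quotient.eq, ← hc i]
    rfl
  refine ⟨c, ?_⟩
  rw [← map_comap_eq 𝔪 w c hc']
  exact hw

omit h𝔪 in
/-- a prime of a quasi-finite algebra is isolated in its fibre -/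
theorem minimal_of_quasiFinite {P : Type u} [CommRing P] [Algebra P B] [Algebra.QuasiFinite P B]
    (𝔮 : Ideal B) [𝔮.IsPrime] :
    𝔮 ∈ ((𝔮.comap (algebraMap P B)).map (algebraMap P B)).minimalPrimes := by
  refine ⟨⟨inferInstance, Ideal.map_comap_le⟩, ?_⟩
  rintro Q ⟨hQ, hle⟩ hQm
  haveI := hQ
  have : Q = 𝔮 := Algebra.QuasiFinite.eq_of_le_of_under_eq (R := P) Q 𝔮 hQm
    (le_antisymm (Ideal.comap_mono hQm) (Ideal.map_le_iff_le_comap.mp hle))
  exact this.ge

theorem good_of_quasiFinite (hres : Function.Surjective (algebraMap R (B ⧸ 𝔪))) {w : ι → B}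
    (hw : (eval₂Hom (algebraMap R B) w).QuasiFinite) : Good R 𝔪 w := by
  apply good_of_good' 𝔪 hres
  letI : Algebra (MvPolynomial ι R) B := (eval₂Hom (algebraMap R B) w).toAlgebra
  haveI : Algebra.QuasiFinite (MvPolynomial ι R) B := hw
  exact minimal_of_quasiFinite (P := MvPolynomial ι R) 𝔪

theorem comap_isMaximal (hres : Function.Surjective (algebraMap R (B ⧸ 𝔪))) (w : ι → B) :
    (𝔪.comap (eval₂Hom (algebraMap R B) w)).IsMaximal := by
  have hsurj : Function.Surjective ((Ideal.Quotient.mk 𝔪).comp (eval₂Hom (algebraMap R B) w)) := by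
    intro y
    obtain ⟨r, rfl⟩ := hres y
    refine ⟨C r, ?_⟩
    simp only [RingHom.comp_apply, eval₂Hom_C]
    rfl
  letI : Field (B ⧸ 𝔪) := Ideal.Quotient.field 𝔪
  have := RingHom.ker_isMaximal_of_surjective _ hsurj
  rwa [RingHom.ker_eq_comap_bot, ← Ideal.comap_comap, ← RingHom.ker_eq_comap_bot,
    Ideal.mk_ker] at this

theorem height_of_isMaximal [Finite ι] (𝔫 : Ideal (MvPolynomial ι R)) [𝔫.IsMaximal] :
    𝔫.height = (Nat.card ι : ℕ∞) := by
  let e : MvPolynomial ι R ≃+* MvPolynomial (Fin (Nat.card ι)) R :=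
    (MvPolynomial.renameEquiv R (Finite.equivFin ι)).toRingEquiv
  haveI : (𝔫.map e).IsMaximal := Ideal.map_isMaximal_of_equiv e
  rw [← RingEquiv.height_map e 𝔫]
  exact Groth.Agent.Helper14.SmoothDim.height_eq_of_isMaximal_mvPolynomial R _ _

omit h𝔪 in
/-- Nullstellensatz: closed points of finite type algebras over an algebraically closed field are
rational. -/
theorem residue_surjective [IsAlgClosed R] [Algebra.FiniteType R B] (𝔪 : Ideal B) [𝔪.IsMaximal] :
    Function.Surjective (algebraMap R (B ⧸ 𝔪)) := by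
  letI : Field (B ⧸ 𝔪) := Ideal.Quotient.field 𝔪
  haveI : Algebra.FiniteType R (B ⧸ 𝔪) :=
    Algebra.FiniteType.of_surjective (Ideal.Quotient.mkₐ R 𝔪) Ideal.Quotient.mk_surjective
  haveI : Module.Finite R (B ⧸ 𝔪) := finite_of_finite_type_of_isJacobsonRing R (B ⧸ 𝔪)
  exact (IsAlgClosed.algebraMap_bijective_of_isIntegral (k := R) (K := B ⧸ 𝔪)).2

end Field

end Groth.Agent.Helper16.Chain
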