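import Mathlib
import Groth.Prelude.Def_CAlg
import Groth.Agent.Lib.Helper16.Alg.ChainC

/-!
# Chains of quasi-finite flat coordinate systems: ring-level main theorem (helper16)
-/

set_option autoImplicit false
set_option linter.style.haveILetI false
set_option linter.unusedSectionVars false
universe u

namespace Groth.Agent.Helper16.Chain

open Ideal IsLocalRing MvPolynomial

variable {R B : Type u} [Field R] [CommRing B] [Algebra R B] [Algebra.FiniteType R B]
  (𝔪 : Ideal B) [h𝔪 : 𝔪.IsMaximal] {LX : Type u} [CommRing LX] [Algebra B LX]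
  [IsLocalization.AtPrime LX 𝔪] {ι : Type u} [Finite ι]

set_option maxHeartbeats 1600000 in
set_option synthInstance.maxHeartbeats 400000 in
/-- the dimension of the local ring at a rational point admitting a flat quasi-finite coordinate
system is the number of coordinates -/
theorem dim_of_flat_quasiFinite (hres : Function.Surjective (algebraMap R (B ⧸ 𝔪)))
    (hCM : LocCoh.IsCohenMacaulayLocalRing LX) (w : ι → B)
    (hfl : (eval₂Hom (algebraMap R B) w).Flat) (hqf : (eval₂Hom (algebraMap R B) w).QuasiFinite) :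
    ringKrullDim LX = (Nat.card ι : WithBot ℕ∞) := by
  letI aPB : Algebra (MvPolynomial ι R) B := (eval₂Hom (algebraMap R B) w).toAlgebra
  letI aPLX : Algebra (MvPolynomial ι R) LX :=
    ((algebraMap B LX).comp (algebraMap (MvPolynomial ι R) B)).toAlgebra
  haveI tPBLX : IsScalarTower (MvPolynomial ι R) B LX := IsScalarTower.of_algebraMap_eq fun _ => rfl
  haveI : Algebra.QuasiFinite (MvPolynomial ι R) B := hqf
  haveI : Module.Flat (MvPolynomial ι R) B := hfl
  haveI : Module.Flat B LX := IsLocalization.flat LX 𝔪.primeCompl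
  haveI : Module.Flat (MvPolynomial ι R) LX := Module.Flat.trans (MvPolynomial ι R) B LX
  have hmin := minimal_of_quasiFinite (P := MvPolynomial ι R) 𝔪
  have h1 := (flat_iff_dim (P := MvPolynomial ι R) 𝔪 (LX := LX) hCM hmin).mp inferInstance
  haveI := comap_isMaximal 𝔪 hres w
  rw [h1]
  have h2 := height_of_isMaximal (𝔪.comap (eval₂Hom (algebraMap R B) w))
  show ((𝔪.comap (eval₂Hom (algebraMap R B) w)).height : WithBot ℕ∞) = _
  rw [h2]
  rfl

set_option maxHeartbeats 1600000 in
set_option synthInstance.maxHeartbeats 400000 in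
/-- a good vector gives a flat quasi-finite coordinate system on a principal open neighbourhood -/
theorem per_vector (hres : Function.Surjective (algebraMap R (B ⧸ 𝔪)))
    (hCM : LocCoh.IsCohenMacaulayLocalRing LX)
    (hdim : ringKrullDim LX = (Nat.card ι : WithBot ℕ∞)) (w : ι → B) (hw : Good R 𝔪 w) :
    ∃ g : B, g ∉ 𝔪 ∧ ∀ g' : B, g ∣ g' → ∀ (Cg : Type u) [CommRing Cg] [Algebra B Cg]
      [IsLocalization.Away g' Cg],
        ((algebraMap B Cg).comp (eval₂Hom (algebraMap R B) w)).Flat ∧
        ((algebraMap B Cg).comp (eval₂Hom (algebraMap R B) w)).QuasiFinite := by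
  letI aPB : Algebra (MvPolynomial ι R) B := (eval₂Hom (algebraMap R B) w).toAlgebra
  haveI tRPB : IsScalarTower R (MvPolynomial ι R) B :=
    IsScalarTower.of_algebraMap_eq fun r => by
      change algebraMap R B r = eval₂Hom (algebraMap R B) w (C r)
      rw [eval₂Hom_C]
  letI aPLX : Algebra (MvPolynomial ι R) LX :=
    ((algebraMap B LX).comp (algebraMap (MvPolynomial ι R) B)).toAlgebra
  haveI tPBLX : IsScalarTower (MvPolynomial ι R) B LX := IsScalarTower.of_algebraMap_eq fun _ => rfl
  haveI : Algebra.FinitePresentation R B := Algebra.FinitePresentation.of_finiteType.mp inferInstance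
  haveI : Algebra.FinitePresentation (MvPolynomial ι R) B :=
    Algebra.FinitePresentation.of_restrict_scalars_finitePresentation (R := R)
      (A := MvPolynomial ι R) (B := B)
  haveI : Algebra.FiniteType (MvPolynomial ι R) B := inferInstance
  have hmin := good'_of_good 𝔪 hw
  haveI := comap_isMaximal 𝔪 hres w
  -- flat at `𝔪`
  haveI : Module.Flat (MvPolynomial ι R) LX := by
    refine (flat_iff_dim (P := MvPolynomial ι R) 𝔪 (LX := LX) hCM hmin).mpr ?_
    rw [hdim]
    have h2 := height_of_isMaximal (𝔪.comap (eval₂Hom (algebraMap R B) w))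
    show _ = ((𝔪.comap (eval₂Hom (algebraMap R B) w)).height : WithBot ℕ∞)
    rw [h2]
    rfl
  -- quasi-finite at `𝔪`
  haveI : Algebra.QuasiFiniteAt (MvPolynomial ι R) 𝔪 := by
    refine Groth.Agent.Helper16.SliceSeq.quasiFiniteAt_of_isolated 𝔪 ?_
    intro Q hQ hcomap hor
    rcases hor with h | h
    · exact (h𝔪.eq_of_le hQ.ne_top h).symm
    · refine le_antisymm h (hmin.2 ⟨hQ, ?_⟩ h)
      show (𝔪.comap (algebraMap (MvPolynomial ι R) B)).map (algebraMap (MvPolynomial ι R) B) ≤ Q
      rw [← hcomap]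
      exact Ideal.map_comap_le
  exact nhd_of_flat_qfAt (P := MvPolynomial ι R) 𝔪 (LX := LX)

set_option maxHeartbeats 1600000 in
set_option synthInstance.maxHeartbeats 400000 in
/-- **Ring-level main theorem.** -/
theorem chain_main [IsAlgClosed R] (hCM : LocCoh.IsCohenMacaulayLocalRing LX) (a b : ι → B)
    (hafl : (eval₂Hom (algebraMap R B) a).Flat) (haqf : (eval₂Hom (algebraMap R B) a).QuasiFinite)
    (hbqf : (eval₂Hom (algebraMap R B) b).QuasiFinite) :
    ∃ g : B, g ∉ 𝔪 ∧ ∃ (m : ℕ) (w : Fin (m + 1) → ι → B), w 0 = a ∧ w (Fin.last m) = b ∧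
      (∀ j : Fin m, ∃ i, ∀ i', i' ≠ i → w j.castSucc i' = w j.succ i') ∧
      ∀ j, ∀ (Cg : Type u) [CommRing Cg] [Algebra B Cg] [IsLocalization.Away g Cg],
        ((algebraMap B Cg).comp (eval₂Hom (algebraMap R B) (w j))).Flat ∧
        ((algebraMap B Cg).comp (eval₂Hom (algebraMap R B) (w j))).QuasiFinite := by
  have hres := residue_surjective (R := R) 𝔪
  haveI : IsNoetherianRing B := Algebra.FiniteType.isNoetherianRing R B
  have hdim := dim_of_flat_quasiFinite 𝔪 (LX := LX) hres hCM a hafl haqf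
  have ha := good_of_quasiFinite 𝔪 hres haqf
  have hb := good_of_quasiFinite 𝔪 hres hbqf
  obtain ⟨m, w, h0, hl, hgood, hstep⟩ := exists_chain 𝔪 ha hb
  choose g hg Hg using fun j => per_vector 𝔪 (LX := LX) hres hCM hdim (w j) (hgood j)
  refine ⟨∏ j, g j, ?_, m, w, h0, hl, hstep, ?_⟩
  · intro hmem
    obtain ⟨j, -, hj⟩ := (h𝔪.isPrime.prod_mem_iff).mp hmem
    exact hg j hj
  · intro j Cg _ _ _
    exact Hg j _ (Finset.dvd_prod_of_mem g (Finset.mem_univ j)) Cg

end Groth.Agent.Helper16.Chain
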