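import Mathlib
import Groth.Agent.Lib.Helper3.JZSmooth

set_option autoImplicit false
set_option linter.style.haveILetI false
set_option linter.unusedSectionVars false
universe u

open TensorProduct KaehlerDifferential IsLocalRing

namespace Groth.Agent.Helper16.CotSmooth

section MapCot

variable {R₀ A B : Type*} [CommRing R₀] [CommRing A] [CommRing B] [Algebra R₀ A] [Algebra R₀ B]

/-- injectivity of the map of cotangent spaces, elementwise. -/
theorem injective_mapCotangent_iff (I₁ : Ideal A) (I₂ : Ideal B) (f : A →ₐ[R₀] B)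
    (h : I₁ ≤ I₂.comap f) :
    Function.Injective (Ideal.mapCotangent I₁ I₂ f h) ↔
      ∀ a ∈ I₁, f a ∈ I₂ ^ 2 → a ∈ I₁ ^ 2 := by
  rw [injective_iff_map_eq_zero]
  constructor
  · intro H a ha hfa
    have h1 : Ideal.mapCotangent I₁ I₂ f h (I₁.toCotangent ⟨a, ha⟩) = 0 := by
      rw [Ideal.mapCotangent_toCotangent]
      exact (Ideal.toCotangent_eq_zero _ _).mpr hfa
    exact (Ideal.toCotangent_eq_zero _ _).mp (H _ h1)
  · intro H x hx
    obtain ⟨⟨a, ha⟩, rfl⟩ := Ideal.toCotangent_surjective _ x
    rw [Ideal.mapCotangent_toCotangent] at hx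
    have h2 := (Ideal.toCotangent_eq_zero _ _).mp hx
    exact (Ideal.toCotangent_eq_zero _ _).mpr (H a ha h2)

end MapCot

section C1

variable (k R : Type u) [Field k] [CommRing R] [IsLocalRing R] [Algebra k R]

/-- for a formally smooth local `k`-algebra with residue field `k`, `𝔪/𝔪² ≃ κ ⊗ Ω_{R/k}`. -/
theorem bijective_kerCotangentToTensor [Algebra.FormallySmooth k R]
    (hκ : Function.Bijective (algebraMap k (ResidueField R))) :
    Function.Bijective (kerCotangentToTensor k R (ResidueField R)) := by
  have hf : Function.Surjective (algebraMap R (ResidueField R)) := IsLocalRing.residue_surjective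
  haveI : Algebra.FormallySmooth k (ResidueField R) :=
    Algebra.FormallySmooth.of_equiv (AlgEquiv.ofBijective (Algebra.ofId k (ResidueField R)) hκ)
  obtain ⟨l, hl⟩ := (Algebra.FormallySmooth.iff_split_injection (R := k) (P := R)
    (A := ResidueField R) hf).mp inferInstance
  constructor
  · intro x y hxy
    have h1 := congrArg l hxy
    rw [← LinearMap.comp_apply, ← LinearMap.comp_apply, hl] at h1
    exact h1
  · intro y
    haveI : Subsingleton Ω[ResidueField R⁄k] :=
      KaehlerDifferential.subsingleton_of_surjective k _ hκ.surjective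
    exact (exact_kerCotangentToTensor_mapBaseChange k R (ResidueField R) hf y).mp
      (Subsingleton.elim _ _)

end C1

section Main

variable (k R R' : Type u) [Field k] [CommRing R] [CommRing R'] [IsLocalRing R] [IsLocalRing R']
  [Algebra k R] [Algebra k R'] [Algebra R R'] [IsScalarTower k R R']
  [IsLocalHom (algebraMap R R')]

set_option maxHeartbeats 800000 in
/-- **Tangent criterion for smoothness** of a local homomorphism of formally smooth local
`k`-algebras with residue field `k`. -/
theorem formallySmooth_iff [Algebra.FormallySmooth k R] [Algebra.FormallySmooth k R']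
    [Module.Finite R Ω[R⁄k]] [Module.Finite R' Ω[R'⁄k]]
    (hκ : Function.Bijective (algebraMap k (ResidueField R)))
    (hκ' : Function.Bijective (algebraMap k (ResidueField R'))) :
    Algebra.FormallySmooth R R' ↔
      ∀ a ∈ maximalIdeal R, algebraMap R R' a ∈ maximalIdeal R' ^ 2 → a ∈ maximalIdeal R ^ 2 := by
  haveI : Module.Free R' Ω[R'⁄k] := Module.free_of_flat_of_isLocalRing
  rw [Groth.Agent.Helper3.JZSmooth.formallySmooth_iff_retraction k R R',
    IsLocalRing.split_injective_iff_lTensor_residueField_injective]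
  have hI : RingHom.ker (algebraMap R (ResidueField R)) = maximalIdeal R := IsLocalRing.ker_residue
  have hI' : RingHom.ker (algebraMap R' (ResidueField R')) = maximalIdeal R' :=
    IsLocalRing.ker_residue
  have hδ := bijective_kerCotangentToTensor k R hκ
  have hδ' := bijective_kerCotangentToTensor k R' hκ'
  -- the residue fields
  have hbij : Function.Bijective (algebraMap (ResidueField R) (ResidueField R')) := by
    have h1 : (algebraMap k (ResidueField R') : k → ResidueField R') =
        algebraMap (ResidueField R) (ResidueField R') ∘ algebraMap k (ResidueField R) := by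
      ext c
      exact IsScalarTower.algebraMap_apply k (ResidueField R) (ResidueField R') c
    rw [← Function.Bijective.of_comp_iff _ hκ, ← h1]
    exact hκ'
  let eκ : ResidueField R ≃ₗ[R] ResidueField R' :=
    LinearEquiv.ofBijective
      (IsScalarTower.toAlgHom R (ResidueField R) (ResidueField R')).toLinearMap hbij
  let g1 : ResidueField R ⊗[R] Ω[R⁄k] ≃ₗ[R] ResidueField R' ⊗[R] Ω[R⁄k] :=
    TensorProduct.congr eκ (LinearEquiv.refl R Ω[R⁄k])
  let g2 := AlgebraTensorModule.cancelBaseChange R R' (ResidueField R') (ResidueField R') Ω[R⁄k]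
  -- the key element
  have hτ : ∀ a : R, ((mapBaseChange k R R').lTensor (ResidueField R'))
      (g2.symm (g1 ((1 : ResidueField R) ⊗ₜ[R] D k R a))) =
        (1 : ResidueField R') ⊗ₜ[R'] D k R' (algebraMap R R' a) := by
    intro a
    have e1 : g1 ((1 : ResidueField R) ⊗ₜ[R] D k R a) =
        (1 : ResidueField R') ⊗ₜ[R] D k R a := by
      show TensorProduct.congr eκ (LinearEquiv.refl R Ω[R⁄k]) _ = _
      rw [TensorProduct.congr_tmul]
      congr 1
      exact map_one (algebraMap (ResidueField R) (ResidueField R'))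
    rw [e1, AlgebraTensorModule.cancelBaseChange_symm_tmul, LinearMap.lTensor_tmul,
      mapBaseChange_tmul, one_smul, KaehlerDifferential.map_D]
  have hδa : ∀ (a : R) (ha : a ∈ RingHom.ker (algebraMap R (ResidueField R))),
      kerCotangentToTensor k R (ResidueField R) (Ideal.toCotangent _ ⟨a, ha⟩) =
        (1 : ResidueField R) ⊗ₜ[R] D k R a := fun a ha => rfl
  have hδa' : ∀ (a : R') (ha : a ∈ RingHom.ker (algebraMap R' (ResidueField R'))),
      kerCotangentToTensor k R' (ResidueField R') (Ideal.toCotangent _ ⟨a, ha⟩) =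
        (1 : ResidueField R') ⊗ₜ[R'] D k R' a := fun a ha => rfl
  have hmap : ∀ a ∈ maximalIdeal R, algebraMap R R' a ∈ maximalIdeal R' := by
    intro a ha
    exact (IsLocalRing.mem_maximalIdeal _).mpr
      (fun hu => (IsLocalRing.mem_maximalIdeal _).mp ha (isUnit_of_map_unit (algebraMap R R') a hu))
  constructor
  · intro hβ a ha hφa
    rw [← hI] at ha
    have hφa' : algebraMap R R' a ∈ RingHom.ker (algebraMap R' (ResidueField R')) := by
      rw [hI']; exact hmap a (hI ▸ ha)
    have h0 : (1 : ResidueField R') ⊗ₜ[R'] D k R' (algebraMap R R' a) = 0 := by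
      rw [← hδa' _ hφa']
      have : Ideal.toCotangent _ (⟨algebraMap R R' a, hφa'⟩ :
          RingHom.ker (algebraMap R' (ResidueField R'))) = 0 := by
        rw [Ideal.toCotangent_eq_zero]
        show algebraMap R R' a ∈ RingHom.ker (algebraMap R' (ResidueField R')) ^ 2
        rw [hI']
        exact hφa
      rw [this, map_zero]
    rw [← hτ a] at h0
    have h1 := (injective_iff_map_eq_zero _).mp hβ _ h0
    have h2 : g1 ((1 : ResidueField R) ⊗ₜ[R] D k R a) = 0 :=
      (LinearEquiv.map_eq_zero_iff g2.symm).mp h1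
    have h3 : (1 : ResidueField R) ⊗ₜ[R] D k R a = 0 := (LinearEquiv.map_eq_zero_iff g1).mp h2
    rw [← hδa a ha] at h3
    have h4 := (injective_iff_map_eq_zero _).mp hδ.1 _ h3
    rw [Ideal.toCotangent_eq_zero] at h4
    have h4' : a ∈ RingHom.ker (algebraMap R (ResidueField R)) ^ 2 := h4
    rw [hI] at h4'
    exact h4'
  · intro H
    rw [injective_iff_map_eq_zero]
    intro z hz
    obtain ⟨w', rfl⟩ := g2.symm.surjective z
    obtain ⟨w, rfl⟩ := g1.surjective w'
    obtain ⟨c, rfl⟩ := hδ.2 w
    obtain ⟨⟨a, ha⟩, rfl⟩ := Ideal.toCotangent_surjective _ c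
    rw [hδa a ha] at hz ⊢
    rw [hτ a] at hz
    have ham : a ∈ maximalIdeal R := hI ▸ ha
    have hφa' : algebraMap R R' a ∈ RingHom.ker (algebraMap R' (ResidueField R')) := by
      rw [hI']; exact hmap a ham
    rw [← hδa' _ hφa'] at hz
    have h4 := (injective_iff_map_eq_zero _).mp hδ'.1 _ hz
    rw [Ideal.toCotangent_eq_zero] at h4
    have h4' : algebraMap R R' a ∈ RingHom.ker (algebraMap R' (ResidueField R')) ^ 2 := h4
    rw [hI'] at h4'
    have h5 := H a ham h4'
    have h6 : Ideal.toCotangent _ (⟨a, ha⟩ : RingHom.ker (algebraMap R (ResidueField R))) = 0 := by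
      rw [Ideal.toCotangent_eq_zero]
      show a ∈ RingHom.ker (algebraMap R (ResidueField R)) ^ 2
      rw [hI]; exact h5
    rw [← hδa a ha, h6, map_zero, map_zero, map_zero]

end Main

end Groth.Agent.Helper16.CotSmooth
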