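import Mathlib
import Groth.Agent.Lib.Helper16.Alg.CotSmooth1

set_option autoImplicit false
set_option linter.style.haveILetI false
set_option linter.unusedSectionVars false
set_option linter.overlappingInstances false
universe u

open TensorProduct KaehlerDifferential IsLocalRing

namespace Groth.Agent.Helper16.CotSmooth

section LA

variable {R : Type u} [CommRing R] [IsLocalRing R]
  {M₁ M₂ M₃ : Type u} [AddCommGroup M₁] [AddCommGroup M₂] [AddCommGroup M₃]
  [Module R M₁] [Module R M₂] [Module R M₃]

/-- dimension count: if `M₁ → M₂ → M₃ → 0` is exact with `M₁`, `M₂` free of ranks `a`, `a + n` and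
`M₃` generated by `n` elements, then `κ ⊗ M₁ → κ ⊗ M₂` is injective. -/
theorem lTensor_injective_of_rank [Module.Free R M₁] [Module.Finite R M₁]
    [Module.Free R M₂] [Module.Finite R M₂]
    (g : M₁ →ₗ[R] M₂) (h : M₂ →ₗ[R] M₃) (hex : Function.Exact g h)
    (hsurj : Function.Surjective h) (a n : ℕ) (h1 : Module.finrank R M₁ = a)
    (h2 : Module.finrank R M₂ = a + n)
    (h3 : ∃ s : Fin n → M₃, Submodule.span R (Set.range s) = ⊤) :
    Function.Injective (g.lTensor (ResidueField R)) := by
  set κ := ResidueField R
  let gκ : κ ⊗[R] M₁ →ₗ[κ] κ ⊗[R] M₂ := g.baseChange κ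
  let hκ : κ ⊗[R] M₂ →ₗ[κ] κ ⊗[R] M₃ := h.baseChange κ
  have hgκ : (gκ : κ ⊗[R] M₁ → κ ⊗[R] M₂) = g.lTensor κ := LinearMap.baseChange_eq_ltensor g
  have hhκ : (hκ : κ ⊗[R] M₂ → κ ⊗[R] M₃) = h.lTensor κ := LinearMap.baseChange_eq_ltensor h
  have hexκ : Function.Exact gκ hκ := by
    rw [hgκ, hhκ]
    exact lTensor_exact κ hex hsurj
  have hsurjκ : Function.Surjective hκ := by
    rw [hhκ]
    exact LinearMap.lTensor_surjective κ hsurj
  have hf1 : Module.finrank κ (κ ⊗[R] M₁) = a := by rw [Module.finrank_baseChange, h1]
  have hf2 : Module.finrank κ (κ ⊗[R] M₂) = a + n := by rw [Module.finrank_baseChange, h2]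
  obtain ⟨s, hs⟩ := h3
  haveI : Module.Finite R M₃ := Module.Finite.of_surjective h hsurj
  have hf3 : Module.finrank κ (κ ⊗[R] M₃) ≤ n := by
    have hspan : Submodule.span κ (Set.range fun i => (1 : κ) ⊗ₜ[R] s i) = ⊤ := by
      have := Submodule.baseChange_span (R := R) (A := κ) (M := M₃) (Set.range s)
      rw [hs, Submodule.baseChange_top] at this
      rw [this]
      congr 1
      ext x
      simp
    have hle := finrank_range_le_card (R := κ) (fun i => (1 : κ) ⊗ₜ[R] s i)
    unfold Set.finrank at hle
    rw [hspan, finrank_top, Fintype.card_fin] at hle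
    exact hle
  have hrn1 := LinearMap.finrank_range_add_finrank_ker hκ
  have hrn2 := LinearMap.finrank_range_add_finrank_ker gκ
  have hr1 : Module.finrank κ (LinearMap.range hκ) = Module.finrank κ (κ ⊗[R] M₃) := by
    rw [LinearMap.range_eq_top.mpr hsurjκ, finrank_top]
  have hker : LinearMap.ker hκ = LinearMap.range gκ := (LinearMap.exact_iff.mp hexκ)
  rw [hker] at hrn1
  have hk0 : Module.finrank κ (LinearMap.ker gκ) = 0 := by omega
  have hbot : LinearMap.ker gκ = ⊥ := Submodule.finrank_eq_zero.mp hk0
  rw [← hgκ]
  exact LinearMap.ker_eq_bot.mp hbot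

end LA

section Rank

variable (k R : Type u) [Field k] [CommRing R] [IsLocalRing R] [Algebra k R]

/-- transport of cotangent spaces along an equality of ideals. -/
theorem nonempty_cotangent_equiv {I J : Ideal R} (h : I = J) :
    Nonempty (I.Cotangent ≃ₗ[R] J.Cotangent) := by
  subst h
  exact ⟨LinearEquiv.refl _ _⟩

/-- for a regular local `k`-algebra, formally smooth over `k` with residue field `k`, the rank of
the module of differentials is the dimension. -/
theorem finrank_kaehler_eq_dim [IsRegularLocalRing R] [Algebra.FormallySmooth k R]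
    [Module.Finite R Ω[R⁄k]]
    (hκ : Function.Bijective (algebraMap k (ResidueField R))) :
    (Module.finrank R Ω[R⁄k] : WithBot ℕ∞) = ringKrullDim R := by
  haveI : Module.Free R Ω[R⁄k] := Module.free_of_flat_of_isLocalRing
  have hδ := bijective_kerCotangentToTensor k R hκ
  have hsurj : Function.Surjective (algebraMap R (ResidueField R)) := residue_surjective
  have hI : RingHom.ker (algebraMap R (ResidueField R)) = maximalIdeal R := IsLocalRing.ker_residue
  obtain ⟨e1⟩ := nonempty_cotangent_equiv R hI
  have hl1 : Module.length R (CotangentSpace R) =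
      Module.length R (ResidueField R ⊗[R] Ω[R⁄k]) := by
    rw [← e1.length_eq]
    exact (LinearEquiv.ofBijective _ hδ).length_eq
  rw [Module.length_eq_of_surjective hsurj, Module.length_eq_of_surjective hsurj,
    Module.length_eq_finrank, Module.length_eq_finrank, Module.finrank_baseChange] at hl1
  have hl2 : Module.finrank (ResidueField R) (CotangentSpace R) = Module.finrank R Ω[R⁄k] := by
    exact_mod_cast hl1
  rw [← hl2, ← IsLocalRing.spanFinrank_maximalIdeal_eq_finrank_cotangentSpace,
    ← IsRegularLocalRing.spanFinrank_maximalIdeal]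

end Rank

section Main

variable (k R R' : Type u) [Field k] [CommRing R] [CommRing R'] [IsLocalRing R] [IsLocalRing R']
  [Algebra k R] [Algebra k R'] [Algebra R R'] [IsScalarTower k R R']

/-- a homomorphism of formally smooth local `k`-algebras whose module of relative differentials is
generated by `n` elements, `n` the difference of the ranks of the absolute differentials, is
formally smooth. -/
theorem formallySmooth_of_rank [Algebra.FormallySmooth k R] [Algebra.FormallySmooth k R']
    [Module.Finite R Ω[R⁄k]] [Module.Finite R' Ω[R'⁄k]] (a n : ℕ)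
    (h1 : Module.finrank R Ω[R⁄k] = a) (h2 : Module.finrank R' Ω[R'⁄k] = a + n)
    (h3 : ∃ s : Fin n → Ω[R'⁄R], Submodule.span R' (Set.range s) = ⊤) :
    Algebra.FormallySmooth R R' := by
  haveI : Module.Free R' Ω[R'⁄k] := Module.free_of_flat_of_isLocalRing
  haveI : Module.Free R Ω[R⁄k] := Module.free_of_flat_of_isLocalRing
  rw [Groth.Agent.Helper3.JZSmooth.formallySmooth_iff_retraction k R R',
    IsLocalRing.split_injective_iff_lTensor_residueField_injective]
  refine lTensor_injective_of_rank (mapBaseChange k R R') (KaehlerDifferential.map k R R' R')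
    (KaehlerDifferential.exact_mapBaseChange_map k R R')
    (KaehlerDifferential.map_surjective k R R') a n ?_ h2 h3
  rw [Module.finrank_baseChange, h1]

end Main

end Groth.Agent.Helper16.CotSmooth
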