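import Mathlib
import Groth.Agent.Lib.Helper1.LocalCriterion
import Groth.Agent.Lib.Helper14.SmoothDim

/-!
# Relative effective Cartier divisors on relative curves: algebra, part A (helper16)

* `tmul_nzd`: `t` nzd on `B`, `B/(t)` flat over `A` ⇒ `1 ⊗ t` nzd on `K ⊗_A B`.
* `quasiFinite_of_nzd`: `A → B` standard smooth of relative dimension one, `t` nzd, `B/(t)` flat
  ⇒ `A → B/(t)` quasi-finite.
* `isolated_of_quasiFiniteAt`, `flat_quot_loc`, `exists_mul_mem`, `nzd_away_mul`.
-/

set_option autoImplicit false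
set_option linter.style.haveILetI false
universe u
open TensorProduct

namespace Groth.Agent.Helper16.CurveDiv

section A
variable {A B : Type u} [CommRing A] [CommRing B] [Algebra A B]

theorem tmul_nzd (t : B) (ht : t ∈ nonZeroDivisors B) [Module.Flat A (B ⧸ Ideal.span {t})]
    (K : Type u) [CommRing K] [Algebra A K] :
    ((1 : K) ⊗ₜ[A] t) ∈ nonZeroDivisors (K ⊗[A] B) := by
  let u : B →ₗ[A] B := LinearMap.mulLeft A t
  let g : B →ₗ[A] (B ⧸ Ideal.span {t}) := (Ideal.Quotient.mkₐ A (Ideal.span {t})).toLinearMap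
  have hu : Function.Injective u := by
    rw [injective_iff_map_eq_zero]
    intro b hb
    have hb' : t * b = 0 := hb
    exact (mem_nonZeroDivisors_iff_left.mp ht) b hb'
  have hex : Function.Exact u g := by
    intro y
    constructor
    · intro hy
      have hy' : y ∈ Ideal.span {t} := Ideal.Quotient.eq_zero_iff_mem.mp hy
      obtain ⟨c, hc⟩ := Ideal.mem_span_singleton'.mp hy'
      exact ⟨c, by rw [← hc]; exact mul_comm t c⟩
    · rintro ⟨c, rfl⟩
      exact Ideal.Quotient.eq_zero_iff_mem.mpr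
        (Ideal.mul_mem_right c _ (Ideal.mem_span_singleton_self t))
  have hg : Function.Surjective g := Ideal.Quotient.mk_surjective
  have hinj := Groth.Agent.Helper1.lTensor_injective_of_exact_of_flat u g hu hex hg K
  have hmul : ∀ z : K ⊗[A] B, u.lTensor K z = ((1 : K) ⊗ₜ[A] t) * z := by
    intro z
    induction z using TensorProduct.induction_on with
    | zero => simp
    | tmul a b =>
      rw [LinearMap.lTensor_tmul, Algebra.TensorProduct.tmul_mul_tmul, one_mul]
      rfl
    | add x y hx hy => rw [map_add, hx, hy, mul_add]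
  rw [mem_nonZeroDivisors_iff_left]
  intro z hz
  apply hinj
  rw [map_zero, hmul]
  exact hz

theorem ringKrullDim_le_one (K F : Type u) [Field K] [CommRing F] [Algebra K F]
    [Algebra.IsStandardSmoothOfRelativeDimension 1 K F] : ringKrullDim F ≤ 1 := by
  by_cases hF : Nontrivial F
  · obtain ⟨φ, hφ⟩ := Algebra.IsStandardSmoothOfRelativeDimension.exists_etale_mvPolynomial 1 K F
    letI := φ.toRingHom.toAlgebra
    haveI : Algebra.Etale (MvPolynomial (Fin 1) K) F := RingHom.etale_algebraMap.mp hφ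
    have := Groth.Agent.Helper14.SmoothDim.ringKrullDim_eq_of_etale K 1 F
    rw [this]
    simp
  · haveI : Subsingleton F := not_nontrivial_iff_subsingleton.mp hF
    rw [ringKrullDim_eq_bot_of_subsingleton]
    exact bot_le

theorem quasiFinite_of_nzd [Algebra.IsStandardSmoothOfRelativeDimension 1 A B] (t : B)
    (ht : t ∈ nonZeroDivisors B) [Module.Flat A (B ⧸ Ideal.span {t})] :
    Algebra.QuasiFinite A (B ⧸ Ideal.span {t}) := by
  haveI : Algebra.IsStandardSmooth A B :=
    Algebra.IsStandardSmoothOfRelativeDimension.isStandardSmooth 1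
  haveI : Algebra.FiniteType A (B ⧸ Ideal.span {t}) :=
    .of_surjective (Ideal.Quotient.mkₐ A (Ideal.span {t})) Ideal.Quotient.mk_surjective
  refine ⟨fun P _ => ?_⟩
  rw [Module.finite_iff_krullDimLE_zero, Ring.KrullDimLE, Order.krullDimLE_iff]
  let τ : P.Fiber B := (1 : P.ResidueField) ⊗ₜ[A] t
  have hτ : τ ∈ nonZeroDivisors (P.Fiber B) := tmul_nzd t ht P.ResidueField
  let φ : P.Fiber B →ₐ[P.ResidueField] P.Fiber (B ⧸ Ideal.span {t}) :=
    Algebra.TensorProduct.map (AlgHom.id _ _) (Ideal.Quotient.mkₐ A (Ideal.span {t}))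
  have hφ : Function.Surjective φ := by
    intro z
    induction z using TensorProduct.induction_on with
    | zero => exact ⟨0, map_zero _⟩
    | tmul a b =>
      obtain ⟨b', rfl⟩ := Ideal.Quotient.mk_surjective b
      exact ⟨a ⊗ₜ b', by simp [φ]⟩
    | add x y hx hy =>
      obtain ⟨x', rfl⟩ := hx
      obtain ⟨y', rfl⟩ := hy
      exact ⟨x' + y', map_add _ _ _⟩
  have hφτ : φ τ = 0 := by
    show Algebra.TensorProduct.map _ _ ((1 : P.ResidueField) ⊗ₜ[A] t) = 0
    rw [Algebra.TensorProduct.map_tmul]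
    have : Ideal.Quotient.mkₐ A (Ideal.span {t}) t = 0 :=
      Ideal.Quotient.eq_zero_iff_mem.mpr (Ideal.mem_span_singleton_self t)
    rw [this, TensorProduct.tmul_zero]
  let ψ : (P.Fiber B ⧸ Ideal.span {τ}) →+* P.Fiber (B ⧸ Ideal.span {t}) :=
    Ideal.Quotient.lift (Ideal.span {τ}) φ.toRingHom (by
      intro a ha
      obtain ⟨c, rfl⟩ := Ideal.mem_span_singleton'.mp ha
      show φ (c * τ) = 0
      rw [map_mul, hφτ, mul_zero])
  have hψ : Function.Surjective ψ := Ideal.Quotient.lift_surjective_of_surjective _ _ hφ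
  have h1 : ringKrullDim (P.Fiber (B ⧸ Ideal.span {t})) ≤
      ringKrullDim (P.Fiber B ⧸ Ideal.span {τ}) := ringKrullDim_le_of_surjective ψ hψ
  have h2 := ringKrullDim_quotient_succ_le_of_nonZeroDivisor hτ
  have h3 := ringKrullDim_le_one P.ResidueField (P.Fiber B)
  have h5 : ringKrullDim (P.Fiber B ⧸ Ideal.span {τ}) ≤ 0 := by
    rw [← ENat.WithBot.add_le_add_one_right_iff, zero_add]
    exact h2.trans h3
  exact_mod_cast h1.trans h5

end A

section B

theorem isolated_of_quasiFiniteAt {R S : Type u} [CommRing R] [CommRing S] [Algebra R S]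
    [Algebra.FiniteType R S] (q : Ideal S) [hq : q.IsPrime] [hqf : Algebra.QuasiFiniteAt R q]
    (P : Ideal S) (hP : P.IsPrime) (hPq : P.comap (algebraMap R S) = q.comap (algebraMap R S))
    (hcomp : q ≤ P ∨ P ≤ q) : P = q := by
  let q' : PrimeSpectrum S := ⟨q, hq⟩
  have H := (Algebra.quasiFiniteAt_iff_isOpen_singleton_fiber (R := R) q').mp hqf
  let p := q'.comap (algebraMap R S)
  let e := PrimeSpectrum.preimageHomeomorphFiber R S p
  let e' := PrimeSpectrum.preimageOrderIsoFiber R S p
  rw [← e.isOpen_image, Set.image_singleton] at H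
  haveI : IsNoetherianRing (p.asIdeal.Fiber S) :=
    Algebra.FiniteType.isNoetherianRing p.asIdeal.ResidueField _
  haveI : IsJacobsonRing (p.asIdeal.Fiber S) :=
    isJacobsonRing_of_finiteType (A := p.asIdeal.ResidueField)
  have H2 := ((PrimeSpectrum.isOpen_singleton_tfae_of_isNoetherian_of_isJacobsonRing _).out 0 2).mp H
  rw [PrimeSpectrum.isClosed_singleton_iff_isMaximal, ← PrimeSpectrum.isMax_iff,
    PrimeSpectrum.stableUnderGeneralization_singleton, ← PrimeSpectrum.isMin_iff] at H2
  have he : e ⟨q', rfl⟩ = e' ⟨q', rfl⟩ := rfl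
  rw [he, OrderIso.isMax_apply, OrderIso.isMin_apply] at H2
  obtain ⟨hmax, hmin⟩ := H2
  let P' : PrimeSpectrum.comap (algebraMap R S) ⁻¹' {p} := ⟨⟨P, hP⟩, PrimeSpectrum.ext hPq⟩
  rcases hcomp with h | h
  · have h2 : P' ≤ ⟨q', rfl⟩ := hmax (b := P') h
    exact le_antisymm h2 h
  · have h2 : (⟨q', rfl⟩ : PrimeSpectrum.comap (algebraMap R S) ⁻¹' {p}) ≤ P' := hmin (b := P') h
    exact le_antisymm h h2

variable {A B : Type u} [CommRing A] [CommRing B] [Algebra A B]

theorem flat_quot_loc (J : Ideal B) [Module.Flat A (B ⧸ J)] (q : Ideal B) [q.IsPrime] :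
    Module.Flat A (Localization.AtPrime q ⧸ J.map (algebraMap B (Localization.AtPrime q))) := by
  haveI : IsScalarTower A (B ⧸ J)
      (Localization.AtPrime q ⧸ J.map (algebraMap B (Localization.AtPrime q))) :=
    IsScalarTower.of_algebraMap_eq fun a => by
      rw [IsScalarTower.algebraMap_apply A (Localization.AtPrime q)
        (Localization.AtPrime q ⧸ J.map (algebraMap B (Localization.AtPrime q))),
        IsScalarTower.algebraMap_apply A B (Localization.AtPrime q),
        IsScalarTower.algebraMap_apply A B (B ⧸ J)]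
      rfl
  haveI : Module.Flat (B ⧸ J)
      (Localization.AtPrime q ⧸ J.map (algebraMap B (Localization.AtPrime q))) :=
    IsLocalization.flat _ (Algebra.algebraMapSubmonoid (B ⧸ J) q.primeCompl)
  exact Module.Flat.trans A (B ⧸ J) _

theorem exists_mul_mem (J I' : Ideal B) (hJ : J.FG) (q : Ideal B) [q.IsPrime]
    (h : J.map (algebraMap B (Localization.AtPrime q)) ≤
      I'.map (algebraMap B (Localization.AtPrime q))) :
    ∃ g ∉ q, ∀ b ∈ J, g * b ∈ I' := by
  classical
  have hb : ∀ b ∈ J, ∃ u ∉ q, u * b ∈ I' := by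
    intro b hb
    have h1 : algebraMap B (Localization.AtPrime q) b ∈
        I'.map (algebraMap B (Localization.AtPrime q)) := h (Ideal.mem_map_of_mem _ hb)
    rw [IsLocalization.mem_map_algebraMap_iff q.primeCompl] at h1
    obtain ⟨⟨i, m⟩, him⟩ := h1
    rw [← map_mul, IsLocalization.eq_iff_exists q.primeCompl] at him
    obtain ⟨c, hc⟩ := him
    refine ⟨c * m, q.primeCompl.mul_mem c.2 m.2, ?_⟩
    have : (c : B) * (m : B) * b = c * (b * m) := by ring
    rw [this, hc]
    exact I'.mul_mem_left _ i.2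
  obtain ⟨s, rfl⟩ := hJ
  let u : B → B := fun b => if hb' : b ∈ Ideal.span (s : Set B) then (hb b hb').choose else 1
  have hu : ∀ b ∈ Ideal.span (s : Set B), u b ∉ q ∧ u b * b ∈ I' := by
    intro b hb'
    simp only [u, dif_pos hb']
    exact (hb b hb').choose_spec
  refine ⟨∏ b ∈ s, u b, ?_, ?_⟩
  · rw [Ideal.IsPrime.prod_mem_iff]
    rintro ⟨b, hbs, hbq⟩
    exact (hu b (Ideal.subset_span hbs)).1 hbq
  · have hle : Ideal.span (s : Set B) ≤
        Submodule.comap (LinearMap.mulLeft B (∏ b ∈ s, u b)) I' := by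
      rw [Ideal.span_le]
      intro b hbs
      show (∏ b ∈ s, u b) * b ∈ I'
      obtain ⟨c, hc⟩ := Finset.dvd_prod_of_mem u hbs
      rw [hc, mul_comm (u b) c, mul_assoc]
      exact I'.mul_mem_left _ (hu b (Ideal.subset_span hbs)).2
    intro b hb'
    exact hle hb'

theorem nzd_away_mul (j g g' : B)
    (h : algebraMap B (Localization.Away g) j ∈ nonZeroDivisors (Localization.Away g))
    (Bg : Type u) [CommRing Bg] [Algebra B Bg] [IsLocalization.Away (g * g') Bg] :
    algebraMap B Bg j ∈ nonZeroDivisors Bg := by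
  rw [mem_nonZeroDivisors_iff_right]
  intro x hx
  obtain ⟨b, s, rfl⟩ := IsLocalization.exists_mk'_eq (Submonoid.powers (g * g')) x
  have h1 : algebraMap B Bg (b * j) = 0 := by
    have h0 : IsLocalization.mk' Bg b s * algebraMap B Bg s = algebraMap B Bg b :=
      IsLocalization.mk'_spec Bg b s
    rw [map_mul, ← h0, mul_right_comm, hx, zero_mul]
  rw [IsLocalization.map_eq_zero_iff (Submonoid.powers (g * g'))] at h1
  obtain ⟨⟨_, n, rfl⟩, hn⟩ := h1
  have hn' : g ^ n * (g' ^ n * b * j) = 0 := by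
    have : g ^ n * (g' ^ n * b * j) = (g * g') ^ n * (b * j) := by rw [mul_pow]; ring
    rw [this]
    exact hn
  have h2 : algebraMap B (Localization.Away g) (g' ^ n * b) *
      algebraMap B (Localization.Away g) j = 0 := by
    have hu : IsUnit (algebraMap B (Localization.Away g) (g ^ n)) := by
      rw [map_pow]
      exact (IsLocalization.Away.algebraMap_isUnit g).pow n
    apply hu.mul_right_eq_zero.mp
    rw [← map_mul, ← map_mul, hn', map_zero]
  have h3 : algebraMap B (Localization.Away g) (g' ^ n * b) = 0 :=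
    (mem_nonZeroDivisors_iff_right.mp h) _ h2
  rw [IsLocalization.map_eq_zero_iff (Submonoid.powers g)] at h3
  obtain ⟨⟨_, k, rfl⟩, hk⟩ := h3
  have hgg : IsUnit (algebraMap B Bg (g * g')) := IsLocalization.Away.algebraMap_isUnit (g * g')
  rw [map_mul] at hgg
  have hgu : IsUnit (algebraMap B Bg g) := isUnit_of_mul_isUnit_left hgg
  have hgu' : IsUnit (algebraMap B Bg g') := isUnit_of_mul_isUnit_right hgg
  have h4 : algebraMap B Bg b = 0 := by
    have hu : IsUnit (algebraMap B Bg (g ^ k * g' ^ n)) := by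
      rw [map_mul, map_pow, map_pow]
      exact (hgu.pow k).mul (hgu'.pow n)
    apply hu.mul_right_eq_zero.mp
    rw [← map_mul, mul_assoc, hk, map_zero]
  rw [IsLocalization.mk'_eq_iff_eq_mul, zero_mul]
  exact h4

end B

end Groth.Agent.Helper16.CurveDiv
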