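import Mathlib
import Groth.Agent.Lib.Lead.Fib1
import Groth.Agent.Lib.Lead.RLR1
import Groth.Agent.Lib.Helper5.PolyR1
import Groth.Agent.Lib.Helper8.SmD1
import Groth.Agent.Lib.Helper14.SmoothReg
import Groth.Agent.Lib.Helper14.FibreSmooth
import Groth.Agent.Lib.Helper14.LocalDimSpec

/-!
# Relative curves: the fibre local ring at a point closed in its fibre is a DVR (helper16)
-/

set_option autoImplicit false
set_option linter.style.haveILetI false
universe u
open TensorProduct Groth.Agent.Lead.Fib

namespace Groth.Agent.Helper16.CurveDiv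

set_option maxHeartbeats 800000 in
set_option synthInstance.maxHeartbeats 200000 in
theorem isDVR_FL (A B : Type u) [CommRing A] [CommRing B] [Algebra A B]
    [Algebra.IsStandardSmoothOfRelativeDimension 1 A B] (p : Ideal A) [p.IsPrime]
    (q : Ideal B) [q.IsPrime] [q.LiesOver p]
    (hmax : ∀ P : Ideal B, P.IsPrime → P.under A = p → q ≤ P → P = q) :
    ∃ _ : IsDomain (FL p q), IsDiscreteValuationRing (FL p q) := by
  obtain ⟨Q, hQ⟩ := exists_fiber_prime p q
  haveI : Q.asIdeal.IsPrime := Q.isPrime
  haveI : Algebra.IsStandardSmooth A B :=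
    Algebra.IsStandardSmoothOfRelativeDimension.isStandardSmooth 1
  haveI : Algebra.IsStandardSmooth p.ResidueField (p.Fiber B) :=
    Algebra.IsStandardSmoothOfRelativeDimension.isStandardSmooth 1
  haveI : Algebra.FiniteType p.ResidueField (p.Fiber B) := inferInstance
  -- `Q` is maximal
  have hQmax : Q.asIdeal.IsMaximal := by
    obtain ⟨M, hM, hQM⟩ := Ideal.exists_le_maximal Q.asIdeal Q.isPrime.ne_top
    haveI := hM.isPrime
    have hP := hmax (M.comap (Algebra.TensorProduct.includeRight : B →ₐ[A] p.Fiber B))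
      (Ideal.comap_isPrime _ _) ?_ ?_
    · have : (⟨M, hM.isPrime⟩ : PrimeSpectrum (p.Fiber B)) = Q := by
        apply (PrimeSpectrum.primesOverOrderIsoFiber A B p).symm.injective
        apply Subtype.ext
        exact hP.trans hQ.symm
      rw [← this]
      exact hM
    · have h1 := M.over_def p
      have h1' : ∀ a, a ∈ p ↔ a ∈ Ideal.under A M := fun a => by rw [← h1]
      ext a
      rw [h1' a]
      simp only [Ideal.under_def, Ideal.mem_comap]
      rw [AlgHom.commutes]
    · rw [← hQ]
      exact Ideal.comap_mono hQM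
  -- transcendence degree zero
  haveI : Algebra.FiniteType p.ResidueField (p.Fiber B ⧸ Q.asIdeal) :=
    .of_surjective (Ideal.Quotient.mkₐ p.ResidueField Q.asIdeal) Ideal.Quotient.mk_surjective
  have hfin : Module.Finite p.ResidueField (p.Fiber B ⧸ Q.asIdeal) := by
    letI : Field (p.Fiber B ⧸ Q.asIdeal) := Ideal.Quotient.field Q.asIdeal
    exact finite_of_finite_type_of_isJacobsonRing _ _
  haveI : Algebra.IsAlgebraic p.ResidueField (p.Fiber B ⧸ Q.asIdeal) :=
    Algebra.IsAlgebraic.of_finite _ _
  have htr : Algebra.trdeg p.ResidueField (p.Fiber B ⧸ Q.asIdeal) = ((0 : ℕ) : Cardinal) := by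
    rw [trdeg_eq_zero]
    simp
  have h1 := Groth.Agent.Helper14.FibreSmooth.localDim_of_isStandardSmoothOfRelativeDimension
    p.ResidueField (p.Fiber B) 1 Q
  have h3 := Groth.Agent.Helper14.LocalDimSpec.localDim_eq p.ResidueField (p.Fiber B) Q.asIdeal 0 htr
  have hdim : ringKrullDim (FL p q) = 1 := by
    rw [Groth.Agent.Helper8.SmD.ringKrullDim_FL_eq_height A B p Q.asIdeal q hQ]
    have h4 : FlatMor.localDim (PrimeSpectrum (p.Fiber B)) Q =
        ((Q.asIdeal.height : ℕ∞) : WithBot ℕ∞) + ((0 : ℕ) : WithBot ℕ∞) := h3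
    rw [h1] at h4
    simpa using h4.symm
  haveI : IsRegularRing (p.Fiber B) :=
    Groth.Agent.Helper14.SmoothReg.isRegularRing_of_smooth p.ResidueField _
  haveI : IsRegularLocalRing (Localization.AtPrime Q.asIdeal) :=
    IsRegularRing.isRegularLocalRing_localization Q.asIdeal
  subst hQ
  haveI : IsRegularLocalRing (FL p (Q.asIdeal.comap
      (Algebra.TensorProduct.includeRight : B →ₐ[A] p.Fiber B))) :=
    @IsRegularLocalRing.of_ringEquiv (Localization.AtPrime Q.asIdeal) _ inferInstance _ _
      (fiberLocEquiv (S := B) p Q.asIdeal)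
  haveI : IsDomain (FL p (Q.asIdeal.comap
      (Algebra.TensorProduct.includeRight : B →ₐ[A] p.Fiber B))) :=
    Groth.Agent.Lead.RLR.isDomain _
  exact ⟨inferInstance,
    Groth.Agent.Helper5.PolyHeight.isDiscreteValuationRing_of_isRegularLocalRing _ hdim⟩

end Groth.Agent.Helper16.CurveDiv
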