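import Mathlib
import Groth.Agent.Lib.Helper2.FCR5
import Groth.Agent.Lib.Helper21.Slice2
import Groth.Agent.Lib.Helper16.Alg.CurveDivA
import Groth.Agent.Lib.Helper16.Alg.CurveDivB

/-!
# Relative curves: a flat, finitely presented, fibrewise isolated closed subscheme is locally cut out
by one nonzerodivisor (helper16)
-/

set_option autoImplicit false
set_option linter.style.haveILetI false
universe u
open TensorProduct Groth.Agent.Lead.Fib

namespace Groth.Agent.Helper16.CurveDiv

set_option maxHeartbeats 1600000 in
set_option synthInstance.maxHeartbeats 400000 in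
theorem exists_principal {A B : Type u} [CommRing A] [CommRing B] [Algebra A B]
    [Algebra.IsStandardSmoothOfRelativeDimension 1 A B] (J : Ideal B) (hJ : J.FG)
    [Module.Flat A (B ⧸ J)] (q : Ideal B) [q.IsPrime] (hJq : J ≤ q)
    (hiso : ∀ P : Ideal B, P.IsPrime → J ≤ P → P.under A = q.under A → (q ≤ P ∨ P ≤ q) → P = q) :
    ∃ g ∉ q, ∃ j ∈ J, ∀ (Bg : Type u) [CommRing Bg] [Algebra B Bg] [IsLocalization.Away g Bg],
      algebraMap B Bg j ∈ nonZeroDivisors Bg ∧
        J.map (algebraMap B Bg) = Ideal.span {algebraMap B Bg j} := by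
  haveI : q.LiesOver (q.under A) := ⟨rfl⟩
  haveI : Algebra.IsStandardSmooth A B :=
    Algebra.IsStandardSmoothOfRelativeDimension.isStandardSmooth 1
  obtain ⟨hdom, hdvr⟩ := isDVR_FL A B (q.under A) q
    (fun P hP hPp hqP => hiso P hP (hJq.trans hqP) hPp (Or.inl hqP))
  let φ : B →+* FL (q.under A) q :=
    (Ideal.Quotient.mk ((q.under A).map (algebraMap A (Localization.AtPrime q)))).comp
      (algebraMap B (Localization.AtPrime q))
  have hφ : ∀ b, φ b = Ideal.Quotient.mk ((q.under A).map (algebraMap A (Localization.AtPrime q)))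
      (algebraMap B (Localization.AtPrime q) b) := fun _ => rfl
  -- Step 2 : `J` does not die in the fibre
  have hne : J.map φ ≠ ⊥ := by
    intro hbot
    have hJker : J ≤ RingHom.ker φ := by
      intro b hb
      have h1 : φ b ∈ J.map φ := Ideal.mem_map_of_mem φ hb
      rw [hbot] at h1
      exact h1
    haveI : (RingHom.ker φ).IsPrime := RingHom.ker_isPrime φ
    have hle : RingHom.ker φ ≤ q := by
      intro b hb
      by_contra hbq
      have hu : IsUnit (algebraMap B (Localization.AtPrime q) b) :=
        IsLocalization.map_units (Localization.AtPrime q) (⟨b, hbq⟩ : q.primeCompl)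
      have hu' : IsUnit (φ b) := hu.map (Ideal.Quotient.mk _)
      rw [RingHom.mem_ker.mp hb] at hu'
      exact not_isUnit_zero hu'
    have hunder : (RingHom.ker φ).under A = q.under A := by
      apply le_antisymm
      · exact Ideal.comap_mono hle
      · intro a ha
        show algebraMap A B a ∈ RingHom.ker φ
        rw [RingHom.mem_ker, hφ, ← IsScalarTower.algebraMap_apply A B (Localization.AtPrime q),
          Ideal.Quotient.eq_zero_iff_mem]
        exact Ideal.mem_map_of_mem _ ha
    have hPq := hiso _ inferInstance hJker hunder (Or.inr hle)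
    have hmbot : IsLocalRing.maximalIdeal (FL (q.under A) q) = ⊥ := by
      rw [eq_bot_iff]
      intro x hx
      obtain ⟨y, rfl⟩ := Ideal.Quotient.mk_surjective x
      obtain ⟨b, s, rfl⟩ := IsLocalization.exists_mk'_eq q.primeCompl y
      have hbq : b ∈ q := by
        by_contra hbq
        have hu : IsUnit (IsLocalization.mk' (Localization.AtPrime q) b s) := by
          rw [← IsLocalRing.notMem_maximalIdeal]
          intro hmem
          exact hbq ((IsLocalization.AtPrime.mk'_mem_maximal_iff (Localization.AtPrime q) q b s).mp hmem)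
        exact (IsLocalRing.mem_maximalIdeal _).mp hx (hu.map (Ideal.Quotient.mk _))
      have hb0 : φ b = 0 := by
        rw [← hPq] at hbq
        exact hbq
      have h0 : IsLocalization.mk' (Localization.AtPrime q) b s *
          algebraMap B (Localization.AtPrime q) s = algebraMap B (Localization.AtPrime q) b :=
        IsLocalization.mk'_spec (Localization.AtPrime q) b s
      have h2 : Ideal.Quotient.mk ((q.under A).map (algebraMap A (Localization.AtPrime q)))
          (IsLocalization.mk' (Localization.AtPrime q) b s) *
          Ideal.Quotient.mk ((q.under A).map (algebraMap A (Localization.AtPrime q)))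
            (algebraMap B (Localization.AtPrime q) s) = 0 := by
        rw [← map_mul, h0]
        exact hb0
      have hsu : IsUnit (Ideal.Quotient.mk ((q.under A).map (algebraMap A (Localization.AtPrime q)))
          (algebraMap B (Localization.AtPrime q) s)) :=
        (IsLocalization.map_units (Localization.AtPrime q) s).map _
      exact hsu.mul_left_eq_zero.mp h2
    exact IsDiscreteValuationRing.not_isField (FL (q.under A) q)
      (IsLocalRing.isField_iff_maximalIdeal_eq.mpr hmbot)
  -- Step 3 : a generator coming from `J`
  obtain ⟨j, hjJ, hj⟩ : ∃ j ∈ J, J.map φ = Ideal.span {φ j} := by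
    have hfg : (J.map φ).FG := hJ.map φ
    have hex : ∃ j ∈ J, φ j ∉ IsLocalRing.maximalIdeal (FL (q.under A) q) * J.map φ := by
      by_contra hcon
      push Not at hcon
      have hle : J.map φ ≤ IsLocalRing.maximalIdeal (FL (q.under A) q) • J.map φ := by
        rw [smul_eq_mul, Ideal.map_le_iff_le_comap]
        intro b hb
        exact hcon b hb
      exact hne (Submodule.eq_bot_of_le_smul_of_le_jacobson_bot _ _ hfg hle
        (IsLocalRing.jacobson_eq_maximalIdeal ⊥ bot_ne_top).ge)
    obtain ⟨j, hjJ, hjm⟩ := hex
    refine ⟨j, hjJ, ?_⟩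
    obtain ⟨τ, hτ⟩ := (IsPrincipalIdealRing.principal (J.map φ)).principal
    have hτ' : J.map φ = Ideal.span {τ} := hτ
    have hjI : φ j ∈ Ideal.span {τ} := hτ' ▸ Ideal.mem_map_of_mem φ hjJ
    obtain ⟨c, hc⟩ := Ideal.mem_span_singleton'.mp hjI
    have hcu : IsUnit c := by
      by_contra hcu
      apply hjm
      rw [← hc]
      refine Ideal.mul_mem_mul ((IsLocalRing.mem_maximalIdeal c).mpr hcu) ?_
      rw [hτ']
      exact Ideal.mem_span_singleton_self τ
    rw [hτ', ← hc]
    exact (Ideal.span_singleton_mul_left_unit hcu τ).symm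
  have hφj0 : φ j ≠ 0 := by
    intro h0
    apply hne
    rw [hj, h0]
    exact Ideal.span_singleton_eq_bot.mpr rfl
  -- Step 4 : Nakayama
  haveI hflatK : Module.Flat A (Localization.AtPrime q ⧸
      J.map (algebraMap B (Localization.AtPrime q))) := flat_quot_loc J q
  have hK : J.map (algebraMap B (Localization.AtPrime q)) =
      Ideal.span {algebraMap B (Localization.AtPrime q) j} := by
    apply le_antisymm
    · have hKfg : (J.map (algebraMap B (Localization.AtPrime q))).FG := hJ.map _
      refine Submodule.le_of_le_smul_of_le_jacobson_bot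
        (I := (q.under A).map (algebraMap A (Localization.AtPrime q))) hKfg ?_ ?_
      · rw [IsLocalRing.jacobson_eq_maximalIdeal ⊥ bot_ne_top]
        exact Groth.Agent.Lead.Fib.map_le_maximalIdeal (q.under A) q
      · intro k hk
        have h1 : Ideal.Quotient.mk ((q.under A).map (algebraMap A (Localization.AtPrime q))) k ∈
            J.map φ := by
          rw [← Ideal.map_map]
          exact Ideal.mem_map_of_mem _ hk
        rw [hj] at h1
        obtain ⟨c', hc⟩ := Ideal.mem_span_singleton'.mp h1
        obtain ⟨c, rfl⟩ := Ideal.Quotient.mk_surjective c'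
        have h2 : k - c * algebraMap B (Localization.AtPrime q) j ∈
            (q.under A).map (algebraMap A (Localization.AtPrime q)) := by
          rw [← Ideal.Quotient.eq, map_mul]
          exact hc.symm
        have h3 : k - c * algebraMap B (Localization.AtPrime q) j ∈
            J.map (algebraMap B (Localization.AtPrime q)) :=
          Ideal.sub_mem _ hk (Ideal.mul_mem_left _ c (Ideal.mem_map_of_mem _ hjJ))
        have h4 : k - c * algebraMap B (Localization.AtPrime q) j ∈
            (q.under A).map (algebraMap A (Localization.AtPrime q)) *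
              J.map (algebraMap B (Localization.AtPrime q)) :=
          Groth.Agent.Helper2.FCR.inf_le_mul_of_flat
            (J.map (algebraMap B (Localization.AtPrime q))) (q.under A) ⟨h2, h3⟩
        have h5 : k = c * algebraMap B (Localization.AtPrime q) j +
            (k - c * algebraMap B (Localization.AtPrime q) j) := by ring
        rw [h5]
        refine Submodule.add_mem_sup (Ideal.mem_span_singleton'.mpr ⟨c, rfl⟩) ?_
        rw [smul_eq_mul]
        exact h4
    · rw [Ideal.span_singleton_le_iff_mem]
      exact Ideal.mem_map_of_mem _ hjJ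
  -- Step 5 : slicing
  haveI : Module.Flat A (Localization.AtPrime q) := Module.Flat.trans A B _
  have hjq : j ∈ q := hJq hjJ
  have hreg : Ideal.Quotient.mk ((q.under A).map (algebraMap A (Localization.AtPrime q)))
      (algebraMap B (Localization.AtPrime q) j) ∈
      nonZeroDivisors (Localization.AtPrime q ⧸
        (q.under A).map (algebraMap A (Localization.AtPrime q))) :=
    mem_nonZeroDivisors_of_ne_zero hφj0
  obtain ⟨g₁, hg₁q, hg₁⟩ := Groth.Agent.Helper21.Slice.slice_main q
    (LX := Localization.AtPrime q)
    ((q.under A).map (algebraMap A (Localization.AtPrime q))) rfl j hjq hreg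
  -- Step 6 : spreading out the generation
  obtain ⟨g₂, hg₂q, hg₂⟩ := exists_mul_mem J (Ideal.span {j}) hJ q (by
    rw [hK, Ideal.map_span, Set.image_singleton])
  refine ⟨g₁ * g₂, fun h => (‹q.IsPrime›.mem_or_mem h).elim hg₁q hg₂q, j, hjJ, ?_⟩
  intro Bg _ _ _
  refine ⟨nzd_away_mul j g₁ g₂ (hg₁ (Localization.Away g₁)).1 Bg, ?_⟩
  have hgg : IsUnit (algebraMap B Bg (g₁ * g₂)) :=
    IsLocalization.Away.algebraMap_isUnit (g₁ * g₂)
  rw [map_mul] at hgg
  have hgu : IsUnit (algebraMap B Bg g₂) := isUnit_of_mul_isUnit_right hgg
  apply le_antisymm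
  · rw [Ideal.map_le_iff_le_comap]
    intro b hb
    rw [Ideal.mem_comap]
    have h1 : algebraMap B Bg (g₂ * b) ∈ Ideal.span {algebraMap B Bg j} := by
      have := Ideal.mem_map_of_mem (algebraMap B Bg) (hg₂ b hb)
      rwa [Ideal.map_span, Set.image_singleton] at this
    rw [map_mul] at h1
    exact (Ideal.unit_mul_mem_iff_mem _ hgu).mp h1
  · rw [Ideal.span_singleton_le_iff_mem]
    exact Ideal.mem_map_of_mem _ hjJ

end Groth.Agent.Helper16.CurveDiv
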