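import Mathlib

/-!
# Determinantal varieties: matrix lemmas (helper16)

* `det_mul_eq_zero_of_lt`: the product of an `(r+1) × r` and an `r × (r+1)` matrix has determinant 0.
* `det_submatrix_mul_eq_zero`: all `(r+1)`-minors of a product through rank `r` vanish.
* `eq_mul_inv_mul`: rank factorization `M = M[:,g] · M[f,g]⁻¹ · M[f,:]` when all `(r+1)`-minors
  vanish and `M[f,g]` is invertible.
* `derivation_det`: Jacobi's formula `D (det N) = ∑ adj(N)_{ba} D(N_{ab})`.
* `derivation_minor_mem`: derivatives of `(r+1)`-minors lie in the ideal of `r`-minors.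
-/

set_option autoImplicit false
set_option linter.style.haveILetI false
universe u
open Matrix

namespace Groth.Agent.Helper16.DetSm

section Mat

variable {C : Type*} [CommRing C]

theorem det_mul_eq_zero_of_lt {r : ℕ} (L : Matrix (Fin (r + 1)) (Fin r) C)
    (N : Matrix (Fin r) (Fin (r + 1)) C) : (L * N).det = 0 := by
  let e : Fin r ⊕ Fin 1 ≃ Fin (r + 1) := finSumFinEquiv
  let L' : Matrix (Fin (r + 1)) (Fin r ⊕ Fin 1) C := Matrix.fromCols L 0
  let N' : Matrix (Fin r ⊕ Fin 1) (Fin (r + 1)) C := Matrix.fromRows N 0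
  have h1 : L' * N' = L * N := by
    rw [Matrix.fromCols_mul_fromRows]
    simp
  let L'' : Matrix (Fin (r + 1)) (Fin (r + 1)) C := L'.submatrix id e.symm
  let N'' : Matrix (Fin (r + 1)) (Fin (r + 1)) C := N'.submatrix e.symm id
  have h2 : L'' * N'' = L * N := by
    rw [← h1]
    have := Matrix.submatrix_mul_equiv L' N' (id : Fin (r + 1) → Fin (r + 1)) e.symm
      (id : Fin (r + 1) → Fin (r + 1))
    rw [this, Matrix.submatrix_id_id]
  rw [← h2, Matrix.det_mul]
  have h3 : L''.det = 0 := by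
    apply Matrix.det_eq_zero_of_column_eq_zero (e (Sum.inr 0))
    intro i
    simp [L'', L']
  rw [h3, zero_mul]

theorem det_submatrix_mul_eq_zero {n m r : ℕ} (L : Matrix (Fin n) (Fin r) C)
    (Z : Matrix (Fin r) (Fin m) C) (u : Fin (r + 1) → Fin n) (v : Fin (r + 1) → Fin m) :
    ((L * Z).submatrix u v).det = 0 := by
  rw [Matrix.submatrix_mul L Z u id v Function.bijective_id]
  exact det_mul_eq_zero_of_lt _ _

theorem eq_mul_inv_mul {n m r : ℕ} (Mt : Matrix (Fin n) (Fin m) C) (f : Fin r → Fin n)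
    (g : Fin r → Fin m) (hA : IsUnit (Mt.submatrix f g).det)
    (hminors : ∀ (u : Fin (r + 1) → Fin n) (v : Fin (r + 1) → Fin m),
      (Mt.submatrix u v).det = 0) :
    Mt = Mt.submatrix id g * (Mt.submatrix f g)⁻¹ * Mt.submatrix f id := by
  ext a b
  letI : Invertible (Mt.submatrix f g) := Matrix.invertibleOfIsUnitDet _ hA
  let e : Fin r ⊕ Fin 1 ≃ Fin (r + 1) := finSumFinEquiv
  let u : Fin (r + 1) → Fin n := Fin.append f (fun _ : Fin 1 => a)
  let v : Fin (r + 1) → Fin m := Fin.append g (fun _ : Fin 1 => b)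
  have h0 := hminors u v
  have h1 : (Mt.submatrix u v).submatrix e e =
      Matrix.fromBlocks (Mt.submatrix f g) (Mt.submatrix f (fun _ : Fin 1 => b))
        (Mt.submatrix (fun _ : Fin 1 => a) g)
        (Mt.submatrix (fun _ : Fin 1 => a) (fun _ : Fin 1 => b)) := by
    ext (i | i) (j | j) <;> simp [u, v, e]
  have h2 : (Mt.submatrix u v).det = ((Mt.submatrix u v).submatrix e e).det :=
    (Matrix.det_submatrix_equiv_self e _).symm
  rw [h2, h1, Matrix.det_fromBlocks₁₁] at h0
  have h3 := (hA.mul_right_eq_zero).mp h0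
  rw [Matrix.det_unique, Matrix.sub_apply, sub_eq_zero] at h3
  simp only [Matrix.submatrix_apply] at h3
  rw [h3]
  simp only [Matrix.mul_apply, Matrix.submatrix_apply, id, Matrix.invOf_eq_nonsing_inv]

theorem map_nonsing_inv {C' : Type*} [CommRing C'] {r : ℕ} (φ : C →+* C')
    (A : Matrix (Fin r) (Fin r) C) (hA : IsUnit A.det) : (A⁻¹).map φ = (A.map φ)⁻¹ := by
  symm
  apply Matrix.inv_eq_right_inv
  rw [← Matrix.map_mul, Matrix.mul_nonsing_inv A hA, Matrix.map_one φ (map_zero φ) (map_one φ)]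

end Mat

section Der

variable {R₀ A : Type*} [CommRing R₀] [CommRing A] [Algebra R₀ A]

theorem derivation_prod (D : Derivation R₀ A A) {ι : Type*} [DecidableEq ι] (s : Finset ι)
    (g : ι → A) : D (∏ i ∈ s, g i) = ∑ i ∈ s, (∏ j ∈ s.erase i, g j) * D (g i) := by
  induction s using Finset.induction_on with
  | empty => simp
  | insert a s ha ih =>
    rw [Finset.prod_insert ha, Derivation.leibniz, ih, Finset.sum_insert ha, Finset.erase_insert ha]
    simp only [smul_eq_mul]
    rw [add_comm, Finset.mul_sum]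
    congr 1
    refine Finset.sum_congr rfl fun i hi => ?_
    have hia : a ≠ i := fun h => ha (h ▸ hi)
    rw [Finset.erase_insert_of_ne hia,
      Finset.prod_insert (fun h => ha (Finset.mem_of_mem_erase h)), mul_assoc]

theorem derivation_det (D : Derivation R₀ A A) {ι : Type*} [Fintype ι] [DecidableEq ι]
    (N : Matrix ι ι A) : D N.det = ∑ b, ∑ a, N.adjugate b a * D (N a b) := by
  have hR : ∀ b, ∑ a, N.adjugate b a * D (N a b) =
      (N.updateCol b (fun a => D (N a b))).det := by
    intro b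
    rw [← Matrix.cramer_apply, Matrix.cramer_eq_adjugate_mulVec]
    rfl
  simp_rw [hR, Matrix.det_apply]
  rw [map_sum, Finset.sum_comm]
  refine Finset.sum_congr rfl fun σ _ => ?_
  rw [Units.smul_def, map_zsmul, derivation_prod, Finset.smul_sum]
  refine Finset.sum_congr rfl fun b _ => ?_
  rw [← Units.smul_def]
  congr 1
  rw [← Finset.prod_erase_mul Finset.univ _ (Finset.mem_univ b), Matrix.updateCol_self]
  congr 1
  refine Finset.prod_congr rfl fun i hi => ?_
  rw [Matrix.updateCol_ne (Finset.ne_of_mem_erase hi)]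

theorem derivation_minor_mem (D : Derivation R₀ A A) {n m : ℕ} (Mt : Matrix (Fin n) (Fin m) A)
    (r : ℕ) (u : Fin (r + 1) → Fin n) (v : Fin (r + 1) → Fin m) (J : Ideal A)
    (hJ : ∀ (u' : Fin r → Fin n) (v' : Fin r → Fin m), (Mt.submatrix u' v').det ∈ J) :
    D (Mt.submatrix u v).det ∈ J := by
  rw [derivation_det]
  refine Ideal.sum_mem _ fun b _ => Ideal.sum_mem _ fun a _ => Ideal.mul_mem_right _ _ ?_
  rw [Matrix.adjugate_fin_succ_eq_det_submatrix]
  apply Ideal.mul_mem_left
  exact hJ (u ∘ a.succAbove) (v ∘ b.succAbove)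

end Der

end Groth.Agent.Helper16.DetSm
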