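import Mathlib
import Groth.Prelude.Def_CAlgX
import Groth.Agent.Lib.Helper16.Alg.DetSmA

/-!
# Determinantal varieties: smoothness on the locus of rank exactly `r` (helper16)
-/

set_option autoImplicit false
set_option linter.style.haveILetI false
universe u
open Matrix

namespace Groth.Agent.Helper16.DetSm

variable (k : Type u) [Field k] (n m : ℕ)

/-- The generic `n × m` matrix. -/
noncomputable abbrev genM : Matrix (Fin n) (Fin m) (MvPolynomial (Fin n × Fin m) k) :=
  Matrix.of fun (i : Fin n) (j : Fin m) =>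
    (MvPolynomial.X (i, j) : MvPolynomial (Fin n × Fin m) k)

/-- The ideal of `t`-minors of the generic matrix. -/
noncomputable abbrev Idet (t : ℕ) : Ideal (MvPolynomial (Fin n × Fin m) k) := CAlgX.minorIdeal (genM k n m) t

variable {k n m}

theorem aeval_minor {C : Type*} [CommRing C] [Algebra k C] (N : Matrix (Fin n) (Fin m) C)
    {t : ℕ} (u : Fin t → Fin n) (v : Fin t → Fin m) :
    MvPolynomial.aeval (fun ij : Fin n × Fin m => N ij.1 ij.2) ((genM k n m).submatrix u v).det =
      (N.submatrix u v).det := by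
  rw [AlgHom.map_det]
  congr 1
  ext a b
  simp [genM]

theorem minor_mem_Idet {t : ℕ} (u : Fin t → Fin n) (v : Fin t → Fin m) :
    ((genM k n m).submatrix u v).det ∈ Idet k n m t :=
  Ideal.subset_span ⟨(u, v), rfl⟩

theorem formallySmooth_away_aux (r : ℕ) (f : Fin r → Fin n) (g : Fin r → Fin m)
    (I : Ideal (MvPolynomial (Fin n × Fin m) k)) (hI : I = Idet k n m (r + 1))
    (Δ : MvPolynomial (Fin n × Fin m) k) (hΔ : Δ = ((genM k n m).submatrix f g).det)
    (δ : MvPolynomial (Fin n × Fin m) k ⧸ I) (hδ : δ = Ideal.Quotient.mk I Δ) :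
    Algebra.FormallySmooth k (Localization.Away δ) := by
  refine Algebra.FormallySmooth.of_comp_surjective fun C _ _ N hN φ => ?_
  let ι : MvPolynomial (Fin n × Fin m) k →ₐ[k] Localization.Away δ :=
    (IsScalarTower.toAlgHom k (MvPolynomial (Fin n × Fin m) k ⧸ I) (Localization.Away δ)).comp
      (Ideal.Quotient.mkₐ k I)
  let Mbar : Matrix (Fin n) (Fin m) (C ⧸ N) := fun i j => φ (ι (MvPolynomial.X (i, j)))
  have h1 : φ.comp ι = MvPolynomial.aeval (fun ij : Fin n × Fin m => Mbar ij.1 ij.2) := by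
    apply MvPolynomial.algHom_ext
    intro ij
    simp [Mbar]
  have hminor : ∀ {t : ℕ} (u : Fin t → Fin n) (v : Fin t → Fin m),
      φ (ι ((genM k n m).submatrix u v).det) = (Mbar.submatrix u v).det := by
    intro t u v
    rw [← aeval_minor (k := k) Mbar u v, ← h1]
    rfl
  have hvanish : ∀ (u : Fin (r + 1) → Fin n) (v : Fin (r + 1) → Fin m),
      (Mbar.submatrix u v).det = 0 := by
    intro u v
    rw [← hminor u v]
    have : ι ((genM k n m).submatrix u v).det = 0 := by
      have h0 : Ideal.Quotient.mk I ((genM k n m).submatrix u v).det = 0 :=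
        Ideal.Quotient.eq_zero_iff_mem.mpr (hI ▸ minor_mem_Idet u v)
      change algebraMap _ (Localization.Away δ)
        (Ideal.Quotient.mk I ((genM k n m).submatrix u v).det) = 0
      rw [h0, map_zero]
    rw [this, map_zero]
  have hιΔ : ι Δ = algebraMap _ (Localization.Away δ) δ := by
    change algebraMap _ (Localization.Away δ) (Ideal.Quotient.mk I Δ) = _
    rw [← hδ]
  have hunit : IsUnit (Mbar.submatrix f g).det := by
    rw [← hminor f g, ← hΔ, hιΔ]
    exact (IsLocalization.Away.algebraMap_isUnit δ).map φ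
  -- lifts
  let Mt₀ : Matrix (Fin n) (Fin m) C :=
    fun i j => (Ideal.Quotient.mk_surjective (Mbar i j)).choose
  have hMt₀ : Mt₀.map (Ideal.Quotient.mk N) = Mbar := by
    ext i j
    exact (Ideal.Quotient.mk_surjective (Mbar i j)).choose_spec
  have hNnil : IsNilpotent N := ⟨2, hN⟩
  have hdetA : IsUnit (Mt₀.submatrix f g).det := by
    rw [← IsNilpotent.isUnit_quotient_mk_iff hNnil, RingHom.map_det]
    have : (Ideal.Quotient.mk N).mapMatrix (Mt₀.submatrix f g) = Mbar.submatrix f g := by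
      rw [← hMt₀]
      rfl
    rw [this]
    exact hunit
  let Mt : Matrix (Fin n) (Fin m) C :=
    Mt₀.submatrix id g * (Mt₀.submatrix f g)⁻¹ * Mt₀.submatrix f id
  have hMtmap : Mt.map (Ideal.Quotient.mk N) = Mbar := by
    have e1 : Mt.map (Ideal.Quotient.mk N) =
        (Mt₀.submatrix id g).map (Ideal.Quotient.mk N) *
          ((Mt₀.submatrix f g)⁻¹).map (Ideal.Quotient.mk N) *
          (Mt₀.submatrix f id).map (Ideal.Quotient.mk N) := by
      rw [Matrix.map_mul, Matrix.map_mul]
    rw [e1, map_nonsing_inv _ _ hdetA]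
    have e2 : (Mt₀.submatrix id g).map (Ideal.Quotient.mk N) = Mbar.submatrix id g := by
      rw [← hMt₀]; rfl
    have e3 : (Mt₀.submatrix f g).map (Ideal.Quotient.mk N) = Mbar.submatrix f g := by
      rw [← hMt₀]; rfl
    have e4 : (Mt₀.submatrix f id).map (Ideal.Quotient.mk N) = Mbar.submatrix f id := by
      rw [← hMt₀]; rfl
    rw [e2, e3, e4]
    exact (eq_mul_inv_mul Mbar f g hunit hvanish).symm
  let ψ₀ : MvPolynomial (Fin n × Fin m) k →ₐ[k] C :=
    MvPolynomial.aeval (fun ij : Fin n × Fin m => Mt ij.1 ij.2)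
  have hψ₀I : ∀ a ∈ I, ψ₀ a = 0 := by
    intro a ha
    have hle : I ≤ RingHom.ker ψ₀ := by
      rw [hI]
      refine Ideal.span_le.mpr ?_
      rintro _ ⟨⟨u, v⟩, rfl⟩
      rw [SetLike.mem_coe, RingHom.mem_ker]
      change ψ₀ ((genM k n m).submatrix u v).det = 0
      rw [aeval_minor Mt u v]
      exact det_submatrix_mul_eq_zero _ _ u v
    exact (RingHom.mem_ker).mp (hle ha)
  have hcompat₀ : (Ideal.Quotient.mkₐ k N).comp ψ₀ = φ.comp ι := by
    rw [h1]
    apply MvPolynomial.algHom_ext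
    intro ij
    simp only [AlgHom.comp_apply, ψ₀, MvPolynomial.aeval_X, Ideal.Quotient.mkₐ_eq_mk]
    rw [← hMtmap]
    rfl
  let ψ₁ : (MvPolynomial (Fin n × Fin m) k ⧸ I) →ₐ[k] C := Ideal.Quotient.liftₐ I ψ₀ hψ₀I
  have hψ₁mk : ∀ a, ψ₁ (Ideal.Quotient.mk I a) = ψ₀ a := fun a => rfl
  have hunitδ : IsUnit (ψ₁ δ) := by
    rw [← IsNilpotent.isUnit_quotient_mk_iff hNnil, hδ, hψ₁mk]
    have := AlgHom.congr_fun hcompat₀ Δ
    simp only [AlgHom.comp_apply, Ideal.Quotient.mkₐ_eq_mk] at this
    rw [this, hιΔ]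
    exact (IsLocalization.Away.algebraMap_isUnit δ).map φ
  have hunits : ∀ y : Submonoid.powers δ, IsUnit (ψ₁ y) := by
    rintro ⟨_, j, rfl⟩
    rw [map_pow]
    exact hunitδ.pow j
  let ψ : Localization.Away δ →ₐ[k] C := IsLocalization.liftAlgHom (M := Submonoid.powers δ) hunits
  refine ⟨ψ, ?_⟩
  apply IsLocalization.algHom_ext (Submonoid.powers δ)
  apply Ideal.Quotient.algHom_ext
  apply MvPolynomial.algHom_ext
  intro ij
  have := AlgHom.congr_fun hcompat₀ (MvPolynomial.X ij)
  simp only [AlgHom.comp_apply, Ideal.Quotient.mkₐ_eq_mk] at this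
  change Ideal.Quotient.mk N (ψ (algebraMap _ _ (Ideal.Quotient.mk I (MvPolynomial.X ij)))) =
    φ (ι (MvPolynomial.X ij))
  rw [show ψ (algebraMap _ _ (Ideal.Quotient.mk I (MvPolynomial.X ij))) =
    ψ₁ (Ideal.Quotient.mk I (MvPolynomial.X ij)) from IsLocalization.lift_eq _ _]
  rw [hψ₁mk, this]

theorem formallySmooth_away (r : ℕ) (f : Fin r → Fin n) (g : Fin r → Fin m) :
    Algebra.FormallySmooth k (Localization.Away
      (Ideal.Quotient.mk (Idet k n m (r + 1)) ((genM k n m).submatrix f g).det)) :=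
  formallySmooth_away_aux r f g _ rfl _ rfl _ rfl

instance finitePresentation_quot (t : ℕ) :
    Algebra.FinitePresentation k (MvPolynomial (Fin n × Fin m) k ⧸ Idet k n m t) :=
  Algebra.FinitePresentation.quotient (IsNoetherian.noetherian _)

theorem mem_smoothLocus_of_not_le (r : ℕ)
    (P : PrimeSpectrum (MvPolynomial (Fin n × Fin m) k ⧸ Idet k n m (r + 1)))
    (h : ¬ (Idet k n m r).map (Ideal.Quotient.mk (Idet k n m (r + 1))) ≤ P.asIdeal) :
    P ∈ Algebra.smoothLocus k (MvPolynomial (Fin n × Fin m) k ⧸ Idet k n m (r + 1)) := by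
  have hex : ∃ (f : Fin r → Fin n) (g : Fin r → Fin m),
      Ideal.Quotient.mk (Idet k n m (r + 1)) ((genM k n m).submatrix f g).det ∉ P.asIdeal := by
    by_contra hcon
    push Not at hcon
    apply h
    change (Ideal.span _).map _ ≤ _
    rw [Ideal.map_span]
    refine Ideal.span_le.mpr ?_
    rintro _ ⟨_, ⟨⟨f, g⟩, rfl⟩, rfl⟩
    exact hcon f g
  obtain ⟨f, g, hfg⟩ := hex
  have hsm := formallySmooth_away (k := k) (n := n) (m := m) r f g
  have := (Algebra.basicOpen_subset_smoothLocus_iff (R := k)).mpr hsm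
  exact this hfg

end Groth.Agent.Helper16.DetSm
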