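import Mathlib
import Groth.Prelude.Def_CAlgX
import Groth.Agent.Lib.Helper16.Alg.DetSmB

/-!
# Determinantal varieties: non-smoothness where all `r`-minors vanish (helper16)
-/

set_option autoImplicit false
set_option linter.style.haveILetI false
universe u
open Matrix TensorProduct

namespace Groth.Agent.Helper16.DetSm

/-- Lemma L: in a Noetherian local domain `S'` formally smooth over `k`, if `S' ⧸ K` is formally
smooth over `k` and the differentials of generators of `K` vanish at the closed point, then
`K = ⊥`. -/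
theorem ker_eq_bot_of_D_mem {k S' : Type u} [CommRing k] [CommRing S'] [Algebra k S']
    [IsLocalRing S'] [IsNoetherianRing S'] [IsDomain S']
    (K : Ideal S') (hK : K ≠ ⊤) (G : Set S') (hG : K = Ideal.span G)
    (hD : ∀ x ∈ G, KaehlerDifferential.D k S' x ∈
      IsLocalRing.maximalIdeal S' • (⊤ : Submodule S' Ω[S'⁄k]))
    [Algebra.FormallySmooth k S'] [hsm : Algebra.FormallySmooth k (S' ⧸ K)] : K = ⊥ := by
  classical
  obtain ⟨l, hl⟩ := (Algebra.FormallySmooth.iff_split_injection (R := k) (P := S')
    (A := S' ⧸ K) Ideal.Quotient.mk_surjective).mp hsm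
  have hKK' : RingHom.ker (algebraMap S' (S' ⧸ K)) = K := Ideal.mk_ker
  have hKm : K ≤ IsLocalRing.maximalIdeal S' := IsLocalRing.le_maximalIdeal hK
  have key : ∀ x ∈ K, x ∈ IsLocalRing.maximalIdeal S' ∧
      ((1 : S' ⧸ K) ⊗ₜ[S'] KaehlerDifferential.D k S' x) ∈
        IsLocalRing.maximalIdeal S' • (⊤ : Submodule S' ((S' ⧸ K) ⊗[S'] Ω[S'⁄k])) := by
    intro x hx
    rw [hG] at hx
    induction hx using Submodule.span_induction with
    | mem x hx =>
      refine ⟨hKm (hG ▸ Ideal.subset_span hx), ?_⟩
      have := hD x hx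
      have h2 := Submodule.mem_map_of_mem (f := TensorProduct.mk S' (S' ⧸ K) Ω[S'⁄k] 1) this
      rw [Submodule.map_smul''] at h2
      exact Submodule.smul_mono le_rfl le_top h2
    | zero =>
      exact ⟨zero_mem _, by rw [map_zero, TensorProduct.tmul_zero]; exact zero_mem _⟩
    | add x y _ _ hx hy =>
      exact ⟨add_mem hx.1 hy.1, by
        rw [map_add, TensorProduct.tmul_add]; exact add_mem hx.2 hy.2⟩
    | smul a x _ hx =>
      refine ⟨Ideal.mul_mem_left _ _ hx.1, ?_⟩
      rw [smul_eq_mul, Derivation.leibniz, TensorProduct.tmul_add, TensorProduct.tmul_smul,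
        TensorProduct.tmul_smul]
      exact add_mem (Submodule.smul_mem _ _ hx.2) (Submodule.smul_mem_smul hx.1 Submodule.mem_top)
  have htop : (⊤ : Submodule S' (RingHom.ker (algebraMap S' (S' ⧸ K))).Cotangent) ≤
      IsLocalRing.maximalIdeal S' • ⊤ := by
    intro c _
    obtain ⟨x, rfl⟩ := Ideal.toCotangent_surjective _ c
    have hc : l (KaehlerDifferential.kerCotangentToTensor k S' (S' ⧸ K)
        (Ideal.toCotangent _ x)) = Ideal.toCotangent _ x := LinearMap.congr_fun hl _
    rw [← hc, KaehlerDifferential.kerCotangentToTensor_toCotangent]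
    have hx : (x : S') ∈ K := hKK'.le x.2
    have h2 := Submodule.mem_map_of_mem (f := l) (key x hx).2
    rw [Submodule.map_smul''] at h2
    exact Submodule.smul_mono le_rfl le_top h2
  have hfin : Module.Finite S' (RingHom.ker (algebraMap S' (S' ⧸ K))).Cotangent :=
    Module.Finite.of_surjective (Ideal.toCotangent _) (Ideal.toCotangent_surjective _)
  have hbot : (⊤ : Submodule S' (RingHom.ker (algebraMap S' (S' ⧸ K))).Cotangent) = ⊥ :=
    Submodule.eq_bot_of_le_smul_of_le_jacobson_bot (IsLocalRing.maximalIdeal S') ⊤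
      Module.Finite.fg_top htop
      (by rw [IsLocalRing.jacobson_eq_maximalIdeal ⊥ bot_ne_top])
  have hsub : Subsingleton (RingHom.ker (algebraMap S' (S' ⧸ K))).Cotangent := by
    refine ⟨fun a b => ?_⟩
    have ha : a ∈ (⊥ : Submodule S' (RingHom.ker (algebraMap S' (S' ⧸ K))).Cotangent) :=
      hbot ▸ Submodule.mem_top
    have hb : b ∈ (⊥ : Submodule S' (RingHom.ker (algebraMap S' (S' ⧸ K))).Cotangent) :=
      hbot ▸ Submodule.mem_top
    rw [(Submodule.mem_bot _).mp ha, (Submodule.mem_bot _).mp hb]
  have hidem := (Ideal.cotangent_subsingleton_iff _).mp hsub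
  rw [hKK'] at hidem
  rcases (Ideal.isIdempotentElem_iff_eq_bot_or_top K (IsNoetherian.noetherian K)).mp hidem with
    h | h
  · exact h
  · exact absurd h hK

/-- Lemma M: if `S` is a Noetherian domain formally smooth over `k`, `I = span G`, `P` a prime of
`S ⧸ I` at which `S ⧸ I` is smooth over `k`, and the differentials of all elements of `G` vanish
at `P`, then `I = ⊥`. -/
theorem ideal_eq_bot_of_smoothAt {k S : Type u} [CommRing k] [CommRing S] [Algebra k S]
    [IsDomain S] [IsNoetherianRing S] [Algebra.FormallySmooth k S]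
    (I : Ideal S) (G : Set S) (hG : I = Ideal.span G) (P : Ideal (S ⧸ I)) [P.IsPrime]
    (hD : ∀ x ∈ G, KaehlerDifferential.D k S x ∈
      (P.comap (Ideal.Quotient.mk I)) • (⊤ : Submodule S Ω[S⁄k]))
    (hsm : Algebra.FormallySmooth k (Localization.AtPrime P)) : I = ⊥ := by
  let P' : Ideal S := P.comap (Ideal.Quotient.mk I)
  haveI : P'.IsPrime := Ideal.comap_isPrime _ _
  let ρ : Localization.AtPrime P' →+* Localization.AtPrime P :=
    Localization.localRingHom P' P (Ideal.Quotient.mk I) rfl
  have hρsurj : Function.Surjective ρ :=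
    RingHom.surjective_localRingHom_of_surjective _ Ideal.Quotient.mk_surjective P
  let ρa : Localization.AtPrime P' →ₐ[k] Localization.AtPrime P :=
    { ρ with
      commutes' := fun c => by
        change ρ (algebraMap k (Localization.AtPrime P') c) =
          algebraMap k (Localization.AtPrime P) c
        rw [IsScalarTower.algebraMap_apply k S (Localization.AtPrime P'),
          Localization.localRingHom_to_map,
          IsScalarTower.algebraMap_apply k (S ⧸ I) (Localization.AtPrime P)]
        rfl }
  have hρa : ∀ x, ρa x = ρ x := fun x => rfl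
  have hKρ : RingHom.ker ρa = RingHom.ker ρ := by
    ext x
    simp only [RingHom.mem_ker, hρa]
  have hmapcompl : Submonoid.map (Ideal.Quotient.mk I) P'.primeCompl = P.primeCompl := by
    ext y
    constructor
    · rintro ⟨x, hx, rfl⟩
      exact hx
    · intro hy
      obtain ⟨x, rfl⟩ := Ideal.Quotient.mk_surjective y
      exact ⟨x, hy, rfl⟩
  have hKmap : RingHom.ker ρa = I.map (algebraMap S (Localization.AtPrime P')) := by
    rw [hKρ]
    have := IsLocalization.ker_map (M := P'.primeCompl) (S := Localization.AtPrime P')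
      (T := P.primeCompl) (Localization.AtPrime P) (Ideal.Quotient.mk I) hmapcompl
    rw [Ideal.mk_ker] at this
    exact this
  haveI : Algebra.FormallyEtale S (Localization.AtPrime P') :=
    Algebra.FormallyEtale.of_isLocalization P'.primeCompl
  haveI : Algebra.FormallySmooth k (Localization.AtPrime P') :=
    Algebra.FormallySmooth.comp k S _
  haveI : IsNoetherianRing (Localization.AtPrime P') :=
    IsLocalization.isNoetherianRing P'.primeCompl _ inferInstance
  haveI : Algebra.FormallySmooth k (Localization.AtPrime P' ⧸ RingHom.ker ρa) :=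
    Algebra.FormallySmooth.of_equiv (Ideal.quotientKerAlgEquivOfSurjective (f := ρa) hρsurj).symm
  have hKbot : RingHom.ker ρa = ⊥ := by
    refine ker_eq_bot_of_D_mem (k := k) (RingHom.ker ρa) (RingHom.ker_ne_top ρa)
      (algebraMap S (Localization.AtPrime P') '' G) ?_ ?_
    · rw [hKmap, hG, Ideal.map_span]
    · rintro _ ⟨x, hx, rfl⟩
      rw [← KaehlerDifferential.map_D k k S (Localization.AtPrime P') x]
      have := hD x hx
      refine Submodule.smul_induction_on
        (p := fun w => KaehlerDifferential.map k k S (Localization.AtPrime P') w ∈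
          IsLocalRing.maximalIdeal (Localization.AtPrime P') •
            (⊤ : Submodule (Localization.AtPrime P') Ω[Localization.AtPrime P'⁄k])) this ?_ ?_
      · intro a ha w _
        change KaehlerDifferential.map k k S (Localization.AtPrime P') (a • w) ∈ _
        rw [map_smul, ← algebraMap_smul (Localization.AtPrime P') a]
        exact Submodule.smul_mem_smul
          ((IsLocalization.AtPrime.to_map_mem_maximal_iff (Localization.AtPrime P') P' a).mpr ha)
          Submodule.mem_top
      · intro x y hx hy
        rw [map_add]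
        exact add_mem hx hy
  rw [eq_bot_iff]
  intro a ha
  have h1 : algebraMap S (Localization.AtPrime P') a ∈ RingHom.ker ρa := by
    rw [hKmap]
    exact Ideal.mem_map_of_mem _ ha
  rw [hKbot, Ideal.mem_bot] at h1
  rw [Ideal.mem_bot]
  exact IsLocalization.injective (Localization.AtPrime P') P'.primeCompl_le_nonZeroDivisors
    (h1.trans (map_zero _).symm)

variable {k : Type u} [Field k] {n m : ℕ}

theorem notMem_smoothLocus_of_le (r : ℕ) (hr : r < min n m)
    (P : PrimeSpectrum (MvPolynomial (Fin n × Fin m) k ⧸ Idet k n m (r + 1)))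
    (hP : (Idet k n m r).map (Ideal.Quotient.mk (Idet k n m (r + 1))) ≤ P.asIdeal) :
    P ∉ Algebra.smoothLocus k (MvPolynomial (Fin n × Fin m) k ⧸ Idet k n m (r + 1)) := by
  intro hs
  have hsm : Algebra.FormallySmooth k (Localization.AtPrime P.asIdeal) := hs
  have hJ : ∀ (u' : Fin r → Fin n) (v' : Fin r → Fin m),
      ((genM k n m).submatrix u' v').det ∈
        P.asIdeal.comap (Ideal.Quotient.mk (Idet k n m (r + 1))) := fun u' v' =>
    hP (Ideal.mem_map_of_mem _ (minor_mem_Idet u' v'))
  have hbot := ideal_eq_bot_of_smoothAt (k := k) (Idet k n m (r + 1))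
    (Set.range fun fg : (Fin (r + 1) → Fin n) × (Fin (r + 1) → Fin m) =>
      ((genM k n m).submatrix fg.1 fg.2).det) rfl P.asIdeal ?_ hsm
  · have h1 : r + 1 ≤ n := by omega
    have h2 : r + 1 ≤ m := by omega
    have hmem := minor_mem_Idet (k := k) (n := n) (m := m) (Fin.castLE h1) (Fin.castLE h2)
    rw [hbot, Ideal.mem_bot] at hmem
    let N : Matrix (Fin n) (Fin m) k := fun i j => if i.val = j.val then 1 else 0
    have h3 := congrArg (MvPolynomial.aeval (R := k)
      (fun ij : Fin n × Fin m => N ij.1 ij.2)) hmem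
    rw [aeval_minor (k := k) N, map_zero] at h3
    have h4 : N.submatrix (Fin.castLE h1) (Fin.castLE h2) = 1 := by
      ext a b
      simp [N, Matrix.one_apply, Fin.ext_iff]
    rw [h4, Matrix.det_one] at h3
    exact one_ne_zero h3
  · rintro _ ⟨⟨u, v⟩, rfl⟩
    have hrepr := (KaehlerDifferential.mvPolynomialBasis k (Fin n × Fin m)).sum_repr
      (KaehlerDifferential.D k (MvPolynomial (Fin n × Fin m) k)
        ((genM k n m).submatrix u v).det)
    rw [← hrepr]
    refine Submodule.sum_mem _ fun ij _ => ?_
    rw [KaehlerDifferential.mvPolynomialBasis_repr_apply]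
    refine Submodule.smul_mem_smul ?_ Submodule.mem_top
    exact derivation_minor_mem (MvPolynomial.pderiv ij) (genM k n m) r u v _ hJ

end Groth.Agent.Helper16.DetSm

namespace Groth.Agent.Helper16.DetSm

/-- Smooth locus of the generic determinantal variety: the points of rank exactly `r`. -/
theorem main (k : Type u) [Field k] (n m r : ℕ) (hr : r < min n m)
    (P : PrimeSpectrum (MvPolynomial (Fin n × Fin m) k ⧸ Idet k n m (r + 1))) :
    P ∈ Algebra.smoothLocus k (MvPolynomial (Fin n × Fin m) k ⧸ Idet k n m (r + 1)) ↔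
      ¬ (Idet k n m r).map (Ideal.Quotient.mk (Idet k n m (r + 1))) ≤ P.asIdeal :=
  ⟨fun hs hle => notMem_smoothLocus_of_le r hr P hle hs, mem_smoothLocus_of_not_le r P⟩

end Groth.Agent.Helper16.DetSm
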