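import Mathlib

set_option autoImplicit false
set_option linter.unusedSectionVars false
set_option linter.style.haveILetI false

open TensorProduct IsLocalRing

namespace Groth.Agent.Helper16.SmAtPt

open Algebra

variable {R S : Type*} [CommRing R] [CommRing S] [Algebra R S]

local notation "𝓀[" R "]" => ResidueField R

set_option backward.isDefEq.respectTransparency false in
attribute [local instance] Algebra.TensorProduct.rightAlgebra in
/-- localization of the fibre ring at a prime, as a tensor product -/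
lemma isLocalization_atPrime_fiber_tensor (p : Ideal R) (q : Ideal S) [p.IsPrime] [q.IsPrime]
    (Q : Ideal (p.Fiber S)) [Q.IsPrime]
    (hQ : Q.comap (Algebra.TensorProduct.includeRight : S →ₐ[R] p.Fiber S).toRingHom = q) :
    IsLocalization.AtPrime ((p.Fiber S) ⊗[S] Localization.AtPrime q) Q := by
  haveI h0 : IsLocalization (Algebra.algebraMapSubmonoid (p.Fiber S) q.primeCompl)
      ((p.Fiber S) ⊗[S] Localization.AtPrime q) := IsLocalization.tensor _ q.primeCompl
  refine IsLocalization.of_le (Algebra.algebraMapSubmonoid (p.Fiber S) q.primeCompl) Q.primeCompl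
    ?_ ?_
  · rintro _ ⟨s, hs, rfl⟩
    intro hmem
    apply hs
    rw [← hQ]
    exact hmem
  · intro y hy
    obtain ⟨r, hr, s, e⟩ := Ideal.Fiber.exists_smul_eq_one_tmul p y
    have hru : IsUnit (algebraMap R (p.Fiber S) r) := by
      rw [IsScalarTower.algebraMap_apply R p.ResidueField (p.Fiber S)]
      refine (IsUnit.mk0 _ ?_).map _
      intro h0'
      exact hr (Ideal.algebraMap_residueField_eq_zero.mp h0')
    have hs : s ∉ q := by
      intro hsq
      apply hy
      have h1 : (1 : p.ResidueField) ⊗ₜ[R] s ∈ Q := by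
        rw [← hQ] at hsq
        exact hsq
      rw [← e, Algebra.smul_def] at h1
      exact (Ideal.unit_mul_mem_iff_mem Q hru).1 h1
    have h2 : IsUnit (algebraMap (p.Fiber S) ((p.Fiber S) ⊗[S] Localization.AtPrime q)
        ((1 : p.ResidueField) ⊗ₜ[R] s)) :=
      IsLocalization.map_units ((p.Fiber S) ⊗[S] Localization.AtPrime q)
        (⟨(1 : p.ResidueField) ⊗ₜ[R] s, ⟨s, hs, rfl⟩⟩ :
          Algebra.algebraMapSubmonoid (p.Fiber S) q.primeCompl)
    rw [← e, Algebra.smul_def, map_mul] at h2
    obtain ⟨u, hu⟩ := h2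
    have h3 := u.mul_inv
    rw [hu] at h3
    refine ⟨⟨_, (algebraMap (p.Fiber S) ((p.Fiber S) ⊗[S] Localization.AtPrime q)
      (algebraMap R (p.Fiber S) r)) * ↑u⁻¹, ?_, ?_⟩, rfl⟩
    · linear_combination h3
    · linear_combination h3

/-- smoothness at a prime from flatness at the prime and smoothness of the fibre at the
corresponding prime of the fibre ring. -/
lemma isSmoothAt_of_flat_of_fiber_point
    [Algebra.FinitePresentation R S] (p : Ideal R) (q : Ideal S)
    [p.IsPrime] [q.IsPrime] [q.LiesOver p] [Module.Flat R (Localization.AtPrime q)]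
    (Q : Ideal (p.Fiber S)) [Q.IsPrime]
    (hQ : Q.comap (Algebra.TensorProduct.includeRight : S →ₐ[R] p.Fiber S).toRingHom = q)
    [Algebra.IsSmoothAt p.ResidueField Q] :
    Algebra.IsSmoothAt R q := by
  let Rp := Localization.AtPrime p
  let Sp := Localization (algebraMapSubmonoid S p.primeCompl)
  let Sq := Localization.AtPrime q
  let := Localization.AtPrime.algebraOfLiesOver p q
  let f : Sp →ₐ[S] Sq := IsLocalization.liftAlgHom (M := algebraMapSubmonoid S p.primeCompl)
        (f := Algebra.ofId _ _) (by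
      rintro ⟨_, x, hx, rfl⟩
      simpa using! IsLocalization.map_units (M := q.primeCompl) Sq ⟨algebraMap _ _ x,
        by simp_all [q.over_def p]⟩)
  algebraize [f.toRingHom]
  have : IsScalarTower R Sp Sq := .to₁₃₄ _ S _ _
  have : IsScalarTower Rp Sp Sq := .of_algebraMap_eq' <| by
    apply IsLocalization.ringHom_ext p.primeCompl
    simp only [RingHom.comp_assoc, ← IsScalarTower.algebraMap_eq]
  have : IsLocalization (algebraMapSubmonoid Sp q.primeCompl) Sq :=
    .isLocalization_of_submonoid_le _ _ (algebraMapSubmonoid S p.primeCompl) _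
    (by rintro _ ⟨x, hx, rfl⟩; simp_all [q.over_def p])
  have : FinitePresentation Rp Sp := by
    have : Algebra.IsPushout R Rp S Sp :=
      .symm <| Algebra.isPushout_of_isLocalization p.primeCompl _ _ _
    exact .equiv (Algebra.IsPushout.equiv R Rp S Sp)
  have : FormallySmooth 𝓀[Rp] (𝓀[Rp] ⊗[Rp] Sq) := by
    let : Algebra S (𝓀[Rp] ⊗[R] S) := Algebra.TensorProduct.rightAlgebra
    have : FormallySmooth 𝓀[Rp] ((𝓀[Rp] ⊗[R] S) ⊗[S] Sq) := by
      haveI hloc : IsLocalization.AtPrime ((p.Fiber S) ⊗[S] Localization.AtPrime q) Q :=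
        isLocalization_atPrime_fiber_tensor p q Q hQ
      let e₀ : Localization.AtPrime Q ≃ₐ[p.Fiber S] ((p.Fiber S) ⊗[S] Localization.AtPrime q) :=
        IsLocalization.algEquiv Q.primeCompl (Localization.AtPrime Q)
          ((p.Fiber S) ⊗[S] Localization.AtPrime q)
      haveI : FormallySmooth p.ResidueField (Localization.AtPrime Q) := ‹Algebra.IsSmoothAt _ Q›
      let e₁ : Localization.AtPrime Q ≃ₐ[𝓀[Rp]] ((𝓀[Rp] ⊗[R] S) ⊗[S] Sq) :=
        { e₀.toRingEquiv with
          commutes' := fun r => by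
            have h1 := e₀.commutes (algebraMap 𝓀[Rp] (𝓀[Rp] ⊗[R] S) r)
            rw [IsScalarTower.algebraMap_apply 𝓀[Rp] (𝓀[Rp] ⊗[R] S) (Localization.AtPrime Q)]
            exact h1 }
      exact FormallySmooth.of_equiv (A := Localization.AtPrime Q) e₁
    let e : 𝓀[Rp] ⊗[R] S ≃ₐ[S] S ⊗[R] 𝓀[Rp] :=
      { __ := Algebra.TensorProduct.comm _ _ _, commutes' _ := rfl }
    let e' : (𝓀[Rp] ⊗[R] S) ⊗[S] Sq ≃ₐ[R] 𝓀[Rp] ⊗[Rp] Sq :=
      ((Algebra.TensorProduct.comm _ _ _).restrictScalars R).trans <|
      ((Algebra.TensorProduct.congr (.refl (R := S)) e).restrictScalars R).trans <|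
      ((Algebra.TensorProduct.cancelBaseChange _ _ S _ _).restrictScalars R).trans <|
      (Algebra.TensorProduct.comm _ _ _).trans (Algebra.TensorProduct.equivOfCompatibleSMul ..)
    have : e'.toAlgHom.comp (IsScalarTower.toAlgHom R p.ResidueField _) =
        IsScalarTower.toAlgHom _ _ _ := by ext
    let e'' : (𝓀[Rp] ⊗[R] S) ⊗[S] Sq ≃ₐ[𝓀[Rp]] 𝓀[Rp] ⊗[Rp] Sq :=
      { __ := e', commutes' r := congr($this r) }
    exact .of_equiv e''
  have : Module.Flat Rp Sq :=
    (Module.flat_iff_of_isLocalization Rp p.primeCompl Sq).2 inferInstance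
  have := FormallySmooth.of_formallySmooth_residueField_tensor
    (R := Rp) (S := Sq) (P := Sp) (algebraMapSubmonoid _ q.primeCompl)
  exact .comp R Rp Sq

end Groth.Agent.Helper16.SmAtPt
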