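import Mathlib
import Groth.Agent.Lib.Helper16.Alg.SmAtPt
import Groth.Agent.Lib.Helper10.FittingD
import Groth.Agent.S2063
import Groth.Agent.S6894

set_option autoImplicit false
set_option linter.unusedSectionVars false
set_option linter.style.haveILetI false
universe u

open TensorProduct IsLocalRing

namespace Groth.Agent.Helper16.SmAtPt

open Groth.Agent.Lib.Helper10.Fitting

attribute [local instance] Algebra.TensorProduct.rightAlgebra in
/-- flat at `q`, and the `d`-th Fitting ideal of the differentials not contained in `q`, with `d`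
at most the local dimension of the fibre: smooth at `q`. -/
theorem isSmoothAt_of_flat_of_fitt (A B : Type u) [CommRing A] [CommRing B] [Algebra A B]
    [Algebra.FinitePresentation A B] (p : Ideal A) (q : Ideal B)
    [p.IsPrime] [q.IsPrime] [q.LiesOver p] [Module.Flat A (Localization.AtPrime q)]
    (Q : PrimeSpectrum (p.Fiber B))
    (hQ : Q.asIdeal.comap (Algebra.TensorProduct.includeRight : B →ₐ[A] p.Fiber B).toRingHom = q)
    (d : ℕ) (hfitt : ¬ Fitt.ideal B Ω[B⁄A] d ≤ q)
    (hdim : (d : WithBot ℕ∞) ≤ FlatMor.localDim (PrimeSpectrum (p.Fiber B)) Q) :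
    Algebra.IsSmoothAt A q := by
  let K := p.ResidueField
  let F := p.Fiber B
  let eΩ : F ⊗[B] Ω[B⁄A] ≃ₗ[F] Ω[F⁄K] := KaehlerDifferential.tensorKaehlerEquiv A K B F
  have h1 : Fitt.ideal F Ω[F⁄K] d = (Fitt.ideal B Ω[B⁄A] d).map (algebraMap B F) := by
    rw [← fitt_congr eΩ d, fitt_baseChange F d]
  obtain ⟨c, hc, hcq⟩ := SetLike.not_le_iff_exists.mp hfitt
  have h2 : ¬ Fitt.ideal F Ω[F⁄K] d ≤ Q.asIdeal := by
    intro hle
    apply hcq
    rw [← hQ]
    have : algebraMap B F c ∈ Fitt.ideal F Ω[F⁄K] d := by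
      rw [h1]
      exact Ideal.mem_map_of_mem _ hc
    exact hle this
  have h3 := ((Groth.Agent.S6894.result (R := F) Ω[F⁄K] d Q.asIdeal).1).mp h2
  haveI : Algebra.IsSmoothAt K Q.asIdeal := by
    rw [Groth.Agent.S2063.result (k := K) (S := F) Q.asIdeal]
    refine le_trans ?_ hdim
    exact_mod_cast h3
  exact isSmoothAt_of_flat_of_fiber_point p q Q.asIdeal hQ

end Groth.Agent.Helper16.SmAtPt
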