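import Mathlib
import Groth.Agent.Lib.Helper16.Alg.SmAtPt

set_option autoImplicit false
set_option linter.unusedSectionVars false
set_option linter.style.haveILetI false
universe u

open TensorProduct IsLocalRing Algebra

namespace Groth.Agent.Helper16.SmAtPt

variable {R S : Type u} [CommRing R] [CommRing S] [Algebra R S]

local notation "𝓀[" R "]" => ResidueField R

set_option backward.isDefEq.respectTransparency false in
attribute [local instance] Algebra.TensorProduct.rightAlgebra in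
/-- smoothness at a prime implies smoothness of the fibre at the corresponding prime. -/
lemma isSmoothAt_fiber_of_isSmoothAt (p : Ideal R) (q : Ideal S)
    [p.IsPrime] [q.IsPrime] [q.LiesOver p]
    (Q : Ideal (p.Fiber S)) [Q.IsPrime]
    (hQ : Q.comap (Algebra.TensorProduct.includeRight : S →ₐ[R] p.Fiber S).toRingHom = q)
    [Algebra.IsSmoothAt R q] :
    Algebra.IsSmoothAt p.ResidueField Q := by
  let Rp := Localization.AtPrime p
  let Sq := Localization.AtPrime q
  let := Localization.AtPrime.algebraOfLiesOver p q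
  haveI hloc : IsLocalization.AtPrime ((p.Fiber S) ⊗[S] Localization.AtPrime q) Q :=
    isLocalization_atPrime_fiber_tensor p q Q hQ
  let e₀ : Localization.AtPrime Q ≃ₐ[p.Fiber S] ((p.Fiber S) ⊗[S] Localization.AtPrime q) :=
    IsLocalization.algEquiv Q.primeCompl (Localization.AtPrime Q)
      ((p.Fiber S) ⊗[S] Localization.AtPrime q)
  let e₁ : Localization.AtPrime Q ≃ₐ[𝓀[Rp]] ((𝓀[Rp] ⊗[R] S) ⊗[S] Sq) :=
    { e₀.toRingEquiv with
      commutes' := fun r => by
        have h1 := e₀.commutes (algebraMap 𝓀[Rp] (𝓀[Rp] ⊗[R] S) r)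
        rw [IsScalarTower.algebraMap_apply 𝓀[Rp] (𝓀[Rp] ⊗[R] S) (Localization.AtPrime Q)]
        exact h1 }
  let e : 𝓀[Rp] ⊗[R] S ≃ₐ[S] S ⊗[R] 𝓀[Rp] :=
    { __ := Algebra.TensorProduct.comm _ _ _, commutes' _ := rfl }
  let e' : (𝓀[Rp] ⊗[R] S) ⊗[S] Sq ≃ₐ[R] 𝓀[Rp] ⊗[Rp] Sq :=
    ((Algebra.TensorProduct.comm _ _ _).restrictScalars R).trans <|
    ((Algebra.TensorProduct.congr (.refl (R := S)) e).restrictScalars R).trans <|
    ((Algebra.TensorProduct.cancelBaseChange _ _ S _ _).restrictScalars R).trans <|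
    (Algebra.TensorProduct.comm _ _ _).trans (Algebra.TensorProduct.equivOfCompatibleSMul ..)
  have : e'.toAlgHom.comp (IsScalarTower.toAlgHom R p.ResidueField _) =
      IsScalarTower.toAlgHom _ _ _ := by ext
  let e'' : (𝓀[Rp] ⊗[R] S) ⊗[S] Sq ≃ₐ[𝓀[Rp]] 𝓀[Rp] ⊗[Rp] Sq :=
    { __ := e', commutes' r := congr($this r) }
  haveI : FormallySmooth R Sq := ‹Algebra.IsSmoothAt R q›
  haveI : FormallySmooth Rp Sq := FormallySmooth.localization_base p.primeCompl
  haveI : FormallySmooth 𝓀[Rp] (𝓀[Rp] ⊗[Rp] Sq) := inferInstance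
  haveI : FormallySmooth 𝓀[Rp] ((𝓀[Rp] ⊗[R] S) ⊗[S] Sq) := .of_equiv e''.symm
  exact FormallySmooth.of_equiv (A := (𝓀[Rp] ⊗[R] S) ⊗[S] Sq) e₁.symm

end Groth.Agent.Helper16.SmAtPt
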