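import Mathlib
import Groth.Agent.Lib.Helper16.Alg.SmAtPt5
import Groth.Agent.Lib.Helper16.Alg.SmAtPt6
import Groth.Agent.Lib.Helper10.FittingE
import Groth.Agent.Lib.Helper14.Chevalley
import Groth.Agent.Lib.Helper14.FibreGeneric

set_option autoImplicit false
set_option linter.unusedSectionVars false
set_option linter.style.haveILetI false
universe u

open TensorProduct IsLocalRing

namespace Groth.Agent.Helper16.DvrSm

open Groth.Agent.Lib.Helper10.Fitting

attribute [local instance] Algebra.TensorProduct.rightAlgebra in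
/-- if the `k`-th Fitting ideal of the differentials lies in `q`, the fibre of the differentials
at the corresponding point of the fibre ring has dimension more than `k`. -/
theorem not_finrank_le_of_fitt_le (A B : Type u) [CommRing A] [CommRing B] [Algebra A B]
    [Algebra.FiniteType A B] (p : Ideal A) (q : Ideal B) [p.IsPrime] [q.IsPrime]
    (Q : PrimeSpectrum (p.Fiber B))
    (hQ : Q.asIdeal.comap (Algebra.TensorProduct.includeRight : B →ₐ[A] p.Fiber B).toRingHom = q)
    (k : ℕ) (hfitt : Fitt.ideal B Ω[B⁄A] k ≤ q) :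
    ¬ Module.finrank Q.asIdeal.ResidueField
      (Q.asIdeal.ResidueField ⊗[p.Fiber B] Ω[p.Fiber B⁄p.ResidueField]) ≤ k := by
  let K := p.ResidueField
  let F := p.Fiber B
  let eΩ : F ⊗[B] Ω[B⁄A] ≃ₗ[F] Ω[F⁄K] := KaehlerDifferential.tensorKaehlerEquiv A K B F
  have h1 : Fitt.ideal F Ω[F⁄K] k = (Fitt.ideal B Ω[B⁄A] k).map (algebraMap B F) := by
    rw [← fitt_congr eΩ k, fitt_baseChange F k]
  have h2 : Fitt.ideal F Ω[F⁄K] k ≤ Q.asIdeal := by
    rw [h1, Ideal.map_le_iff_le_comap]
    refine hfitt.trans ?_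
    rw [← hQ]
    exact le_rfl
  intro h3
  exact ((Groth.Agent.S6894.result (R := F) Ω[F⁄K] k Q.asIdeal).1).mpr h3 h2

/-- the prime of the fibre ring corresponding to a prime of `B`. -/
theorem exists_fiber_prime (A B : Type u) [CommRing A] [CommRing B] [Algebra A B]
    (q : Ideal B) [hq : q.IsPrime] :
    ∃ Q : PrimeSpectrum ((q.under A).Fiber B),
      Q.asIdeal.comap (Algebra.TensorProduct.includeRight : B →ₐ[A] (q.under A).Fiber B).toRingHom
        = q := by
  let qs : PrimeSpectrum B := ⟨q, hq⟩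
  let Q₀ : PrimeSpectrum ((PrimeSpectrum.comap (algebraMap A B) qs).asIdeal.Fiber B) :=
    PrimeSpectrum.preimageHomeomorphFiber A B (PrimeSpectrum.comap (algebraMap A B) qs) ⟨qs, rfl⟩
  refine ⟨Q₀, ?_⟩
  have := (PrimeSpectrum.preimageHomeomorphFiber A B
    (PrimeSpectrum.comap (algebraMap A B) qs)).symm_apply_apply ⟨qs, rfl⟩
  exact congrArg (fun z => z.1.asIdeal) this

theorem lt_succ_imp_le (x : WithBot ℕ∞) (n : ℕ) (h : x < ((n + 1 : ℕ) : WithBot ℕ∞)) :
    x ≤ (n : WithBot ℕ∞) := by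
  induction x using WithBot.recBotCoe with
  | bot => exact bot_le
  | coe y =>
    have h' : y < ((n + 1 : ℕ) : ℕ∞) := by exact_mod_cast h
    have h2 : y ≤ (n : ℕ∞) := by
      rw [Nat.cast_add, Nat.cast_one] at h'
      exact Order.le_of_lt_add_one h'
    exact_mod_cast h2

/-- **Smoothness at the special point of a section** from freeness of the pulled back
differentials. -/
theorem main {R Λ A : Type u} [CommRing R] [IsNoetherianRing R] [CommRing Λ] [IsLocalRing Λ]
    [Algebra R Λ] [CommRing A] [Algebra R A] [Module.Flat R A] [Algebra.FiniteType R A]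
    [Algebra A Λ] [IsScalarTower R A Λ] [(RingHom.ker (algebraMap A Λ)).IsPrime]
    (hq : Algebra.IsSmoothAt R (RingHom.ker (algebraMap A Λ)))
    (hfree : Module.Free Λ (Λ ⊗[A] Ω[A⁄R])) :
    Algebra.IsSmoothAt R ((IsLocalRing.maximalIdeal Λ).comap (algebraMap A Λ)) := by
  haveI : Algebra.FinitePresentation R A :=
    Algebra.FinitePresentation.of_finiteType.mp inferInstance
  obtain ⟨q, hqdef⟩ : ∃ q : Ideal A, q = RingHom.ker (algebraMap A Λ) := ⟨_, rfl⟩
  obtain ⟨p, hpdef⟩ : ∃ p : Ideal A, p = (maximalIdeal Λ).comap (algebraMap A Λ) := ⟨_, rfl⟩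
  haveI hqprime : q.IsPrime := by rw [hqdef]; infer_instance
  haveI hpprime : p.IsPrime := by rw [hpdef]; infer_instance
  have hqsm : Algebra.IsSmoothAt R q := by subst hqdef; exact hq
  suffices Algebra.IsSmoothAt R p by subst hpdef; exact this
  have hqp : q ≤ p := by
    intro a ha
    rw [hqdef, RingHom.mem_ker] at ha
    rw [hpdef, Ideal.mem_comap, ha]
    exact zero_mem _
  -- rank
  haveI : Module.Finite A Ω[A⁄R] := inferInstance
  haveI : Module.Finite Λ (Λ ⊗[A] Ω[A⁄R]) := inferInstance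
  obtain ⟨r, hr⟩ : ∃ r : ℕ, Module.finrank Λ (Λ ⊗[A] Ω[A⁄R]) = r := ⟨_, rfl⟩
  let b : Module.Basis (Fin r) Λ (Λ ⊗[A] Ω[A⁄R]) := Module.finBasisOfFinrankEq _ _ hr
  have hb := fitt_of_basis b
  have hbc : ∀ k, Fitt.ideal Λ (Λ ⊗[A] Ω[A⁄R]) k =
      (Fitt.ideal A Ω[A⁄R] k).map (algebraMap A Λ) := fun k => fitt_baseChange Λ k
  have h_i : ¬ Fitt.ideal A Ω[A⁄R] r ≤ p := by
    intro hle
    have h1 := (hb r).2 le_rfl
    rw [hbc] at h1
    have h2 : (Fitt.ideal A Ω[A⁄R] r).map (algebraMap A Λ) ≤ maximalIdeal Λ := by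
      rw [Ideal.map_le_iff_le_comap, ← hpdef]
      exact hle
    rw [h1] at h2
    exact (maximalIdeal.isMaximal Λ).ne_top (top_le_iff.mp h2)
  have h_ii : ∀ k, k < r → Fitt.ideal A Ω[A⁄R] k ≤ q := by
    intro k hk a ha
    have h1 := (hb k).1 hk
    rw [hbc] at h1
    have : algebraMap A Λ a ∈ (Fitt.ideal A Ω[A⁄R] k).map (algebraMap A Λ) :=
      Ideal.mem_map_of_mem _ ha
    rw [h1, Ideal.mem_bot] at this
    rw [hqdef, RingHom.mem_ker]
    exact this
  -- fibre primes
  haveI : p.LiesOver (p.under R) := ⟨rfl⟩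
  haveI : q.LiesOver (q.under R) := ⟨rfl⟩
  obtain ⟨Pb, hPb⟩ := exists_fiber_prime R A p
  obtain ⟨Qb, hQb⟩ := exists_fiber_prime R A q
  -- smoothness of the generic fibre
  haveI hsmQ : Algebra.IsSmoothAt (q.under R).ResidueField Qb.asIdeal :=
    Groth.Agent.Helper16.SmAtPt.isSmoothAt_fiber_of_isSmoothAt (q.under R) q Qb.asIdeal hQb
  have h3 := (Groth.Agent.S2063.result (k := (q.under R).ResidueField)
    (S := (q.under R).Fiber A) Qb.asIdeal).mp hsmQ
  have h4 : r ≤ Module.finrank Qb.asIdeal.ResidueField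
      (Qb.asIdeal.ResidueField ⊗[(q.under R).Fiber A]
        Ω[(q.under R).Fiber A⁄(q.under R).ResidueField]) := by
    by_contra hlt
    rw [not_le] at hlt
    exact not_finrank_le_of_fitt_le R A (q.under R) q Qb hQb _ (h_ii _ hlt) le_rfl
  have h5 : (r : WithBot ℕ∞) ≤ FlatMor.localDim (PrimeSpectrum ((q.under R).Fiber A)) Qb := by
    refine le_trans ?_ h3
    exact_mod_cast h4
  -- Chevalley
  have h6 : (r : WithBot ℕ∞) ≤ FlatMor.localDim (PrimeSpectrum ((p.under R).Fiber A)) Pb := by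
    by_contra hnot
    rw [not_le] at hnot
    rcases Nat.eq_zero_or_pos r with h0 | hpos
    · subst h0
      exact absurd (Groth.Agent.Helper14.FibreGeneric.zero_le_localDim Pb) (not_le.mpr hnot)
    · obtain ⟨n, rfl⟩ : ∃ n, r = n + 1 := ⟨r - 1, by omega⟩
      have h7 := lt_succ_imp_le _ n hnot
      obtain ⟨g, hgP, hg⟩ := Groth.Agent.Helper14.Chevalley.alg_chevalley R A (p.under R) Pb n h7
      have hgQ : ((1 : (q.under R).ResidueField) ⊗ₜ[R] g) ∉ Qb.asIdeal := by
        intro hmem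
        apply hgP
        have h8 : g ∈ q := by
          rw [← hQb]
          exact hmem
        have h9 : g ∈ p := hqp h8
        rw [← hPb] at h9
        exact h9
      have h10 := hg (q.under R) Qb hgQ
      have h11 := h5.trans h10
      have : n + 1 ≤ n := by exact_mod_cast h11
      omega
  haveI : Module.Flat R (Localization.AtPrime p) := Module.Flat.trans R A (Localization.AtPrime p)
  exact Groth.Agent.Helper16.SmAtPt.isSmoothAt_of_flat_of_fitt R A (p.under R) p Pb hPb r h_i h6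

end Groth.Agent.Helper16.DvrSm
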