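import Mathlib
import Groth.Agent.Lib.Lead.ZPure5
import Groth.Agent.Lib.Helper8.LCFalt2
import Groth.Prelude.Def_EGA4b

set_option autoImplicit false
set_option linter.style.haveILetI false
set_option linter.unusedSectionVars false
universe u

open IsLocalRing

namespace Groth.Agent.Helper16.EquiNoEmb

theorem isEquidim_iff_isEquidimModule (R : Type u) [CommRing R] :
    EGA4.IsEquidim R ↔ EGA4.IsEquidimModule R R := by
  unfold EGA4.IsEquidim EGA4.IsEquidimModule
  have h1 : Module.annihilator R R = ⊥ := by
    rw [eq_bot_iff]
    intro r hr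
    have := Module.mem_annihilator.mp hr 1
    simpa using this
  rw [h1, Module.supportDim_self_eq_ringKrullDim]

theorem isEquidimModule_congr {R : Type u} [CommRing R] {M N : Type u} [AddCommGroup M]
    [Module R M] [AddCommGroup N] [Module R N] (e : M ≃ₗ[R] N) :
    EGA4.IsEquidimModule R M ↔ EGA4.IsEquidimModule R N := by
  unfold EGA4.IsEquidimModule
  rw [e.annihilator_eq, Module.supportDim_eq_of_equiv e]

theorem noEmb_iff_hasSk_one (R : Type u) [CommRing R] [IsNoetherianRing R] :
    (∀ p ∈ associatedPrimes R R, p ∈ minimalPrimes R) ↔ LocCoh.HasSk 1 R R := by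
  have hsupp : Module.support R R = Set.univ := by
    rw [Module.support_of_algebra]
    have : RingHom.ker (algebraMap R R) = ⊥ := by
      rw [RingHom.ker_eq_bot_iff_eq_zero]
      intro x hx
      exact hx
    rw [this]
    simp
  rw [Groth.Agent.Lead.ZP.hasSk_iff_of_support_eq_univ R hsupp 1]
  constructor
  · intro H p
    rw [Nat.cast_one, Groth.Agent.Lead.ZP.min_one_le_iff]
    intro h1
    by_contra hcon
    have h0 : LocCoh.depth (Localization.AtPrime p.asIdeal)
        (LocalizedModule p.asIdeal.primeCompl R) = 0 :=
      Order.lt_one_iff.mp (not_le.mp hcon)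
    have hass := Groth.Agent.Helper8.LC.mem_associatedPrimes_of_depth_localizedModule_eq_zero
      p.asIdeal R h0
    have hmin := H _ hass
    have : p.asIdeal.height = 0 := by
      rw [Ideal.height_eq_zero_iff]
      exact hmin
    rw [this] at h1
    exact absurd h1 (by simp)
  · intro H p hp
    haveI : p.IsPrime := hp.isPrime
    have h0 := Groth.Agent.Helper8.LC.depth_localizedModule_eq_zero_of_mem_associatedPrimes
      p R hp
    have h := H ⟨p, inferInstance⟩
    rw [Nat.cast_one, Groth.Agent.Lead.ZP.min_one_le_iff] at h
    have : ¬ (1 ≤ p.height) := by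
      intro h1
      have := h h1
      rw [h0] at this
      exact absurd this (by simp)
    have h2 : p.height = 0 := Order.lt_one_iff.mp (not_le.mp this)
    rw [Ideal.height_eq_zero_iff] at h2
    exact h2

end Groth.Agent.Helper16.EquiNoEmb
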