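import Mathlib
import Groth.Agent.Lib.Helper14.DimFun
import Groth.Agent.Lib.Helper28.ReflDepth
import Groth.Agent.Lib.Lead.Depth5

/-!
# Dimension functions on the spectrum of a Noetherian ring and dimensions of localized supports
(helper16)
-/

set_option autoImplicit false
set_option linter.style.haveILetI false
set_option linter.unusedSectionVars false
universe u

open IsLocalRing

namespace Groth.Agent.Helper16.EquiSk

open Groth.Agent.Helper14

section Comap

variable {C : Type u} [CommRing C]

/-- the contraction map of the localization at `q'`, as a strictly monotone map. -/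
theorem comap_strictMono (q' : PrimeSpectrum C) :
    StrictMono (PrimeSpectrum.comap (algebraMap C (Localization.AtPrime q'.asIdeal))) := by
  intro P P' h
  have := (IsLocalization.AtPrime.primeSpectrumOrderIso (Localization.AtPrime q'.asIdeal)
    q'.asIdeal).strictMono h
  exact this

theorem comap_le (q' : PrimeSpectrum C) (P : PrimeSpectrum (Localization.AtPrime q'.asIdeal)) :
    PrimeSpectrum.comap (algebraMap C (Localization.AtPrime q'.asIdeal)) P ≤ q' :=
  ((IsLocalization.AtPrime.primeSpectrumOrderIso (Localization.AtPrime q'.asIdeal)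
    q'.asIdeal) P).2

end Comap

section Delta

variable {C : Type u} [CommRing C] [IsNoetherianRing C] (δ : PrimeSpectrum C → ℤ)
  (hδ : ∀ P₁ P₂ : PrimeSpectrum C, P₁ ⋖ P₂ → δ P₁ = δ P₂ + 1)

include hδ

theorem delta_anti {q q' : PrimeSpectrum C} (h : q ≤ q') : δ q' ≤ δ q := by
  haveI := q.isPrime
  haveI := q'.isPrime
  obtain ⟨n, -, hn⟩ := DimFun.delta_eq_add_height δ hδ q.asIdeal q'.asIdeal h
  have : δ q = δ q' + n := hn
  omega

theorem delta_strictAnti {q q' : PrimeSpectrum C} (h : q < q') : δ q' < δ q := by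
  haveI := q.isPrime
  haveI := q'.isPrime
  obtain ⟨n, hn1, hn⟩ := DimFun.delta_eq_add_height δ hδ q.asIdeal q'.asIdeal h.le
  have hn' : δ q = δ q' + n := hn
  have hpos : n ≠ 0 := by
    rintro rfl
    haveI hP' : (q'.asIdeal.map (Ideal.Quotient.mk q.asIdeal)).IsPrime :=
      Ideal.map_isPrime_of_surjective Ideal.Quotient.mk_surjective
        (by rw [Ideal.mk_ker]; exact h.le)
    have h0 : (q'.asIdeal.map (Ideal.Quotient.mk q.asIdeal)).height = 0 := by
      rw [hn1]; rfl
    rw [Ideal.height_eq_zero_iff, IsDomain.minimalPrimes_eq_singleton_bot,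
      Set.mem_singleton_iff, Ideal.map_eq_bot_iff_le_ker, Ideal.mk_ker] at h0
    exact h.not_ge h0
  omega

/-- **upper bound** for the dimension of a set of primes of a localization. -/
theorem krullDim_preimage_le (q' : PrimeSpectrum C) (T : Set (PrimeSpectrum C)) (D : ℤ)
    (hD : ∀ q ∈ T, q ≤ q' → δ q ≤ D) :
    Order.krullDim ↥(PrimeSpectrum.comap (algebraMap C (Localization.AtPrime q'.asIdeal)) ⁻¹' T) ≤
      (((D - δ q').toNat : ℕ) : WithBot ℕ∞) := by
  unfold Order.krullDim
  refine iSup_le fun p => ?_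
  have hmono : StrictMono (fun P : ↥(PrimeSpectrum.comap
      (algebraMap C (Localization.AtPrime q'.asIdeal)) ⁻¹' T) =>
      - δ (PrimeSpectrum.comap (algebraMap C (Localization.AtPrime q'.asIdeal)) P.1)) := by
    intro P P' h
    have h1 : PrimeSpectrum.comap (algebraMap C (Localization.AtPrime q'.asIdeal)) P.1 <
        PrimeSpectrum.comap (algebraMap C (Localization.AtPrime q'.asIdeal)) P'.1 :=
      comap_strictMono q' h
    have := delta_strictAnti δ hδ h1
    simp only
    omega
  have h := LTSeries.head_add_length_le_int (p.map _ hmono)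
  have hh : (p.map _ hmono).head = - δ (PrimeSpectrum.comap
      (algebraMap C (Localization.AtPrime q'.asIdeal)) p.head.1) := rfl
  have hl : (p.map _ hmono).last = - δ (PrimeSpectrum.comap
      (algebraMap C (Localization.AtPrime q'.asIdeal)) p.last.1) := rfl
  have hlen : (p.map _ hmono).length = p.length := rfl
  rw [hh, hl, hlen] at h
  have h1 := hD _ p.head.2 (comap_le q' p.head.1)
  have h2 := delta_anti δ hδ (comap_le q' p.last.1)
  have h4 : p.length ≤ (D - δ q').toNat := by omega
  exact_mod_cast h4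

/-- **lower bound** for the dimension of an upward closed set of primes of a localization. -/
theorem le_krullDim_preimage (q' : PrimeSpectrum C) (T : Set (PrimeSpectrum C))
    (hT : IsUpperSet T) (q : PrimeSpectrum C) (hq : q ∈ T) (hqq' : q ≤ q') :
    (((δ q - δ q').toNat : ℕ) : WithBot ℕ∞) ≤
      Order.krullDim ↥(PrimeSpectrum.comap
        (algebraMap C (Localization.AtPrime q'.asIdeal)) ⁻¹' T) := by
  haveI := q.isPrime
  haveI := q'.isPrime
  obtain ⟨n, hn1, hn⟩ := DimFun.delta_eq_add_height δ hδ q.asIdeal q'.asIdeal hqq'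
  have hn' : δ q = δ q' + n := hn
  have hnat : (δ q - δ q').toNat = n := by omega
  rw [hnat]
  haveI hP' : (q'.asIdeal.map (Ideal.Quotient.mk q.asIdeal)).IsPrime :=
    Ideal.map_isPrime_of_surjective Ideal.Quotient.mk_surjective
      (by rw [Ideal.mk_ker]; exact hqq')
  set x : PrimeSpectrum (C ⧸ q.asIdeal) := ⟨q'.asIdeal.map (Ideal.Quotient.mk q.asIdeal), hP'⟩
    with hx
  have hh : Order.height x = n := by
    rw [← PrimeSpectrum.height_eq_orderHeight]
    exact hn1
  have hk : ((n : ℕ∞) : WithBot ℕ∞) = Order.krullDim (Set.Iic x) := by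
    rw [← Order.height_eq_krullDim_Iic, hh]
  have hcast : ((n : ℕ) : WithBot ℕ∞) = ((n : ℕ∞) : WithBot ℕ∞) := rfl
  rw [hcast, hk]
  -- the comparison map
  let e := IsLocalization.AtPrime.primeSpectrumOrderIso (Localization.AtPrime q'.asIdeal)
    q'.asIdeal
  have hxc : PrimeSpectrum.comap (Ideal.Quotient.mk q.asIdeal) x = q' := by
    apply PrimeSpectrum.ext
    change (q'.asIdeal.map (Ideal.Quotient.mk q.asIdeal)).comap (Ideal.Quotient.mk q.asIdeal) =
      q'.asIdeal
    rw [Ideal.comap_map_of_surjective' _ Ideal.Quotient.mk_surjective, Ideal.mk_ker]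
    exact sup_eq_left.mpr hqq'
  have hcm : Monotone (PrimeSpectrum.comap (Ideal.Quotient.mk q.asIdeal)) := fun a b hab =>
    Ideal.comap_mono (f := Ideal.Quotient.mk q.asIdeal) hab
  have hle : ∀ P : Set.Iic x, PrimeSpectrum.comap (Ideal.Quotient.mk q.asIdeal) P.1 ≤ q' := by
    intro P
    rw [← hxc]
    exact hcm P.2
  have hge : ∀ P : PrimeSpectrum (C ⧸ q.asIdeal),
      q ≤ PrimeSpectrum.comap (Ideal.Quotient.mk q.asIdeal) P := by
    intro P
    change q.asIdeal ≤ P.asIdeal.comap (Ideal.Quotient.mk q.asIdeal)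
    conv_lhs => rw [← Ideal.mk_ker (I := q.asIdeal), RingHom.ker_eq_comap_bot]
    exact Ideal.comap_mono bot_le
  have hcomap : ∀ P : Set.Iic x, PrimeSpectrum.comap
      (algebraMap C (Localization.AtPrime q'.asIdeal))
      (e.symm ⟨PrimeSpectrum.comap (Ideal.Quotient.mk q.asIdeal) P.1, hle P⟩) =
      PrimeSpectrum.comap (Ideal.Quotient.mk q.asIdeal) P.1 := fun P =>
    congrArg Subtype.val (e.apply_symm_apply ⟨_, hle P⟩)
  refine Order.krullDim_le_of_strictMono
    (fun P : Set.Iic x => (⟨e.symm ⟨PrimeSpectrum.comap (Ideal.Quotient.mk q.asIdeal) P.1, hle P⟩,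
      ?_⟩ : ↥(PrimeSpectrum.comap (algebraMap C (Localization.AtPrime q'.asIdeal)) ⁻¹' T))) ?_
  · rw [Set.mem_preimage, hcomap]
    exact hT (hge P.1) hq
  · intro P P' hPP'
    have hinj : Function.Injective (PrimeSpectrum.comap (Ideal.Quotient.mk q.asIdeal)) :=
      PrimeSpectrum.comap_injective_of_surjective _ Ideal.Quotient.mk_surjective
    have h1 : PrimeSpectrum.comap (Ideal.Quotient.mk q.asIdeal) P.1 <
        PrimeSpectrum.comap (Ideal.Quotient.mk q.asIdeal) P'.1 :=
      lt_of_le_of_ne (hcm hPP'.le) (fun h => hPP'.ne (Subtype.ext (hinj h)))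
    exact e.symm.strictMono (show (⟨_, hle P⟩ : Set.Iic _) < ⟨_, hle P'⟩ from h1)

end Delta

section Mod

variable {C : Type u} [CommRing C] [IsNoetherianRing C] (δ : PrimeSpectrum C → ℤ)
  (hδ : ∀ P₁ P₂ : PrimeSpectrum C, P₁ ⋖ P₂ → δ P₁ = δ P₂ + 1)
  (N : Type u) [AddCommGroup N] [Module C N]

/-- the dimension of the localization of `N` at `q`. -/
noncomputable def ldim (q : PrimeSpectrum C) : WithBot ℕ∞ :=
  Module.supportDim (Localization.AtPrime q.asIdeal) (LocalizedModule q.asIdeal.primeCompl N)

/-- the depth of the localization of `N` at `q`. -/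
noncomputable def ldepth (q : PrimeSpectrum C) : ℕ∞ :=
  LocCoh.depth (Localization.AtPrime q.asIdeal) (LocalizedModule q.asIdeal.primeCompl N)

theorem support_localized (q' : PrimeSpectrum C) :
    Module.support (Localization.AtPrime q'.asIdeal) (LocalizedModule q'.asIdeal.primeCompl N) =
      PrimeSpectrum.comap (algebraMap C (Localization.AtPrime q'.asIdeal)) ⁻¹'
        Module.support C N := by
  ext P
  exact Groth.Agent.Helper28.ReflDepth.mem_support_localizedModule_iff q'.asIdeal N P

theorem ldim_eq_krullDim (q' : PrimeSpectrum C) :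
    ldim N q' = Order.krullDim ↥(PrimeSpectrum.comap
      (algebraMap C (Localization.AtPrime q'.asIdeal)) ⁻¹' Module.support C N) := by
  unfold ldim Module.supportDim
  exact Order.krullDim_eq_of_orderIso (OrderIso.setCongr _ _ (support_localized N q'))

theorem isUpperSet_support : IsUpperSet (Module.support C N) := fun _ _ h hp =>
  Module.mem_support_mono h hp

include hδ in
theorem ldim_le (q' : PrimeSpectrum C) (D : ℤ)
    (hD : ∀ q ∈ Module.support C N, q ≤ q' → δ q ≤ D) :
    ldim N q' ≤ (((D - δ q').toNat : ℕ) : WithBot ℕ∞) := by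
  rw [ldim_eq_krullDim]
  exact krullDim_preimage_le δ hδ q' _ D hD

include hδ in
theorem le_ldim (q q' : PrimeSpectrum C) (hq : q ∈ Module.support C N) (hqq' : q ≤ q') :
    (((δ q - δ q').toNat : ℕ) : WithBot ℕ∞) ≤ ldim N q' := by
  rw [ldim_eq_krullDim]
  exact le_krullDim_preimage δ hδ q' _ (isUpperSet_support N) q hq hqq'

include hδ in
/-- the dimension of a quotient of the localization by a prime. -/
theorem dim_quot (q' : PrimeSpectrum C) (P : PrimeSpectrum (Localization.AtPrime q'.asIdeal)) :
    ringKrullDim (Localization.AtPrime q'.asIdeal ⧸ P.asIdeal) =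
      (((δ (PrimeSpectrum.comap (algebraMap C (Localization.AtPrime q'.asIdeal)) P) -
        δ q').toNat : ℕ) : WithBot ℕ∞) := by
  rw [ringKrullDim_quotient]
  have hset : PrimeSpectrum.zeroLocus (P.asIdeal : Set (Localization.AtPrime q'.asIdeal)) =
      PrimeSpectrum.comap (algebraMap C (Localization.AtPrime q'.asIdeal)) ⁻¹'
        Set.Ici (PrimeSpectrum.comap (algebraMap C (Localization.AtPrime q'.asIdeal)) P) := by
    ext P'
    rw [PrimeSpectrum.mem_zeroLocus, SetLike.coe_subset_coe, Set.mem_preimage, Set.mem_Ici]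
    exact ((IsLocalization.AtPrime.primeSpectrumOrderIso (Localization.AtPrime q'.asIdeal)
      q'.asIdeal).le_iff_le (x := P) (y := P')).symm
  rw [Order.krullDim_eq_of_orderIso (OrderIso.setCongr _ _ hset)]
  apply le_antisymm
  · exact krullDim_preimage_le δ hδ q' _ _ (fun q hq _ => delta_anti δ hδ hq)
  · exact le_krullDim_preimage δ hδ q' _ (isUpperSet_Ici _) _ Set.self_mem_Ici (comap_le q' P)

variable [Module.Finite C N]

/-- numerical invariants at a point of the support. -/
theorem exists_nat_invariants (q : PrimeSpectrum C) (hq : q ∈ Module.support C N) :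
    ∃ a b : ℕ, ldim N q = (a : WithBot ℕ∞) ∧ ldepth N q = (b : ℕ∞) ∧ b ≤ a := by
  rw [Module.mem_support_iff] at hq
  haveI := hq
  haveI : IsNoetherianRing (Localization.AtPrime q.asIdeal) :=
    IsLocalization.isNoetherianRing q.asIdeal.primeCompl _ inferInstance
  haveI : Module.Finite (Localization.AtPrime q.asIdeal)
      (LocalizedModule q.asIdeal.primeCompl N) :=
    Module.Finite.of_isLocalizedModule q.asIdeal.primeCompl
      (LocalizedModule.mkLinearMap q.asIdeal.primeCompl N)
  obtain ⟨a, ha⟩ := Groth.Agent.Lead.Depth.exists_nat_supportDim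
    (R := Localization.AtPrime q.asIdeal) (LocalizedModule q.asIdeal.primeCompl N)
  have h1 := Groth.Agent.Lead.Depth.depth_le_supportDim
    (R := Localization.AtPrime q.asIdeal) (LocalizedModule q.asIdeal.primeCompl N)
  rw [ha] at h1
  have h2 : ((LocCoh.depth (Localization.AtPrime q.asIdeal)
      (LocalizedModule q.asIdeal.primeCompl N) : ℕ∞) : WithBot ℕ∞) ≤ ((a : ℕ∞) : WithBot ℕ∞) := by
    exact_mod_cast h1
  have h3 : LocCoh.depth (Localization.AtPrime q.asIdeal)
      (LocalizedModule q.asIdeal.primeCompl N) ≤ (a : ℕ∞) := WithBot.coe_le_coe.mp h2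
  obtain ⟨b, hb⟩ := ENat.ne_top_iff_exists.mp (ne_top_of_le_ne_top (ENat.natCast_ne_top a) h3)
  refine ⟨a, b, ha, hb.symm, ?_⟩
  rw [← hb] at h3
  exact_mod_cast h3

include hδ in
/-- the dimension is attained. -/
theorem exists_ldim_eq (q' : PrimeSpectrum C) (hq' : q' ∈ Module.support C N) :
    ∃ q ∈ Module.support C N, q ≤ q' ∧
      ldim N q' = (((δ q - δ q').toNat : ℕ) : WithBot ℕ∞) := by
  obtain ⟨d, -, hd, -, -⟩ := exists_nat_invariants N q' hq'
  by_contra hcon
  push Not at hcon
  have hlt : ∀ q ∈ Module.support C N, q ≤ q' → δ q ≤ δ q' + d - 1 := by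
    intro q hq hqq'
    have h1 := le_ldim δ hδ N q q' hq hqq'
    have h2 := hcon q hq hqq'
    rw [hd] at h1 h2
    have h3 : (δ q - δ q').toNat ≤ d := by exact_mod_cast h1
    have h4 : (δ q - δ q').toNat ≠ d := fun h => h2 (by rw [h])
    have h5 := delta_anti δ hδ hqq'
    omega
  have h6 := ldim_le δ hδ N q' _ hlt
  rw [hd] at h6
  have h7 : d ≤ (δ q' + d - 1 - δ q').toNat := by exact_mod_cast h6
  have h8 := hlt q' hq' le_rfl
  omega

end Mod

end Groth.Agent.Helper16.EquiSk
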