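import Mathlib
import Groth.Agent.Lib.Helper16.Alg.EquiSk1
import Groth.Agent.Lib.Lead.LocLoc

/-!
# Equidimensional modules with `(S_k)` over a Noetherian ring with a dimension function
(helper16)
-/

set_option autoImplicit false
set_option linter.style.haveILetI false
set_option linter.unusedSectionVars false
universe u

open IsLocalRing

namespace Groth.Agent.Helper16.EquiSk

theorem cast_min_le_iff (x y z : ℕ) :
    min (x : WithBot ℕ∞) (y : WithBot ℕ∞) ≤ (z : WithBot ℕ∞) ↔ min x y ≤ z := by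
  rw [min_le_iff, min_le_iff]
  constructor
  · rintro (h | h)
    · left; exact_mod_cast h
    · right; exact_mod_cast h
  · rintro (h | h)
    · left; exact_mod_cast h
    · right; exact_mod_cast h

section General

variable {R : Type u} [CommRing R] (M : Type u) [AddCommGroup M] [Module R M] [Module.Finite R M]

/-- minimal primes over the annihilator of a finite module are the minimal points of the
support. -/
theorem mem_minimalPrimes_annihilator_iff (P : PrimeSpectrum R) :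
    P.asIdeal ∈ (Module.annihilator R M).minimalPrimes ↔
      P ∈ Module.support R M ∧ ∀ p ∈ Module.support R M, p ≤ P → p = P := by
  constructor
  · rintro ⟨⟨-, hle⟩, hmin⟩
    refine ⟨Module.mem_support_iff_of_finite.mpr hle, fun p hp hpP => ?_⟩
    have := hmin ⟨p.isPrime, Module.mem_support_iff_of_finite.mp hp⟩ hpP
    exact le_antisymm hpP this
  · rintro ⟨h1, h2⟩
    refine ⟨⟨P.isPrime, Module.mem_support_iff_of_finite.mp h1⟩, fun y hy hyP => ?_⟩
    have h3 := h2 ⟨y, hy.1⟩ (Module.mem_support_iff_of_finite.mpr hy.2) hyP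
    rw [← h3]

end General

section Main

variable {C : Type u} [CommRing C] [IsNoetherianRing C] (τ : PrimeSpectrum C → ℕ)
  (hτ : ∀ P₁ P₂ : PrimeSpectrum C, P₁ ⋖ P₂ → τ P₁ = τ P₂ + 1)
  (N : Type u) [AddCommGroup N] [Module C N]

/-- minimal points of the support. -/
def IsMinSupp (Q : PrimeSpectrum C) : Prop :=
  Q ∈ Module.support C N ∧ ∀ p ∈ Module.support C N, p ≤ Q → p = Q

include hτ

theorem hδ_of_hτ : ∀ P₁ P₂ : PrimeSpectrum C, P₁ ⋖ P₂ →
    (fun q => (τ q : ℤ)) P₁ = (fun q => (τ q : ℤ)) P₂ + 1 := by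
  intro P₁ P₂ h
  have := hτ P₁ P₂ h
  show (τ P₁ : ℤ) = (τ P₂ : ℤ) + 1
  omega

theorem tau_anti {q q' : PrimeSpectrum C} (h : q ≤ q') : τ q' ≤ τ q := by
  have := delta_anti (fun q => (τ q : ℤ)) (hδ_of_hτ τ hτ) h
  omega

theorem ldim_le' (q' : PrimeSpectrum C) (D : ℕ)
    (hD : ∀ q ∈ Module.support C N, q ≤ q' → τ q ≤ D) :
    ldim N q' ≤ ((D - τ q' : ℕ) : WithBot ℕ∞) := by
  have := ldim_le (fun q => (τ q : ℤ)) (hδ_of_hτ τ hτ) N q' (D : ℤ)
    (fun q hq hqq' => by have := hD q hq hqq'; show (τ q : ℤ) ≤ (D : ℤ); omega)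
  have e : ((D : ℤ) - (τ q' : ℤ)).toNat = D - τ q' := by omega
  rw [e] at this
  exact this

theorem le_ldim' (q q' : PrimeSpectrum C) (hq : q ∈ Module.support C N) (hqq' : q ≤ q') :
    ((τ q - τ q' : ℕ) : WithBot ℕ∞) ≤ ldim N q' := by
  have := le_ldim (fun q => (τ q : ℤ)) (hδ_of_hτ τ hτ) N q q' hq hqq'
  have e : ((τ q : ℤ) - (τ q' : ℤ)).toNat = τ q - τ q' := by omega
  rw [e] at this
  exact this

theorem dim_quot' (q' : PrimeSpectrum C)
    (P : PrimeSpectrum (Localization.AtPrime q'.asIdeal)) :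
    ringKrullDim (Localization.AtPrime q'.asIdeal ⧸ P.asIdeal) =
      ((τ (PrimeSpectrum.comap (algebraMap C (Localization.AtPrime q'.asIdeal)) P) - τ q' : ℕ) :
        WithBot ℕ∞) := by
  have := dim_quot (fun q => (τ q : ℤ)) (hδ_of_hτ τ hτ) q' P
  have e : ((τ (PrimeSpectrum.comap (algebraMap C (Localization.AtPrime q'.asIdeal)) P) : ℤ) -
      (τ q' : ℤ)).toNat =
      τ (PrimeSpectrum.comap (algebraMap C (Localization.AtPrime q'.asIdeal)) P) - τ q' := by omega
  rw [e] at this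
  exact this

variable [Module.Finite C N]

theorem exists_ldim_eq' (q' : PrimeSpectrum C) (hq' : q' ∈ Module.support C N) :
    ∃ q ∈ Module.support C N, q ≤ q' ∧ ldim N q' = ((τ q - τ q' : ℕ) : WithBot ℕ∞) := by
  obtain ⟨q, hq, hqq', h⟩ := exists_ldim_eq (fun q => (τ q : ℤ)) (hδ_of_hτ τ hτ) N q' hq'
  refine ⟨q, hq, hqq', ?_⟩
  have e : ((τ q : ℤ) - (τ q' : ℤ)).toNat = τ q - τ q' := by omega
  rw [e] at h
  exact h

omit hτ in
theorem exists_isMinSupp_le (q : PrimeSpectrum C) (hq : q ∈ Module.support C N) :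
    ∃ Q₀ : PrimeSpectrum C, IsMinSupp N Q₀ ∧ Q₀ ≤ q := by
  obtain ⟨p, hp, hpq⟩ := Ideal.exists_minimalPrimes_le (Module.mem_support_iff_of_finite.mp hq)
  refine ⟨⟨p, hp.1.1⟩, ?_, hpq⟩
  exact (mem_minimalPrimes_annihilator_iff N ⟨p, hp.1.1⟩).mp hp

/-- the invariants at a minimal point of the support vanish. -/
theorem invariants_of_isMinSupp (Q₀ : PrimeSpectrum C) (h : IsMinSupp N Q₀) :
    ldim N Q₀ = 0 ∧ ldepth N Q₀ = 0 := by
  obtain ⟨a, b, ha, hb, hba⟩ := exists_nat_invariants N Q₀ h.1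
  have h1 := ldim_le' τ hτ N Q₀ (τ Q₀) (fun q hq hqQ => by rw [h.2 q hq hqQ])
  rw [ha] at h1
  have h2 : a ≤ τ Q₀ - τ Q₀ := by exact_mod_cast h1
  have ha0 : a = 0 := by omega
  have hb0 : b = 0 := by omega
  subst ha0 hb0
  exact ⟨ha, hb⟩

/-- the invariants at a point of the support, through a minimal point below it. -/
theorem exists_isMinSupp_ldim (q : PrimeSpectrum C) (hq : q ∈ Module.support C N) :
    ∃ Q₀ : PrimeSpectrum C, IsMinSupp N Q₀ ∧ Q₀ ≤ q ∧
      ldim N q = ((τ Q₀ - τ q : ℕ) : WithBot ℕ∞) := by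
  obtain ⟨q₁, hq₁, hq₁q, h1⟩ := exists_ldim_eq' τ hτ N q hq
  obtain ⟨Q₀, hQ₀, hQ₀q₁⟩ := exists_isMinSupp_le N q₁ hq₁
  refine ⟨Q₀, hQ₀, hQ₀q₁.trans hq₁q, ?_⟩
  have h2 := le_ldim' τ hτ N Q₀ q hQ₀.1 (hQ₀q₁.trans hq₁q)
  rw [h1] at h2 ⊢
  have h3 : τ Q₀ - τ q ≤ τ q₁ - τ q := by exact_mod_cast h2
  have h4 := tau_anti τ hτ hQ₀q₁
  have h5 := tau_anti τ hτ hq₁q
  have : τ Q₀ - τ q = τ q₁ - τ q := by omega
  rw [this]

omit hτ in
/-- minimal primes of the localized module and minimal points of the support. -/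
theorem isMinSupp_comap (q' : PrimeSpectrum C)
    (P : PrimeSpectrum (Localization.AtPrime q'.asIdeal))
    (hP : P.asIdeal ∈ (Module.annihilator (Localization.AtPrime q'.asIdeal)
      (LocalizedModule q'.asIdeal.primeCompl N)).minimalPrimes) :
    IsMinSupp N (PrimeSpectrum.comap (algebraMap C (Localization.AtPrime q'.asIdeal)) P) := by
  haveI : Module.Finite (Localization.AtPrime q'.asIdeal)
      (LocalizedModule q'.asIdeal.primeCompl N) :=
    Module.Finite.of_isLocalizedModule q'.asIdeal.primeCompl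
      (LocalizedModule.mkLinearMap q'.asIdeal.primeCompl N)
  rw [mem_minimalPrimes_annihilator_iff, support_localized] at hP
  obtain ⟨h1, h2⟩ := hP
  refine ⟨h1, fun p hp hpP => ?_⟩
  let e := IsLocalization.AtPrime.primeSpectrumOrderIso (Localization.AtPrime q'.asIdeal)
    q'.asIdeal
  have hpq' : p ≤ q' := hpP.trans (comap_le q' P)
  have hc : PrimeSpectrum.comap (algebraMap C (Localization.AtPrime q'.asIdeal))
      (e.symm ⟨p, hpq'⟩) = p := congrArg Subtype.val (e.apply_symm_apply ⟨p, hpq'⟩)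
  have h3 := h2 (e.symm ⟨p, hpq'⟩) (by rw [Set.mem_preimage, hc]; exact hp)
    (by
      rw [← e.le_iff_le, e.apply_symm_apply]
      exact hpP)
  rw [← h3, hc]

omit hτ in
theorem mem_minimalPrimes_of_isMinSupp (q' Q₀ : PrimeSpectrum C) (h : IsMinSupp N Q₀)
    (hQ₀ : Q₀ ≤ q') :
    ∃ P : PrimeSpectrum (Localization.AtPrime q'.asIdeal),
      PrimeSpectrum.comap (algebraMap C (Localization.AtPrime q'.asIdeal)) P = Q₀ ∧
      P.asIdeal ∈ (Module.annihilator (Localization.AtPrime q'.asIdeal)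
        (LocalizedModule q'.asIdeal.primeCompl N)).minimalPrimes := by
  haveI : Module.Finite (Localization.AtPrime q'.asIdeal)
      (LocalizedModule q'.asIdeal.primeCompl N) :=
    Module.Finite.of_isLocalizedModule q'.asIdeal.primeCompl
      (LocalizedModule.mkLinearMap q'.asIdeal.primeCompl N)
  let e := IsLocalization.AtPrime.primeSpectrumOrderIso (Localization.AtPrime q'.asIdeal)
    q'.asIdeal
  have hc : PrimeSpectrum.comap (algebraMap C (Localization.AtPrime q'.asIdeal))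
      (e.symm ⟨Q₀, hQ₀⟩) = Q₀ := congrArg Subtype.val (e.apply_symm_apply ⟨Q₀, hQ₀⟩)
  refine ⟨e.symm ⟨Q₀, hQ₀⟩, hc, ?_⟩
  rw [mem_minimalPrimes_annihilator_iff, support_localized]
  refine ⟨by rw [Set.mem_preimage, hc]; exact h.1, fun P' hP' hle => ?_⟩
  have h1 : PrimeSpectrum.comap (algebraMap C (Localization.AtPrime q'.asIdeal)) P' ≤ Q₀ := by
    rw [← hc]
    exact (comap_strictMono q').monotone hle
  have h2 := h.2 _ hP' h1
  apply e.injective
  apply Subtype.ext
  change PrimeSpectrum.comap (algebraMap C (Localization.AtPrime q'.asIdeal)) P' =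
    PrimeSpectrum.comap (algebraMap C (Localization.AtPrime q'.asIdeal)) (e.symm ⟨Q₀, hQ₀⟩)
  rw [h2, hc]

/-- at a minimal point `Q₀ ≤ q'` of the support, the pointwise inequality forces
`τ Q₀ = dim N_{q'} + τ q'`. -/
theorem tau_eq_of_ineq (k : ℕ) (hk : 1 ≤ k) (q' Q₀ : PrimeSpectrum C) (h : IsMinSupp N Q₀)
    (hQ₀ : Q₀ ≤ q') (d : ℕ) (hd : ldim N q' = (d : WithBot ℕ∞))
    (H : min ((k : WithBot ℕ∞) + (τ Q₀ : WithBot ℕ∞)) (ldim N q' + (τ q' : WithBot ℕ∞)) ≤
        ((ldepth N Q₀ : ℕ∞) : WithBot ℕ∞) + (τ Q₀ : WithBot ℕ∞)) :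
    τ Q₀ = d + τ q' := by
  obtain ⟨-, h0⟩ := invariants_of_isMinSupp τ hτ N Q₀ h
  rw [h0, hd] at H
  have H' : min (k + τ Q₀) (d + τ q') ≤ 0 + τ Q₀ := by
    rw [← cast_min_le_iff]
    exact_mod_cast H
  have h1 := le_ldim' τ hτ N Q₀ q' h.1 hQ₀
  rw [hd] at h1
  have h2 : τ Q₀ - τ q' ≤ d := by exact_mod_cast h1
  have h3 := tau_anti τ hτ hQ₀
  rcases min_le_iff.mp H' with h4 | h4 <;> omega

/-- **Equidimensional modules with `(S_k)`**, `k ≥ 1`, over a Noetherian ring with a dimension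
function: a pointwise numerical characterization. -/
theorem equidim_sk_iff (k : ℕ) (hk : 1 ≤ k) (q' : PrimeSpectrum C) :
    (EGA4.IsEquidimModule (Localization.AtPrime q'.asIdeal)
        (LocalizedModule q'.asIdeal.primeCompl N) ∧
      EGA4.HasSkAt k C N q'.asIdeal) ↔
    ∀ q : PrimeSpectrum C, q ≤ q' → q ∈ Module.support C N →
      min ((k : WithBot ℕ∞) + (τ q : WithBot ℕ∞)) (ldim N q' + (τ q' : WithBot ℕ∞)) ≤
        ((ldepth N q : ℕ∞) : WithBot ℕ∞) + (τ q : WithBot ℕ∞) := by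
  constructor
  · rintro ⟨hE, hS⟩ q hqq' hq
    have hq' : q' ∈ Module.support C N := Module.mem_support_mono hqq' hq
    obtain ⟨d, -, hd, -, -⟩ := exists_nat_invariants N q' hq'
    obtain ⟨a, b, ha, hb, hba⟩ := exists_nat_invariants N q hq
    obtain ⟨Q₀, hQ₀, hQ₀q, h1⟩ := exists_isMinSupp_ldim τ hτ N q hq
    obtain ⟨P, hPc, hPmin⟩ := mem_minimalPrimes_of_isMinSupp N q' Q₀ hQ₀ (hQ₀q.trans hqq')
    have h2 := hE P.asIdeal hPmin
    rw [dim_quot' τ hτ q' P, hPc] at h2
    have h3 : ((τ Q₀ - τ q' : ℕ) : WithBot ℕ∞) = (d : WithBot ℕ∞) := h2.trans hd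
    have h4 : τ Q₀ - τ q' = d := by exact_mod_cast h3
    rw [ha] at h1
    have h5 : a = τ Q₀ - τ q := by exact_mod_cast h1
    have h6 := tau_anti τ hτ hQ₀q
    have h7 := tau_anti τ hτ hqq'
    haveI := q.isPrime
    have h8 := (Groth.Agent.Lead.LocLoc.hasSkAt_iff N k q'.asIdeal).mp hS q.asIdeal hqq'
    change min (k : WithBot ℕ∞) (ldim N q) ≤ ((ldepth N q : ℕ∞) : WithBot ℕ∞) at h8
    rw [ha, hb] at h8
    have h9 : min k a ≤ b := by
      rw [← cast_min_le_iff]
      exact_mod_cast h8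
    rw [hd, hb]
    have h10 : min (k + τ q) (d + τ q') ≤ b + τ q := by
      rcases min_le_iff.mp h9 with h | h
      · exact (min_le_left _ _).trans (by omega)
      · exact (min_le_right _ _).trans (by omega)
    rw [← cast_min_le_iff] at h10
    exact_mod_cast h10
  · intro H
    have key : ∀ Q₀ : PrimeSpectrum C, IsMinSupp N Q₀ → Q₀ ≤ q' → ∀ d : ℕ,
        ldim N q' = (d : WithBot ℕ∞) → τ Q₀ = d + τ q' := fun Q₀ h hQ₀ d hd =>
      tau_eq_of_ineq τ hτ N k hk q' Q₀ h hQ₀ d hd (H Q₀ hQ₀ h.1)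
    constructor
    · intro P hP
      haveI hPprime : P.IsPrime := hP.1.1
      have hmin := isMinSupp_comap N q' ⟨P, hPprime⟩ hP
      have hle := comap_le q' ⟨P, hPprime⟩
      have hq' : q' ∈ Module.support C N := Module.mem_support_mono hle hmin.1
      obtain ⟨d, -, hd, -, -⟩ := exists_nat_invariants N q' hq'
      have h1 := key _ hmin hle d hd
      have h2 := dim_quot' τ hτ q' ⟨P, hPprime⟩
      change ringKrullDim (Localization.AtPrime q'.asIdeal ⧸ P) = _ at h2
      rw [h2, h1]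
      change _ = ldim N q'
      rw [hd]
      have : d + τ q' - τ q' = d := by omega
      rw [this]
    · rw [Groth.Agent.Lead.LocLoc.hasSkAt_iff N k q'.asIdeal]
      intro q hqprime hqq'
      by_cases hq : (⟨q, hqprime⟩ : PrimeSpectrum C) ∈ Module.support C N
      · have hq' : q' ∈ Module.support C N := Module.mem_support_mono hqq' hq
        obtain ⟨d, -, hd, -, -⟩ := exists_nat_invariants N q' hq'
        obtain ⟨a, b, ha, hb, hba⟩ := exists_nat_invariants N ⟨q, hqprime⟩ hq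
        obtain ⟨Q₀, hQ₀, hQ₀q, h1⟩ := exists_isMinSupp_ldim τ hτ N ⟨q, hqprime⟩ hq
        have h2 := key Q₀ hQ₀ (hQ₀q.trans hqq') d hd
        rw [ha] at h1
        have h5 : a = τ Q₀ - τ (⟨q, hqprime⟩ : PrimeSpectrum C) := by exact_mod_cast h1
        have h6 := tau_anti τ hτ hQ₀q
        have h3 := H ⟨q, hqprime⟩ hqq' hq
        rw [hd, hb] at h3
        have h4 : min (k + τ (⟨q, hqprime⟩ : PrimeSpectrum C)) (d + τ q') ≤
            b + τ (⟨q, hqprime⟩ : PrimeSpectrum C) := by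
          rw [← cast_min_le_iff]
          exact_mod_cast h3
        change min (k : WithBot ℕ∞) (ldim N ⟨q, hqprime⟩) ≤
          ((ldepth N ⟨q, hqprime⟩ : ℕ∞) : WithBot ℕ∞)
        rw [ha, hb]
        have h7 : min k a ≤ b := by
          rcases min_le_iff.mp h4 with h | h
          · exact (min_le_left _ _).trans (by omega)
          · exact (min_le_right _ _).trans (by omega)
        rw [← cast_min_le_iff] at h7
        exact_mod_cast h7
      · rw [Module.notMem_support_iff] at hq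
        haveI : Subsingleton (LocalizedModule q.primeCompl N) := hq
        rw [Module.supportDim_eq_bot_of_subsingleton, min_eq_right bot_le]
        exact bot_le

end Main

end Groth.Agent.Helper16.EquiSk
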