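import Mathlib
import Groth.Agent.Lib.Helper16.Alg.EquiSk2
import Groth.Agent.Lib.Helper16.Alg.FibModAlg1
import Groth.Agent.Lib.Helper8.SCH5

/-!
# Transfer of `(S_k)` and equidimensionality along semilinear isomorphisms; localizations
(helper16)
-/

set_option autoImplicit false
set_option linter.style.haveILetI false
set_option linter.unusedSectionVars false
universe u

open IsLocalRing

namespace Groth.Agent.Helper16.EquiSk

open Groth.Agent.Lead.DimF Groth.Agent.Helper16.FibModAlg

section Semi

variable {R R' : Type u} [CommRing R] [CommRing R']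
  (σ : R ≃+* R') {M M' : Type u} [AddCommGroup M] [Module R M] [AddCommGroup M'] [Module R' M']
  [Module.Finite R' M'] (θ : M ≃+ M') (hθ : ∀ (r : R) (m : M), θ (r • m) = σ r • θ m)

include hθ in
theorem annihilator_eq_comap :
    Module.annihilator R M = (Module.annihilator R' M').comap (σ : R →+* R') := by
  ext r
  rw [Ideal.mem_comap, Module.mem_annihilator, Module.mem_annihilator]
  constructor
  · intro h m'
    obtain ⟨m, rfl⟩ := θ.surjective m'
    change σ r • θ m = 0
    rw [← hθ, h, map_zero]
  · intro h m
    apply θ.injective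
    rw [hθ, map_zero]
    exact h (θ m)

include hθ in
/-- **equidimensionality is invariant under semilinear isomorphisms.** -/
theorem isEquidimModule_of_semilinear (h : EGA4.IsEquidimModule R' M') :
    EGA4.IsEquidimModule R M := by
  intro P hP
  rw [annihilator_eq_comap σ θ hθ,
    Ideal.comap_minimalPrimes_eq_of_surjective (f := (σ : R →+* R')) σ.surjective] at hP
  obtain ⟨P', hP', rfl⟩ := hP
  have h1 := h P' hP'
  have hmap : P' = (P'.comap (σ : R →+* R')).map (σ : R →+* R') :=
    (Ideal.map_comap_of_surjective _ σ.surjective P').symm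
  have h2 : ringKrullDim (R ⧸ P'.comap (σ : R →+* R')) = ringKrullDim (R' ⧸ P') :=
    ringKrullDim_eq_of_ringEquiv (Ideal.quotientEquiv _ _ σ hmap)
  rw [h2, h1]
  -- the support dimensions
  letI alg : Algebra R R' := σ.toRingHom.toAlgebra
  letI mod : Module R M' := Module.compHom M' σ.toRingHom
  haveI t : IsScalarTower R R' M' :=
    ⟨fun r s m => by
      change (σ r * s) • m = σ r • (s • m)
      exact mul_smul _ _ _⟩
  let θ' : M ≃ₗ[R] M' :=
    { θ with
      map_smul' := fun r m => hθ r m }
  have hsurj : Function.Surjective (algebraMap R R') := σ.surjective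
  rw [Module.supportDim_eq_of_equiv θ', supportDim_eq_of_surjective hsurj M']

end Semi

section Loc

variable {C : Type u} [CommRing C] [IsNoetherianRing C] (q : Ideal C) [q.IsPrime]
  {S : Type u} [CommRing S] [IsLocalRing S] [Algebra C S] [IsLocalization.AtPrime S q]
  {N : Type u} [AddCommGroup N] [Module C N] [Module.Finite C N]
  {N' : Type u} [AddCommGroup N'] [Module S N'] [Module C N'] [IsScalarTower C S N']

/-- **Abstract localization lemma**: the invariants and the properties of a localization `N'` of
`N` at `q` over a localization `S` of `C` at `q`. -/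
theorem loc_transfer (g : N →ₗ[C] N') [IsLocalizedModule q.primeCompl g] (k : ℕ) :
    (Module.supportDim S N' = ldim N ⟨q, inferInstance⟩ ∧
      LocCoh.depth S N' = ldepth N ⟨q, inferInstance⟩) ∧
    (LocCoh.HasSk k S N' ↔ EGA4.HasSkAt k C N q) ∧
    (EGA4.IsEquidimModule S N' ↔ EGA4.IsEquidimModule (Localization.AtPrime q)
      (LocalizedModule q.primeCompl N)) := by
  let ε : Localization.AtPrime q ≃ₐ[C] S := IsLocalization.algEquiv q.primeCompl _ _
  letI algLS : Algebra (Localization.AtPrime q) S := ε.toRingEquiv.toRingHom.toAlgebra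
  have hsurj : Function.Surjective (algebraMap (Localization.AtPrime q) S) := ε.surjective
  haveI towCLS : IsScalarTower C (Localization.AtPrime q) S :=
    IsScalarTower.of_algebraMap_eq fun b => (ε.commutes b).symm
  letI modLN : Module (Localization.AtPrime q) N' :=
    Module.compHom N' (algebraMap (Localization.AtPrime q) S)
  haveI towLSN : IsScalarTower (Localization.AtPrime q) S N' :=
    IsScalarTower.of_algebraMap_smul fun r x => rfl
  haveI towCLN : IsScalarTower C (Localization.AtPrime q) N' :=
    IsScalarTower.of_algebraMap_smul fun b x => by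
      change algebraMap (Localization.AtPrime q) S (algebraMap C (Localization.AtPrime q) b) • x =
        b • x
      rw [← IsScalarTower.algebraMap_apply C (Localization.AtPrime q) S, algebraMap_smul]
  let φ₀ : LocalizedModule q.primeCompl N ≃ₗ[C] N' := IsLocalizedModule.iso q.primeCompl g
  let φ : LocalizedModule q.primeCompl N ≃ₗ[Localization.AtPrime q] N' :=
    φ₀.extendScalarsOfIsLocalization q.primeCompl (Localization.AtPrime q)
  haveI finL : Module.Finite (Localization.AtPrime q) (LocalizedModule q.primeCompl N) :=
    Module.Finite.of_isLocalizedModule q.primeCompl (LocalizedModule.mkLinearMap q.primeCompl N)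
  haveI : Module.Finite S N' := by
    haveI : Module.Finite (Localization.AtPrime q) N' := Module.Finite.equiv φ
    exact Module.Finite.of_restrictScalars_finite (Localization.AtPrime q) S N'
  haveI : IsNoetherianRing (Localization.AtPrime q) :=
    IsLocalization.isNoetherianRing q.primeCompl _ inferInstance
  haveI : IsNoetherianRing S := IsLocalization.isNoetherianRing q.primeCompl _ inferInstance
  have hsemi : ∀ (r : Localization.AtPrime q) (m : LocalizedModule q.primeCompl N),
      φ.toAddEquiv (r • m) = ε.toRingEquiv r • φ.toAddEquiv m := fun r m => φ.map_smul r m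
  have hsemi' : ∀ (s : S) (n : N'),
      φ.toAddEquiv.symm (s • n) = ε.toRingEquiv.symm s • φ.toAddEquiv.symm n := by
    intro s n
    apply φ.toAddEquiv.injective
    rw [AddEquiv.apply_symm_apply, hsemi, AddEquiv.apply_symm_apply, RingEquiv.apply_symm_apply]
  refine ⟨?_, ⟨?_, ?_⟩, ⟨?_, ?_⟩⟩
  · exact invariants_eq_of_surjective hsurj N' (LocalizedModule q.primeCompl N) φ.symm
  · intro h
    exact Groth.Agent.Helper8.SCH.hasSk_of_semilinear ε.toRingEquiv φ.toAddEquiv hsemi k h
  · intro h
    exact Groth.Agent.Helper8.SCH.hasSk_of_semilinear ε.toRingEquiv.symm φ.toAddEquiv.symm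
      hsemi' k h
  · intro h
    exact isEquidimModule_of_semilinear ε.toRingEquiv φ.toAddEquiv hsemi h
  · intro h
    exact isEquidimModule_of_semilinear ε.toRingEquiv.symm φ.toAddEquiv.symm hsemi' h

end Loc

end Groth.Agent.Helper16.EquiSk
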