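import Mathlib

set_option autoImplicit false
universe u
open TensorProduct KaehlerDifferential

namespace Groth.Agent.Helper16.EtCoord

/-- Jacobi–Zariski: if `T` is formally smooth over `R` and `T ⊗[S] Ω[S⁄R] → Ω[T⁄R]` is bijective,
then `T` is formally étale over `S`. -/
theorem formallyEtale_of_bijective_mapBaseChange (R S T : Type u) [CommRing R] [CommRing S]
    [CommRing T] [Algebra R S] [Algebra S T] [Algebra R T] [IsScalarTower R S T]
    [Algebra.FormallySmooth R T]
    (hbij : Function.Bijective (KaehlerDifferential.mapBaseChange R S T)) :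
    Algebra.FormallyEtale S T := by
  have h1 : Subsingleton (Algebra.H1Cotangent S T) := by
    have e1 := Algebra.H1Cotangent.exact_map_δ R S T
    have e2 := Algebra.H1Cotangent.exact_δ_mapBaseChange R S T
    refine ⟨fun x y => ?_⟩
    have hδ : ∀ z, Algebra.H1Cotangent.δ R S T z = 0 := fun z => by
      apply hbij.1
      rw [map_zero]
      exact e2.apply_apply_eq_zero z
    have hx : ∀ z : Algebra.H1Cotangent S T, z = 0 := fun z => by
      obtain ⟨w, rfl⟩ := (e1 z).mp (hδ z)
      rw [Subsingleton.elim w 0, map_zero]
    rw [hx x, hx y]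
  have h2 : Subsingleton Ω[T⁄S] := by
    have e3 := KaehlerDifferential.exact_mapBaseChange_map R S T
    refine ⟨fun x y => ?_⟩
    have hx : ∀ z : Ω[T⁄S], z = 0 := fun z => by
      obtain ⟨w, rfl⟩ := KaehlerDifferential.map_surjective R S T z
      obtain ⟨v, rfl⟩ := hbij.2 w
      exact e3.apply_apply_eq_zero v
    rw [hx x, hx y]
  haveI : Algebra.FormallyUnramified S T := ⟨h2⟩
  haveI : Algebra.FormallySmooth S T := ⟨inferInstance, h1⟩
  exact Algebra.FormallyEtale.of_formallyUnramified_and_formallySmooth

section main
variable {A B : Type u} [CommRing A] [CommRing B] [Algebra A B]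

/-- the differentials of elements of `B` span `Ω[B_q⁄A]` over `B_q` -/
theorem span_D_localization (q : Ideal B) [q.IsPrime] :
    Submodule.span (Localization.AtPrime q)
      (Set.range fun c : B => D A (Localization.AtPrime q) (algebraMap B _ c)) = ⊤ := by
  rw [eq_top_iff, ← KaehlerDifferential.span_range_derivation, Submodule.span_le]
  rintro _ ⟨x, rfl⟩
  obtain ⟨a, s, rfl⟩ := IsLocalization.exists_mk'_eq q.primeCompl x
  set L := Localization.AtPrime q
  have hspec : algebraMap B L s * IsLocalization.mk' L a s = algebraMap B L a :=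
    IsLocalization.mk'_spec' _ a s
  obtain ⟨u, hu⟩ := (IsLocalization.map_units L s).exists_left_inv
  have h1 : D A L (algebraMap B L a) = algebraMap B L s • D A L (IsLocalization.mk' L a s) +
      IsLocalization.mk' L a s • D A L (algebraMap B L s) := by
    rw [← hspec, Derivation.leibniz]
  have h2 : D A L (IsLocalization.mk' L a s) = u •
      (D A L (algebraMap B L a) - IsLocalization.mk' L a s • D A L (algebraMap B L s)) := by
    rw [h1, add_sub_cancel_right, smul_smul, hu, one_smul]
  rw [h2]
  refine Submodule.smul_mem _ _ (Submodule.sub_mem _ ?_ (Submodule.smul_mem _ _ ?_))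
  · exact Submodule.subset_span ⟨a, rfl⟩
  · exact Submodule.subset_span ⟨s, rfl⟩

/-- the differentials of elements of `B` span `κ(q) ⊗ Ω[B_q⁄A]` -/
theorem span_tmul_D (q : Ideal B) [q.IsPrime] :
    Submodule.span q.ResidueField
      {t : q.ResidueField ⊗[Localization.AtPrime q] Ω[Localization.AtPrime q⁄A] |
        ∃ c : B, t = 1 ⊗ₜ D A (Localization.AtPrime q) (algebraMap B _ c)} = ⊤ := by
  set L := Localization.AtPrime q
  set K := q.ResidueField
  rw [eq_top_iff]
  rintro t -
  induction t using TensorProduct.induction_on with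
  | zero => exact Submodule.zero_mem _
  | add x y hx hy => exact Submodule.add_mem _ hx hy
  | tmul k ω =>
    have hω : ω ∈ Submodule.span L (Set.range fun c : B => D A L (algebraMap B L c)) := by
      rw [span_D_localization]; trivial
    induction hω using Submodule.span_induction with
    | mem x hx =>
      obtain ⟨c, rfl⟩ := hx
      have : k ⊗ₜ[L] D A L (algebraMap B L c) = k • ((1 : K) ⊗ₜ[L] D A L (algebraMap B L c)) := by
        rw [TensorProduct.smul_tmul', smul_eq_mul, mul_one]
      rw [this]
      exact Submodule.smul_mem _ _ (Submodule.subset_span ⟨c, rfl⟩)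
    | zero => rw [TensorProduct.tmul_zero]; exact Submodule.zero_mem _
    | add x y _ _ hx hy => rw [TensorProduct.tmul_add]; exact Submodule.add_mem _ hx hy
    | smul a x _ hx =>
      have : k ⊗ₜ[L] (a • x) = algebraMap L K a • (k ⊗ₜ[L] x) := by
        rw [TensorProduct.tmul_smul, ← algebraMap_smul K a (k ⊗ₜ[L] x)]
      rw [this]
      exact Submodule.smul_mem _ _ hx

end main


end Groth.Agent.Helper16.EtCoord
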