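import Mathlib
import Groth.Agent.Lib.Helper16.Alg.EtCoordA

set_option autoImplicit false
universe u
open TensorProduct KaehlerDifferential

namespace Groth.Agent.Helper16.EtCoord

section main
variable {A B : Type u} [CommRing A] [CommRing B] [Algebra A B]

/-- extend `dh` to a basis of `Ω[B_q⁄A]` consisting of differentials of elements of `B` -/
theorem exists_basis_extending [Algebra.Smooth A B] (q : Ideal B) [q.IsPrime] (h : B)
    (hD : (1 : q.ResidueField) ⊗ₜ[Localization.AtPrime q]
      D A (Localization.AtPrime q) (algebraMap B _ h) ≠ 0) :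
    ∃ (σ : Type u) (_ : Fintype σ) (c : Option σ → B), c none = h ∧
      ∃ b : Module.Basis (Option σ) (Localization.AtPrime q) Ω[Localization.AtPrime q⁄A],
        ∀ i, b i = D A _ (algebraMap B _ (c i)) := by
  classical
  let L := Localization.AtPrime q
  let K := q.ResidueField
  let v₀ : K ⊗[L] Ω[L⁄A] := (1 : K) ⊗ₜ[L] D A L (algebraMap B L h)
  let T : Set (K ⊗[L] Ω[L⁄A]) := {t | ∃ c : B, t = 1 ⊗ₜ D A L (algebraMap B _ c)}
  have hv₀T : ({v₀} : Set (K ⊗[L] Ω[L⁄A])) ⊆ T := by
    rintro _ rfl; exact ⟨h, rfl⟩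
  obtain ⟨b', hb'T, hsb', hTspan, hli⟩ :=
    exists_linearIndepOn_id_extension (K := K) (LinearIndepOn.singleton (v := id) hD) hv₀T
  have hli' : LinearIndependent K ((↑) : b' → K ⊗[L] Ω[L⁄A]) := hli
  have hv₀b' : v₀ ∈ b' := hsb' rfl
  have hspanb' : Submodule.span K b' = ⊤ := by
    rw [eq_top_iff, ← span_tmul_D (A := A) q]
    exact Submodule.span_le.mpr hTspan
  let σ := ↥(b' \ {v₀})
  haveI : Finite b' := hli'.finite
  haveI : Finite σ := Finite.of_injective (fun i : σ => (⟨i.1, i.2.1⟩ : b'))
    (fun i j hij => Subtype.ext (congrArg (fun z : b' => z.1) hij))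
  let _ : Fintype σ := Fintype.ofFinite σ
  let e : Option σ → b' := fun o => o.elim ⟨v₀, hv₀b'⟩ (fun i => ⟨i.1, i.2.1⟩)
  have he : Function.Injective e := by
    rintro (_ | i) (_ | j) hij
    · rfl
    · exfalso
      have : v₀ = j.1 := congrArg (fun z : b' => z.1) hij
      exact j.2.2 this.symm
    · exfalso
      have : i.1 = v₀ := congrArg (fun z : b' => z.1) hij
      exact i.2.2 this
    · have : i.1 = j.1 := congrArg (fun z : b' => z.1) hij
      exact congrArg some (Subtype.ext this)
  let w : Option σ → K ⊗[L] Ω[L⁄A] := fun o => (e o).1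
  have hwli : LinearIndependent K w := hli'.comp e he
  have hwrange : Set.range w = b' := by
    ext t
    constructor
    · rintro ⟨o, rfl⟩; exact (e o).2
    · intro ht
      by_cases h0 : t = v₀
      · exact ⟨none, h0.symm⟩
      · exact ⟨some ⟨t, ht, h0⟩, rfl⟩
  have hwspan : Submodule.span K (Set.range w) = ⊤ := by rw [hwrange, hspanb']
  have hex : ∀ o : Option σ, ∃ c : B, w o = 1 ⊗ₜ D A L (algebraMap B L c) := fun o => hb'T (e o).2
  let c : Option σ → B := fun o => o.elim h (fun i => (hex (some i)).choose)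
  have hc : ∀ o, w o = (1 : K) ⊗ₜ[L] D A L (algebraMap B L (c o)) := by
    rintro (_ | i)
    · rfl
    · exact (hex (some i)).choose_spec
  let v : Option σ → Ω[L⁄A] := fun o => D A L (algebraMap B L (c o))
  have hv : ∀ o, (1 : K) ⊗ₜ[L] v o = w o := fun o => (hc o).symm
  let bK : Module.Basis (Option σ) K (K ⊗[L] Ω[L⁄A]) := Module.Basis.mk hwli hwspan.ge
  have hLI : LinearIndependent L v := Module.IsLocalRing.linearIndependent_of_flat v (by
    have hfun : (TensorProduct.mk L K Ω[L⁄A] 1 ∘ v) = w := funext hv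
    rw [hfun]
    exact hwli)
  have hsp : Submodule.span L (Set.range v) = ⊤ :=
    IsLocalRing.span_eq_top_of_tmul_eq_basis v bK (fun i => by
      rw [hv, Module.Basis.mk_apply])
  exact ⟨σ, inferInstance, c, rfl, Module.Basis.mk hLI hsp.ge,
    fun i => Module.Basis.mk_apply _ _ i⟩

/-- étale coordinates: if the differentials of `c i` form a basis of `Ω[B_q⁄A]` then
`A[T_i] → B`, `T_i ↦ c i` is étale at `q`. -/
theorem isEtaleAt_of_basis [Algebra.Smooth A B] (q : Ideal B) [q.IsPrime] {ι : Type u} [Fintype ι]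
    (c : ι → B)
    (b : Module.Basis ι (Localization.AtPrime q) Ω[Localization.AtPrime q⁄A])
    (hb : ∀ i, b i = D A _ (algebraMap B _ (c i)))
    [Algebra (MvPolynomial ι A) B] [IsScalarTower A (MvPolynomial ι A) B]
    (hc : ∀ i, algebraMap (MvPolynomial ι A) B (MvPolynomial.X i) = c i) :
    Algebra.IsEtaleAt (MvPolynomial ι A) q := by
  classical
  let L := Localization.AtPrime q
  let P := MvPolynomial ι A
  haveI : Algebra.FormallySmooth A L := inferInstanceAs (Algebra.FormallySmooth A L)
  show Algebra.FormallyEtale P L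
  apply formallyEtale_of_bijective_mapBaseChange A P L
  let b₁ : Module.Basis ι L (L ⊗[P] Ω[P⁄A]) :=
    (KaehlerDifferential.mvPolynomialBasis A ι).baseChange L
  have hb₁ : ∀ i, mapBaseChange A P L (b₁ i) = b i := fun i => by
    rw [Module.Basis.baseChange_apply, KaehlerDifferential.mvPolynomialBasis_apply,
      mapBaseChange_tmul, one_smul, KaehlerDifferential.map_D, hb,
      IsScalarTower.algebraMap_apply P B L, hc]
  have heq : mapBaseChange A P L = (b₁.equiv b (Equiv.refl ι)).toLinearMap := by
    apply b₁.ext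
    intro i
    rw [hb₁, LinearEquiv.coe_coe, Module.Basis.equiv_apply, Equiv.refl_apply]
  rw [heq]
  exact (b₁.equiv b (Equiv.refl ι)).bijective


end main

end Groth.Agent.Helper16.EtCoord
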