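import Mathlib
import Groth.Agent.Lib.Helper16.Alg.EtCoordA
import Groth.Agent.Lib.Helper16.Alg.EtCoordB

set_option autoImplicit false
universe u
open TensorProduct KaehlerDifferential

namespace Groth.Agent.Helper16.EtCoord

section quot
variable (A : Type u) [CommRing A] (σ : Type u)

/-- `A[T_o : o ∈ Option σ]/(T_none) ≃ A[T_i : i ∈ σ]` -/
noncomputable def quotXNoneEquiv :
    (MvPolynomial (Option σ) A ⧸ Ideal.span {(MvPolynomial.X none : MvPolynomial (Option σ) A)})
      ≃ₐ[A] MvPolynomial σ A :=
  let I : Ideal (MvPolynomial (Option σ) A) := Ideal.span {MvPolynomial.X none}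
  let ψ₀ : MvPolynomial (Option σ) A →ₐ[A] MvPolynomial σ A :=
    MvPolynomial.aeval (fun o : Option σ => o.elim 0 MvPolynomial.X)
  have hψ₀ : ∀ x ∈ I, ψ₀ x = 0 := by
    intro x hx
    have : I ≤ RingHom.ker ψ₀.toRingHom := by
      rw [Ideal.span_le]
      rintro _ rfl
      show ψ₀ (MvPolynomial.X none) = 0
      simp [ψ₀]
    exact this hx
  let ψ : (MvPolynomial (Option σ) A ⧸ I) →ₐ[A] MvPolynomial σ A := Ideal.Quotient.liftₐ I ψ₀ hψ₀
  let φ : MvPolynomial σ A →ₐ[A] (MvPolynomial (Option σ) A ⧸ I) :=
    (Ideal.Quotient.mkₐ A I).comp (MvPolynomial.rename some)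
  AlgEquiv.ofAlgHom ψ φ
    (by
      apply MvPolynomial.algHom_ext
      intro i
      simp [ψ, φ, ψ₀])
    (by
      apply Ideal.Quotient.algHom_ext
      apply MvPolynomial.algHom_ext
      intro o
      have hψmk : ∀ x, ψ (Ideal.Quotient.mk I x) = ψ₀ x := fun x => rfl
      show φ (ψ (Ideal.Quotient.mk I (MvPolynomial.X o))) = Ideal.Quotient.mk I (MvPolynomial.X o)
      rw [hψmk]
      cases o with
      | none =>
        have h0 : (Ideal.Quotient.mk I) (MvPolynomial.X none) = 0 :=
          Ideal.Quotient.eq_zero_iff_mem.mpr (Ideal.subset_span rfl)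
        rw [h0]
        simp [ψ₀]
      | some i =>
        simp [φ, ψ₀])

instance [Finite σ] : Algebra.Smooth A
    (MvPolynomial (Option σ) A ⧸ Ideal.span {(MvPolynomial.X none : MvPolynomial (Option σ) A)}) :=
  haveI : Algebra.Smooth A (MvPolynomial σ A) := {}
  Algebra.Smooth.of_equiv (quotXNoneEquiv A σ).symm

end quot

section main
variable {A B : Type u} [CommRing A] [CommRing B] [Algebra A B]

set_option backward.isDefEq.respectTransparency false in
/-- ring-level: a smooth divisor through `q` cut out by `h` with `dh ≠ 0` at `q`. -/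
theorem exists_smooth_divisor [Algebra.Smooth A B] (q : Ideal B) [q.IsPrime] (h : B)
    (hD : (1 : q.ResidueField) ⊗ₜ[Localization.AtPrime q]
      D A (Localization.AtPrime q) (algebraMap B _ h) ≠ 0) :
    ∃ g : B, g ∉ q ∧ ∀ (B' : Type u) [CommRing B'] [Algebra B B'] [Algebra A B']
      [IsScalarTower A B B'] [IsLocalization.Away g B'],
      algebraMap B B' h ∈ nonZeroDivisors B' ∧
        Algebra.Smooth A (B' ⧸ Ideal.span {algebraMap B B' h}) := by
  classical
  obtain ⟨σ, _, c, hc0, b, hb⟩ := exists_basis_extending (A := A) q h hD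
  let P := MvPolynomial (Option σ) A
  letI : Algebra P B := (MvPolynomial.aeval c).toAlgebra
  haveI : IsScalarTower A P B := IsScalarTower.of_algebraMap_eq' (by
    ext a
    show algebraMap A B a = MvPolynomial.aeval c (algebraMap A P a)
    rw [AlgHom.commutes])
  have hcX : ∀ i, algebraMap P B (MvPolynomial.X i) = c i := fun i => MvPolynomial.aeval_X c i
  haveI : Algebra.IsEtaleAt P q := isEtaleAt_of_basis q c b hb hcX
  haveI : Algebra.FinitePresentation P B :=
    Algebra.FinitePresentation.of_restrict_scalars_finitePresentation A P B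
  obtain ⟨g, hg, het⟩ := Algebra.exists_etale_of_isEtaleAt (R := P) q
  refine ⟨g, hg, ?_⟩
  intro B' _ _ _ _ _
  letI : Algebra P B' := ((algebraMap B B').comp (algebraMap P B)).toAlgebra
  haveI : IsScalarTower P B B' := IsScalarTower.of_algebraMap_eq' rfl
  haveI : IsScalarTower A P B' := IsScalarTower.of_algebraMap_eq' (by
    rw [IsScalarTower.algebraMap_eq A B B', IsScalarTower.algebraMap_eq A P B,
      ← RingHom.comp_assoc]
    rfl)
  let e : Localization.Away g ≃ₐ[B] B' := IsLocalization.algEquiv (Submonoid.powers g) _ _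
  haveI : Algebra.Etale P B' := Algebra.Etale.of_equiv (e.restrictScalars P)
  let x : P := MvPolynomial.X none
  have hx : algebraMap P B' x = algebraMap B B' h := by
    show algebraMap B B' (algebraMap P B x) = _
    rw [hcX, hc0]
  constructor
  · have hreg : IsSMulRegular B' x :=
      Module.Flat.isSMulRegular_of_isRegular (MvPolynomial.isRegular_X)
    rw [← hx, mem_nonZeroDivisors_iff_right]
    intro y hy
    apply hreg
    show x • y = x • (0 : B')
    rw [smul_zero, Algebra.smul_def, mul_comm]
    exact hy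
  · let I : Ideal P := Ideal.span {x}
    haveI : Algebra.Etale (P ⧸ I) ((P ⧸ I) ⊗[P] B') := inferInstance
    have e2 : ((P ⧸ I) ⊗[P] B') ≃ₐ[P ⧸ I] (B' ⧸ I.map (algebraMap P B')) :=
      (Algebra.TensorProduct.quotIdealMapEquivQuotTensor B' I).symm
    haveI : Algebra.Etale (P ⧸ I) (B' ⧸ I.map (algebraMap P B')) :=
      Algebra.Etale.of_equiv (A := (P ⧸ I) ⊗[P] B') e2
    haveI : Algebra.Smooth A (P ⧸ I) := inferInstanceAs (Algebra.Smooth A
      (MvPolynomial (Option σ) A ⧸ Ideal.span {(MvPolynomial.X none : MvPolynomial (Option σ) A)}))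
    haveI : IsScalarTower A (P ⧸ I) (B' ⧸ I.map (algebraMap P B')) := by
      refine ⟨fun a x y => ?_⟩
      obtain ⟨x, rfl⟩ := Ideal.Quotient.mk_surjective x
      obtain ⟨y, rfl⟩ := Ideal.Quotient.mk_surjective y
      show Ideal.Quotient.mk (I.map (algebraMap P B')) (algebraMap P B' (a • x) * y) =
        Ideal.Quotient.mk (I.map (algebraMap P B')) (a • (algebraMap P B' x * y))
      have : algebraMap P B' (a • x) * y = a • (algebraMap P B' x * y) := by
        rw [Algebra.smul_def a x, (algebraMap P B').map_mul,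
          ← IsScalarTower.algebraMap_apply A P B', mul_assoc, ← Algebra.smul_def]
      rw [this]
    have hsm : Algebra.Smooth A (B' ⧸ I.map (algebraMap P B')) :=
      Algebra.Smooth.comp A (P ⧸ I) _
    have hI : I.map (algebraMap P B') = Ideal.span {algebraMap B B' h} := by
      rw [Ideal.map_span, Set.image_singleton, hx]
    rw [← hI]
    exact hsm

end main

end Groth.Agent.Helper16.EtCoord
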