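import Mathlib

set_option autoImplicit false
universe u
open TensorProduct KaehlerDifferential IsLocalRing

namespace Groth.Agent.Helper16.EtCoord

/-- transport of the non-vanishing of a differential in the cotangent fibre along a map of
arrows of local rings -/
theorem tmul_D_ne_zero_of_map {A L Os Ox : Type u} [CommRing A] [CommRing L] [CommRing Os]
    [CommRing Ox] [IsLocalRing L] [IsLocalRing Ox]
    [Algebra A L] [Algebra Os Ox] [Algebra A Os] [Algebra L Ox] [Algebra A Ox]
    [IsScalarTower A L Ox] [IsScalarTower A Os Ox]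
    (hloc : ∀ r ∈ maximalIdeal L, algebraMap L Ox r ∈ maximalIdeal Ox) (y : L)
    (hy : (1 : ResidueField Ox) ⊗ₜ[Ox] D Os Ox (algebraMap L Ox y) ≠ 0) :
    (1 : ResidueField L) ⊗ₜ[L] D A L y ≠ 0 := by
  intro h0
  apply hy
  haveI : SMulCommClass Os L Ox := ⟨fun s l x => by
    rw [Algebra.smul_def, Algebra.smul_def, Algebra.smul_def, Algebra.smul_def, mul_left_comm]⟩
  have h1 : D A L y ∈ (maximalIdeal L) • (⊤ : Submodule L Ω[L⁄A]) := by
    rw [← LinearMap.ker_tensorProductMk]
    exact h0
  have h2 : ∀ ω ∈ (maximalIdeal L) • (⊤ : Submodule L Ω[L⁄A]),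
      KaehlerDifferential.map A Os L Ox ω ∈ (maximalIdeal Ox) • (⊤ : Submodule Ox Ω[Ox⁄Os]) := by
    intro ω hω
    refine Submodule.smul_induction_on hω (fun r hr n _ => ?_) (fun x y hx hy => ?_)
    · rw [map_smul, ← algebraMap_smul Ox r]
      exact Submodule.smul_mem_smul (hloc r hr) trivial
    · rw [map_add]; exact Submodule.add_mem _ hx hy
  have h3 := h2 _ h1
  rw [KaehlerDifferential.map_D, ← LinearMap.ker_tensorProductMk] at h3
  exact h3

end Groth.Agent.Helper16.EtCoord
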