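import Mathlib
import Groth.Agent.Lib.Helper16.Alg.EtCoordT
import Groth.Agent.Lib.Helper16.Alg.SmoothFibreLocal2

set_option autoImplicit false
universe u
open TensorProduct KaehlerDifferential IsLocalRing

namespace Groth.Agent.Helper16.EtCoord

set_option backward.isDefEq.respectTransparency false in
/-- a local ring essentially smooth over a field with separable residue field which is not a field
has an element of the maximal ideal with non-zero differential in the cotangent fibre -/
theorem exists_D_ne_zero_of_field {k Q : Type u} [Field k] [CommRing Q] [IsLocalRing Q]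
    [Algebra k Q] [Algebra.FormallySmooth k Q] [IsNoetherianRing Q]
    [Algebra.FormallySmooth k (ResidueField Q)] (hQ : ¬ IsField Q) :
    ∃ h ∈ maximalIdeal Q, (1 : ResidueField Q) ⊗ₜ[Q] D k Q h ≠ 0 := by
  classical
  let P : Algebra.Extension k (ResidueField Q) :=
    { Ring := Q, σ := Function.surjInv (IsLocalRing.residue_surjective (R := Q)),
      algebraMap_σ := Function.surjInv_eq (IsLocalRing.residue_surjective (R := Q)) }
  haveI : Algebra.FormallySmooth k P.Ring := inferInstanceAs (Algebra.FormallySmooth k Q)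
  obtain ⟨l, hl⟩ := (P.formallySmooth_iff_split_injection).mp inferInstance
  have hker : P.ker = maximalIdeal Q := IsLocalRing.ker_residue (R := Q)
  have hnot : ¬ IsIdempotentElem (maximalIdeal Q) := by
    rw [Ideal.isIdempotentElem_iff_eq_bot_or_top_of_isLocalRing]
    rintro (h | h)
    · exact hQ ((IsLocalRing.isField_iff_maximalIdeal_eq).mpr h)
    · exact (maximalIdeal.isMaximal Q).ne_top h
  have hex : ∃ h ∈ maximalIdeal Q, h ∉ maximalIdeal Q ^ 2 := by
    by_contra hcon
    push_neg at hcon
    apply hnot
    show maximalIdeal Q * maximalIdeal Q = maximalIdeal Q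
    rw [← sq]
    exact le_antisymm (Ideal.pow_le_self two_ne_zero) hcon
  obtain ⟨h, hm, hm2⟩ := hex
  refine ⟨h, hm, ?_⟩
  have hhk : h ∈ P.ker := hker ▸ hm
  have h1 : Algebra.Extension.Cotangent.mk (P := P) ⟨h, hhk⟩ ≠ 0 := by
    rw [Ne, Algebra.Extension.Cotangent.mk_eq_zero_iff]
    show h ∉ P.ker ^ 2
    rw [hker]
    exact hm2
  have h2 : P.cotangentComplex (Algebra.Extension.Cotangent.mk ⟨h, hhk⟩) ≠ 0 := by
    intro h0
    apply h1
    have := congrArg l h0
    rw [map_zero] at this
    rw [← this]
    exact (LinearMap.congr_fun hl _).symm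
  rw [Algebra.Extension.cotangentComplex_mk] at h2
  exact h2

set_option backward.isDefEq.respectTransparency false in
/-- relative version: `O` essentially smooth over `Os` (local rings), separable residue extension,
closed fibre ring not a field -/
theorem exists_D_ne_zero_of_local {Os O : Type u} [CommRing Os] [CommRing O] [IsLocalRing Os]
    [IsLocalRing O] [Algebra Os O] [IsLocalHom (algebraMap Os O)] [Algebra.FormallySmooth Os O]
    [Algebra.EssFiniteType Os O]
    (hsep : Algebra.FormallySmooth (ResidueField Os) (ResidueField O))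
    (hQ : ¬ IsField (O ⧸ (maximalIdeal Os).map (algebraMap Os O))) :
    ∃ h ∈ maximalIdeal O, (1 : ResidueField O) ⊗ₜ[O] D Os O h ≠ 0 := by
  classical
  let I : Ideal O := (maximalIdeal Os).map (algebraMap Os O)
  let Q := O ⧸ I
  let k := Os ⧸ maximalIdeal Os
  letI : Field k := Ideal.Quotient.field (maximalIdeal Os)
  have hI : I ≤ maximalIdeal O := ((local_hom_TFAE (algebraMap Os O)).out 0 2 rfl rfl).mp ‹_›
  haveI : Nontrivial Q := Ideal.Quotient.nontrivial_iff.mpr
    (fun h => (maximalIdeal.isMaximal O).ne_top (top_le_iff.mp (h ▸ hI)))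
  haveI : IsLocalRing Q := .of_surjective' (Ideal.Quotient.mk I) Ideal.Quotient.mk_surjective
  haveI : IsLocalHom (Ideal.Quotient.mk I) := .of_surjective _ Ideal.Quotient.mk_surjective
  haveI : Algebra.FormallySmooth k Q :=
    Groth.Agent.Helper16.SmoothFibreLocal.formallySmooth_quotient_of_formallySmooth
      (maximalIdeal Os)
  haveI : IsScalarTower Os k Q := IsScalarTower.of_algebraMap_eq (fun a => rfl)
  haveI : Algebra.EssFiniteType Os Q := Algebra.EssFiniteType.comp Os O Q
  haveI : Algebra.EssFiniteType k Q := Algebra.EssFiniteType.of_comp Os k Q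
  haveI : IsNoetherianRing Q := Algebra.EssFiniteType.isNoetherianRing k Q
  -- residue fields
  letI : Algebra k (ResidueField O) :=
    (show Algebra (ResidueField Os) (ResidueField O) from inferInstance)
  let φ : ResidueField O →+* ResidueField Q := IsLocalRing.ResidueField.map (Ideal.Quotient.mk I)
  have hφ : Function.Bijective φ := by
    refine ⟨φ.injective, fun y => ?_⟩
    obtain ⟨y, rfl⟩ := IsLocalRing.residue_surjective y
    obtain ⟨y, rfl⟩ := Ideal.Quotient.mk_surjective y
    exact ⟨IsLocalRing.residue O y, rfl⟩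
  let φa : ResidueField O →ₐ[k] ResidueField Q :=
    { φ with
      commutes' := fun c => by
        obtain ⟨a, rfl⟩ := Ideal.Quotient.mk_surjective c
        rfl }
  let e : ResidueField O ≃ₐ[k] ResidueField Q := AlgEquiv.ofBijective φa hφ
  haveI : Algebra.FormallySmooth k (ResidueField O) := hsep
  haveI : Algebra.FormallySmooth k (ResidueField Q) := Algebra.FormallySmooth.of_equiv e
  obtain ⟨hbar, hbm, hbD⟩ := exists_D_ne_zero_of_field (k := k) (Q := Q) hQ
  obtain ⟨h, rfl⟩ := Ideal.Quotient.mk_surjective hbar
  have hm : h ∈ maximalIdeal O := by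
    rw [IsLocalRing.mem_maximalIdeal, mem_nonunits_iff] at hbm ⊢
    exact fun hu => hbm (hu.map (Ideal.Quotient.mk I))
  refine ⟨h, hm, ?_⟩
  have hloc : ∀ r ∈ maximalIdeal O, algebraMap O Q r ∈ maximalIdeal Q := by
    intro r hr
    rw [IsLocalRing.mem_maximalIdeal, mem_nonunits_iff] at hr ⊢
    exact fun hu => hr (isUnit_of_map_unit (Ideal.Quotient.mk I) r hu)
  exact tmul_D_ne_zero_of_map (A := Os) (L := O) (Os := k) (Ox := Q) hloc h hbD

end Groth.Agent.Helper16.EtCoord
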