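import Mathlib
import Groth.Agent.Lib.Helper16.Alg.EtCoordA
import Groth.Agent.Lib.Helper16.Alg.EtCoordB

set_option autoImplicit false
universe u
open TensorProduct KaehlerDifferential

namespace Groth.Agent.Helper16.EtCoord

section main
variable {A B : Type u} [CommRing A] [CommRing B] [Algebra A B]

/-- a basis of `Ω[B_q⁄A]` consisting of differentials of elements of a set `S ⊆ B` whose
differentials span `κ(q) ⊗ Ω[B_q⁄A]` -/
theorem exists_basis_of_span [Algebra.Smooth A B] (q : Ideal B) [q.IsPrime] (S : Set B)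
    (hS : Submodule.span q.ResidueField
      {t : q.ResidueField ⊗[Localization.AtPrime q] Ω[Localization.AtPrime q⁄A] |
        ∃ c ∈ S, t = 1 ⊗ₜ D A (Localization.AtPrime q) (algebraMap B _ c)} = ⊤) :
    ∃ (m : ℕ) (c : ULift.{u} (Fin m) → B), (∀ i, c i ∈ S) ∧
      ∃ b : Module.Basis (ULift.{u} (Fin m)) (Localization.AtPrime q)
        Ω[Localization.AtPrime q⁄A], ∀ i, b i = D A _ (algebraMap B _ (c i)) := by
  classical
  let L := Localization.AtPrime q
  let K := q.ResidueField
  let T : Set (K ⊗[L] Ω[L⁄A]) := {t | ∃ c ∈ S, t = 1 ⊗ₜ D A L (algebraMap B _ c)}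
  obtain ⟨b', hb'T, hspan, hli⟩ := exists_linearIndependent K T
  have hli' : LinearIndependent K ((↑) : b' → K ⊗[L] Ω[L⁄A]) := hli
  have hspanb' : Submodule.span K b' = ⊤ := by rw [hspan]; exact hS
  haveI : Finite b' := hli'.finite
  let m := Nat.card b'
  let e0 : b' ≃ Fin m := Finite.equivFin b'
  let e : ULift.{u} (Fin m) → b' := fun i => e0.symm i.down
  have he : Function.Injective e := fun i j hij => by
    have := e0.symm.injective hij
    exact ULift.ext _ _ this
  let w : ULift.{u} (Fin m) → K ⊗[L] Ω[L⁄A] := fun o => (e o).1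
  have hwli : LinearIndependent K w := hli'.comp e he
  have hwrange : Set.range w = b' := by
    ext t
    constructor
    · rintro ⟨o, rfl⟩; exact (e o).2
    · intro ht
      refine ⟨⟨e0 ⟨t, ht⟩⟩, ?_⟩
      show (e0.symm (e0 ⟨t, ht⟩)).1 = t
      rw [Equiv.symm_apply_apply]
  have hwspan : Submodule.span K (Set.range w) = ⊤ := by rw [hwrange, hspanb']
  have hex : ∀ o, ∃ c : B, c ∈ S ∧ w o = 1 ⊗ₜ D A L (algebraMap B L c) := fun o => hb'T (e o).2
  let c : ULift.{u} (Fin m) → B := fun o => (hex o).choose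
  have hcS : ∀ o, c o ∈ S := fun o => (hex o).choose_spec.1
  have hc : ∀ o, w o = (1 : K) ⊗ₜ[L] D A L (algebraMap B L (c o)) := fun o =>
    (hex o).choose_spec.2
  let v : ULift.{u} (Fin m) → Ω[L⁄A] := fun o => D A L (algebraMap B L (c o))
  have hv : ∀ o, (1 : K) ⊗ₜ[L] v o = w o := fun o => (hc o).symm
  let bK : Module.Basis (ULift.{u} (Fin m)) K (K ⊗[L] Ω[L⁄A]) := Module.Basis.mk hwli hwspan.ge
  have hLI : LinearIndependent L v := Module.IsLocalRing.linearIndependent_of_flat v (by
    have hfun : (TensorProduct.mk L K Ω[L⁄A] 1 ∘ v) = w := funext hv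
    rw [hfun]
    exact hwli)
  have hsp : Submodule.span L (Set.range v) = ⊤ :=
    IsLocalRing.span_eq_top_of_tmul_eq_basis v bK (fun i => by
      rw [hv, Module.Basis.mk_apply])
  exact ⟨m, c, hcS, Module.Basis.mk hLI hsp.ge, fun i => Module.Basis.mk_apply _ _ i⟩

/-- the differentials of elements of the kernel of a retraction `ρ : B → A` span
`κ(q) ⊗ Ω[B_q⁄A]` -/
theorem span_tmul_D_ker (ρ : B →+* A) (hρ : ∀ a, ρ (algebraMap A B a) = a) (q : Ideal B)
    [q.IsPrime] :
    Submodule.span q.ResidueField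
      {t : q.ResidueField ⊗[Localization.AtPrime q] Ω[Localization.AtPrime q⁄A] |
        ∃ c ∈ {c : B | ρ c = 0}, t = 1 ⊗ₜ D A (Localization.AtPrime q) (algebraMap B _ c)} = ⊤ := by
  rw [eq_top_iff, ← span_tmul_D (A := A) q]
  apply Submodule.span_mono
  rintro t ⟨c, rfl⟩
  refine ⟨c - algebraMap A B (ρ c), ?_, ?_⟩
  · show ρ (c - algebraMap A B (ρ c)) = 0
    rw [map_sub, hρ, sub_self]
  · rw [map_sub, map_sub, ← IsScalarTower.algebraMap_apply A B (Localization.AtPrime q),
      Derivation.map_algebraMap, sub_zero]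

/-- étale coordinates vanishing along a section -/
theorem exists_etale_coordinates_of_retraction [Algebra.Smooth A B] (ρ : B →+* A)
    (hρ : ∀ a, ρ (algebraMap A B a) = a) (q : Ideal B) [q.IsPrime] :
    ∃ (m : ℕ) (c : ULift.{u} (Fin m) → B), (∀ j, ρ (c j) = 0) ∧ ∃ g : B, g ∉ q ∧
      ∀ (B' : Type u) [CommRing B'] [Algebra B B'] [IsLocalization.Away g B'],
        ((algebraMap B B').comp (MvPolynomial.eval₂Hom (algebraMap A B) c :
          MvPolynomial (ULift.{u} (Fin m)) A →+* B)).Etale := by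
  classical
  obtain ⟨m, c, hcS, b, hb⟩ := exists_basis_of_span (A := A) q {c : B | ρ c = 0}
    (span_tmul_D_ker ρ hρ q)
  refine ⟨m, c, hcS, ?_⟩
  let P := MvPolynomial (ULift.{u} (Fin m)) A
  letI : Algebra P B := (MvPolynomial.aeval c).toAlgebra
  haveI : IsScalarTower A P B := IsScalarTower.of_algebraMap_eq' (by
    ext a
    show algebraMap A B a = MvPolynomial.aeval c (algebraMap A P a)
    rw [AlgHom.commutes])
  have hcX : ∀ i, algebraMap P B (MvPolynomial.X i) = c i := fun i => MvPolynomial.aeval_X c i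
  haveI : Algebra.IsEtaleAt P q := isEtaleAt_of_basis q c b hb hcX
  haveI : Algebra.FinitePresentation P B :=
    Algebra.FinitePresentation.of_restrict_scalars_finitePresentation A P B
  obtain ⟨g, hg, het⟩ := Algebra.exists_etale_of_isEtaleAt (R := P) q
  refine ⟨g, hg, ?_⟩
  intro B' _ _ _
  letI : Algebra P B' := ((algebraMap B B').comp (algebraMap P B)).toAlgebra
  haveI : IsScalarTower P B B' := IsScalarTower.of_algebraMap_eq' rfl
  let e : Localization.Away g ≃ₐ[B] B' := IsLocalization.algEquiv (Submonoid.powers g) _ _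
  haveI : Algebra.Etale P B' := Algebra.Etale.of_equiv (e.restrictScalars P)
  have : (MvPolynomial.eval₂Hom (algebraMap A B) c : P →+* B) = algebraMap P B := by
    apply MvPolynomial.ringHom_ext
    · intro a
      rw [MvPolynomial.coe_eval₂Hom, MvPolynomial.eval₂_C]
      show _ = MvPolynomial.aeval c (MvPolynomial.C a)
      rw [MvPolynomial.aeval_C]
    · intro i
      rw [MvPolynomial.coe_eval₂Hom, MvPolynomial.eval₂_X, hcX]
  rw [this]
  show Algebra.Etale P B'
  infer_instance

end main

end Groth.Agent.Helper16.EtCoord
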