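import Groth.Agent.Lib.Helper16.Alg.EtFT
import Groth.Agent.Lib.Helper16.Alg.EtLift
import Mathlib.RingTheory.Localization.Finiteness
import Mathlib.RingTheory.Finiteness.Descent

/-!
# Finite presentation descends along étale faithfully flat maps on the source
-/

set_option autoImplicit false
universe u
open TensorProduct PrimeSpectrum

namespace Groth.Agent.Helper16.Alg

theorem ker_fg_of_etale_faithfullyFlat {R P A B : Type u} [CommRing R] [CommRing P] [CommRing A]
    [CommRing B] [Algebra R P] [Algebra P A] [Algebra A B] [Algebra P B] [IsScalarTower P A B]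
    [Algebra R B] [IsScalarTower R P B]
    [Algebra.FinitePresentation R P] [Algebra.FinitePresentation R B]
    (hπ : Function.Surjective (algebraMap P A)) [Algebra.Etale A B] [Module.FaithfullyFlat A B] :
    (RingHom.ker (algebraMap P A)).FG := by
  obtain ⟨E, _, _, ψ, hE, hψ, hker⟩ := exists_etale_lift (P := P) (A := A) (B := B) hπ
  set I := RingHom.ker (algebraMap P A) with hI
  letI : Algebra R E := ((algebraMap P E).comp (algebraMap R P)).toAlgebra
  haveI : IsScalarTower R P E := .of_algebraMap_eq' rfl
  haveI : Algebra.FinitePresentation P E := inferInstance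
  haveI : Algebra.FinitePresentation R E := Algebra.FinitePresentation.trans R P E
  have hIE : (I.map (algebraMap P E)).FG := by
    rw [← hker]
    exact Algebra.FinitePresentation.ker_fG_of_surjective (ψ.restrictScalars R) hψ
  haveI : Module.Flat P E := inferInstance
  -- the open image of `Spec E`
  have hopen : IsOpen (Set.range (comap (algebraMap P E))) :=
    (PrimeSpectrum.isOpenMap_comap_of_hasGoingDown_of_finitePresentation
      (R := P) (S := E)).isOpen_range
  obtain ⟨J, hJ⟩ := (PrimeSpectrum.isClosed_iff_zeroLocus_ideal _).1 hopen.isClosed_compl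
  have hVI : zeroLocus (I : Set P) ⊆ Set.range (comap (algebraMap P E)) := by
    intro p hp
    have hp' : p ∈ Set.range (comap (algebraMap P A)) := by
      rw [range_comap_of_surjective _ _ hπ]
      exact hp
    obtain ⟨p', rfl⟩ := hp'
    obtain ⟨q, rfl⟩ := PrimeSpectrum.comap_surjective_of_faithfullyFlat (B := B) p'
    refine ⟨comap ψ.toRingHom q, ?_⟩
    rw [← comap_comp_apply, ← comap_comp_apply]
    congr 1
    ext x
    simp [IsScalarTower.algebraMap_apply P A B]
  have hIJ : I ⊔ J = ⊤ := by
    rw [← PrimeSpectrum.zeroLocus_empty_iff_eq_top, PrimeSpectrum.zeroLocus_sup]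
    rw [Set.eq_empty_iff_forall_notMem]
    rintro p ⟨hp1, hp2⟩
    rw [← hJ] at hp2
    exact hp2 (hVI hp1)
  obtain ⟨a, ha, b, hb, hab⟩ := Submodule.mem_sup.1
    (hIJ ▸ (Submodule.mem_top : (1 : P) ∈ (⊤ : Ideal P)))
  refine Ideal.fg_of_localizationSpan {a, b} ?_ ?_
  · rw [Ideal.eq_top_iff_one, ← hab]
    exact add_mem (Ideal.subset_span (by simp)) (Ideal.subset_span (by simp))
  · rintro ⟨g, hg⟩
    rcases hg with rfl | hg
    · have : I.map (algebraMap P (Localization.Away g)) = ⊤ :=
        Ideal.eq_top_of_isUnit_mem _ (Ideal.mem_map_of_mem _ ha)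
          (IsLocalization.Away.algebraMap_isUnit g)
      rw [this]
      exact ⟨{1}, by simp⟩
    · rw [Set.mem_singleton_iff] at hg
      subst hg
      haveI : Module.FaithfullyFlat (Localization.Away g) (Localization.Away g ⊗[P] E) := by
        apply Module.FaithfullyFlat.of_comap_surjective
        intro p'
        have hb' : g ∉ (comap (algebraMap P (Localization.Away g)) p').asIdeal := by
          intro hmem
          rw [comap_asIdeal, Ideal.mem_comap] at hmem
          exact p'.isPrime.ne_top (Ideal.eq_top_of_isUnit_mem _ hmem
            (IsLocalization.Away.algebraMap_isUnit g))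
        have hU : comap (algebraMap P (Localization.Away g)) p' ∈
            Set.range (comap (algebraMap P E)) := by
          by_contra hne
          have hz : comap (algebraMap P (Localization.Away g)) p' ∈ zeroLocus (J : Set P) := by
            rw [← hJ]
            exact hne
          exact hb' (hz hb)
        obtain ⟨q, hq⟩ := hU
        obtain ⟨z, hz⟩ := exists_prime_tensor (A₀ := P) (A' := Localization.Away g) (B₀ := E)
          p' q hq.symm
        exact ⟨z, hz⟩
      refine Ideal.FG.of_FG_map_of_faithfullyFlat (S := Localization.Away g ⊗[P] E) ?_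
      have hmm : (I.map (algebraMap P (Localization.Away g))).map
          (algebraMap (Localization.Away g) (Localization.Away g ⊗[P] E)) =
          (I.map (algebraMap P E)).map
            (Algebra.TensorProduct.includeRight : E →ₐ[P] Localization.Away g ⊗[P] E).toRingHom := by
        rw [Ideal.map_map, Ideal.map_map]
        congr 1
        ext x
        simp [Algebra.TensorProduct.algebraMap_apply, Algebra.algebraMap_eq_smul_one,
          TensorProduct.smul_tmul]
      rw [hmm]
      exact hIE.map _

/-- **Finite presentation descends on the source along étale faithfully flat ring maps.** -/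
theorem finitePresentation_of_etale_faithfullyFlat {R A B : Type u} [CommRing R] [CommRing A]
    [CommRing B] [Algebra R A] [Algebra A B] [Algebra R B] [IsScalarTower R A B]
    [Algebra.Etale A B] [Module.FaithfullyFlat A B] [Algebra.FinitePresentation R B] :
    Algebra.FinitePresentation R A := by
  haveI : Algebra.FiniteType R B := inferInstance
  haveI : Algebra.FiniteType R A :=
    finiteType_of_etale_faithfullyFlat (R := R) (A := A) (B := B)
  obtain ⟨n, π, hπ⟩ := Algebra.FiniteType.iff_quotient_mvPolynomial''.1
    (inferInstance : Algebra.FiniteType R A)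
  refine Algebra.FinitePresentation.of_surjective hπ ?_
  letI : Algebra (MvPolynomial (Fin n) R) A := π.toRingHom.toAlgebra
  letI : Algebra (MvPolynomial (Fin n) R) B := ((algebraMap A B).comp π.toRingHom).toAlgebra
  haveI : IsScalarTower (MvPolynomial (Fin n) R) A B := .of_algebraMap_eq' rfl
  haveI : IsScalarTower R (MvPolynomial (Fin n) R) B := by
    refine .of_algebraMap_eq' ?_
    ext r
    change algebraMap R B r = algebraMap A B (π (algebraMap R (MvPolynomial (Fin n) R) r))
    rw [AlgHom.commutes, ← IsScalarTower.algebraMap_apply]
  exact ker_fg_of_etale_faithfullyFlat (R := R) (P := MvPolynomial (Fin n) R) (A := A) (B := B) hπ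

end Groth.Agent.Helper16.Alg
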