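import Mathlib.RingTheory.Smooth.NoetherianDescent
import Mathlib.RingTheory.Flat.FaithfullyFlat.Descent
import Mathlib.RingTheory.Flat.FaithfullyFlat.Algebra
import Mathlib.RingTheory.Spectrum.Prime.Topology
import Mathlib.RingTheory.RingHom.Flat
import Mathlib.RingTheory.Smooth.Flat
import Mathlib.AlgebraicGeometry.PullbackCarrier
import Mathlib.RingTheory.Spectrum.Prime.Chevalley

/-!
# Finite type descends along étale faithfully flat maps on the source
-/

set_option autoImplicit false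
universe u
open TensorProduct PrimeSpectrum

namespace Groth.Agent.Helper16.Alg

/-- a prime of a tensor product over two compatible primes -/
theorem exists_prime_tensor {A₀ A' B₀ : Type u} [CommRing A₀] [CommRing A'] [CommRing B₀]
    [Algebra A₀ A'] [Algebra A₀ B₀] (p' : PrimeSpectrum A') (q₀ : PrimeSpectrum B₀)
    (h : comap (algebraMap A₀ A') p' = comap (algebraMap A₀ B₀) q₀) :
    ∃ P : PrimeSpectrum (A' ⊗[A₀] B₀), comap (algebraMap A' (A' ⊗[A₀] B₀)) P = p' := by
  have sq := AlgebraicGeometry.isPullback_SpecMap_of_isPushout _ _ _ _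
    (CommRingCat.isPushout_tensorProduct A₀ A' B₀)
  obtain ⟨z, hz1, -⟩ := AlgebraicGeometry.Scheme.exists_preimage_of_isPullback sq p' q₀ h
  exact ⟨z, hz1⟩


section A2

variable {R A₀ A B₀ : Type u} [CommRing R] [CommRing A₀] [CommRing A] [CommRing B₀]
  [Algebra R A₀] [Algebra A₀ A] [Algebra R A] [IsScalarTower R A₀ A] [Algebra A₀ B₀]

/-- the image of `Spec A → Spec A₀` is contained in the image of `Spec B₀ → Spec A₀` when
`A ⊗ B₀` is faithfully flat over `A` -/
theorem range_comap_subset [Module.FaithfullyFlat A (A ⊗[A₀] B₀)] :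
    Set.range (comap (algebraMap A₀ A)) ⊆ Set.range (comap (algebraMap A₀ B₀)) := by
  rintro _ ⟨p, rfl⟩
  obtain ⟨q, rfl⟩ := PrimeSpectrum.comap_surjective_of_faithfullyFlat (B := A ⊗[A₀] B₀) p
  refine ⟨comap (Algebra.TensorProduct.includeRight : B₀ →ₐ[A₀] A ⊗[A₀] B₀).toRingHom q, ?_⟩
  rw [← comap_comp_apply, ← comap_comp_apply]
  congr 1
  ext a
  simp [Algebra.TensorProduct.algebraMap_apply, Algebra.algebraMap_eq_smul_one,
    TensorProduct.smul_tmul]


theorem finiteType_of_tensor [Algebra.Etale A₀ B₀] [Algebra.FiniteType R A₀]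
    [Module.FaithfullyFlat A (A ⊗[A₀] B₀)] (hft : Algebra.FiniteType R (A ⊗[A₀] B₀)) :
    Algebra.FiniteType R A := by
  classical
  haveI : Module.Flat A₀ B₀ := inferInstance
  -- the open image of `Spec B₀ → Spec A₀`
  have hopen : IsOpen (Set.range (comap (algebraMap A₀ B₀))) :=
    (PrimeSpectrum.isOpenMap_comap_of_hasGoingDown_of_finitePresentation
      (R := A₀) (S := B₀)).isOpen_range
  obtain ⟨J, hJ⟩ := (PrimeSpectrum.isClosed_iff_zeroLocus_ideal _).1 hopen.isClosed_compl
  have hJtop : Ideal.map (algebraMap A₀ A) J = ⊤ := by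
    by_contra hne
    obtain ⟨m, hm, hle⟩ := Ideal.exists_le_maximal _ hne
    have h1 : comap (algebraMap A₀ A) ⟨m, hm.isPrime⟩ ∈ zeroLocus (J : Set A₀) := by
      rw [mem_zeroLocus]
      intro x hx
      exact hle (Ideal.mem_map_of_mem _ hx)
    rw [← hJ] at h1
    exact h1 (range_comap_subset (B₀ := B₀) ⟨_, rfl⟩)
  have h1 : (1 : A) ∈ Ideal.map (algebraMap A₀ A) J := by rw [hJtop]; trivial
  obtain ⟨c, t, ht, -, hsum⟩ := Submodule.mem_span_iff_exists_finset_subset.1 h1
  have hpre : ∀ a ∈ t, ∃ f ∈ J, algebraMap A₀ A f = a := fun a ha => ht (Finset.mem_coe.2 ha)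
  choose! fJ hfJ1 hfJ2 using hpre
  -- generators of the tensor product
  obtain ⟨s, hs⟩ := hft.out
  choose Sx hSx using fun x : A ⊗[A₀] B₀ => TensorProduct.exists_finset x
  let F₁ : Finset A := s.biUnion (fun x => (Sx x).image Prod.fst)
  let F : Finset A := F₁ ∪ t.image c
  let A' : Subalgebra A₀ A := Algebra.adjoin A₀ (F : Set A)
  have hFA' : ∀ a ∈ F, a ∈ A' := fun a ha => Algebra.subset_adjoin ha
  have hA'ft : Algebra.FiniteType A₀ A' := (Subalgebra.fg_iff_finiteType A').1 ⟨F, rfl⟩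
  have hA'R : Algebra.FiniteType R A' := Algebra.FiniteType.trans (inferInstance) hA'ft
  -- the comparison map
  let ψ : A' ⊗[A₀] B₀ →ₐ[A₀] A ⊗[A₀] B₀ := Algebra.TensorProduct.map A'.val (AlgHom.id A₀ B₀)
  have hψ : Function.Surjective ψ := by
    have hle : Algebra.adjoin R (s : Set (A ⊗[A₀] B₀)) ≤ ψ.range.restrictScalars R := by
      refine Algebra.adjoin_le ?_
      intro x hx
      rw [hSx x]
      refine Subalgebra.sum_mem _ ?_
      intro i hi
      have hi1 : i.1 ∈ A' := hFA' _ (Finset.mem_union_left _ (Finset.mem_biUnion.2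
        ⟨x, hx, Finset.mem_image_of_mem _ hi⟩))
      exact ⟨(⟨i.1, hi1⟩ : A') ⊗ₜ i.2, by simp [ψ]⟩
    rw [hs] at hle
    intro y
    obtain ⟨x, hx⟩ := hle (Algebra.mem_top (x := y))
    exact ⟨x, hx⟩
  -- faithful flatness of the base change
  have hJ' : ∀ p' : PrimeSpectrum A', comap (algebraMap A₀ A') p' ∈
      Set.range (comap (algebraMap A₀ B₀)) := by
    intro p'
    by_contra hn
    have h2 : comap (algebraMap A₀ A') p' ∈ zeroLocus (J : Set A₀) := by
      rw [← hJ]; exact hn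
    rw [mem_zeroLocus] at h2
    -- `1 ∈ p'`
    have h3 : (1 : A') ∈ p'.asIdeal := by
      have h4 : (1 : A') = ∑ a ∈ t.attach, (⟨c a.1, hFA' _ (Finset.mem_union_right _
          (Finset.mem_image_of_mem _ a.2))⟩ : A') * algebraMap A₀ A' (fJ a.1) := by
        apply Subtype.ext
        rw [OneMemClass.coe_one, ← hsum, ← Finset.sum_attach t]
        simp only [AddSubmonoidClass.coe_finset_sum, Subalgebra.coe_mul, smul_eq_mul]
        refine Finset.sum_congr rfl fun a _ => ?_
        congr 1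
        exact (hfJ2 a.1 a.2).symm
      rw [h4]
      refine Ideal.sum_mem _ fun a _ => Ideal.mul_mem_left _ _ ?_
      exact h2 (hfJ1 a.1 a.2)
    exact p'.isPrime.ne_top ((Ideal.eq_top_iff_one _).2 h3)
  haveI : Module.FaithfullyFlat A' (A' ⊗[A₀] B₀) := by
    refine Module.FaithfullyFlat.of_comap_surjective fun p' => ?_
    obtain ⟨q₀, hq₀⟩ := hJ' p'
    exact exists_prime_tensor p' q₀ hq₀.symm
  -- surjectivity after base change
  have H : Function.Surjective (Algebra.TensorProduct.includeLeft :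
      (A' ⊗[A₀] B₀) →ₐ[A'] (A' ⊗[A₀] B₀) ⊗[A'] A) := by
    let f₁ : A →ₐ[A₀] (A' ⊗[A₀] B₀) ⊗[A'] A :=
      (Algebra.TensorProduct.includeRight : A →ₐ[A'] (A' ⊗[A₀] B₀) ⊗[A'] A).restrictScalars A₀
    let f₂ : B₀ →ₐ[A₀] (A' ⊗[A₀] B₀) ⊗[A'] A :=
      ((Algebra.TensorProduct.includeLeft :
        (A' ⊗[A₀] B₀) →ₐ[A'] (A' ⊗[A₀] B₀) ⊗[A'] A).restrictScalars A₀).comp
        (Algebra.TensorProduct.includeRight : B₀ →ₐ[A₀] A' ⊗[A₀] B₀)
    let Φ : A ⊗[A₀] B₀ →ₐ[A₀] (A' ⊗[A₀] B₀) ⊗[A'] A := Algebra.TensorProduct.lift f₁ f₂ (fun x y => mul_comm (f₁ x) (f₂ y))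
    have hΦψ : ∀ x : A' ⊗[A₀] B₀, Φ (ψ x) = x ⊗ₜ (1 : A) := by
      intro x
      induction x using TensorProduct.induction_on with
      | zero => simp
      | tmul a' b =>
        simp only [ψ, Φ, f₁, f₂, Algebra.TensorProduct.map_tmul, AlgHom.coe_id, id_eq,
          Algebra.TensorProduct.lift_tmul, AlgHom.coe_restrictScalars',
          Algebra.TensorProduct.includeRight_apply, AlgHom.coe_comp, Function.comp_apply,
          Algebra.TensorProduct.includeLeft_apply, Algebra.TensorProduct.tmul_mul_tmul,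
          one_mul, mul_one, Subalgebra.coe_val]
        have : ((a' : A)) = a' • (1 : A) := by
          rw [Algebra.smul_def, mul_one]; rfl
        rw [this, ← TensorProduct.smul_tmul, TensorProduct.smul_tmul', smul_eq_mul, mul_one]
      | add x y hx hy => rw [map_add, map_add, hx, hy, TensorProduct.add_tmul]
    intro z
    induction z using TensorProduct.induction_on with
    | zero => exact ⟨0, by simp⟩
    | tmul x a =>
      obtain ⟨y, hy⟩ := hψ (a ⊗ₜ (1 : B₀))
      refine ⟨x * y, ?_⟩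
      rw [Algebra.TensorProduct.includeLeft_apply]
      have h5 : Φ (a ⊗ₜ (1 : B₀)) = (1 : A' ⊗[A₀] B₀) ⊗ₜ a := by
        simp [Φ, f₁, f₂]
        rfl
      rw [← hy, hΦψ] at h5
      have : (x * y) ⊗ₜ[A'] (1 : A) = (x ⊗ₜ[A'] (1 : A)) * (y ⊗ₜ[A'] (1 : A)) := by
        rw [Algebra.TensorProduct.tmul_mul_tmul, mul_one]
      rw [this, h5, Algebra.TensorProduct.tmul_mul_tmul, mul_one, one_mul]
    | add z w hz hw =>
      obtain ⟨x, hx⟩ := hz
      obtain ⟨y, hy⟩ := hw
      exact ⟨x + y, by rw [map_add, hx, hy]⟩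
  have hsurj : Function.Surjective (algebraMap A' A) :=
    Module.FaithfullyFlat.surjective_of_tensorProduct (S := A' ⊗[A₀] B₀)
      (fun z => by obtain ⟨x, hx⟩ := H z; exact ⟨x, hx⟩)
  exact Algebra.FiniteType.of_surjective (IsScalarTower.toAlgHom R A' A) hsurj

end A2


/-- **Finite type descends on the source along étale faithfully flat ring maps.** -/
theorem finiteType_of_etale_faithfullyFlat {R A B : Type u} [CommRing R] [CommRing A] [CommRing B]
    [Algebra R A] [Algebra A B] [Algebra R B] [IsScalarTower R A B] [Algebra.Etale A B]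
    [Module.FaithfullyFlat A B] [Algebra.FiniteType R B] : Algebra.FiniteType R A := by
  obtain ⟨A₀, B₀, _, _, hfg, _, ⟨φ⟩⟩ := Algebra.Etale.exists_subalgebra_fg R A B
  haveI : Algebra.FiniteType R A₀ := (Subalgebra.fg_iff_finiteType A₀).1 hfg
  haveI : Module.FaithfullyFlat A (A ⊗[A₀] B₀) :=
    Module.FaithfullyFlat.of_linearEquiv A B φ.symm.toLinearEquiv
  have hft : Algebra.FiniteType R (A ⊗[A₀] B₀) :=
    Algebra.FiniteType.equiv inferInstance (φ.restrictScalars R)
  exact finiteType_of_tensor (A₀ := A₀) (B₀ := B₀) hft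

end Groth.Agent.Helper16.Alg
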