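import Groth.Agent.Lib.Helper16.Alg.EtFP
import Mathlib.RingTheory.Etale.Kaehler
import Mathlib.RingTheory.Etale.Descent
import Mathlib.RingTheory.Flat.EquationalCriterion

/-!
# Smoothness descends along étale faithfully flat maps on the source
-/

set_option autoImplicit false
universe u
open TensorProduct PrimeSpectrum

namespace Groth.Agent.Helper16.Alg

open Algebra in
theorem subsingleton_h1Cotangent_of_etale_faithfullyFlat {R P A B : Type u} [CommRing R]
    [CommRing P] [CommRing A] [CommRing B] [Algebra R P] [Algebra P A] [Algebra A B] [Algebra P B]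
    [IsScalarTower P A B] [Algebra R A] [IsScalarTower R P A] [Algebra R B] [IsScalarTower R P B]
    [IsScalarTower R A B]
    [Algebra.FormallySmooth R P]
    (hπ : Function.Surjective (algebraMap P A)) [Algebra.Etale A B] [Module.FaithfullyFlat A B]
    [Subsingleton (Algebra.H1Cotangent R B)] : Subsingleton (Algebra.H1Cotangent R A) := by
  obtain ⟨E, _, _, ψ, hE, hψ, hker⟩ := exists_etale_lift (P := P) (A := A) (B := B) hπ
  letI : Algebra R E := ((algebraMap P E).comp (algebraMap R P)).toAlgebra
  haveI : IsScalarTower R P E := .of_algebraMap_eq' rfl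
  letI : Algebra E B := ψ.toRingHom.toAlgebra
  haveI : IsScalarTower P E B := .of_algebraMap_eq' (by ext x; exact (ψ.commutes x).symm)
  haveI : IsScalarTower R E B := by
    refine .of_algebraMap_eq' ?_
    ext r
    change algebraMap R B r = ψ (algebraMap P E (algebraMap R P r))
    rw [AlgHom.commutes, ← IsScalarTower.algebraMap_apply]
  let PA : Algebra.Extension R A :=
    { Ring := P, σ := fun x => (hπ x).choose, algebraMap_σ := fun x => (hπ x).choose_spec }
  let QB : Algebra.Extension R B :=
    { Ring := E, σ := fun x => (hψ x).choose, algebraMap_σ := fun x => (hψ x).choose_spec }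
  let f : PA.Hom QB :=
    { toRingHom := algebraMap P E
      toRingHom_algebraMap := fun x => rfl
      algebraMap_toRingHom := fun x => by
        change ψ (algebraMap P E x) = algebraMap A B (algebraMap P A x)
        rw [AlgHom.commutes, ← IsScalarTower.algebraMap_apply] }
  letI alg : Algebra PA.Ring QB.Ring := inferInstanceAs (Algebra P E)
  have halg : algebraMap PA.Ring QB.Ring = f.toRingHom := rfl
  have H₁ : f.toRingHom.FormallyEtale :=
    RingHom.formallyEtale_algebraMap.mpr (inferInstance : Algebra.FormallyEtale P E)
  haveI : Module.Flat P E := inferInstance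
  have hkerQ : QB.ker = Ideal.map (algebraMap P E) PA.ker := hker
  have H₂ : Function.Bijective ((f.mapKer halg).liftBaseChange QB.Ring) := by
    -- the composite with the inclusion is `E ⊗ I → E ⊗ P ≃ E`
    have hcomp : ∀ t, (((f.mapKer halg).liftBaseChange QB.Ring) t : E) =
        (TensorProduct.rid P E) ((LinearMap.lTensor E (Submodule.subtype PA.ker)) t) := by
      intro t
      induction t with
      | zero => simp
      | add x y hx hy => simp only [map_add, Submodule.coe_add, hx, hy]
      | tmul x i =>
        simp only [LinearMap.liftBaseChange_tmul, LinearMap.lTensor_tmul, Submodule.subtype_apply,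
          TensorProduct.rid_tmul]
        change x * algebraMap P E i = (i : P) • x
        rw [Algebra.smul_def, mul_comm]
    constructor
    · intro t₁ t₂ h
      have h' := congrArg (fun z : QB.ker => (z : E)) h
      change ((((f.mapKer halg).liftBaseChange QB.Ring) t₁ : QB.ker) : E) =
        ((((f.mapKer halg).liftBaseChange QB.Ring) t₂ : QB.ker) : E) at h'
      rw [hcomp, hcomp] at h'
      exact Module.Flat.lTensor_preserves_injective_linearMap (M := E) _
        (Submodule.injective_subtype PA.ker) ((TensorProduct.rid P E).injective h')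
    · rintro ⟨y, hy⟩
      have hy' : y ∈ Ideal.map (algebraMap P E) PA.ker := hkerQ ▸ hy
      suffices h : ∃ t, (((f.mapKer halg).liftBaseChange QB.Ring) t : E) = y by
        obtain ⟨t, ht⟩ := h
        exact ⟨t, Subtype.ext ht⟩
      refine Submodule.span_induction (p := fun y _ => ∃ t,
        (((f.mapKer halg).liftBaseChange QB.Ring) t : E) = y) ?_ ?_ ?_ ?_ hy'
      · rintro _ ⟨i, hi, rfl⟩
        refine ⟨(1 : E) ⊗ₜ[P] (⟨i, hi⟩ : PA.ker), ?_⟩
        rw [hcomp, LinearMap.lTensor_tmul, Submodule.subtype_apply, TensorProduct.rid_tmul,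
          Algebra.smul_def, mul_one]
      · exact ⟨0, by rw [map_zero]; rfl⟩
      · rintro a b _ _ ⟨ta, hta⟩ ⟨tb, htb⟩
        exact ⟨ta + tb, by rw [map_add, Submodule.coe_add, hta, htb]⟩
      · rintro c a _ ⟨ta, hta⟩
        exact ⟨c • ta, by rw [map_smul, Submodule.coe_smul, hta]⟩
  have e1 := Algebra.Extension.tensorH1CotangentOfFormallyEtale f halg H₁ H₂
  haveI : Algebra.FormallySmooth R PA.Ring := ‹Algebra.FormallySmooth R P›
  haveI : Algebra.FormallySmooth R QB.Ring :=
    (Algebra.FormallySmooth.comp R P E : Algebra.FormallySmooth R E)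
  have e2 := PA.equivH1CotangentOfFormallySmooth
  have e3 := QB.equivH1CotangentOfFormallySmooth
  haveI : Subsingleton QB.H1Cotangent := e3.toEquiv.subsingleton
  haveI : Subsingleton (B ⊗[A] PA.H1Cotangent) := e1.toEquiv.subsingleton
  haveI : Subsingleton PA.H1Cotangent :=
    (Module.FaithfullyFlat.subsingleton_tensorProduct_iff_right A B).1 inferInstance
  exact e2.symm.toEquiv.subsingleton

/-- **Smoothness descends on the source along étale faithfully flat ring maps.** -/
theorem smooth_of_etale_faithfullyFlat {R A B : Type u} [CommRing R] [CommRing A] [CommRing B]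
    [Algebra R A] [Algebra A B] [Algebra R B] [IsScalarTower R A B] [Algebra.Etale A B]
    [Module.FaithfullyFlat A B] [Algebra.Smooth R B] : Algebra.Smooth R A := by
  haveI : Algebra.FinitePresentation R B := inferInstance
  haveI : Algebra.FinitePresentation R A :=
    finitePresentation_of_etale_faithfullyFlat (R := R) (A := A) (B := B)
  refine ⟨?_, inferInstance⟩
  rw [Algebra.formallySmooth_iff]
  constructor
  · have e' : B ⊗[A] Ω[A⁄R] ≃ₗ[B] Ω[B⁄R] :=
      KaehlerDifferential.tensorKaehlerEquivOfFormallyEtale R A B
    haveI : Module.Flat B (B ⊗[A] Ω[A⁄R]) := .of_linearEquiv e'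
    haveI : Module.Flat A Ω[A⁄R] := Module.Flat.of_flat_tensorProduct _ _ B
    exact Module.Flat.projective_of_finitePresentation
  · obtain ⟨n, π, hπ⟩ := Algebra.FiniteType.iff_quotient_mvPolynomial''.1
      (inferInstance : Algebra.FiniteType R A)
    letI : Algebra (MvPolynomial (Fin n) R) A := π.toRingHom.toAlgebra
    letI : Algebra (MvPolynomial (Fin n) R) B := ((algebraMap A B).comp π.toRingHom).toAlgebra
    haveI : IsScalarTower (MvPolynomial (Fin n) R) A B := .of_algebraMap_eq' rfl
    haveI : IsScalarTower R (MvPolynomial (Fin n) R) A :=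
      .of_algebraMap_eq' (by ext r; exact (π.commutes r).symm)
    haveI : IsScalarTower R (MvPolynomial (Fin n) R) B := by
      refine .of_algebraMap_eq' ?_
      ext r
      change algebraMap R B r = algebraMap A B (π (algebraMap R (MvPolynomial (Fin n) R) r))
      rw [AlgHom.commutes, ← IsScalarTower.algebraMap_apply]
    exact subsingleton_h1Cotangent_of_etale_faithfullyFlat (R := R)
      (P := MvPolynomial (Fin n) R) (A := A) (B := B) hπ

end Groth.Agent.Helper16.Alg
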