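import Mathlib

set_option autoImplicit false
set_option linter.style.haveILetI false
set_option linter.unusedSectionVars false
universe u

namespace Groth.Agent.Helper16.FibDec

section idem

variable (R S : Type u) [CommRing R] [CommRing S] [Algebra R S]

theorem eq_zero_of_idem_of_basicOpen_eq_bot {x : S} (hx : IsIdempotentElem x)
    (h : ∀ q : PrimeSpectrum S, x ∈ q.asIdeal) : x = 0 := by
  have hn : IsNilpotent x := by
    rw [← PrimeSpectrum.basicOpen_eq_bot_iff]
    ext q
    simp only [TopologicalSpace.Opens.coe_bot, Set.mem_empty_iff_false, iff_false]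
    intro hq
    exact hq (h q)
  obtain ⟨n, hn⟩ := hn
  cases n with
  | zero =>
    rw [pow_zero] at hn
    rw [← mul_one x, hn, mul_zero]
  | succ n => rwa [hx.pow_succ_eq] at hn

/-- a locally constant `ℕ`-valued function on a prime spectrum decomposes the ring as a finite
product. -/
theorem exists_pi_decomposition (δ : PrimeSpectrum S → ℕ)
    (hδ : ∀ q, ∃ U : Set (PrimeSpectrum S), IsOpen U ∧ q ∈ U ∧ ∀ q' ∈ U, δ q' = δ q) :
    ∃ (N : ℕ) (e : Fin (N + 1) → S), (∀ d, IsIdempotentElem (e d)) ∧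
      (∀ d (q : PrimeSpectrum S), e d ∉ q.asIdeal ↔ δ q = (d : ℕ)) ∧
      Nonempty (S ≃ₐ[R] ((d : Fin (N + 1)) → S ⧸ Ideal.span {1 - e d})) := by
  classical
  have hopen : ∀ d : ℕ, IsOpen {q : PrimeSpectrum S | δ q = d} := by
    intro d
    rw [isOpen_iff_forall_mem_open]
    intro q hq
    obtain ⟨U, hU, hqU, hc⟩ := hδ q
    exact ⟨U, fun q' hq' => (hc q' hq').trans hq, hU, hqU⟩
  -- bound
  obtain ⟨N, hN⟩ : ∃ N : ℕ, ∀ q, δ q ≤ N := by
    have hcov : (Set.univ : Set (PrimeSpectrum S)) ⊆ ⋃ d : ℕ, {q | δ q = d} := by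
      intro q _
      exact Set.mem_iUnion.2 ⟨δ q, rfl⟩
    obtain ⟨t, ht⟩ := isCompact_univ.elim_finite_subcover _ hopen hcov
    refine ⟨t.sup id, fun q => ?_⟩
    obtain ⟨d, hd, hqd⟩ := Set.mem_iUnion₂.1 (ht (Set.mem_univ q))
    have : δ q = d := hqd
    rw [this]
    exact Finset.le_sup (f := id) hd
  have hclopen : ∀ d : ℕ, IsClopen {q : PrimeSpectrum S | δ q = d} := by
    intro d
    refine ⟨?_, hopen d⟩
    rw [← isOpen_compl_iff]
    have : {q : PrimeSpectrum S | δ q = d}ᶜ = ⋃ d' ∈ {d' : ℕ | d' ≠ d}, {q | δ q = d'} := by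
      ext q
      simp only [Set.mem_compl_iff, Set.mem_ofPred_eq, Set.mem_iUnion, exists_prop]
      constructor
      · intro h; exact ⟨δ q, h, rfl⟩
      · rintro ⟨d', hd', h⟩; rw [h]; exact hd'
    rw [this]
    exact isOpen_biUnion fun d' _ => hopen d'
  choose e he hes using fun d : ℕ => PrimeSpectrum.isClopen_iff.1 (hclopen d)
  have hmem : ∀ (d : ℕ) (q : PrimeSpectrum S), e d ∉ q.asIdeal ↔ δ q = d := by
    intro d q
    have : q ∈ {q : PrimeSpectrum S | δ q = d} ↔ q ∈ (PrimeSpectrum.basicOpen (e d) : Set _) := by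
      rw [hes d]
    exact this.symm
  have horth : ∀ d d' : ℕ, d ≠ d' → e d * e d' = 0 := by
    intro d d' hdd'
    apply eq_zero_of_idem_of_basicOpen_eq_bot S ((he d).mul (he d'))
    intro q
    by_contra hq
    have h1 : e d ∉ q.asIdeal := fun h => hq (Ideal.mul_mem_right _ _ h)
    have h2 : e d' ∉ q.asIdeal := fun h => hq (Ideal.mul_mem_left _ _ h)
    exact hdd' (((hmem d q).1 h1).symm.trans ((hmem d' q).1 h2))
  have hsum : ∑ d : Fin (N + 1), e d = 1 := by
    have hidem : IsIdempotentElem (∑ d : Fin (N + 1), e (d : ℕ)) := by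
      unfold IsIdempotentElem
      rw [Finset.sum_mul_sum]
      refine Finset.sum_congr rfl fun d _ => ?_
      rw [Finset.sum_eq_single d]
      · exact he d
      · intro d' _ hd'
        exact horth _ _ (fun h => hd' (Fin.ext h.symm))
      · intro h; exact absurd (Finset.mem_univ d) h
    have h1 := eq_zero_of_idem_of_basicOpen_eq_bot S hidem.one_sub (fun q => by
      have hq : e (δ q) ∉ q.asIdeal := (hmem (δ q) q).2 rfl
      have hlt : δ q < N + 1 := Nat.lt_succ_of_le (hN q)
      have h2 : (1 - ∑ d : Fin (N + 1), e (d : ℕ)) * e (δ q) = 0 := by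
        rw [sub_mul, one_mul, Finset.sum_mul, Finset.sum_eq_single ⟨δ q, hlt⟩]
        · rw [(he (δ q)).eq, sub_self]
        · intro d' _ hd'
          exact horth _ _ (fun h => hd' (Fin.ext h))
        · intro h; exact absurd (Finset.mem_univ _) h
      have h3 : (1 - ∑ d : Fin (N + 1), e (d : ℕ)) * e (δ q) ∈ q.asIdeal := by
        rw [h2]; exact zero_mem _
      exact (q.isPrime.mem_or_mem h3).resolve_right hq)
    exact (sub_eq_zero.1 h1).symm
  refine ⟨N, fun d => e d, fun d => he d, fun d q => hmem d q, ?_⟩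
  let φ : S →ₐ[R] ((d : Fin (N + 1)) → S ⧸ Ideal.span {1 - e (d : ℕ)}) :=
    AlgHom.pi (fun d => Ideal.Quotient.mkₐ R (Ideal.span {1 - e (d : ℕ)}))
  have hkill : ∀ (d : ℕ) (x : S), x ∈ Ideal.span {1 - e d} → x * e d = 0 := by
    intro d x hx
    obtain ⟨a, rfl⟩ := Ideal.mem_span_singleton'.1 hx
    rw [mul_assoc, sub_mul, one_mul, (he d).eq, sub_self, mul_zero]
  have hinj : Function.Injective φ := by
    rw [injective_iff_map_eq_zero]
    intro x hx
    have hx' : ∀ d : Fin (N + 1), x ∈ Ideal.span {1 - e (d : ℕ)} := by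
      intro d
      have := congrFun hx d
      exact Ideal.Quotient.eq_zero_iff_mem.1 this
    calc x = x * ∑ d : Fin (N + 1), e d := by rw [hsum, mul_one]
      _ = ∑ d : Fin (N + 1), x * e d := Finset.mul_sum _ _ _
      _ = 0 := Finset.sum_eq_zero fun d _ => hkill d x (hx' d)
  have hsurj : Function.Surjective φ := by
    intro y
    choose z hz using fun d => Ideal.Quotient.mk_surjective (y d)
    refine ⟨∑ d : Fin (N + 1), z d * e d, ?_⟩
    funext d
    show Ideal.Quotient.mk _ (∑ d' : Fin (N + 1), z d' * e d') = y d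
    rw [← hz d, Ideal.Quotient.eq, Ideal.mem_span_singleton']
    refine ⟨-(z d) + ∑ d' ∈ Finset.univ.erase d, z d' * e d', ?_⟩
    rw [← Finset.add_sum_erase _ _ (Finset.mem_univ d), add_mul, Finset.sum_mul]
    have : ∀ d' ∈ Finset.univ.erase d, z d' * e (d' : ℕ) * (1 - e (d : ℕ)) = z d' * e (d' : ℕ) := by
      intro d' hd'
      rw [mul_sub, mul_one, mul_assoc, horth _ _ (fun h => (Finset.ne_of_mem_erase hd') (Fin.ext h)),
        mul_zero, sub_zero]
    rw [Finset.sum_congr rfl this]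
    ring
  exact ⟨AlgEquiv.ofBijective φ ⟨hinj, hsurj⟩⟩

end idem

end Groth.Agent.Helper16.FibDec
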