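import Mathlib.RingTheory.RingHom.Flat
import Mathlib.RingTheory.Localization.BaseChange
import Mathlib.RingTheory.IsTensorProduct
import Mathlib.RingTheory.TensorProduct.Quotient

set_option autoImplicit false
set_option linter.style.haveILetI false
universe u
open TensorProduct

namespace Groth.Agent.Helper16.FibFlat

/-- base change of a localization is a localization (tensor on the right) -/
theorem isLocalization_tensor_right {A B K S : Type u} [CommRing A] [CommRing B] [CommRing K]
    [CommRing S] [Algebra A B] [Algebra A K] [Algebra B S] [Algebra A S] [IsScalarTower A B S]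
    (T : Submonoid B) [IsLocalization T S] :
    letI : Algebra (B ⊗[A] K) (S ⊗[A] K) :=
      (Algebra.TensorProduct.map (IsScalarTower.toAlgHom A B S) (AlgHom.id A K)).toRingHom.toAlgebra
    IsLocalization (Algebra.algebraMapSubmonoid (B ⊗[A] K) T) (S ⊗[A] K) := by
  letI aBS : Algebra (B ⊗[A] K) (S ⊗[A] K) :=
    (Algebra.TensorProduct.map (IsScalarTower.toAlgHom A B S) (AlgHom.id A K)).toRingHom.toAlgebra
  haveI t0 : IsScalarTower B (B ⊗[A] K) (S ⊗[A] K) := by
    refine IsScalarTower.of_algebraMap_eq' ?_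
    ext b
    simp [RingHom.algebraMap_toAlgebra, Algebra.TensorProduct.algebraMap_apply]
  have hpo : Algebra.IsPushout B S (B ⊗[A] K) (S ⊗[A] K) := by
    refine Algebra.IsPushout.tensorProduct_tensorProduct A K B S ?_
    ext k
    simp [RingHom.algebraMap_toAlgebra]
  exact (Algebra.isLocalization_iff_isPushout T S).mpr hpo.symm

/-- Flatness of the fibre ring map passes to localizations. -/
theorem flat_tensor_map_of_isLocalization
    {A B C K S S' : Type u} [CommRing A] [CommRing B] [CommRing C] [CommRing K] [CommRing S]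
    [CommRing S'] [Algebra A B] [Algebra A C] [Algebra B C] [IsScalarTower A B C] [Algebra A K]
    [Algebra B S] [Algebra A S] [IsScalarTower A B S]
    [Algebra C S'] [Algebra A S'] [IsScalarTower A C S']
    [Algebra S S'] [Algebra B S'] [IsScalarTower B S S'] [IsScalarTower B C S']
    [IsScalarTower A S S']
    (T : Submonoid B) [IsLocalization T S] (T' : Submonoid C) [IsLocalization T' S']
    (h : (Algebra.TensorProduct.map (IsScalarTower.toAlgHom A B C) (AlgHom.id A K)).toRingHom.Flat) :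
    (Algebra.TensorProduct.map (IsScalarTower.toAlgHom A S S') (AlgHom.id A K)).toRingHom.Flat := by
  let fBC := Algebra.TensorProduct.map (IsScalarTower.toAlgHom A B C) (AlgHom.id A K)
  let fBS := Algebra.TensorProduct.map (IsScalarTower.toAlgHom A B S) (AlgHom.id A K)
  let fCS' := Algebra.TensorProduct.map (IsScalarTower.toAlgHom A C S') (AlgHom.id A K)
  let fSS' := Algebra.TensorProduct.map (IsScalarTower.toAlgHom A S S') (AlgHom.id A K)
  letI aBC : Algebra (B ⊗[A] K) (C ⊗[A] K) := fBC.toRingHom.toAlgebra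
  letI aBS : Algebra (B ⊗[A] K) (S ⊗[A] K) := fBS.toRingHom.toAlgebra
  letI aCS' : Algebra (C ⊗[A] K) (S' ⊗[A] K) := fCS'.toRingHom.toAlgebra
  letI aSS' : Algebra (S ⊗[A] K) (S' ⊗[A] K) := fSS'.toRingHom.toAlgebra
  letI aBS' : Algebra (B ⊗[A] K) (S' ⊗[A] K) := (fSS'.toRingHom.comp fBS.toRingHom).toAlgebra
  haveI t1 : IsScalarTower (B ⊗[A] K) (S ⊗[A] K) (S' ⊗[A] K) :=
    IsScalarTower.of_algebraMap_eq' rfl
  have hcomp : fSS'.comp fBS = fCS'.comp fBC := by
    apply Algebra.TensorProduct.ext'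
    intro b k
    simp only [AlgHom.comp_apply, fSS', fBS, fCS', fBC, Algebra.TensorProduct.map_tmul,
      IsScalarTower.coe_toAlgHom', AlgHom.coe_id, id_eq]
    rw [← IsScalarTower.algebraMap_apply B S S', ← IsScalarTower.algebraMap_apply B C S']
  haveI t2 : IsScalarTower (B ⊗[A] K) (C ⊗[A] K) (S' ⊗[A] K) :=
    IsScalarTower.of_algebraMap_eq' (congrArg (fun f : _ →ₐ[A] _ => f.toRingHom) hcomp)
  haveI l1 : IsLocalization (Algebra.algebraMapSubmonoid (B ⊗[A] K) T) (S ⊗[A] K) :=
    isLocalization_tensor_right (A := A) (K := K) T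
  haveI l2 : IsLocalization (Algebra.algebraMapSubmonoid (C ⊗[A] K) T') (S' ⊗[A] K) :=
    isLocalization_tensor_right (A := A) (K := K) T'
  haveI f1 : Module.Flat (B ⊗[A] K) (C ⊗[A] K) := h
  haveI f2 : Module.Flat (C ⊗[A] K) (S' ⊗[A] K) :=
    IsLocalization.flat _ (Algebra.algebraMapSubmonoid (C ⊗[A] K) T')
  haveI f3 : Module.Flat (B ⊗[A] K) (S' ⊗[A] K) := Module.Flat.trans _ (C ⊗[A] K) _
  exact (Module.flat_iff_of_isLocalization (S ⊗[A] K)
    (Algebra.algebraMapSubmonoid (B ⊗[A] K) T) (S' ⊗[A] K)).mpr f3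

/-- transport of flatness along a ring isomorphism and a semilinear additive equivalence -/
theorem flat_of_ringEquiv_semilinear {Q P M N : Type u} [CommRing Q] [CommRing P]
    [AddCommGroup M] [Module Q M] [AddCommGroup N] [Module P N] (e : Q ≃+* P) (f : M ≃+ N)
    (hf : ∀ (q : Q) (m : M), f (q • m) = e q • f m) [Module.Flat P N] : Module.Flat Q M := by
  letI : Algebra Q P := e.toRingHom.toAlgebra
  letI : Module Q N := Module.compHom N e.toRingHom
  haveI : IsScalarTower Q P N := ⟨fun q p n => by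
    change (e q * p) • n = e q • (p • n)
    rw [mul_smul]⟩
  haveI : Module.Flat Q P := RingHom.Flat.of_bijective (f := e.toRingHom) e.bijective
  haveI : Module.Flat Q N := Module.Flat.trans Q P N
  let g : M ≃ₗ[Q] N := { f with map_smul' := fun q m => hf q m }
  exact Module.Flat.of_linearEquiv g

/-- change of base ring of the tensor product from `A` to its localization `R` -/
theorem flat_tensor_map_of_isLocalization_base {A R S S' K : Type u} [CommRing A] [CommRing R]
    [CommRing S] [CommRing S'] [CommRing K] [Algebra A R] (T₀ : Submonoid A) [IsLocalization T₀ R]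
    [Algebra R S] [Algebra R S'] [Algebra S S'] [IsScalarTower R S S']
    [Algebra A S] [Algebra A S'] [IsScalarTower A R S] [IsScalarTower A R S'] [IsScalarTower A S S']
    [Algebra R K] [Algebra A K] [IsScalarTower A R K]
    (h : (Algebra.TensorProduct.map (IsScalarTower.toAlgHom A S S') (AlgHom.id A K)).toRingHom.Flat) :
    (Algebra.TensorProduct.map (IsScalarTower.toAlgHom R S S') (AlgHom.id R K)).toRingHom.Flat := by
  let eS : S ⊗[R] K ≃ₐ[R] S ⊗[A] K := IsLocalization.algebraTensorEquiv T₀ R S K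
  let eS' : S' ⊗[R] K ≃ₐ[R] S' ⊗[A] K := IsLocalization.algebraTensorEquiv T₀ R S' K
  have key : (Algebra.TensorProduct.map (IsScalarTower.toAlgHom R S S') (AlgHom.id R K)).toRingHom =
      (eS'.symm : S' ⊗[A] K →+* S' ⊗[R] K).comp
        ((Algebra.TensorProduct.map (IsScalarTower.toAlgHom A S S') (AlgHom.id A K)).toRingHom.comp
          (eS : S ⊗[R] K →+* S ⊗[A] K)) := by
    refine RingHom.ext fun x => ?_
    induction x using TensorProduct.induction_on with
    | zero => simp
    | tmul s k =>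
      apply eS'.injective
      simp only [AlgHom.toRingHom_eq_coe, RingHom.coe_coe, Algebra.TensorProduct.map_tmul,
        IsScalarTower.coe_toAlgHom', AlgHom.coe_id, id_eq, RingHom.coe_comp, Function.comp_apply,
        AlgEquiv.apply_symm_apply]
      rfl
    | add x y hx hy => rw [map_add, map_add, hx, hy]
  rw [key]
  exact RingHom.Flat.comp (RingHom.Flat.comp (.of_bijective eS.bijective) h)
    (.of_bijective eS'.symm.bijective)

/-- from flatness of `S ⊗ R/I → S' ⊗ R/I` to the form used in the fibrewise criterion -/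
theorem flat_quotient_tensor {R S S' : Type u} [CommRing R] [CommRing S] [CommRing S']
    [Algebra R S] [Algebra R S'] [Algebra S S'] [IsScalarTower R S S'] (I : Ideal R)
    (h : (Algebra.TensorProduct.map (IsScalarTower.toAlgHom R S S')
      (AlgHom.id R (R ⧸ I))).toRingHom.Flat) :
    Module.Flat (S ⧸ I.map (algebraMap R S)) ((S ⧸ I.map (algebraMap R S)) ⊗[S] S') := by
  let f := Algebra.TensorProduct.map (IsScalarTower.toAlgHom R S S') (AlgHom.id R (R ⧸ I))
  letI aPN : Algebra (S ⊗[R] (R ⧸ I)) (S' ⊗[R] (R ⧸ I)) := f.toRingHom.toAlgebra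
  haveI hfl : Module.Flat (S ⊗[R] (R ⧸ I)) (S' ⊗[R] (R ⧸ I)) := h
  haveI t0 : IsScalarTower S (S ⊗[R] (R ⧸ I)) (S' ⊗[R] (R ⧸ I)) := by
    refine IsScalarTower.of_algebraMap_eq (R := S) (S := S ⊗[R] (R ⧸ I))
      (A := S' ⊗[R] (R ⧸ I)) fun s => ?_
    simp [RingHom.algebraMap_toAlgebra, Algebra.TensorProduct.algebraMap_apply, f]
  have hpo : Algebra.IsPushout S S' (S ⊗[R] (R ⧸ I)) (S' ⊗[R] (R ⧸ I)) := by
    refine Algebra.IsPushout.tensorProduct_tensorProduct R (R ⧸ I) S S' ?_
    ext k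
    simp [RingHom.algebraMap_toAlgebra, f]
  haveI hpo' : Algebra.IsPushout S (S ⊗[R] (R ⧸ I)) S' (S' ⊗[R] (R ⧸ I)) := hpo.symm
  let e₂ : (S ⊗[R] (R ⧸ I)) ⊗[S] S' ≃ₐ[S ⊗[R] (R ⧸ I)] S' ⊗[R] (R ⧸ I) :=
    Algebra.IsPushout.equiv S (S ⊗[R] (R ⧸ I)) S' (S' ⊗[R] (R ⧸ I))
  haveI hfl2 : Module.Flat (S ⊗[R] (R ⧸ I)) ((S ⊗[R] (R ⧸ I)) ⊗[S] S') :=
    Module.Flat.of_linearEquiv e₂.toLinearEquiv
  let e₁ : (S ⧸ I.map (algebraMap R S)) ≃ₐ[S] S ⊗[R] (R ⧸ I) :=
    Algebra.TensorProduct.quotIdealMapEquivTensorQuot S I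
  let g : (S ⧸ I.map (algebraMap R S)) ⊗[S] S' ≃ₗ[S] (S ⊗[R] (R ⧸ I)) ⊗[S] S' :=
    TensorProduct.congr e₁.toLinearEquiv (LinearEquiv.refl S S')
  refine flat_of_ringEquiv_semilinear (P := S ⊗[R] (R ⧸ I)) (N := (S ⊗[R] (R ⧸ I)) ⊗[S] S')
    e₁.toRingEquiv g.toAddEquiv ?_
  intro q m
  change g (q • m) = e₁ q • g m
  induction m using TensorProduct.induction_on with
  | zero => simp
  | tmul x s' =>
    rw [TensorProduct.smul_tmul', smul_eq_mul]
    change (e₁ (q * x)) ⊗ₜ[S] s' = e₁ q • ((e₁ x) ⊗ₜ[S] s')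
    rw [TensorProduct.smul_tmul', smul_eq_mul, map_mul]
  | add x y hx hy => rw [smul_add, map_add, map_add, smul_add, hx, hy]

end Groth.Agent.Helper16.FibFlat
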