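import Groth.Agent.S0392
import Groth.Agent.Lib.Helper16.Alg.FibFlat

set_option autoImplicit false
set_option linter.style.haveILetI false
universe u
open TensorProduct

namespace Groth.Agent.Helper16.FibFlat

/-- local form: flatness of the two local homomorphisms from flatness of the fibre ring map -/
theorem flat_localRingHom_of_fibre {A B C : Type u} [CommRing A] [CommRing B] [CommRing C]
    [IsNoetherianRing A] [IsNoetherianRing B] [IsNoetherianRing C]
    [Algebra A B] [Algebra B C] [Algebra A C] [IsScalarTower A B C] [Module.Flat A C]
    (q' : Ideal C) [q'.IsPrime] (q : Ideal B) [q.IsPrime] (hq : q = q'.comap (algebraMap B C))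
    (p : Ideal A) [p.IsPrime] (hp : p = q.comap (algebraMap A B))
    (hfib : (Algebra.TensorProduct.map (IsScalarTower.toAlgHom A B C)
      (AlgHom.id A p.ResidueField)).toRingHom.Flat) :
    (Localization.localRingHom q q' (algebraMap B C) hq).Flat ∧
      (Localization.localRingHom p q (algebraMap A B) hp).Flat := by
  have hpq' : p = q'.comap (algebraMap A C) := by
    rw [hp, hq, Ideal.comap_comap, ← IsScalarTower.algebraMap_eq]
  letI aRS : Algebra (Localization.AtPrime p) (Localization.AtPrime q) :=
    (Localization.localRingHom p q (algebraMap A B) hp).toAlgebra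
  letI aSS' : Algebra (Localization.AtPrime q) (Localization.AtPrime q') :=
    (Localization.localRingHom q q' (algebraMap B C) hq).toAlgebra
  letI aRS' : Algebra (Localization.AtPrime p) (Localization.AtPrime q') :=
    ((Localization.localRingHom q q' (algebraMap B C) hq).comp
      (Localization.localRingHom p q (algebraMap A B) hp)).toAlgebra
  haveI t1 : IsScalarTower (Localization.AtPrime p) (Localization.AtPrime q)
      (Localization.AtPrime q') := IsScalarTower.of_algebraMap_eq' rfl
  haveI t2 : IsScalarTower B (Localization.AtPrime q) (Localization.AtPrime q') := by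
    refine IsScalarTower.of_algebraMap_eq fun b => ?_
    rw [RingHom.algebraMap_toAlgebra, Localization.localRingHom_to_map,
      ← IsScalarTower.algebraMap_apply]
  haveI t3 : IsScalarTower A (Localization.AtPrime p) (Localization.AtPrime q) := by
    refine IsScalarTower.of_algebraMap_eq fun a => ?_
    rw [RingHom.algebraMap_toAlgebra, Localization.localRingHom_to_map,
      ← IsScalarTower.algebraMap_apply]
  haveI t4 : IsScalarTower A (Localization.AtPrime q) (Localization.AtPrime q') := by
    refine IsScalarTower.of_algebraMap_eq fun a => ?_
    rw [IsScalarTower.algebraMap_apply A B (Localization.AtPrime q),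
      ← IsScalarTower.algebraMap_apply B (Localization.AtPrime q) (Localization.AtPrime q'),
      ← IsScalarTower.algebraMap_apply A B (Localization.AtPrime q')]
  haveI t5 : IsScalarTower A (Localization.AtPrime p) (Localization.AtPrime q') := by
    refine IsScalarTower.of_algebraMap_eq fun a => ?_
    rw [IsScalarTower.algebraMap_apply (Localization.AtPrime p) (Localization.AtPrime q)
      (Localization.AtPrime q'), ← IsScalarTower.algebraMap_apply A (Localization.AtPrime p)
      (Localization.AtPrime q), ← IsScalarTower.algebraMap_apply A (Localization.AtPrime q)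
      (Localization.AtPrime q')]
  have h1 : (Algebra.TensorProduct.map (IsScalarTower.toAlgHom A (Localization.AtPrime q)
      (Localization.AtPrime q')) (AlgHom.id A p.ResidueField)).toRingHom.Flat :=
    flat_tensor_map_of_isLocalization (A := A) (B := B) (C := C) q.primeCompl q'.primeCompl hfib
  have h2 : (Algebra.TensorProduct.map (IsScalarTower.toAlgHom (Localization.AtPrime p)
      (Localization.AtPrime q) (Localization.AtPrime q'))
      (AlgHom.id (Localization.AtPrime p) p.ResidueField)).toRingHom.Flat :=
    flat_tensor_map_of_isLocalization_base (A := A) p.primeCompl h1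
  have h3 := flat_quotient_tensor (R := Localization.AtPrime p) (S := Localization.AtPrime q)
    (S' := Localization.AtPrime q') (IsLocalRing.maximalIdeal (Localization.AtPrime p)) h2
  haveI l1 : IsLocalHom (algebraMap (Localization.AtPrime p) (Localization.AtPrime q)) :=
    Localization.isLocalHom_localRingHom p q (algebraMap A B) hp
  haveI l2 : IsLocalHom (algebraMap (Localization.AtPrime q) (Localization.AtPrime q')) :=
    Localization.isLocalHom_localRingHom q q' (algebraMap B C) hq
  haveI fl : Module.Flat (Localization.AtPrime p) (Localization.AtPrime q') := by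
    have hAC : (algebraMap A C).Flat := RingHom.flat_algebraMap_iff.mpr inferInstance
    have := RingHom.Flat.localRingHom hAC q' p hpq'
    have e : Localization.localRingHom p q' (algebraMap A C) hpq' =
        algebraMap (Localization.AtPrime p) (Localization.AtPrime q') := by
      refine Localization.localRingHom_unique _ _ _ _ fun a => ?_
      rw [← IsScalarTower.algebraMap_apply, ← IsScalarTower.algebraMap_apply]
    rw [e] at this
    exact RingHom.flat_algebraMap_iff.mp this
  obtain ⟨r1, r2⟩ := Groth.Agent.S0392.result (R := Localization.AtPrime p)
    (S := Localization.AtPrime q) (S' := Localization.AtPrime q') (M := Localization.AtPrime q') h3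
  exact ⟨r2, r1⟩

/-- global ring form of the fibrewise criterion of flatness (Noetherian case) -/
theorem flat_of_fibres {A B C : Type u} [CommRing A] [CommRing B] [CommRing C]
    [IsNoetherianRing A] [IsNoetherianRing B] [IsNoetherianRing C]
    [Algebra A B] [Algebra B C] [Algebra A C] [IsScalarTower A B C] [Module.Flat A C]
    (hfib : ∀ (p : Ideal A) [p.IsPrime], (Algebra.TensorProduct.map (IsScalarTower.toAlgHom A B C)
      (AlgHom.id A p.ResidueField)).toRingHom.Flat) :
    (algebraMap B C).Flat ∧
      (Function.Surjective (PrimeSpectrum.comap (algebraMap B C)) → (algebraMap A B).Flat) := by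
  constructor
  · refine RingHom.Flat.ofLocalizationPrime _ fun q' hq' => ?_
    haveI := hq'
    exact (flat_localRingHom_of_fibre q' (q'.comap (algebraMap B C)) rfl
      ((q'.comap (algebraMap B C)).comap (algebraMap A B)) rfl (hfib _)).1
  · intro hsurj
    refine RingHom.Flat.ofLocalizationPrime _ fun q hq => ?_
    haveI := hq
    obtain ⟨⟨q', hq'⟩, h⟩ := hsurj ⟨q, hq⟩
    have hqq' : q = q'.comap (algebraMap B C) := congrArg PrimeSpectrum.asIdeal h.symm
    exact (flat_localRingHom_of_fibre q' q hqq' (q.comap (algebraMap A B)) rfl (hfib _)).2

end Groth.Agent.Helper16.FibFlat
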