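import Mathlib
import Groth.Agent.S0392
import Groth.Agent.Lib.Helper11.TorAmp1
import Groth.Agent.Lib.Helper17.RQ3

/-!
# Projective dimension and reduction to the closed fibre (helper16)

For a flat local homomorphism `R → S` of Noetherian local rings and a finite `S`-module `X`
which is flat over `R`, the projective dimension of `X` over `S` equals the projective dimension
of `X/𝔪X` over `S/𝔪S` (`pd_fibre_iff`).
-/

set_option autoImplicit false
set_option linter.style.haveILetI false
set_option linter.unusedSectionVars false
universe u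
open TensorProduct CategoryTheory IsLocalRing

namespace Groth.Agent.Helper16.FibPD

section Inj

variable {R S : Type u} [CommRing R] [CommRing S] [Algebra R S]
  {K F X : Type u} [AddCommGroup K] [AddCommGroup F] [AddCommGroup X]
  [Module S K] [Module S F] [Module S X]
  [Module R F] [IsScalarTower R S F] [Module R X] [IsScalarTower R S X]

theorem quotTensor_natural (𝔞 : Ideal S) (i : K →ₗ[S] F) (t : (S ⧸ 𝔞) ⊗[S] K) :
    quotTensorEquivQuotSMul F 𝔞 (LinearMap.lTensor (S ⧸ 𝔞) i t) =
      Submodule.mapQ (𝔞 • ⊤) (𝔞 • ⊤) i (Submodule.smul_top_le_comap_smul_top 𝔞 i)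
        (quotTensorEquivQuotSMul K 𝔞 t) := by
  induction t using TensorProduct.induction_on with
  | zero => simp
  | tmul s k =>
    obtain ⟨s, rfl⟩ := Ideal.Quotient.mk_surjective s
    rw [LinearMap.lTensor_tmul, quotTensorEquivQuotSMul_mk_tmul, quotTensorEquivQuotSMul_mk_tmul,
      Submodule.mapQ_apply, map_smul]
  | add a b ha hb => rw [map_add, map_add, map_add, map_add, ha, hb]

/-- tensoring with `S/𝔪S` a short exact sequence of `S`-modules whose cokernel is flat over `R`
preserves injectivity. -/
theorem lTensor_quot_injective (𝔪 : Ideal R) [Module.Flat R X]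
    (i : K →ₗ[S] F) (π : F →ₗ[S] X) (hi : Function.Injective i) (hex : Function.Exact i π)
    (hπ : Function.Surjective π) :
    Function.Injective (LinearMap.lTensor (S ⧸ 𝔪.map (algebraMap R S)) i) := by
  set 𝔞 := 𝔪.map (algebraMap R S) with h𝔞
  let N : Submodule S F := LinearMap.ker π
  haveI : Module.Flat R (F ⧸ N) :=
    Module.Flat.of_linearEquiv ((π.quotKerEquivOfSurjective hπ).restrictScalars R)
  have hN : N = LinearMap.range i := LinearMap.exact_iff.mp hex
  rw [injective_iff_map_eq_zero]
  intro t ht
  have h1 := quotTensor_natural 𝔞 i t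
  rw [ht, map_zero] at h1
  obtain ⟨k, hk⟩ := Submodule.Quotient.mk_surjective _ (quotTensorEquivQuotSMul K 𝔞 t)
  rw [← hk, Submodule.mapQ_apply, eq_comm, Submodule.Quotient.mk_eq_zero] at h1
  have hkN : i k ∈ N := by rw [hN]; exact ⟨k, rfl⟩
  have h2 := Groth.Agent.Helper17.RQ.inter_le_smul 𝔪 N (i k) hkN h1
  have h3 : 𝔞 • N = Submodule.map i (𝔞 • (⊤ : Submodule S K)) := by
    rw [Submodule.map_smul'', Submodule.map_top, hN]
  rw [← h𝔞, h3] at h2
  obtain ⟨k', hk', hkk'⟩ := h2
  have : k' = k := hi hkk'
  rw [this] at hk'
  have h4 : quotTensorEquivQuotSMul K 𝔞 t = 0 := by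
    rw [← hk]
    exact (Submodule.Quotient.mk_eq_zero _).mpr hk'
  exact (quotTensorEquivQuotSMul K 𝔞).map_eq_zero_iff.mp h4

end Inj

section Main

variable (R S : Type u) [CommRing R] [CommRing S] [IsLocalRing R] [Algebra R S]

/-- the closed fibre ring `S/𝔪_R S`. -/
abbrev Sbar : Type u := S ⧸ (maximalIdeal R).map (algebraMap R S)

variable {R S} [IsLocalRing S] [IsNoetherianRing R] [IsNoetherianRing S]
  [IsLocalHom (algebraMap R S)] [Module.Flat R S]

theorem hasPD_zero_iff (T : Type u) [CommRing T] (Y : Type u) [AddCommGroup Y] [Module T Y] :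
    HasProjectiveDimensionLE (ModuleCat.of T Y) 0 ↔ Module.Projective T Y :=
  (projective_iff_hasProjectiveDimensionLE_zero _).symm.trans (IsProjective.iff_projective Y).symm

theorem projective_fibre_iff (X : Type u) [AddCommGroup X] [Module S X] [Module R X]
    [IsScalarTower R S X] [Module.Finite S X] [Module.Flat R X] :
    Module.Projective (Sbar R S) (Sbar R S ⊗[S] X) ↔ Module.Projective S X := by
  constructor
  · intro h
    by_cases hX : Subsingleton X
    · haveI := hX
      exact Module.Projective.of_free
    · rw [not_subsingleton_iff_nontrivial] at hX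
      haveI := hX
      haveI : IsLocalHom (algebraMap S S) := ⟨fun a ha => ha⟩
      have hflat : Module.Flat (Sbar R S) (Sbar R S ⊗[S] X) := inferInstance
      obtain ⟨-, h2⟩ := Groth.Agent.S0392.result (R := R) (S := S) (S' := S) (M := X) hflat
      haveI := h2
      haveI : Module.Free S X := Module.free_of_flat_of_isLocalRing
      exact Module.Projective.of_free
  · intro h
    infer_instance

/-- **Projective dimension passes to the closed fibre** for modules flat over the base. -/
theorem pd_fibre_iff : ∀ (e : ℕ) (X : Type u) [AddCommGroup X] [Module S X] [Module R X]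
    [IsScalarTower R S X] [Module.Finite S X] [Module.Flat R X],
    HasProjectiveDimensionLE (ModuleCat.of (Sbar R S) (Sbar R S ⊗[S] X)) e ↔
      HasProjectiveDimensionLE (ModuleCat.of S X) e := by
  intro e
  induction e with
  | zero =>
    intro X _ _ _ _ _ _
    rw [hasPD_zero_iff, hasPD_zero_iff]
    exact projective_fibre_iff X
  | succ e ih =>
    intro X _ _ _ _ _ _
    obtain ⟨n, f, hf⟩ := Module.Finite.exists_fin' S X
    -- the `S`-side
    have hS := (LinearMap.shortExact_shortComplexKer hf).hasProjectiveDimensionLT_X₃_iff e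
      ((IsProjective.iff_projective (Fin n → S)).mp inferInstance)
    -- the fibre side
    haveI : Module.Flat R (Fin n → S) := Module.Flat.trans R S (Fin n → S)
    let ib : Sbar R S ⊗[S] (LinearMap.ker f) →ₗ[Sbar R S] Sbar R S ⊗[S] (Fin n → S) :=
      LinearMap.baseChange (Sbar R S) (LinearMap.ker f).subtype
    let fb : Sbar R S ⊗[S] (Fin n → S) →ₗ[Sbar R S] Sbar R S ⊗[S] X :=
      LinearMap.baseChange (Sbar R S) f
    have hex : Function.Exact (LinearMap.ker f).subtype f := LinearMap.exact_subtype_ker_map f
    have hexb : Function.Exact ib fb := lTensor_exact (Sbar R S) hex hf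
    have hsurjb : Function.Surjective fb := LinearMap.lTensor_surjective (Sbar R S) hf
    have hinjb : Function.Injective ib :=
      lTensor_quot_injective (maximalIdeal R) (LinearMap.ker f).subtype f
        (LinearMap.ker f).injective_subtype hex hf
    have h0 : fb.comp ib = 0 := LinearMap.ext fun x => hexb.apply_apply_eq_zero x
    have hSE : (ModuleCat.shortComplexOfCompEqZero ib fb h0).ShortExact :=
      ModuleCat.shortComplex_shortExact _ hexb hinjb hsurjb
    have hT := hSE.hasProjectiveDimensionLT_X₃_iff e
      ((IsProjective.iff_projective (Sbar R S ⊗[S] (Fin n → S))).mp inferInstance)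
    haveI : Module.Flat R (LinearMap.ker f) :=
      Groth.Agent.Helper11.TA.flat_of_exact ((LinearMap.ker f).subtype.restrictScalars R)
        (f.restrictScalars R) (LinearMap.ker f).injective_subtype hf hex
    have hK := ih (LinearMap.ker f)
    exact hT.trans (hK.trans hS.symm)

end Main

end Groth.Agent.Helper16.FibPD
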