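import Mathlib
import Groth.Agent.Lib.Helper16.Alg.FibPD1
import Groth.Agent.Lib.Lead.PD3
import Groth.Agent.Lib.Lead.Fib1
import Groth.Agent.Lib.Lead.Depth12
import Groth.Agent.Lib.Lead.Depth21
import Groth.Agent.Lib.Lead.Depth7
import Groth.Agent.Lib.Lead.Depth8
import Groth.Agent.Lib.Lead.Hom3

/-!
# Fibrewise Auslander–Buchsbaum for a quotient of a flat algebra with regular fibres (helper16)
-/

set_option autoImplicit false
set_option linter.style.haveILetI false
set_option linter.unusedSectionVars false
universe u
open TensorProduct CategoryTheory IsLocalRing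

namespace Groth.Agent.Helper16.FibPD

open Groth.Agent.Lead.Fib Groth.Agent.Lead.PD Groth.Agent.Lead.Depth

theorem pd_fibre_iff' {R S : Type u} [CommRing R] [CommRing S] [IsLocalRing R] [Algebra R S]
    [IsLocalRing S] [IsNoetherianRing R] [IsNoetherianRing S]
    [IsLocalHom (algebraMap R S)] [Module.Flat R S] (𝔞 : Ideal S)
    (h𝔞 : 𝔞 = (maximalIdeal R).map (algebraMap R S)) (e : ℕ) (X : Type u) [AddCommGroup X]
    [Module S X] [Module R X] [IsScalarTower R S X] [Module.Finite S X] [Module.Flat R X] :
    HasProjectiveDimensionLE (ModuleCat.of (S ⧸ 𝔞) ((S ⧸ 𝔞) ⊗[S] X)) e ↔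
      HasProjectiveDimensionLE (ModuleCat.of S X) e := by
  subst h𝔞
  exact pd_fibre_iff e X

section Global

variable {A P B : Type u} [CommRing A] [CommRing P] [CommRing B] [Algebra A P] [Algebra P B]
  [Algebra A B] [IsScalarTower A P B]

theorem localRingHom_surjective (hsurj : Function.Surjective (algebraMap P B))
    (Q : Ideal P) [Q.IsPrime] (q : Ideal B) [q.IsPrime] (h : Q = q.comap (algebraMap P B)) :
    Function.Surjective (Localization.localRingHom Q q (algebraMap P B) h) := by
  intro z
  obtain ⟨b, s, rfl⟩ := IsLocalization.exists_mk'_eq q.primeCompl z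
  obtain ⟨x, rfl⟩ := hsurj b
  obtain ⟨y, hy⟩ := hsurj s.1
  have hyQ : y ∈ Q.primeCompl := by
    intro hmem
    rw [h] at hmem
    have hmem' : algebraMap P B y ∈ q := hmem
    rw [hy] at hmem'
    exact s.2 hmem'
  refine ⟨IsLocalization.mk' _ x ⟨y, hyQ⟩, ?_⟩
  rw [Localization.localRingHom_mk']
  congr 1
  exact Subtype.ext hy

theorem algebraMapSubmonoid_primeCompl (hsurj : Function.Surjective (algebraMap P B))
    (Q : Ideal P) [Q.IsPrime] (q : Ideal B) [q.IsPrime] (h : Q = q.comap (algebraMap P B)) :
    Algebra.algebraMapSubmonoid B Q.primeCompl = q.primeCompl := by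
  ext b
  constructor
  · rintro ⟨x, hx, rfl⟩
    intro hmem
    apply hx
    rw [h]
    exact hmem
  · intro hb
    obtain ⟨x, rfl⟩ := hsurj b
    refine ⟨x, ?_, rfl⟩
    intro hmem
    rw [h] at hmem
    exact hb hmem

section

variable [IsNoetherianRing A] [IsNoetherianRing P] [Module.Flat A P] [Module.Flat A B]
  (hsurj : Function.Surjective (algebraMap P B))
  (p : Ideal A) [p.IsPrime] (Q : Ideal P) [Q.IsPrime] (q : Ideal B) [q.IsPrime]
  [Q.LiesOver p] [q.LiesOver Q] [q.LiesOver p]

include hsurj in
/-- the pd locus of `B` over `P` at `Q` in terms of the fibre module. -/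
theorem hasPD_fibre_iff (e : ℕ) :
    letI := Localization.AtPrime.algebraOfLiesOver Q q
    HasProjectiveDimensionLE (ModuleCat.of (FL p Q)
        (FL p Q ⊗[Localization.AtPrime Q] Localization.AtPrime q)) e ↔
      (⟨Q, inferInstance⟩ : PrimeSpectrum P) ∈ pdLocus e (ModuleCat.of P B) := by
  letI a1 := Localization.AtPrime.algebraOfLiesOver p Q
  letI a2 := Localization.AtPrime.algebraOfLiesOver Q q
  letI a3 := Localization.AtPrime.algebraOfLiesOver p q
  haveI : IsLocalHom (algebraMap (Localization.AtPrime p) (Localization.AtPrime Q)) :=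
    Localization.isLocalHom_localRingHom _ _ _ _
  haveI : Module.Flat (Localization.AtPrime p) (Localization.AtPrime Q) := by
    have h1 : (algebraMap A P).Flat := RingHom.flat_algebraMap_iff.mpr inferInstance
    have h2 := RingHom.Flat.localRingHom h1 Q p Ideal.LiesOver.over
    exact RingHom.flat_algebraMap_iff.mp h2
  haveI : Module.Flat (Localization.AtPrime p) (Localization.AtPrime q) := by
    have h1 : (algebraMap A B).Flat := RingHom.flat_algebraMap_iff.mpr inferInstance
    have h2 := RingHom.Flat.localRingHom h1 q p Ideal.LiesOver.over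
    exact RingHom.flat_algebraMap_iff.mp h2
  have hQq : Q = q.comap (algebraMap P B) := Ideal.LiesOver.over
  haveI : Module.Finite (Localization.AtPrime Q) (Localization.AtPrime q) :=
    Module.Finite.of_surjective (Algebra.linearMap (Localization.AtPrime Q) (Localization.AtPrime q))
      (localRingHom_surjective hsurj Q q hQq)
  have h𝔞 : p.map (algebraMap A (Localization.AtPrime Q)) =
      (maximalIdeal (Localization.AtPrime p)).map
        (algebraMap (Localization.AtPrime p) (Localization.AtPrime Q)) := by
    rw [← Localization.AtPrime.map_eq_maximalIdeal, Ideal.map_map, ← IsScalarTower.algebraMap_eq]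
  rw [pd_fibre_iff' (p.map (algebraMap A (Localization.AtPrime Q))) h𝔞 e (Localization.AtPrime q)]
  change _ ↔ HasProjectiveDimensionLE ((ModuleCat.of P B).localizedModule Q.primeCompl) e
  rw [← pd_plain_iff]
  -- compare `B_q` with the localized module
  haveI hloc : IsLocalizedModule Q.primeCompl
      (IsScalarTower.toAlgHom P B (Localization.AtPrime q)).toLinearMap := by
    rw [isLocalizedModule_iff_isLocalization, algebraMapSubmonoid_primeCompl hsurj Q q hQq]
    infer_instance
  let e0 : LocalizedModule Q.primeCompl B ≃ₗ[P] Localization.AtPrime q :=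
    IsLocalizedModule.linearEquiv Q.primeCompl (LocalizedModule.mkLinearMap Q.primeCompl B)
      (IsScalarTower.toAlgHom P B (Localization.AtPrime q)).toLinearMap
  let e1 : LocalizedModule Q.primeCompl B ≃ₗ[Localization.AtPrime Q] Localization.AtPrime q :=
    e0.extendScalarsOfIsLocalization Q.primeCompl (Localization.AtPrime Q)
  constructor
  · intro h
    exact ModuleCat.hasProjectiveDimensionLE_of_linearEquiv
      (M := ModuleCat.of (Localization.AtPrime Q) (Localization.AtPrime q))
      (N := ModuleCat.of (Localization.AtPrime Q) (LocalizedModule Q.primeCompl B)) e1.symm e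
  · intro h
    exact ModuleCat.hasProjectiveDimensionLE_of_linearEquiv
      (M := ModuleCat.of (Localization.AtPrime Q) (LocalizedModule Q.primeCompl B))
      (N := ModuleCat.of (Localization.AtPrime Q) (Localization.AtPrime q)) e1 e

end


end Global

end Groth.Agent.Helper16.FibPD
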