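import Mathlib
import Groth.Agent.Lib.Helper16.Alg.FibModAlg3
import Groth.Agent.Lib.Helper16.Alg.FibPD2
import Groth.Agent.Lib.Helper4.SuppBC

/-!
# Transfer of the fibre invariants of a module along a surjection (helper16)
-/

set_option autoImplicit false
set_option linter.style.haveILetI false
set_option linter.unusedSectionVars false
universe u

open IsLocalRing TensorProduct LocCoh

namespace Groth.Agent.Helper16.FibModAlg

open Groth.Agent.Lead.Depth Groth.Agent.Lead.DimF

section Chart'

variable {A B : Type u} [CommRing A] [CommRing B] [Algebra A B] (q : Ideal B) [q.IsPrime]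
  {S : Type u} [CommRing S] [IsLocalRing S] [Algebra B S] [Algebra (Localization.AtPrime q) S]
  [IsScalarTower B (Localization.AtPrime q) S]
  (hsurj : Function.Surjective (algebraMap (Localization.AtPrime q) S))
  (I : Ideal S) (hI : I = ((q.comap (algebraMap A B)).map (algebraMap A B)).map (algebraMap B S))
  {M : Type u} [AddCommGroup M] [Module B M] [Module.Finite B M]
  {N : Type u} [AddCommGroup N] [Module S N] [Module B N] [IsScalarTower B S N]

include hI hsurj in
/-- **Abstract chart lemma, general form**: the invariants of `N / I N` over a local quotient `S`
of the localization of `B` at `q` are the invariants of the fibre module `M_q / p M_q`. -/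
theorem chart_invariants' (g : M →ₗ[B] N) [IsLocalizedModule q.primeCompl g] :
    Module.supportDim S (N ⧸ I • (⊤ : Submodule S N)) = adim A B q M ∧
      LocCoh.depth S (N ⧸ I • (⊤ : Submodule S N)) = adepth A B q M := by
  -- `N` as a module over the localization
  letI modLN : Module (Localization.AtPrime q) N :=
    Module.compHom N (algebraMap (Localization.AtPrime q) S)
  haveI towLSN : IsScalarTower (Localization.AtPrime q) S N :=
    IsScalarTower.of_algebraMap_smul fun r x => rfl
  haveI towBLN : IsScalarTower B (Localization.AtPrime q) N :=
    IsScalarTower.of_algebraMap_smul fun b x => by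
      change algebraMap (Localization.AtPrime q) S (algebraMap B (Localization.AtPrime q) b) • x =
        b • x
      rw [← IsScalarTower.algebraMap_apply B (Localization.AtPrime q) S, algebraMap_smul]
  -- the comparison of localized modules
  let φ₀ : LocalizedModule q.primeCompl M ≃ₗ[B] N := IsLocalizedModule.iso q.primeCompl g
  let φ : LocalizedModule q.primeCompl M ≃ₗ[Localization.AtPrime q] N :=
    φ₀.extendScalarsOfIsLocalization q.primeCompl (Localization.AtPrime q)
  -- the ideals
  set J : Ideal (Localization.AtPrime q) :=
    (q.comap (algebraMap A B)).map (algebraMap A (Localization.AtPrime q)) with hJ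
  have hJI : J.map (algebraMap (Localization.AtPrime q) S) = I := by
    rw [hI, hJ, IsScalarTower.algebraMap_eq A B (Localization.AtPrime q), ← Ideal.map_map,
      Ideal.map_map (algebraMap B (Localization.AtPrime q)),
      ← IsScalarTower.algebraMap_eq B (Localization.AtPrime q) S]
  have hsub : (J • (⊤ : Submodule (Localization.AtPrime q) (LocalizedModule q.primeCompl M))).map
      φ.toLinearMap =
      (I • (⊤ : Submodule S N)).restrictScalars (Localization.AtPrime q) := by
    rw [Submodule.map_smul'', Submodule.map_top, LinearEquiv.range, ← hJI,
      Ideal.smul_restrictScalars, Submodule.restrictScalars_top]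
  let ψ₁ : (EGA4.FibLocMod A B q M) ≃ₗ[Localization.AtPrime q]
      (N ⧸ (I • (⊤ : Submodule S N)).restrictScalars (Localization.AtPrime q)) :=
    Submodule.Quotient.equiv _ _ φ hsub
  let ψ₂ : (N ⧸ (I • (⊤ : Submodule S N)).restrictScalars (Localization.AtPrime q))
      ≃ₗ[Localization.AtPrime q] (N ⧸ I • (⊤ : Submodule S N)) :=
    Submodule.Quotient.restrictScalarsEquiv (Localization.AtPrime q) (I • (⊤ : Submodule S N))
  haveI : Module.Finite S N := by
    haveI : Module.Finite (Localization.AtPrime q) (LocalizedModule q.primeCompl M) :=
      Module.Finite.of_isLocalizedModule q.primeCompl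
        (LocalizedModule.mkLinearMap q.primeCompl M)
    haveI : Module.Finite (Localization.AtPrime q) N := Module.Finite.equiv φ
    exact Module.Finite.of_restrictScalars_finite (Localization.AtPrime q) S N
  have key := invariants_eq_of_surjective hsurj (N ⧸ I • (⊤ : Submodule S N))
    (EGA4.FibLocMod A B q M) (ψ₁.trans ψ₂).symm
  exact key

end Chart'

section Transfer

variable {A P B : Type u} [CommRing A] [CommRing P] [CommRing B] [Algebra A P] [Algebra P B]
  [Algebra A B] [IsScalarTower A P B]
  (hsurj : Function.Surjective (algebraMap P B))
  (M : Type u) [AddCommGroup M] [Module B M] [Module P M] [IsScalarTower P B M]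
  [Module.Finite B M]

include hsurj in
/-- **Transfer along a surjection**: the fibre invariants of a `B`-module at `q` agree with those
of the underlying `P`-module at the preimage of `q`. -/
theorem transfer (q : Ideal B) [q.IsPrime] :
    adim A P (q.comap (algebraMap P B)) M = adim A B q M ∧
      adepth A P (q.comap (algebraMap P B)) M = adepth A B q M := by
  set Q := q.comap (algebraMap P B) with hQ
  haveI : q.LiesOver Q := ⟨rfl⟩
  letI a2 := Localization.AtPrime.algebraOfLiesOver Q q
  haveI : Module.Finite P B := Module.Finite.of_surjective (Algebra.linearMap P B) hsurj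
  haveI : Module.Finite P M := Module.Finite.trans B M
  have hs : Function.Surjective (algebraMap (Localization.AtPrime Q) (Localization.AtPrime q)) :=
    Groth.Agent.Helper16.FibPD.localRingHom_surjective hsurj Q q rfl
  haveI hloc : IsLocalizedModule Q.primeCompl
      ((LocalizedModule.mkLinearMap q.primeCompl M).restrictScalars P) := by
    haveI : IsLocalizedModule (Algebra.algebraMapSubmonoid B Q.primeCompl)
        (LocalizedModule.mkLinearMap q.primeCompl M) := by
      rw [Groth.Agent.Helper16.FibPD.algebraMapSubmonoid_primeCompl hsurj Q q rfl]
      infer_instance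
    exact IsLocalizedModule.restrictScalars Q.primeCompl _
  have hI : (q.comap (algebraMap A B)).map (algebraMap A (Localization.AtPrime q)) =
      ((Q.comap (algebraMap A P)).map (algebraMap A P)).map
        (algebraMap P (Localization.AtPrime q)) := by
    rw [Ideal.map_map, ← IsScalarTower.algebraMap_eq, hQ, Ideal.comap_comap,
      ← IsScalarTower.algebraMap_eq]
  have key := chart_invariants' (A := A) (B := P) Q hs _ hI
    ((LocalizedModule.mkLinearMap q.primeCompl M).restrictScalars P)
  exact ⟨key.1.symm, key.2.symm⟩

end Transfer

end Groth.Agent.Helper16.FibModAlg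

namespace Groth.Agent.Helper16.FibModAlg

section Faithful

variable {A B : Type u} [CommRing A] [CommRing B] [Algebra A B]
  (M : Type u) [AddCommGroup M] [Module B M] [Module.Finite B M]

/-- for a module with full support, the support dimension of the fibre module is the dimension
of the fibre local ring. -/
theorem adim_eq_of_support_eq_univ (h : Module.support B M = Set.univ) (q : Ideal B)
    [q.IsPrime] : adim A B q M = ringKrullDim (EGA4.FibLocRing A B q) := by
  have hbc : IsBaseChange (Localization.AtPrime q) (LocalizedModule.mkLinearMap q.primeCompl M) :=
    IsLocalizedModule.isBaseChange q.primeCompl _ _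
  have h1 : Module.support (Localization.AtPrime q) (LocalizedModule q.primeCompl M) =
      Set.univ := by
    rw [← hbc.equiv.support_eq]
    exact Groth.Agent.Helper4.SuppBC.support_baseChange_eq_univ B (Localization.AtPrime q) M h
  haveI : Module.Finite (Localization.AtPrime q) (LocalizedModule q.primeCompl M) :=
    Module.Finite.of_isLocalizedModule q.primeCompl (LocalizedModule.mkLinearMap q.primeCompl M)
  unfold adim
  rw [Module.supportDim, Module.support_quotient, h1, Set.univ_inter, ← ringKrullDim_quotient]

/-- off the support, the fibre module vanishes. -/
theorem adim_eq_bot_of_notMem_support (q : PrimeSpectrum B) (h : q ∉ Module.support B M) :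
    adim A B q.asIdeal M = ⊥ := by
  rw [Module.notMem_support_iff] at h
  haveI := h
  unfold adim
  exact Module.supportDim_eq_bot_of_subsingleton _ _

end Faithful

end Groth.Agent.Helper16.FibModAlg
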