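import Mathlib
import Groth.Agent.Lib.Helper16.Alg.FibPD2

set_option autoImplicit false
set_option linter.style.haveILetI false
set_option linter.unusedSectionVars false
universe u
open TensorProduct CategoryTheory IsLocalRing

namespace Groth.Agent.Helper16.FibPD

open Groth.Agent.Lead.Fib Groth.Agent.Lead.PD Groth.Agent.Lead.Depth

variable {A P B : Type u} [CommRing A] [CommRing P] [CommRing B] [Algebra A P] [Algebra P B]
  [Algebra A B] [IsScalarTower A P B]
  [IsNoetherianRing A] [IsNoetherianRing P] [Module.Flat A P] [Module.Flat A B]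
  (hsurj : Function.Surjective (algebraMap P B))
  (p : Ideal A) [p.IsPrime] (Q : Ideal P) [Q.IsPrime] (q : Ideal B) [q.IsPrime]
  [Q.LiesOver p] [q.LiesOver Q] [q.LiesOver p]

include hsurj in
/-- **Fibrewise Auslander–Buchsbaum.** -/
theorem exists_pd_eq [IsRegularLocalRing (FL p Q)] :
    ∃ e₀ : ℕ, (∀ e : ℕ, (⟨Q, inferInstance⟩ : PrimeSpectrum P) ∈
        pdLocus e (ModuleCat.of P B) ↔ e₀ ≤ e) ∧
      ringKrullDim (FL p Q) = ((e₀ + LocCoh.depth (FL p q) (FL p q) : ℕ∞) : WithBot ℕ∞) ∧
      ringKrullDim (FL p q) ≤ ringKrullDim (FL p Q) := by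
  letI a1 := Localization.AtPrime.algebraOfLiesOver p Q
  letI a2 := Localization.AtPrime.algebraOfLiesOver Q q
  letI a3 := Localization.AtPrime.algebraOfLiesOver p q
  have hQq : Q = q.comap (algebraMap P B) := Ideal.LiesOver.over
  haveI : IsNoetherianRing B := isNoetherianRing_of_surjective P B (algebraMap P B) hsurj
  haveI : Module.Finite (Localization.AtPrime Q) (Localization.AtPrime q) :=
    Module.Finite.of_surjective (Algebra.linearMap (Localization.AtPrime Q) (Localization.AtPrime q))
      (localRingHom_surjective hsurj Q q hQq)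
  -- the ring `T`
  have hmap : (p.map (algebraMap A (Localization.AtPrime Q))).map
      (algebraMap (Localization.AtPrime Q) (Localization.AtPrime q)) =
      p.map (algebraMap A (Localization.AtPrime q)) := by
    rw [Ideal.map_map, ← IsScalarTower.algebraMap_eq]
  let eT : FL p q ≃+* FL p Q ⊗[Localization.AtPrime Q] Localization.AtPrime q :=
    (Ideal.quotEquivOfEq hmap.symm).trans
      ((Algebra.TensorProduct.quotIdealMapEquivTensorQuot (Localization.AtPrime q)
        (p.map (algebraMap A (Localization.AtPrime Q)))).toRingEquiv.trans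
        (Algebra.TensorProduct.comm (Localization.AtPrime Q) (Localization.AtPrime q)
          (FL p Q)).toRingEquiv)
  haveI : IsLocalRing (FL p Q ⊗[Localization.AtPrime Q] Localization.AtPrime q) :=
    eT.isLocalRing
  haveI : IsNoetherianRing (FL p Q ⊗[Localization.AtPrime Q] Localization.AtPrime q) :=
    isNoetherianRing_of_ringEquiv (FL p q) eT
  have hs : Function.Surjective (@algebraMap (FL p Q)
      (FL p Q ⊗[Localization.AtPrime Q] Localization.AtPrime q) _ _
      Algebra.TensorProduct.leftAlgebra) := by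
    intro t
    induction t using TensorProduct.induction_on with
    | zero => exact ⟨0, map_zero _⟩
    | tmul x b =>
      obtain ⟨b', rfl⟩ := localRingHom_surjective hsurj Q q hQq b
      refine ⟨b' • x, ?_⟩
      rw [Algebra.TensorProduct.algebraMap_apply, Algebra.algebraMap_self, RingHom.id_apply,
        TensorProduct.smul_tmul]
      congr 1
      change b' • (1 : Localization.AtPrime q) = _
      rw [Algebra.smul_def, mul_one]
      rfl
    | add a b ha hb =>
      obtain ⟨a', rfl⟩ := ha
      obtain ⟨b', rfl⟩ := hb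
      exact ⟨a' + b', map_add _ _ _⟩
  have hdep1 := depth_eq_of_surjective (R₁ := FL p Q)
    (R₂ := FL p Q ⊗[Localization.AtPrime Q] Localization.AtPrime q) hs
    (FL p Q ⊗[Localization.AtPrime Q] Localization.AtPrime q)
  have hdep2 := depth_self_eq_of_ringEquiv (R₁ := FL p q)
    (R₂ := FL p Q ⊗[Localization.AtPrime Q] Localization.AtPrime q) eT
  -- Auslander–Buchsbaum
  obtain ⟨d, hd⟩ : ∃ d : ℕ, ringKrullDim (FL p Q) = (d : WithBot ℕ∞) := by
    have h1 : (maximalIdeal (FL p Q)).height ≠ ⊤ := Ideal.height_ne_top_of_isPrime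
    obtain ⟨d, hd⟩ := ENat.ne_top_iff_exists.mp h1
    refine ⟨d, ?_⟩
    rw [← IsLocalRing.maximalIdeal_height_eq_ringKrullDim, ← hd]
    rfl
  have hpd := Groth.Agent.Lead.Hom.hasProjectiveDimensionLT_of_isRegularLocalRing hd
    (ModuleCat.of (FL p Q) (FL p Q ⊗[Localization.AtPrime Q] Localization.AtPrime q))
  have hnz : ¬ Limits.IsZero (ModuleCat.of (FL p Q)
      (FL p Q ⊗[Localization.AtPrime Q] Localization.AtPrime q)) := by
    intro hz
    exact not_subsingleton (FL p Q ⊗[Localization.AtPrime Q] Localization.AtPrime q)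
      (ModuleCat.subsingleton_of_isZero hz)
  obtain ⟨e0, he0, -⟩ := exists_nat_projectiveDimension_eq hpd hnz
  have hAB := auslander_buchsbaum
    (FL p Q ⊗[Localization.AtPrime Q] Localization.AtPrime q) e0 he0
  rw [depth_eq_of_isRegularLocalRing hd, hdep1, ← hdep2] at hAB
  refine ⟨e0, fun e => ?_, ?_, ?_⟩
  · rw [← hasPD_fibre_iff hsurj p Q q e, ← projectiveDimension_le_iff, he0]
    exact_mod_cast Iff.rfl
  · rw [hd, ← hAB]
    rfl
  · refine ringKrullDim_le_of_surjective ((eT.symm : _ →+* FL p q).comp (@algebraMap (FL p Q)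
      (FL p Q ⊗[Localization.AtPrime Q] Localization.AtPrime q) _ _
      Algebra.TensorProduct.leftAlgebra)) ?_
    exact eT.symm.surjective.comp hs

end Groth.Agent.Helper16.FibPD
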