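import Mathlib
import Groth.Agent.Lib.Helper16.Alg.FibPD3
import Groth.Agent.Lib.Helper16.Sch.SpecFib
import Groth.Agent.Lib.Helper14.FibreGeneric

set_option autoImplicit false
set_option linter.style.haveILetI false
set_option linter.unusedSectionVars false
universe u
open TensorProduct CategoryTheory IsLocalRing AlgebraicGeometry

namespace Groth.Agent.Helper16.FibPD

open Groth.Agent.Lead.Fib Groth.Agent.Lead.PD Groth.Agent.Lead.Depth
open Groth.Agent.Helper16.RingFibDim

section Poly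

variable {A : Type u} [CommRing A] (N : ℕ)

/-- the fibre local rings of a polynomial algebra are regular. -/
theorem regular_FL_mvPolynomial (p : Ideal A) [p.IsPrime] (Q : Ideal (MvPolynomial (Fin N) A))
    [Q.IsPrime] [Q.LiesOver p] : IsRegularLocalRing (FL p Q) := by
  haveI : IsRegularRing p.ResidueField := inferInstance
  haveI : IsRegularRing (MvPolynomial (Fin N) p.ResidueField) := inferInstance
  haveI : IsRegularRing (p.Fiber (MvPolynomial (Fin N) A)) :=
    IsRegularRing.of_ringEquiv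
      (MvPolynomial.algebraTensorAlgEquiv (σ := Fin N) A p.ResidueField).symm.toRingEquiv
  obtain ⟨𝔮, h𝔮⟩ := exists_fiber_prime p Q
  haveI := 𝔮.isPrime
  have key : ∀ (Q' : Ideal (MvPolynomial (Fin N) A)) [Q'.IsPrime], Q' = Q →
      IsRegularLocalRing (FL p Q') → IsRegularLocalRing (FL p Q) := by
    intro Q' _ h
    subst h
    exact id
  refine key _ h𝔮 ?_
  haveI : IsRegularLocalRing (Localization.AtPrime 𝔮.asIdeal) :=
    IsRegularRing.isRegularLocalRing_localization 𝔮.asIdeal
  exact IsRegularLocalRing.of_ringEquiv (R := Localization.AtPrime 𝔮.asIdeal)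
    (fiberLocEquiv p 𝔮.asIdeal)

theorem localDim_fiber_mvPolynomial (p : Ideal A) [p.IsPrime]
    (𝔮 : PrimeSpectrum (p.Fiber (MvPolynomial (Fin N) A))) :
    FlatMor.localDim (PrimeSpectrum (p.Fiber (MvPolynomial (Fin N) A))) 𝔮 = (N : WithBot ℕ∞) := by
  let e := MvPolynomial.algebraTensorAlgEquiv (σ := Fin N) A p.ResidueField
  haveI : IsDomain (p.Fiber (MvPolynomial (Fin N) A)) := e.toRingEquiv.toMulEquiv.isDomain _
  haveI : (⊥ : Ideal (p.Fiber (MvPolynomial (Fin N) A))).IsPrime := Ideal.isPrime_bot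
  have hr : Algebra.trdeg p.ResidueField (p.Fiber (MvPolynomial (Fin N) A) ⧸
      (⊥ : Ideal (p.Fiber (MvPolynomial (Fin N) A)))) = N := by
    rw [(AlgEquiv.quotientBot p.ResidueField (p.Fiber (MvPolynomial (Fin N) A))).trdeg_eq,
      e.trdeg_eq, MvPolynomial.trdeg_of_isDomain]
    simp
  haveI := 𝔮.isPrime
  exact Groth.Agent.Helper14.FibreGeneric.localDim_eq_of_unique_minimal p.ResidueField
    (p.Fiber (MvPolynomial (Fin N) A)) ⊥ (fun _ _ => bot_le) N hr 𝔮.asIdeal

end Poly

end Groth.Agent.Helper16.FibPD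

namespace Groth.Agent.Helper16.FibPD

open Groth.Agent.Lead.Fib Groth.Agent.Lead.PD Groth.Agent.Lead.Depth
open Groth.Agent.Helper16.RingFibDim

section Poly2

variable {A : Type u} [CommRing A] (N : ℕ)

theorem dim_FL_mvPolynomial (p : Ideal A) [p.IsPrime] (Q : Ideal (MvPolynomial (Fin N) A))
    [Q.IsPrime] [hlo : Q.LiesOver p] (n : ℕ)
    (hn : Algebra.trdeg (A ⧸ p) (MvPolynomial (Fin N) A ⧸ Q) = n) :
    ringKrullDim (FL p Q) + (n : WithBot ℕ∞) = (N : WithBot ℕ∞) := by
  obtain ⟨𝔮, h𝔮⟩ := exists_fiber_prime p Q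
  let q : Spec (CommRingCat.of (MvPolynomial (Fin N) A)) := ⟨Q, inferInstance⟩
  haveI : (PrimeSpectrum.asIdeal q).LiesOver p := hlo
  have h1 := Groth.Agent.Helper16.SpecFib.fibreDimAt_eq A (MvPolynomial (Fin N) A) q p n hn
  have hp : p = Q.comap (algebraMap A (MvPolynomial (Fin N) A)) := hlo.over
  have h2 : FlatMor.fibreDimAt (specMap A (MvPolynomial (Fin N) A)) q = (N : WithBot ℕ∞) := by
    subst hp
    have h3 := localDim_eq_fibreDimAt A (MvPolynomial (Fin N) A) q 𝔮 h𝔮
    rw [← h3]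
    exact localDim_fiber_mvPolynomial N _ 𝔮
  have h4 : ringKrullDim (EGA4.FibLocRing A (MvPolynomial (Fin N) A) (PrimeSpectrum.asIdeal q)) =
      ringKrullDim (FL p Q) := by
    subst hp
    rfl
  rw [← h4, ← h1, h2]

end Poly2

end Groth.Agent.Helper16.FibPD

namespace Groth.Agent.Helper16.FibPD

open Groth.Agent.Lead.Fib Groth.Agent.Lead.PD Groth.Agent.Lead.Depth
open Groth.Agent.Helper16.RingFibDim

section Quot

variable {A P B : Type u} [CommRing A] [CommRing P] [CommRing B] [Algebra A P] [Algebra P B]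
  [Algebra A B] [IsScalarTower A P B]

/-- residue rings of a quotient. -/
noncomputable def quotAlgEquiv (hsurj : Function.Surjective (algebraMap P B))
    (p : Ideal A) (Q : Ideal P) (q : Ideal B) [Q.LiesOver p] [hqQ : q.LiesOver Q] [q.LiesOver p] :
    (P ⧸ Q) ≃ₐ[A ⧸ p] (B ⧸ q) :=
  AlgEquiv.ofBijective
    { toRingHom := Ideal.quotientMap q (algebraMap P B) (le_of_eq hqQ.over)
      commutes' := by
        rintro ⟨a⟩
        change Ideal.quotientMap q (algebraMap P B) _ (Ideal.Quotient.mk Q (algebraMap A P a)) =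
          Ideal.Quotient.mk q (algebraMap A B a)
        rw [Ideal.quotientMap_mk, ← IsScalarTower.algebraMap_apply] }
    ⟨Ideal.quotientMap_injective' (J := Q) (I := q) (f := algebraMap P B)
        (H := le_of_eq hqQ.over) (le_of_eq hqQ.over.symm),
      Ideal.quotientMap_surjective (J := Q) (I := q) (f := algebraMap P B)
        (H := le_of_eq hqQ.over) hsurj⟩

end Quot

end Groth.Agent.Helper16.FibPD

namespace Groth.Agent.Helper16.FibPD

open Groth.Agent.Lead.Fib Groth.Agent.Lead.PD Groth.Agent.Lead.Depth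
open Groth.Agent.Helper16.RingFibDim

section Pointwise

variable {A B : Type u} [CommRing A] [CommRing B] [Algebra A B] [IsNoetherianRing A]
  [Module.Flat A B] (N : ℕ) [Algebra (MvPolynomial (Fin N) A) B]
  [IsScalarTower A (MvPolynomial (Fin N) A) B]
  (hsurj : Function.Surjective (algebraMap (MvPolynomial (Fin N) A) B))

include hsurj in
theorem finiteType_of_surj : Algebra.FiniteType A B :=
  Algebra.FiniteType.of_surjective (IsScalarTower.toAlgHom A (MvPolynomial (Fin N) A) B) hsurj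

include hsurj in
/-- **The numerical invariants of the fibre local ring at a point**, for a flat quotient of a
polynomial algebra over a Noetherian ring. -/
theorem pointwise (q : PrimeSpectrum B) (d : ℕ)
    (hd : haveI := finiteType_of_surj N hsurj
      FlatMor.fibreDimAt (specMap A B) q = (d : WithBot ℕ∞)) :
    ∃ e₀ D c n : ℕ,
      (∀ e : ℕ, PrimeSpectrum.comap (algebraMap (MvPolynomial (Fin N) A) B) q ∈
        pdLocus e (ModuleCat.of (MvPolynomial (Fin N) A) B) ↔ e₀ ≤ e) ∧
      LocCoh.depth (FL (q.asIdeal.under A) q.asIdeal) (FL (q.asIdeal.under A) q.asIdeal) = D ∧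
      ringKrullDim (FL (q.asIdeal.under A) q.asIdeal) = (c : WithBot ℕ∞) ∧
      N = n + e₀ + D ∧ d = c + n ∧ d ≤ N ∧
      Algebra.trdeg (A ⧸ q.asIdeal.under A) (B ⧸ q.asIdeal) = n := by
  haveI := finiteType_of_surj N hsurj
  set p := q.asIdeal.under A with hp
  set Q := q.asIdeal.under (MvPolynomial (Fin N) A) with hQ
  haveI : Q.LiesOver p := ⟨by rw [hp, hQ, Ideal.under_under]⟩
  -- the transcendence degree
  let q' : Spec (CommRingCat.of B) := q
  haveI : (PrimeSpectrum.asIdeal q').LiesOver p := inferInstanceAs (q.asIdeal.LiesOver p)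
  have htd := Groth.Agent.Helper16.SpecFib.trdeg_residueField_eq A B q' p
  rw [Groth.Agent.Helper16.FTDim.td_spec (specMap A B) q'] at htd
  set n := Groth.Agent.Helper16.FTDim.td (specMap A B) q' with hn
  have hnB : Algebra.trdeg (A ⧸ p) (B ⧸ q.asIdeal) = n := htd.symm
  have hnP : Algebra.trdeg (A ⧸ p) (MvPolynomial (Fin N) A ⧸ Q) = n := by
    rw [(quotAlgEquiv hsurj p Q q.asIdeal).trdeg_eq]
    exact hnB
  have hR3 := Groth.Agent.Helper16.SpecFib.fibreDimAt_eq A B q' p n hnB
  have hR2 := dim_FL_mvPolynomial N p Q n hnP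
  haveI := regular_FL_mvPolynomial N p Q
  obtain ⟨e₀, hpd, hAB, hle⟩ := exists_pd_eq hsurj p Q q.asIdeal
  -- the dimension of the fibre ring
  haveI : IsNoetherianRing B := Algebra.FiniteType.isNoetherianRing A B
  obtain ⟨c, hc⟩ : ∃ c : ℕ, ringKrullDim (FL p q.asIdeal) = (c : WithBot ℕ∞) := by
    have h1 : (maximalIdeal (FL p q.asIdeal)).height ≠ ⊤ := Ideal.height_ne_top_of_isPrime
    obtain ⟨c, hc⟩ := ENat.ne_top_iff_exists.mp h1
    refine ⟨c, ?_⟩
    rw [← IsLocalRing.maximalIdeal_height_eq_ringKrullDim, ← hc]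
    rfl
  -- the depth
  have h2 : ((e₀ + LocCoh.depth (FL p q.asIdeal) (FL p q.asIdeal) + n : ℕ∞) : WithBot ℕ∞) =
      ((N : ℕ∞) : WithBot ℕ∞) := by
    rw [WithBot.coe_add, ← hAB]
    exact hR2
  have h3 : (e₀ + LocCoh.depth (FL p q.asIdeal) (FL p q.asIdeal) + n : ℕ∞) = (N : ℕ∞) :=
    WithBot.coe_injective h2
  have hDtop : LocCoh.depth (FL p q.asIdeal) (FL p q.asIdeal) ≠ ⊤ := by
    intro htop
    rw [htop] at h3
    simp at h3
  obtain ⟨D, hD⟩ := ENat.ne_top_iff_exists.mp hDtop
  rw [← hD] at h3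
  have h3' : e₀ + D + n = N := by exact_mod_cast h3
  have h4 : (d : WithBot ℕ∞) = (c : WithBot ℕ∞) + (n : WithBot ℕ∞) := by
    rw [← hd, ← hc]
    exact hR3
  have h4' : d = c + n := by exact_mod_cast h4
  have h5 : (c : WithBot ℕ∞) ≤ ((e₀ + D : ℕ) : WithBot ℕ∞) := by
    rw [← hc]
    refine hle.trans (le_of_eq ?_)
    rw [hAB, ← hD]
    rfl
  have h5' : c ≤ e₀ + D := by exact_mod_cast h5
  refine ⟨e₀, D, c, n, ?_, hD.symm, hc, by omega, h4', by omega, hnB⟩
  intro e
  exact hpd e

end Pointwise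

end Groth.Agent.Helper16.FibPD
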