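import Mathlib
import Groth.Agent.Lib.Helper16.Alg.FibModAlg4
import Groth.Agent.Lib.Helper16.Alg.FibPD4
import Groth.Agent.Lib.Lead.FibLoc1

/-!
# Fibrewise Auslander–Buchsbaum for a module flat over the base (helper16)
-/

set_option autoImplicit false
set_option linter.style.haveILetI false
set_option linter.unusedSectionVars false
universe u

open IsLocalRing TensorProduct LocCoh CategoryTheory

namespace Groth.Agent.Helper16.FibModAlg

open Groth.Agent.Lead.Depth Groth.Agent.Lead.DimF Groth.Agent.Lead.Fib Groth.Agent.Lead.PD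
open Groth.Agent.Helper16.FibPD

section AB

variable {A P : Type u} [CommRing A] [CommRing P] [Algebra A P] [IsNoetherianRing A]
  [IsNoetherianRing P] [Module.Flat A P]
  (M : Type u) [AddCommGroup M] [Module P M] [Module A M] [IsScalarTower A P M]
  [Module.Finite P M] [Module.Flat A M] (Q : Ideal P) [Q.IsPrime]

/-- **Fibrewise Auslander–Buchsbaum for a module.** -/
theorem exists_pd_eq_mod [IsRegularLocalRing (EGA4.FibLocRing A P Q)]
    [Nontrivial (LocalizedModule Q.primeCompl M)] :
    ∃ e₀ : ℕ, (∀ e : ℕ, (⟨Q, inferInstance⟩ : PrimeSpectrum P) ∈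
        pdLocus e (ModuleCat.of P M) ↔ e₀ ≤ e) ∧
      ringKrullDim (EGA4.FibLocRing A P Q) =
        ((e₀ + adepth A P Q M : ℕ∞) : WithBot ℕ∞) := by
  set p := Q.comap (algebraMap A P) with hp
  haveI : Q.LiesOver p := ⟨rfl⟩
  letI a1 := Localization.AtPrime.algebraOfLiesOver p Q
  haveI : IsLocalHom (algebraMap (Localization.AtPrime p) (Localization.AtPrime Q)) :=
    Localization.isLocalHom_localRingHom _ _ _ _
  haveI : Module.Flat (Localization.AtPrime p) (Localization.AtPrime Q) := by
    have h1 : (algebraMap A P).Flat := RingHom.flat_algebraMap_iff.mpr inferInstance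
    have h2 := RingHom.Flat.localRingHom h1 Q p Ideal.LiesOver.over
    exact RingHom.flat_algebraMap_iff.mp h2
  -- module structures on `X = M_Q`
  letI modAp : Module (Localization.AtPrime p) (LocalizedModule Q.primeCompl M) :=
    Module.compHom (LocalizedModule Q.primeCompl M)
      (algebraMap (Localization.AtPrime p) (Localization.AtPrime Q))
  haveI st1 : IsScalarTower (Localization.AtPrime p) (Localization.AtPrime Q)
      (LocalizedModule Q.primeCompl M) :=
    IsScalarTower.of_algebraMap_smul fun r x => rfl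
  haveI st2 : IsScalarTower A (Localization.AtPrime p) (LocalizedModule Q.primeCompl M) :=
    IsScalarTower.to₁₂₄ A (Localization.AtPrime p) (Localization.AtPrime Q)
      (LocalizedModule Q.primeCompl M)
  haveI fl1 : Module.Flat A (LocalizedModule Q.primeCompl M) :=
    Groth.Agent.S6918.flat_localizedModule Q.primeCompl M
  haveI fl2 : Module.Flat (Localization.AtPrime p) (LocalizedModule Q.primeCompl M) :=
    (Module.flat_iff_of_isLocalization (Localization.AtPrime p) p.primeCompl
      (LocalizedModule Q.primeCompl M)).mpr fl1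
  haveI fin1 : Module.Finite (Localization.AtPrime Q) (LocalizedModule Q.primeCompl M) :=
    Module.Finite.of_isLocalizedModule Q.primeCompl (LocalizedModule.mkLinearMap Q.primeCompl M)
  have h𝔞 : p.map (algebraMap A (Localization.AtPrime Q)) =
      (maximalIdeal (Localization.AtPrime p)).map
        (algebraMap (Localization.AtPrime p) (Localization.AtPrime Q)) := by
    rw [← Localization.AtPrime.map_eq_maximalIdeal, Ideal.map_map, ← IsScalarTower.algebraMap_eq]
  have hpdiff := fun e : ℕ => pd_fibre_iff' (p.map (algebraMap A (Localization.AtPrime Q))) h𝔞 e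
    (LocalizedModule Q.primeCompl M)
  -- the fibre module over the fibre ring
  let ε : (EGA4.FibLocRing A P Q) ⊗[Localization.AtPrime Q] (LocalizedModule Q.primeCompl M)
      ≃ₗ[Localization.AtPrime Q] EGA4.FibLocMod A P Q M :=
    TensorProduct.quotTensorEquivQuotSMul (LocalizedModule Q.primeCompl M)
      (p.map (algebraMap A (Localization.AtPrime Q)))
  haveI hnt : Nontrivial (EGA4.FibLocMod A P Q M) := by
    have := nontrivial_fibre (R := Localization.AtPrime p) (S := Localization.AtPrime Q)
      (LocalizedModule Q.primeCompl M)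
    rw [← h𝔞] at this
    exact this
  haveI hnt' : Nontrivial ((EGA4.FibLocRing A P Q) ⊗[Localization.AtPrime Q]
      (LocalizedModule Q.primeCompl M)) := ε.toEquiv.nontrivial
  -- dimension
  haveI : IsNoetherianRing (EGA4.FibLocRing A P Q) := inferInstance
  obtain ⟨d, hd⟩ : ∃ d : ℕ, ringKrullDim (EGA4.FibLocRing A P Q) = (d : WithBot ℕ∞) := by
    have h1 : (maximalIdeal (EGA4.FibLocRing A P Q)).height ≠ ⊤ :=
      Ideal.height_ne_top_of_isPrime
    obtain ⟨d, hd⟩ := ENat.ne_top_iff_exists.mp h1
    refine ⟨d, ?_⟩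
    rw [← IsLocalRing.maximalIdeal_height_eq_ringKrullDim, ← hd]
    rfl
  have hpd := Groth.Agent.Lead.Hom.hasProjectiveDimensionLT_of_isRegularLocalRing hd
    (ModuleCat.of (EGA4.FibLocRing A P Q)
      ((EGA4.FibLocRing A P Q) ⊗[Localization.AtPrime Q] (LocalizedModule Q.primeCompl M)))
  have hnz : ¬ Limits.IsZero (ModuleCat.of (EGA4.FibLocRing A P Q)
      ((EGA4.FibLocRing A P Q) ⊗[Localization.AtPrime Q] (LocalizedModule Q.primeCompl M))) := by
    intro hz
    exact not_subsingleton _ (ModuleCat.subsingleton_of_isZero hz)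
  obtain ⟨e0, he0, -⟩ := exists_nat_projectiveDimension_eq hpd hnz
  have hAB := auslander_buchsbaum
    ((EGA4.FibLocRing A P Q) ⊗[Localization.AtPrime Q] (LocalizedModule Q.primeCompl M)) e0 he0
  rw [depth_eq_of_isRegularLocalRing hd] at hAB
  -- depth over the fibre ring = depth over the local ring
  have hdep1 : LocCoh.depth (Localization.AtPrime Q)
      ((EGA4.FibLocRing A P Q) ⊗[Localization.AtPrime Q] (LocalizedModule Q.primeCompl M)) =
      LocCoh.depth (EGA4.FibLocRing A P Q)
      ((EGA4.FibLocRing A P Q) ⊗[Localization.AtPrime Q] (LocalizedModule Q.primeCompl M)) :=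
    depth_eq_of_surjective' (R₁ := Localization.AtPrime Q) (R₂ := EGA4.FibLocRing A P Q)
      Ideal.Quotient.mk_surjective _
  have hdep2 : LocCoh.depth (Localization.AtPrime Q)
      ((EGA4.FibLocRing A P Q) ⊗[Localization.AtPrime Q] (LocalizedModule Q.primeCompl M)) =
      adepth A P Q M := idealDepth_congr _ ε
  refine ⟨e0, fun e => ?_, ?_⟩
  · change HasProjectiveDimensionLE ((ModuleCat.of P M).localizedModule Q.primeCompl) e ↔ _
    rw [← pd_plain_iff, ← hpdiff e, ← projectiveDimension_le_iff, he0]
    exact_mod_cast Iff.rfl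
  · rw [hd, ← hdep2, hdep1]
    exact_mod_cast congrArg (fun x : ℕ∞ => (x : WithBot ℕ∞)) hAB

end AB

end Groth.Agent.Helper16.FibModAlg
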