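import Mathlib

set_option autoImplicit false
universe u
open Polynomial IntermediateField

namespace Groth.Agent.Helper16.FieldPI

/-- Field lemma: if `F` is generated by the images of `L` and `M`, `L/K` is algebraic and the
minimal polynomials over `K` of the separable elements of `L` split in `M`, then `F/M` is purely
inseparable. -/
theorem isPurelyInseparable_of_splits {K L M F : Type*} [Field K] [Field L] [Field M] [Field F]
    [Algebra K L] [Algebra.IsAlgebraic K L]
    (jM : K →+* M) (iL : L →+* F) (iM : M →+* F)
    (hcomp : iM.comp jM = iL.comp (algebraMap K L))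
    (hsplit : ∀ β : L, IsSeparable K β → ((minpoly K β).map jM).Splits)
    (hgen : Subfield.closure (Set.range iL ∪ Set.range iM) = ⊤) :
    letI := iM.toAlgebra
    IsPurelyInseparable M F := by
  letI := iM.toAlgebra
  obtain ⟨q, hq⟩ : ∃ q, q = ringExpChar F := ⟨_, rfl⟩
  have hF : ExpChar F q := ringExpChar.of_eq hq.symm
  have hM : ExpChar M q := iM.expChar iM.injective q
  have hL : ExpChar L q := iL.expChar iL.injective q
  have hLs : ExpChar (separableClosure K L) q :=
    (algebraMap (separableClosure K L) L).expChar (algebraMap (separableClosure K L) L).injective q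
  rw [isPurelyInseparable_iff_perfectClosure_eq_top, eq_top_iff]
  have key : ∀ β₀ : L, iL β₀ ∈ perfectClosure M F := by
    intro β₀
    obtain ⟨n, ⟨β, hβ⟩⟩ := IsPurelyInseparable.pow_mem (separableClosure K L) q β₀
    have hsep : IsSeparable K (β : L) := mem_separableClosure_iff.mp β.2
    have hs := hsplit (β : L) hsep
    have hroot : ((minpoly K (β : L)).map jM).map iM |>.IsRoot (iL (β : L)) := by
      rw [Polynomial.map_map, hcomp, ← Polynomial.map_map, IsRoot.def, eval_map, eval₂_hom,
        eval_map, ← aeval_def, minpoly.aeval, map_zero]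
    have hne : ((minpoly K (β : L)).map jM).map iM ≠ 0 := by
      rw [Polynomial.map_ne_zero_iff iM.injective, Polynomial.map_ne_zero_iff jM.injective]
      exact minpoly.ne_zero (Algebra.IsIntegral.isIntegral _)
    have hmem : iL (β : L) ∈ (((minpoly K (β : L)).map jM).map iM).roots :=
      (mem_roots hne).mpr hroot
    rw [hs.roots_map_of_injective iM.injective, Multiset.mem_map] at hmem
    obtain ⟨m, -, hm⟩ := hmem
    rw [mem_perfectClosure_iff_pow_mem q]
    refine ⟨n, m, ?_⟩
    rw [← map_pow, ← hβ]
    exact hm
  intro z _
  have hz : z ∈ Subfield.closure (Set.range iL ∪ Set.range iM) := by rw [hgen]; trivial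
  have hle : Subfield.closure (Set.range iL ∪ Set.range iM) ≤ (perfectClosure M F).toSubfield := by
    rw [Subfield.closure_le]
    rintro y (⟨β₀, rfl⟩ | ⟨m, rfl⟩)
    · exact key β₀
    · exact (perfectClosure M F).algebraMap_mem m
  exact hle hz

/-- a finite separable extension in which the minimal polynomials of all separable elements of
finitely many finite extensions split -/
theorem exists_splitting_ext {K : Type u} [Field K] {ι : Type} [Finite ι] (L : ι → Type u)
    [∀ i, Field (L i)] [∀ i, Algebra K (L i)] [∀ i, FiniteDimensional K (L i)] :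
    ∃ (k' : Type u) (_ : Field k') (_ : Algebra K k') (_ : FiniteDimensional K k')
      (_ : Algebra.IsSeparable K k'),
      ∀ i (β : L i), IsSeparable K β → ((minpoly K β).map (algebraMap K k')).Splits := by
  let Ω := AlgebraicClosure K
  let N : ι → IntermediateField K Ω := fun i => normalClosure K (separableClosure K (L i)) Ω
  haveI : ∀ i, Algebra.IsSeparable K (N i) := by
    intro i
    show Algebra.IsSeparable K ↥(normalClosure K (separableClosure K (L i)) Ω)
    rw [normalClosure_def]
    haveI : ∀ f : (separableClosure K (L i)) →ₐ[K] Ω, Algebra.IsSeparable K f.fieldRange := by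
      intro f
      exact AlgEquiv.Algebra.isSeparable (AlgEquiv.ofInjectiveField f)
    infer_instance
  haveI : ∀ i, Normal K (N i) := fun i => by
    show Normal K ↥(normalClosure K (separableClosure K (L i)) Ω)
    infer_instance
  haveI : ∀ i, FiniteDimensional K (N i) := fun i => by
    show FiniteDimensional K ↥(normalClosure K (separableClosure K (L i)) Ω)
    infer_instance
  refine ⟨↥(⨆ i, N i), inferInstance, inferInstance, inferInstance, inferInstance, ?_⟩
  intro i β hβ
  -- embed the separable closure into Ω
  let f : (separableClosure K (L i)) →ₐ[K] Ω := IsAlgClosed.lift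
  let β' : separableClosure K (L i) := ⟨β, mem_separableClosure_iff.mpr hβ⟩
  have h1 : f β' ∈ N i := f.fieldRange_le_normalClosure ⟨β', rfl⟩
  have h2 : f β' ∈ ⨆ i, N i := (le_iSup N i) h1
  let γ : ↥(⨆ i, N i) := ⟨f β', h2⟩
  have h3 : minpoly K γ = minpoly K β := by
    have e1 : minpoly K γ = minpoly K (f β') := (minpoly_eq γ)
    have e2 : minpoly K (f β') = minpoly K β' := minpoly.algHom_eq f f.injective β'
    have e3 : minpoly K β' = minpoly K β := (minpoly_eq β')
    rw [e1, e2, e3]
  rw [← h3]
  exact Normal.splits inferInstance γ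

/-- transfer of "finite purely inseparable" along a commutative square of isomorphisms -/
theorem transfer_fpi {K F K' F' : Type*} [Field K] [Field F] [Field K'] [Field F']
    (a : K →+* F) (b : K' →+* F') (c : K ≃+* K') (e : F ≃+* F')
    (h : (e : F →+* F').comp a = b.comp (c : K →+* K'))
    (hb : letI := b.toAlgebra; Module.Finite K' F' ∧ IsPurelyInseparable K' F') :
    letI := a.toAlgebra; Module.Finite K F ∧ IsPurelyInseparable K F := by
  letI := a.toAlgebra
  letI := b.toAlgebra
  obtain ⟨hfin, hpi⟩ := hb
  have h' : ∀ k : K, e (a k) = b (c k) := fun k => congrArg (fun g => g k) h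
  constructor
  · refine Module.Finite.of_equiv_equiv c.symm e.symm ?_
    ext k'
    show a (c.symm k') = e.symm (b k')
    rw [RingEquiv.eq_symm_apply, h', RingEquiv.apply_symm_apply]
  · obtain ⟨q, hq⟩ : ∃ q, q = ringExpChar K := ⟨_, rfl⟩
    have hK : ExpChar K q := ringExpChar.of_eq hq.symm
    have hK' : ExpChar K' q := expChar_of_injective_ringHom (c : K →+* K').injective q
    rw [isPurelyInseparable_iff_pow_mem K q]
    intro x
    obtain ⟨n, k', hk'⟩ := IsPurelyInseparable.pow_mem K' q (e x)
    refine ⟨n, c.symm k', ?_⟩
    apply e.injective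
    rw [map_pow, ← hk']
    show e (a (c.symm k')) = b k'
    rw [h', RingEquiv.apply_symm_apply]

end Groth.Agent.Helper16.FieldPI
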