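import Mathlib
import Groth.Prelude.Def_Fitting
import Groth.Agent.Lib.Helper10.FittingE

/-!
# Fitting ideals of differentials and closed immersions into smooth algebras (helper16)
-/

set_option autoImplicit false
set_option linter.style.haveILetI false
set_option linter.unusedSectionVars false
universe u
open TensorProduct KaehlerDifferential

namespace Groth.Agent.Helper16.FittImm

open Groth.Agent.Lib.Helper10.Fitting

variable {A C : Type u} [CommRing A] [CommRing C] [Algebra A C]

/-- the differentials of generators span -/
theorem span_D_val {ι : Type} (G : Algebra.Generators A C ι) :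
    Submodule.span C (Set.range fun j => KaehlerDifferential.D A C (G.val j)) = ⊤ := by
  have h1 : Submodule.span C (Set.range G.cotangentSpaceBasis) = ⊤ := G.cotangentSpaceBasis.span_eq
  have h2 : (Set.range fun j => KaehlerDifferential.D A C (G.val j)) =
      G.toExtension.toKaehler '' Set.range G.cotangentSpaceBasis := by
    rw [← Set.range_comp]
    congr 1
    funext j
    exact (G.toKaehler_cotangentSpaceBasis j).symm
  rw [h2, ← Submodule.map_span, h1, Submodule.map_top,
    LinearMap.range_eq_top.mpr G.toExtension.toKaehler_surjective]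

/-- relations among the differentials of generators are gradients of elements of the kernel -/
theorem isRel_D_val_iff {n : ℕ} (G : Algebra.Generators A C (Fin n)) (v : Fin n → C) :
    IsRel (fun j => KaehlerDifferential.D A C (G.val j)) v ↔
      ∃ f ∈ G.ker, v = fun j => MvPolynomial.aeval G.val (MvPolynomial.pderiv j f) := by
  unfold IsRel
  constructor
  · intro h
    have h1 : G.toExtension.toKaehler (∑ j, v j • G.cotangentSpaceBasis j) = 0 := by
      rw [map_sum, ← h]
      refine Finset.sum_congr rfl fun j _ => ?_
      rw [map_smul, G.toKaehler_cotangentSpaceBasis]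
    obtain ⟨ξ, hξ⟩ := (G.toExtension.exact_cotangentComplex_toKaehler _).mp h1
    obtain ⟨⟨f, hf⟩, rfl⟩ := Algebra.Extension.Cotangent.mk_surjective ξ
    refine ⟨f, hf, ?_⟩
    funext j
    have h2 : G.cotangentSpaceBasis.repr (G.toExtension.cotangentComplex
        (Algebra.Extension.Cotangent.mk ⟨f, hf⟩)) j =
        G.cotangentSpaceBasis.repr (∑ j, v j • G.cotangentSpaceBasis j) j := by rw [hξ]
    rw [Algebra.Extension.cotangentComplex_mk, Module.Basis.repr_sum_self] at h2
    rw [← h2]
    exact G.cotangentSpaceBasis_repr_one_tmul f j
  · rintro ⟨f, hf, rfl⟩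
    have h1 : G.toExtension.toKaehler (G.toExtension.cotangentComplex
        (Algebra.Extension.Cotangent.mk ⟨f, hf⟩)) = 0 :=
      G.toExtension.exact_cotangentComplex_toKaehler.apply_apply_eq_zero _
    rw [← G.cotangentSpaceBasis.sum_repr (G.toExtension.cotangentComplex
      (Algebra.Extension.Cotangent.mk ⟨f, hf⟩)), map_sum] at h1
    rw [← h1]
    refine Finset.sum_congr rfl fun j _ => ?_
    rw [map_smul, G.toKaehler_cotangentSpaceBasis, Algebra.Extension.cotangentComplex_mk]
    congr 1
    exact (G.cotangentSpaceBasis_repr_one_tmul f j).symm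

/-- a quotient of a standard smooth algebra of relative dimension `p` has `Fitt_p(Ω) = ⊤` -/
theorem fitt_eq_top_of_surjective {B : Type u} [CommRing B] [Algebra A B] [Algebra B C]
    [IsScalarTower A B C] (p : ℕ) [Algebra.IsStandardSmoothOfRelativeDimension p A B]
    (hsurj : Function.Surjective (algebraMap B C)) : Fitt.ideal C Ω[C⁄A] p = ⊤ := by
  rcases subsingleton_or_nontrivial C with hC | hC
  · exact Subsingleton.elim _ _
  haveI : Nontrivial B := (algebraMap B C).domain_nontrivial
  haveI : Algebra.IsStandardSmooth A B :=
    Algebra.IsStandardSmoothOfRelativeDimension.isStandardSmooth p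
  have hrank : Module.finrank B Ω[B⁄A] = p :=
    Module.finrank_eq_of_rank_eq
      (Algebra.IsStandardSmoothOfRelativeDimension.rank_kaehlerDifferential p)
  let b : Module.Basis (Fin p) B Ω[B⁄A] := Module.finBasisOfFinrankEq B Ω[B⁄A] hrank
  refine fitt_eq_top_of_span (fun j => KaehlerDifferential.map A A B C (b j)) ?_ p le_rfl
  rw [eq_top_iff]
  rintro ω -
  obtain ⟨η, rfl⟩ := KaehlerDifferential.map_surjective_of_surjective A A B C hsurj ω
  have hη : η ∈ Submodule.span B (Set.range b) := by rw [b.span_eq]; trivial
  induction hη using Submodule.span_induction with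
  | mem y hy =>
    obtain ⟨j, rfl⟩ := hy
    exact Submodule.subset_span ⟨j, rfl⟩
  | zero => rw [map_zero]; exact Submodule.zero_mem _
  | add y z _ _ hy hz => rw [map_add]; exact Submodule.add_mem _ hy hz
  | smul r y _ hy =>
    rw [map_smul, ← algebraMap_smul C r]
    exact Submodule.smul_mem _ _ hy

end Groth.Agent.Helper16.FittImm
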