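import Mathlib
import Groth.Prelude.Def_Fitting
import Groth.Agent.Lib.Helper16.Alg.FittImmA

set_option autoImplicit false
set_option linter.style.haveILetI false
set_option linter.unusedSectionVars false
universe u
open TensorProduct KaehlerDifferential

namespace Groth.Agent.Helper16.FittImm

open Groth.Agent.Lib.Helper10.Fitting

variable {A C : Type u} [CommRing A] [CommRing C] [Algebra A C]

theorem card_compl_lt (N p : ℕ) (hpN : p ≤ N) :
    Nat.card {i : Fin N // ¬ (i : ℕ) < N - p} = p := by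
  classical
  rw [Nat.card_eq_fintype_card, Fintype.card_subtype_compl, Fintype.card_fin, Fintype.card_subtype,
    Fin.card_filter_val_lt]
  omega

set_option maxHeartbeats 1600000 in
set_option synthInstance.maxHeartbeats 200000 in
theorem exists_stdSmooth_surj_aux {N : ℕ} (G : Algebra.Generators A C (Fin N)) (p : ℕ)
    (hpN : p ≤ N) (q : Ideal C) [q.IsPrime] (h : ¬ Fitt.ideal C Ω[C⁄A] p ≤ q) :
    ∃ g : C, g ∉ q ∧ ∀ (C' : Type u) [CommRing C'] [Algebra C C'] [Algebra A C']
      [IsScalarTower A C C'] [IsLocalization.Away g C'],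
      ∃ (B : Type u) (_ : CommRing B) (_ : Algebra A B) (φ : B →ₐ[A] C'),
        Algebra.IsStandardSmoothOfRelativeDimension p A B ∧ Function.Surjective φ := by
  classical
  let x : Fin N → Ω[C⁄A] := fun j => KaehlerDifferential.D A C (G.val j)
  have hx : Submodule.span C (Set.range x) = ⊤ := span_D_val G
  let W : Set (Fin N → C) :=
    {v | ∃ f ∈ G.ker, v = fun j => MvPolynomial.aeval G.val (MvPolynomial.pderiv j f)}
  have hW : Submodule.span C W = relMod x := by
    apply le_antisymm
    · refine Submodule.span_le.2 fun v hv => ?_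
      rw [SetLike.mem_coe, mem_relMod]
      exact (isRel_D_val_iff G v).2 hv
    · intro v hv
      rw [mem_relMod] at hv
      exact Submodule.subset_span ((isRel_D_val_iff G v).1 hv)
  rw [fitt_eq_Jo x hx p, Jo_eq_span_of_relMod_span x p W hW] at h
  have hex : ∃ b : Matrix (Fin N) (Fin N) C,
      (∀ i : Fin N, b i ∈ (if (i : ℕ) < N - p then W else
        Set.range fun j : Fin N => (Pi.single j (1 : C) : Fin N → C))) ∧ b.det ∉ q := by
    by_contra hcon
    push Not at hcon
    apply h
    refine Ideal.span_le.2 ?_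
    rintro d ⟨b, hb, rfl⟩
    exact hcon b hb
  obtain ⟨b, hb, hdet⟩ := hex
  have hf : ∀ i : Fin N, (i : ℕ) < N - p → ∃ f : MvPolynomial (Fin N) A, f ∈ G.ker ∧
      b i = fun j => MvPolynomial.aeval G.val (MvPolynomial.pderiv j f) := by
    intro i hi
    have := hb i
    rw [if_pos hi] at this
    obtain ⟨f, hf1, hf2⟩ := this
    exact ⟨f, hf1, hf2⟩
  have ht : ∀ i : Fin N, ¬ (i : ℕ) < N - p → ∃ t : Fin N, b i = Pi.single t 1 := by
    intro i hi
    have := hb i
    rw [if_neg hi] at this
    obtain ⟨t, ht⟩ := this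
    exact ⟨t, ht.symm⟩
  choose! f hfker hfb using hf
  choose! t htb using ht
  let κ := {i : Fin N // ¬ (i : ℕ) < N - p}
  let v : Fin N → MvPolynomial (Fin N ⊕ κ) A := fun i =>
    if hi : (i : ℕ) < N - p then MvPolynomial.rename Sum.inl (f i)
    else MvPolynomial.X (Sum.inl (t i)) - MvPolynomial.X (Sum.inr ⟨i, hi⟩)
  let Pre : Algebra.PreSubmersivePresentation A
      (MvPolynomial (Fin N ⊕ κ) A ⧸ Ideal.span (Set.range v)) (Fin N ⊕ κ) (Fin N) :=
    Algebra.PreSubmersivePresentation.naive (v := v) Sum.inl Sum.inl_injective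
  let ψ₀ : MvPolynomial (Fin N ⊕ κ) A →ₐ[A] C :=
    MvPolynomial.aeval (Sum.elim G.val (fun k => G.val (t k.1)))
  have hψ₀r : ∀ P : MvPolynomial (Fin N) A,
      ψ₀ (MvPolynomial.rename Sum.inl P) = MvPolynomial.aeval G.val P := by
    intro P
    show MvPolynomial.aeval _ (MvPolynomial.rename Sum.inl P) = _
    rw [MvPolynomial.aeval_rename]
    rfl
  have hψ₀v : ∀ i, ψ₀ (v i) = 0 := by
    intro i
    by_cases hi : (i : ℕ) < N - p
    · simp only [v, dif_pos hi]
      rw [hψ₀r]
      have h0 : algebraMap G.Ring C (f i) = 0 := hfker i hi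
      rw [← h0]
      exact (Algebra.Generators.algebraMap_apply G (f i)).symm
    · simp only [v, dif_neg hi]
      rw [map_sub]
      simp [ψ₀]
  have hle : Ideal.span (Set.range v) ≤ RingHom.ker ψ₀.toRingHom := by
    refine Ideal.span_le.2 ?_
    rintro _ ⟨i, rfl⟩
    exact hψ₀v i
  let ψ : (MvPolynomial (Fin N ⊕ κ) A ⧸ Ideal.span (Set.range v)) →ₐ[A] C :=
    Ideal.Quotient.liftₐ _ ψ₀ (fun a ha => hle ha)
  have hψmk : ∀ m : MvPolynomial (Fin N ⊕ κ) A, ψ (Ideal.Quotient.mk _ m) = ψ₀ m := fun m => rfl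
  have hψsurj : Function.Surjective ψ := by
    intro c
    obtain ⟨P, rfl⟩ := G.algebraMap_surjective c
    refine ⟨Ideal.Quotient.mk _ (MvPolynomial.rename Sum.inl P), ?_⟩
    rw [hψmk, hψ₀r]
    exact (Algebra.Generators.algebraMap_apply G P).symm
  -- Jacobian
  have hjac : ψ Pre.jacobian = b.det := by
    rw [Algebra.PreSubmersivePresentation.jacobian_eq_jacobiMatrix_det]
    have h1 : algebraMap Pre.Ring (MvPolynomial (Fin N ⊕ κ) A ⧸ Ideal.span (Set.range v))
        Pre.jacobiMatrix.det = Ideal.Quotient.mk _ Pre.jacobiMatrix.det := rfl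
    rw [h1, hψmk, AlgHom.map_det, ← Matrix.det_transpose]
    congr 1
    ext i j
    rw [Matrix.transpose_apply, AlgHom.mapMatrix_apply, Matrix.map_apply,
      Algebra.PreSubmersivePresentation.jacobiMatrix_naive]
    by_cases hi : (i : ℕ) < N - p
    · simp only [v, dif_pos hi]
      rw [MvPolynomial.pderiv_rename Sum.inl_injective, hψ₀r, hfb i hi]
    · simp only [v, dif_neg hi]
      rw [htb i hi, map_sub, MvPolynomial.pderiv_X, MvPolynomial.pderiv_X]
      simp [Pi.single_apply, eq_comm]
  refine ⟨ψ Pre.jacobian, hjac ▸ hdet, ?_⟩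
  intro C' _ _ _ _ _
  let B₀ := MvPolynomial (Fin N ⊕ κ) A ⧸ Ideal.span (Set.range v)
  let g₀ : B₀ := Pre.jacobian
  let Q : Algebra.SubmersivePresentation B₀ (Localization.Away g₀) Unit Unit :=
    Algebra.SubmersivePresentation.localizationAway (Localization.Away g₀) g₀
  let PQ := Q.toPreSubmersivePresentation.comp Pre
  have hjacu : IsUnit PQ.jacobian := by
    rw [Algebra.PreSubmersivePresentation.comp_jacobian_eq_jacobian_smul_jacobian,
      Algebra.smul_def, IsUnit.mul_iff]
    exact ⟨IsLocalization.map_units _ (⟨g₀, 1, by simp⟩ : Submonoid.powers g₀),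
      Q.jacobian_isUnit⟩
  let SP : Algebra.SubmersivePresentation A (Localization.Away g₀) (Unit ⊕ (Fin N ⊕ κ))
      (Unit ⊕ Fin N) := ⟨PQ, hjacu⟩
  have hdim : SP.dimension = p := by
    show Nat.card (Unit ⊕ (Fin N ⊕ κ)) - Nat.card (Unit ⊕ Fin N) = p
    rw [Nat.card_sum, Nat.card_sum, Nat.card_sum, card_compl_lt N p hpN]
    simp
    omega
  have hstd : Algebra.IsStandardSmoothOfRelativeDimension p A (Localization.Away g₀) :=
    SP.isStandardSmoothOfRelativeDimension hdim
  have hu : IsUnit (((algebraMap C C').comp ψ.toRingHom) g₀) :=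
    IsLocalization.Away.algebraMap_isUnit (ψ Pre.jacobian)
  let φr : Localization.Away g₀ →+* C' := IsLocalization.Away.lift g₀ hu
  have hφr : ∀ a : B₀, φr (algebraMap B₀ (Localization.Away g₀) a) = algebraMap C C' (ψ a) :=
    fun a => IsLocalization.Away.lift_eq g₀ hu a
  let φ : Localization.Away g₀ →ₐ[A] C' :=
    { φr with
      commutes' := fun a => by
        show φr (algebraMap A (Localization.Away g₀) a) = algebraMap A C' a
        rw [IsScalarTower.algebraMap_apply A B₀ (Localization.Away g₀), hφr, ψ.commutes,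
          ← IsScalarTower.algebraMap_apply] }
  refine ⟨Localization.Away g₀, inferInstance, inferInstance, φ, hstd, ?_⟩
  intro y
  obtain ⟨k, c, hy⟩ := IsLocalization.Away.surj (ψ Pre.jacobian) y
  obtain ⟨a, rfl⟩ := hψsurj c
  have hunit : IsUnit (φr (algebraMap B₀ (Localization.Away g₀) (g₀ ^ k))) := by
    rw [hφr, map_pow, map_pow]
    exact (IsLocalization.Away.algebraMap_isUnit (ψ Pre.jacobian)).pow k
  refine ⟨IsLocalization.mk' (Localization.Away g₀) a
    (⟨g₀ ^ k, k, rfl⟩ : Submonoid.powers g₀), ?_⟩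
  show φr _ = y
  apply hunit.mul_right_cancel
  rw [← map_mul, IsLocalization.mk'_spec, hφr, hφr, map_pow, map_pow]
  exact hy.symm

/-- if `Fitt_p(Ω[C/A]) ⊄ q` then some `C_g`, `g ∉ q`, is a quotient of a standard smooth algebra
of relative dimension `p` -/
theorem exists_stdSmooth_surj [Algebra.FiniteType A C] (p : ℕ) (q : Ideal C) [q.IsPrime]
    (h : ¬ Fitt.ideal C Ω[C⁄A] p ≤ q) :
    ∃ g : C, g ∉ q ∧ ∀ (C' : Type u) [CommRing C'] [Algebra C C'] [Algebra A C']
      [IsScalarTower A C C'] [IsLocalization.Away g C'],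
      ∃ (B : Type u) (_ : CommRing B) (_ : Algebra A B) (φ : B →ₐ[A] C'),
        Algebra.IsStandardSmoothOfRelativeDimension p A B ∧ Function.Surjective φ := by
  obtain ⟨n, π, hπ⟩ := Algebra.FiniteType.iff_quotient_mvPolynomial''.mp
    (inferInstance : Algebra.FiniteType A C)
  let val : Fin (n + p) → C := fun j =>
    Sum.elim (fun i => π (MvPolynomial.X i)) (fun _ => 0) (finSumFinEquiv.symm j)
  have hval : Function.Surjective (MvPolynomial.aeval (R := A) val) := by
    intro c
    obtain ⟨P, rfl⟩ := hπ c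
    refine ⟨MvPolynomial.rename (fun i => finSumFinEquiv (Sum.inl i)) P, ?_⟩
    rw [MvPolynomial.aeval_rename]
    have h1 : (val ∘ fun i => finSumFinEquiv (Sum.inl i)) = π ∘ MvPolynomial.X := by
      funext i
      simp [val]
    rw [h1]
    exact (DFunLike.congr_fun (MvPolynomial.aeval_unique π) P).symm
  exact exists_stdSmooth_surj_aux (Algebra.Generators.ofSurjective val hval) p
    (Nat.le_add_left p n) q h

end Groth.Agent.Helper16.FittImm
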