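import Mathlib

set_option autoImplicit false
set_option linter.style.haveILetI false
set_option linter.unusedSectionVars false

open DirectSum SetLike

namespace Groth.Agent.Helper16.HomAvoid

variable {A σ : Type*} [CommRing A] [SetLike σ A] [AddSubgroupClass σ A]
  (𝒜 : ℕ → σ) [GradedRing 𝒜]

/-- a homogeneous ideal not contained in a prime contains a homogeneous element outside it. -/
theorem exists_homogeneous_notMem {J : Ideal A} (hJ : J.IsHomogeneous 𝒜) (q : Ideal A)
    (hJq : ¬ J ≤ q) : ∃ (i : ℕ) (g : A), g ∈ 𝒜 i ∧ g ∈ J ∧ g ∉ q := by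
  classical
  obtain ⟨x, hxJ, hxq⟩ := Set.not_subset.mp hJq
  by_contra hcon
  push Not at hcon
  apply hxq
  rw [← DirectSum.sum_support_decompose 𝒜 x]
  refine Ideal.sum_mem _ (fun i _ => ?_)
  exact hcon i _ (SetLike.coe_mem _) (hJ i hxJ)

/-- a relevant homogeneous prime misses a homogeneous element of positive degree. -/
theorem exists_pos_degree_notMem (q : ProjectiveSpectrum 𝒜) :
    ∃ (i : ℕ) (g : A), 0 < i ∧ g ∈ 𝒜 i ∧ g ∉ q.asHomogeneousIdeal := by
  have h := q.not_irrelevant_le
  have hJ : (HomogeneousIdeal.irrelevant 𝒜).toIdeal.IsHomogeneous 𝒜 :=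
    (HomogeneousIdeal.irrelevant 𝒜).isHomogeneous
  have hJq : ¬ (HomogeneousIdeal.irrelevant 𝒜).toIdeal ≤ q.asHomogeneousIdeal.toIdeal := h
  obtain ⟨i, g, hgi, hgJ, hgq⟩ := exists_homogeneous_notMem 𝒜 hJ _ hJq
  refine ⟨i, g, ?_, hgi, hgq⟩
  by_contra hi
  have hi0 : i = 0 := by omega
  subst hi0
  apply hgq
  have h0 : GradedRing.proj 𝒜 0 g = 0 := (HomogeneousIdeal.mem_irrelevant_iff 𝒜 g).mp hgJ
  have h1 : GradedRing.proj 𝒜 0 g = g := by
    rw [GradedRing.proj_apply, DirectSum.decompose_of_mem_same 𝒜 hgi]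
  rw [h1] at h0
  rw [h0]
  exact Ideal.zero_mem _

/-- **homogeneous prime avoidance** on the projective spectrum. -/
theorem exists_homogeneous_avoiding {I : Ideal A} (hI : I.IsHomogeneous 𝒜)
    (P : Finset (ProjectiveSpectrum 𝒜))
    (hP : ∀ p ∈ P, ¬ I ≤ p.asHomogeneousIdeal.toIdeal) :
    ∃ (d : ℕ) (h : A), 0 < d ∧ h ∈ 𝒜 d ∧ h ∈ I ∧ ∀ p ∈ P, h ∉ p.asHomogeneousIdeal := by
  classical
  induction P using Finset.strongInduction with
  | H P IH =>
    by_cases hne : P.Nonempty
    swap
    · rw [Finset.not_nonempty_iff_eq_empty] at hne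
      subst hne
      exact ⟨1, 0, Nat.one_pos, zero_mem _, zero_mem _, fun p hp => absurd hp (Finset.notMem_empty p)⟩
    -- a minimal element
    obtain ⟨q, hqP, hqmin⟩ := P.exists_minimalFor
      (fun p : ProjectiveSpectrum 𝒜 => p.asHomogeneousIdeal.toIdeal) hne
    obtain ⟨d', h', hd', hh'd, hh'I, hh'P⟩ := IH (P.erase q) (Finset.erase_ssubset hqP)
      (fun p hp => hP p (Finset.mem_of_mem_erase hp))
    by_cases hh'q : h' ∉ q.asHomogeneousIdeal
    · refine ⟨d', h', hd', hh'd, hh'I, fun p hp => ?_⟩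
      by_cases hpq : p = q
      · rw [hpq]; exact hh'q
      · exact hh'P p (Finset.mem_erase.mpr ⟨hpq, hp⟩)
    push Not at hh'q
    -- elements outside `q`
    obtain ⟨i₀, a₀, ha₀i, ha₀I, ha₀q⟩ := exists_homogeneous_notMem 𝒜 hI _ (hP q hqP)
    obtain ⟨i₁, a₁, hi₁, ha₁i, ha₁q⟩ := exists_pos_degree_notMem 𝒜 q
    have hother : ∀ p ∈ P.erase q, ∃ (i : ℕ) (a : A), a ∈ 𝒜 i ∧ a ∈ p.asHomogeneousIdeal ∧
        a ∉ q.asHomogeneousIdeal := by
      intro p hp
      have hpP := Finset.mem_of_mem_erase hp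
      have hpq : p ≠ q := (Finset.mem_erase.mp hp).1
      have hnle : ¬ p.asHomogeneousIdeal.toIdeal ≤ q.asHomogeneousIdeal.toIdeal := by
        intro hle
        apply hpq
        have hge := hqmin hpP hle
        have heq : p.asHomogeneousIdeal.toIdeal = q.asHomogeneousIdeal.toIdeal :=
          le_antisymm hle hge
        ext1
        exact HomogeneousIdeal.toIdeal_injective heq
      exact exists_homogeneous_notMem 𝒜 p.asHomogeneousIdeal.isHomogeneous _ hnle
    choose! deg elt helt_deg helt_mem helt_q using hother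
    -- the product
    set g : A := a₀ * a₁ * ∏ p ∈ P.erase q, elt p with hg
    set e : ℕ := i₀ + i₁ + ∑ p ∈ P.erase q, deg p with he
    have hprod_deg : (∏ p ∈ P.erase q, elt p) ∈ 𝒜 (∑ p ∈ P.erase q, deg p) := by
      have : ∀ s : Finset (ProjectiveSpectrum 𝒜), s ⊆ P.erase q →
          (∏ p ∈ s, elt p) ∈ 𝒜 (∑ p ∈ s, deg p) := by
        intro s
        induction s using Finset.induction_on with
        | empty =>
          intro _
          rw [Finset.prod_empty, Finset.sum_empty]
          exact SetLike.one_mem_graded 𝒜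
        | insert a s has ih =>
          intro hs
          rw [Finset.prod_insert has, Finset.sum_insert has]
          exact SetLike.mul_mem_graded (helt_deg a (hs (Finset.mem_insert_self a s)))
            (ih (fun x hx => hs (Finset.mem_insert_of_mem hx)))
      exact this _ (Finset.Subset.refl _)
    have hgdeg : g ∈ 𝒜 e := SetLike.mul_mem_graded (SetLike.mul_mem_graded ha₀i ha₁i) hprod_deg
    have hepos : 0 < e := by omega
    have hgI : g ∈ I := by
      rw [hg, mul_assoc]
      exact Ideal.mul_mem_right _ _ ha₀I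
    have hgq : g ∉ q.asHomogeneousIdeal := by
      intro hmem
      have hmem' : g ∈ q.asHomogeneousIdeal.toIdeal := hmem
      rw [hg] at hmem'
      rcases (q.isPrime.mem_or_mem hmem') with h1 | h1
      · rcases (q.isPrime.mem_or_mem h1) with h2 | h2
        · exact ha₀q h2
        · exact ha₁q h2
      · obtain ⟨p, hp, hpm⟩ := (Ideal.IsPrime.prod_mem_iff (hp := q.isPrime)).mp h1
        exact helt_q p hp hpm
    have hgp : ∀ p ∈ P.erase q, g ∈ p.asHomogeneousIdeal := by
      intro p hp
      show g ∈ p.asHomogeneousIdeal.toIdeal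
      rw [hg]
      refine Ideal.mul_mem_left _ _ ?_
      rw [← Finset.mul_prod_erase _ _ hp]
      exact Ideal.mul_mem_right _ _ (helt_mem p hp)
    -- combine
    refine ⟨d' * e, h' ^ e + g ^ d', Nat.mul_pos hd' hepos, ?_, ?_, ?_⟩
    · refine add_mem ?_ ?_
      · have := SetLike.pow_mem_graded e hh'd
        rwa [smul_eq_mul, mul_comm] at this
      · have := SetLike.pow_mem_graded d' hgdeg
        rwa [smul_eq_mul] at this
    · exact Ideal.add_mem _ (Ideal.pow_mem_of_mem _ hh'I e hepos) (Ideal.pow_mem_of_mem _ hgI d' hd')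
    · intro p hp hmem
      have hmem' : h' ^ e + g ^ d' ∈ p.asHomogeneousIdeal.toIdeal := hmem
      by_cases hpq : p = q
      · subst hpq
        have h1 : h' ^ e ∈ p.asHomogeneousIdeal.toIdeal :=
          Ideal.pow_mem_of_mem _ hh'q e hepos
        have h2 : g ^ d' ∈ p.asHomogeneousIdeal.toIdeal := by
          have := Ideal.sub_mem _ hmem' h1
          simpa using this
        exact hgq (p.isPrime.mem_of_pow_mem _ h2)
      · have hpe : p ∈ P.erase q := Finset.mem_erase.mpr ⟨hpq, hp⟩
        have h1 : g ^ d' ∈ p.asHomogeneousIdeal.toIdeal :=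
          Ideal.pow_mem_of_mem _ (hgp p hpe) d' hd'
        have h2 : h' ^ e ∈ p.asHomogeneousIdeal.toIdeal := by
          have := Ideal.sub_mem _ hmem' h1
          simpa using this
        exact hh'P p hpe (p.isPrime.mem_of_pow_mem _ h2)

end Groth.Agent.Helper16.HomAvoid
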