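import Mathlib

set_option autoImplicit false
set_option linter.style.haveILetI false
universe u
open Polynomial

namespace Groth.Agent.Helper16.HypAlg

open scoped IntermediateField

theorem main (k K : Type u) [Field k] [Field K] [Algebra k K] [Algebra.EssFiniteType k K]
    (d : ℕ) (s : Fin d → K) (hs : IsTranscendenceBasis k s)
    (hsep : Algebra.IsSeparable ↥(IntermediateField.adjoin k (Set.range s)) K) :
    ∃ (g : Polynomial (MvPolynomial (Fin d) k)), g.Monic ∧
      Irreducible (g.map (algebraMap (MvPolynomial (Fin d) k) (FractionRing (MvPolynomial (Fin d) k)))) ∧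
      (g.map (algebraMap (MvPolynomial (Fin d) k) (FractionRing (MvPolynomial (Fin d) k)))).Separable ∧
      ∃ ψ : AdjoinRoot g →ₐ[k] K, Function.Injective ψ ∧ ∀ z : K, ∃ x y, z = ψ x / ψ y := by
  classical
  let A := MvPolynomial (Fin d) k
  let F := FractionRing A
  have hinj : Function.Injective (MvPolynomial.aeval s : A →ₐ[k] K) :=
    algebraicIndependent_iff_injective_aeval.1 hs.1
  letI algAK : Algebra A K := (MvPolynomial.aeval s : A →ₐ[k] K).toRingHom.toAlgebra
  have hAK : ∀ a : A, algebraMap A K a = MvPolynomial.aeval s a := fun a => rfl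
  haveI : IsScalarTower k A K := IsScalarTower.of_algebraMap_eq' (by
    ext x
    simp [RingHom.algebraMap_toAlgebra, algAK])
  haveI : FaithfulSMul A K := (faithfulSMul_iff_algebraMap_injective A K).2 hinj
  letI algFK : Algebra F K := FractionRing.liftAlgebra A K
  haveI : IsScalarTower A F K := FractionRing.isScalarTower_liftAlgebra A K
  haveI : IsScalarTower k F K := IsScalarTower.of_algebraMap_eq (fun x => by
    rw [IsScalarTower.algebraMap_apply k A K, IsScalarTower.algebraMap_apply k A F,
      ← IsScalarTower.algebraMap_apply A F K])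
  -- algebraicity
  haveI hAalg : Algebra.IsAlgebraic A K := by
    have h1 := hs.isAlgebraic
    refine ⟨fun x => ?_⟩
    have h2 := h1.isAlgebraic x
    have := (isAlgebraic_ringHom_iff_of_comp_eq (hs.1.aevalEquiv.toRingEquiv)
      (RingHom.id K) Function.injective_id (a := x) ?_).1 h2
    · exact this
    · refine RingHom.ext fun a => ?_
      exact hs.1.algebraMap_aevalEquiv a
  haveI hFalg : Algebra.IsAlgebraic F K := (IsFractionRing.comap_isAlgebraic_iff (A := A) (K := F) (C := K)).1 hAalg
  haveI : Algebra.EssFiniteType F K := Algebra.EssFiniteType.of_comp k F K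
  haveI : Module.Finite F K := Algebra.finite_of_essFiniteType_of_isAlgebraic
  -- separability
  haveI hFsep : Algebra.IsSeparable F K := by
    refine Algebra.IsSeparable.of_equiv_equiv (A₁ := ↥(IntermediateField.adjoin k (Set.range s)))
      (B₁ := K) hs.1.aevalEquivField.symm.toRingEquiv (RingEquiv.refl K) ?_
    refine RingHom.ext fun l => ?_
    obtain ⟨a, rfl⟩ := hs.1.aevalEquivField.surjective l
    simp only [RingHom.coe_comp, Function.comp_apply, RingEquiv.coe_toRingHom,
      AlgEquiv.coe_ringEquiv, AlgEquiv.symm_apply_apply, RingEquiv.refl_apply]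
    rw [IntermediateField.algebraMap_apply, hs.1.aevalEquivField_apply_coe]
    rfl
  obtain ⟨α, hα⟩ := Field.exists_primitive_element F K
  obtain ⟨y, hy0, hβ⟩ := (hAalg.isAlgebraic α).exists_integral_multiple
  set β : K := y • α with hβdef
  have hyF : algebraMap A F y ≠ 0 := by
    rw [Ne, map_eq_zero_iff _ (IsFractionRing.injective A F)]; exact hy0
  have hβtop : F⟮β⟯ = ⊤ := by
    rw [eq_top_iff, ← hα]
    rw [IntermediateField.adjoin_simple_le_iff]
    have h1 : β ∈ F⟮β⟯ := IntermediateField.mem_adjoin_simple_self F β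
    have h2 : α = (algebraMap A F y)⁻¹ • β := by
      rw [hβdef, ← IsScalarTower.algebraMap_smul F y α, smul_smul, inv_mul_cancel₀ hyF, one_smul]
    rw [h2]
    exact F⟮β⟯.smul_mem h1
  let g : Polynomial A := minpoly A β
  have hgmap : minpoly F β = g.map (algebraMap A F) :=
    minpoly.isIntegrallyClosed_eq_field_fractions' F hβ
  have hβF : IsIntegral F β := hβ.tower_top
  refine ⟨g, minpoly.monic hβ, ?_, ?_, ?_⟩
  · rw [← hgmap]; exact minpoly.irreducible hβF
  · rw [← hgmap]; exact Algebra.IsSeparable.isSeparable F β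
  let ψA : AdjoinRoot g →ₐ[A] K :=
    (Algebra.adjoin A {β}).val.comp (minpoly.equivAdjoin hβ).toAlgHom
  have hψinj : Function.Injective ψA := by
    intro a b hab
    exact (minpoly.equivAdjoin hβ).injective (Subtype.ext hab)
  have hψroot : ψA (AdjoinRoot.root g) = β := by
    simp [ψA, g]
  refine ⟨ψA.restrictScalars k, hψinj, fun z => ?_⟩
  have hz : z ∈ F⟮β⟯.toSubalgebra := by rw [hβtop]; trivial
  rw [IntermediateField.adjoin_simple_toSubalgebra_of_isAlgebraic (hFalg.isAlgebraic β),
    Algebra.adjoin_singleton_eq_range_aeval] at hz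
  obtain ⟨p, rfl⟩ := hz
  obtain ⟨b, hbM, hb⟩ := IsLocalization.integerNormalization_spec (nonZeroDivisors A) p
  set q := IsLocalization.integerNormalization (nonZeroDivisors A) p with hq
  have hbF : algebraMap A K (b : A) ≠ 0 := by
    rw [Ne, map_eq_zero_iff _ (FaithfulSMul.algebraMap_injective A K)]
    exact nonZeroDivisors.ne_zero hbM
  have h1 : Polynomial.aeval β q = algebraMap A K (b : A) * Polynomial.aeval β p := by
    rw [← Polynomial.aeval_map_algebraMap F β q, hb,
      ← IsScalarTower.algebraMap_smul F (b : A) p, map_smul, Algebra.smul_def,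
      ← IsScalarTower.algebraMap_apply]
  refine ⟨AdjoinRoot.mk g q, AdjoinRoot.of g (b : A), ?_⟩
  have h2 : ψA (AdjoinRoot.mk g q) = Polynomial.aeval β q := by
    rw [← AdjoinRoot.aeval_eq, ← Polynomial.aeval_algHom_apply, hψroot]
  have h3 : ψA (AdjoinRoot.of g (b : A)) = algebraMap A K (b : A) := by
    rw [← AdjoinRoot.algebraMap_eq, AlgHom.commutes]
  change _ = ψA _ / ψA _
  rw [h2, h3, h1, mul_div_cancel_left₀ _ hbF]
  rfl

theorem finiteType_adjoinRoot (k : Type u) [Field k] (d : ℕ)
    (g : Polynomial (MvPolynomial (Fin d) k)) : Algebra.FiniteType k (AdjoinRoot g) := by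
  haveI : Algebra.FiniteType k (Polynomial (MvPolynomial (Fin d) k)) :=
    Algebra.FiniteType.trans (S := MvPolynomial (Fin d) k) inferInstance inferInstance
  exact Algebra.FiniteType.of_surjective ((AdjoinRoot.mkₐ g).restrictScalars k)
    AdjoinRoot.mk_surjective

end Groth.Agent.Helper16.HypAlg
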