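import Mathlib

set_option autoImplicit false
universe u
open scoped TensorProduct

namespace Groth.Agent.Helper16.KaehlerSplit

open KaehlerDifferential

attribute [local instance] Algebra.TensorProduct.rightAlgebra

variable (R A B : Type u) [CommRing R] [CommRing A] [CommRing B] [Algebra R A] [Algebra R B]

/-- The retraction `Ω[T/R] → T ⊗_A Ω[A/R]`, `T = A ⊗_R B`. -/
noncomputable def retr : Ω[(A ⊗[R] B)⁄R] →ₗ[A ⊗[R] B] ((A ⊗[R] B) ⊗[A] Ω[A⁄R]) :=
  ((tensorKaehlerEquiv R B A (A ⊗[R] B)).symm : Ω[(A ⊗[R] B)⁄B] →ₗ[A ⊗[R] B] _).comp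
    (KaehlerDifferential.map R B (A ⊗[R] B) (A ⊗[R] B))

lemma retr_D (a : A) (b : B) :
    retr R A B (D R (A ⊗[R] B) (a ⊗ₜ[R] b)) = ((1 : A) ⊗ₜ[R] b) ⊗ₜ[A] D R A a := by
  rw [retr, LinearMap.comp_apply, KaehlerDifferential.map_D]
  simp only [Algebra.algebraMap_self, RingHom.id_apply, LinearEquiv.coe_coe]
  rw [tensorKaehlerEquiv_symm_D_tmul', Algebra.TensorProduct.right_algebraMap_apply]

lemma retr_mapBaseChange (z : (A ⊗[R] B) ⊗[A] Ω[A⁄R]) :
    retr R A B (mapBaseChange R A (A ⊗[R] B) z) = z := by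
  induction z using TensorProduct.induction_on with
  | zero => simp
  | add x y hx hy => rw [map_add, map_add, hx, hy]
  | tmul t x =>
    have hx : x ∈ Submodule.span A (Set.range (D R A)) := by
      rw [KaehlerDifferential.span_range_derivation]; trivial
    revert t
    induction hx using Submodule.span_induction with
    | mem x hx =>
      obtain ⟨a, rfl⟩ := hx
      intro t
      rw [mapBaseChange_tmul, map_smul, KaehlerDifferential.map_D,
        Algebra.TensorProduct.algebraMap_apply, Algebra.algebraMap_self, RingHom.id_apply, retr_D,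
        TensorProduct.smul_tmul', smul_eq_mul, ← Algebra.TensorProduct.one_def, mul_one]
    | zero => intro t; simp
    | add x y _ _ hx hy =>
      intro t
      rw [TensorProduct.tmul_add, map_add, map_add, hx, hy]
    | smul a x _ hx =>
      intro t
      rw [← TensorProduct.smul_tmul, hx]

theorem split_bijective :
    Function.Bijective (fun ω : Ω[(A ⊗[R] B)⁄R] =>
      (retr R A B ω, KaehlerDifferential.map R A (A ⊗[R] B) (A ⊗[R] B) ω)) := by
  have hri : ∀ z, retr R A B (mapBaseChange R A (A ⊗[R] B) z) = z := retr_mapBaseChange R A B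
  have hex := KaehlerDifferential.exact_mapBaseChange_map R A (A ⊗[R] B)
  constructor
  · intro ω₁ ω₂ h
    simp only [Prod.mk.injEq] at h
    obtain ⟨h1, h2⟩ := h
    have h3 : KaehlerDifferential.map R A (A ⊗[R] B) (A ⊗[R] B) (ω₁ - ω₂) = 0 := by
      rw [map_sub, h2, sub_self]
    obtain ⟨z, hz⟩ := (hex _).mp h3
    have h4 : retr R A B (ω₁ - ω₂) = 0 := by rw [map_sub, h1, sub_self]
    rw [← hz, hri] at h4
    rw [h4, map_zero] at hz
    exact sub_eq_zero.mp hz.symm
  · rintro ⟨x, y⟩
    obtain ⟨ω₀, hω₀⟩ := KaehlerDifferential.map_surjective R A (A ⊗[R] B) y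
    refine ⟨ω₀ + mapBaseChange R A (A ⊗[R] B) (x - retr R A B ω₀), ?_⟩
    simp only [Prod.mk.injEq]
    constructor
    · rw [map_add, hri]; abel
    · rw [map_add, hω₀, (hex _).mpr ⟨_, rfl⟩, add_zero]

end Groth.Agent.Helper16.KaehlerSplit
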