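import Mathlib
import Groth.Prelude.Def_Fitting
import Groth.Agent.S6894
import Groth.Agent.Lib.Helper4.SmoothQuotGen
import Groth.Agent.Lib.Helper2.RelGCI5

/-!
# Jacobian locus of a complete intersection in a smooth algebra (helper16)
-/

set_option autoImplicit false
set_option linter.style.haveILetI false
set_option linter.unusedSectionVars false
universe u
open TensorProduct KaehlerDifferential

namespace Groth.Agent.Helper16.LciFitt

variable {A C : Type u} [CommRing A] [CommRing C] [Algebra A C]

/-- the conormal module of a Koszul-regular sequence is free on the classes of the sequence -/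
theorem cotangent_linearIndependent (P : Algebra.Extension.{u} A C) {c : ℕ} (F : Fin c → P.Ring)
    (hker : Ideal.span (Set.range F) = P.ker)
    (hKR : LCI.IsKoszulRegularSeq P.Ring (List.ofFn F)) :
    LinearIndependent C (fun i : Fin c => Algebra.Extension.Cotangent.mk
      (P := P) ⟨F i, hker.le (Ideal.subset_span ⟨i, rfl⟩)⟩) := by
  obtain ⟨hli, -⟩ := Groth.Agent.Helper2.RelGCI.conormal_basis F hKR
  rw [Fintype.linearIndependent_iff] at hli ⊢
  intro g hg i
  choose b hb using fun i => P.algebraMap_surjective (g i)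
  have h1 : (∑ i, g i • Algebra.Extension.Cotangent.mk
      (P := P) ⟨F i, hker.le (Ideal.subset_span ⟨i, rfl⟩)⟩) =
      Algebra.Extension.Cotangent.mk (P := P)
        ⟨∑ i, b i * F i, Ideal.sum_mem _ fun i _ => Ideal.mul_mem_left _ _
          (hker.le (Ideal.subset_span ⟨i, rfl⟩))⟩ := by
    have h2 : (⟨∑ i, b i * F i, Ideal.sum_mem _ fun i _ => Ideal.mul_mem_left _ _
          (hker.le (Ideal.subset_span ⟨i, rfl⟩))⟩ : P.ker) =
        ∑ i, b i • (⟨F i, hker.le (Ideal.subset_span ⟨i, rfl⟩)⟩ : P.ker) := by
      apply Subtype.ext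
      simp [smul_eq_mul]
    rw [h2, map_sum]
    refine Finset.sum_congr rfl fun i _ => ?_
    rw [map_smul, ← hb i, algebraMap_smul]
  rw [h1, Algebra.Extension.Cotangent.mk_eq_zero_iff] at hg
  have hg' : ∑ i, b i * F i ∈ (Ideal.span (Set.range F)) ^ 2 := by
    rw [hker]; exact hg
  have h3 : ∑ i, (Ideal.Quotient.mk (Ideal.span (Set.range F)) (b i)) •
      (Ideal.span (Set.range F)).toCotangent
        ⟨F i, Ideal.subset_span (Set.mem_range_self i)⟩ = 0 := by
    have h4 : ∀ i, (Ideal.Quotient.mk (Ideal.span (Set.range F)) (b i)) •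
        (Ideal.span (Set.range F)).toCotangent ⟨F i, Ideal.subset_span (Set.mem_range_self i)⟩ =
        (Ideal.span (Set.range F)).toCotangent
          (b i • ⟨F i, Ideal.subset_span (Set.mem_range_self i)⟩) := by
      intro i
      rw [map_smul]
      rfl
    simp_rw [h4]
    rw [← map_sum, Ideal.toCotangent_eq_zero]
    convert hg' using 1
    simp [smul_eq_mul]
  have h5 := hli _ h3 i
  rw [Ideal.Quotient.eq_zero_iff_mem, hker] at h5
  rw [← hb i]
  exact (RingHom.mem_ker).mp h5

/-- **Jacobian criterion for complete intersections in smooth algebras**: if `C = B/(F_1..F_c)`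
with `F` Koszul-regular and `Ω[B/A]` free of rank `m + c`, then `C` is smooth over `A` at `q` iff
`Fitt_m(Ω[C/A]) ⊄ q`. -/
theorem isSmoothAt_iff_fitt (P : Algebra.Extension.{u} A C) [Algebra.FormallySmooth A P.Ring]
    [Module.Free P.Ring Ω[P.Ring⁄A]] [Module.Finite P.Ring Ω[P.Ring⁄A]]
    (m c : ℕ) (hrank : Module.finrank P.Ring Ω[P.Ring⁄A] = m + c)
    (F : Fin c → P.Ring) (hker : Ideal.span (Set.range F) = P.ker)
    (hKR : LCI.IsKoszulRegularSeq P.Ring (List.ofFn F))
    [Module.Finite C Ω[C⁄A]] (q : Ideal C) [hq : q.IsPrime] :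
    Algebra.IsSmoothAt A q ↔ ¬ Fitt.ideal C Ω[C⁄A] m ≤ q := by
  classical
  haveI : Nontrivial C :=
    nontrivial_of_ne (0 : C) 1 (fun h => hq.ne_top (q.eq_top_iff_one.mpr (h ▸ q.zero_mem)))
  haveI : Nontrivial P.Ring := (algebraMap P.Ring C).domain_nontrivial
  have hli := cotangent_linearIndependent P F hker hKR
  have hsp := Algebra.Extension.Cotangent.span_eq_top_of_span_eq_ker (P := P) F hker
  let b : Module.Basis (Fin c) C P.Cotangent := Module.Basis.mk hli hsp.ge
  haveI : Module.Free C P.Cotangent := Module.Free.of_basis b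
  haveI : Module.Finite C P.Cotangent := Module.Finite.of_basis b
  have hcot : Module.finrank C P.Cotangent = c := by
    rw [Module.finrank_eq_card_basis b, Fintype.card_fin]
  haveI : Module.Free C P.CotangentSpace := inferInstance
  haveI : Module.Finite C P.CotangentSpace := inferInstance
  haveI : Module.Projective C P.CotangentSpace := inferInstance
  have hcs : Module.finrank C P.CotangentSpace = m + c := by
    rw [← hrank]; exact Module.finrank_baseChange
  have hsm : Algebra.IsSmoothAt A q ↔ Function.Injective (P.cotangentComplex.lTensor q.ResidueField) :=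
    (Groth.Agent.Helper7.SmoothQuot.formallySmooth_localization_iff P q).trans
      (Groth.Agent.Helper7.LeftInv.exists_leftInverse_localized_atPrime_iff_lTensor q
        P.cotangentComplex)
  rw [hsm, (Groth.Agent.S6894.result (R := C) Ω[C⁄A] m q).1]
  let uκ : q.ResidueField ⊗[C] P.Cotangent →ₗ[q.ResidueField] q.ResidueField ⊗[C] P.CotangentSpace :=
    P.cotangentComplex.baseChange q.ResidueField
  let vκ : q.ResidueField ⊗[C] P.CotangentSpace →ₗ[q.ResidueField] q.ResidueField ⊗[C] Ω[C⁄A] :=
    P.toKaehler.baseChange q.ResidueField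
  have hu : (uκ : _ → _) = P.cotangentComplex.lTensor q.ResidueField :=
    LinearMap.baseChange_eq_ltensor _
  have hv : (vκ : _ → _) = P.toKaehler.lTensor q.ResidueField :=
    LinearMap.baseChange_eq_ltensor _
  have hex : Function.Exact uκ vκ := by
    rw [hu, hv]
    exact lTensor_exact q.ResidueField P.exact_cotangentComplex_toKaehler P.toKaehler_surjective
  have hsurj : Function.Surjective vκ := by
    rw [hv]
    exact LinearMap.lTensor_surjective q.ResidueField P.toKaehler_surjective
  have e1 : Module.finrank q.ResidueField (q.ResidueField ⊗[C] P.Cotangent) = c := by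
    rw [Module.finrank_baseChange, hcot]
  have e2 : Module.finrank q.ResidueField (q.ResidueField ⊗[C] P.CotangentSpace) = m + c := by
    rw [Module.finrank_baseChange, hcs]
  have r1 := LinearMap.finrank_range_add_finrank_ker uκ
  have r2 := LinearMap.finrank_range_add_finrank_ker vκ
  rw [e1] at r1
  rw [e2, LinearMap.range_eq_top.mpr hsurj, finrank_top, (LinearMap.exact_iff.mp hex)] at r2
  have hinj : Function.Injective (P.cotangentComplex.lTensor q.ResidueField) ↔
      Module.finrank q.ResidueField (LinearMap.ker uκ) = 0 := by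
    rw [← hu, ← LinearMap.ker_eq_bot, Submodule.finrank_eq_zero]
  rw [hinj]
  omega

end Groth.Agent.Helper16.LciFitt
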