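import Mathlib
import Groth.Agent.Lib.Helper16.Alg.ModCons0
import Groth.Agent.Lib.Helper16.Sch.CMCons3
import Groth.Agent.Lib.Helper4.Constr
import Groth.Agent.S0389

/-!
# A template for constructibility of loci attached to modules over algebras (helper16)
-/

set_option autoImplicit false
set_option linter.style.haveILetI false
set_option linter.unusedSectionVars false
universe u

open TensorProduct Topology

namespace Groth.Agent.Helper16.ModCons

/-- a family of subsets of the spectra of algebras attached to modules, compatible with base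
change, and constructible in the flat Noetherian case. -/
structure ModLocus where
  /-- the locus -/
  L : ∀ (A B : Type u) [CommRing A] [CommRing B] [Algebra A B] (M : Type u) [AddCommGroup M]
    [Module B M], Set (PrimeSpectrum B)
  bc : ∀ (A₀ A B₀ B : Type u) [CommRing A₀] [CommRing A] [CommRing B₀] [CommRing B]
    [Algebra A₀ A] [Algebra A₀ B₀] [Algebra A B] [Algebra B₀ B] [Algebra A₀ B]
    [IsScalarTower A₀ A B] [IsScalarTower A₀ B₀ B] (_ : Algebra.IsPushout A₀ A B₀ B)
    [Algebra.FiniteType A₀ B₀]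
    (M₀ : Type u) [AddCommGroup M₀] [Module B₀ M₀] [Module.Finite B₀ M₀]
    (M : Type u) [AddCommGroup M] [Module B M] [Module B₀ M] [IsScalarTower B₀ B M]
    (φ : M₀ →ₗ[B₀] M) (_ : IsBaseChange B φ),
    PrimeSpectrum.comap (algebraMap B₀ B) ⁻¹' L A₀ B₀ M₀ = L A B M
  consFlat : ∀ (A B : Type u) [CommRing A] [CommRing B] [Algebra A B] [IsNoetherianRing A]
    [Algebra.FiniteType A B] (M : Type u) [AddCommGroup M] [Module B M] [Module A M]
    [IsScalarTower A B M] [Module.Finite B M] [Module.Flat A M], IsConstructible (L A B M)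

namespace ModLocus

variable (Q : ModLocus.{u})

section noeth

variable (A B : Type u) [CommRing A] [CommRing B] [Algebra A B] [IsNoetherianRing A]
  [Algebra.FiniteType A B] (M : Type u) [AddCommGroup M] [Module B M] [Module.Finite B M]

attribute [local instance] Algebra.TensorProduct.rightAlgebra

set_option maxHeartbeats 1600000 in
set_option synthInstance.maxHeartbeats 400000 in
theorem exists_generic_piece (p : Ideal A) [hp : p.IsPrime] :
    ∃ a : A, a ∉ p ∧ IsConstructible (Q.L A B M ∩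
      PrimeSpectrum.comap (algebraMap A B) ⁻¹'
        (PrimeSpectrum.zeroLocus p ∩ PrimeSpectrum.basicOpen a : Set (PrimeSpectrum A))) := by
  letI : Module A M := Module.compHom M (algebraMap A B)
  haveI : IsScalarTower A B M := IsScalarTower.of_algebraMap_smul fun _ _ => rfl
  -- generic freeness over `A ⧸ p`
  obtain ⟨f, hf0, hfree, -, -, -⟩ := Groth.Agent.S0389.result (R := A ⧸ p)
    (S := (A ⧸ p) ⊗[A] B) (M := ((A ⧸ p) ⊗[A] B) ⊗[B] M)
  obtain ⟨a, rfl⟩ := Ideal.Quotient.mk_surjective f
  have ha : a ∉ p := fun hmem => hf0 (Ideal.Quotient.eq_zero_iff_mem.mpr hmem)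
  refine ⟨a, ha, ?_⟩
  set A' := Localization.Away (Ideal.Quotient.mk p a) with hA'
  haveI hflat : Module.Flat A' ((A' ⊗[A] B) ⊗[B] M) := by
    let e1 : ((A ⧸ p) ⊗[A] B) ⊗[B] M ≃ₗ[A ⧸ p] (A ⧸ p) ⊗[A] M :=
      Algebra.IsPushout.cancelBaseChange A (A ⧸ p) B ((A ⧸ p) ⊗[A] B) M
    let e2 : A' ⊗[A ⧸ p] (((A ⧸ p) ⊗[A] B) ⊗[B] M) ≃ₗ[A'] A' ⊗[A ⧸ p] ((A ⧸ p) ⊗[A] M) :=
      TensorProduct.AlgebraTensorModule.congr (LinearEquiv.refl A' A') e1
    let e3 : A' ⊗[A ⧸ p] ((A ⧸ p) ⊗[A] M) ≃ₗ[A'] A' ⊗[A] M :=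
      TensorProduct.AlgebraTensorModule.cancelBaseChange A (A ⧸ p) A' A' M
    let e4 : (A' ⊗[A] B) ⊗[B] M ≃ₗ[A'] A' ⊗[A] M :=
      Algebra.IsPushout.cancelBaseChange A A' B (A' ⊗[A] B) M
    haveI : Module.Free A' (A' ⊗[A ⧸ p] (((A ⧸ p) ⊗[A] B) ⊗[B] M)) := hfree
    exact Module.Flat.of_linearEquiv (e4.trans (e3.symm.trans e2.symm))
  haveI : IsNoetherianRing A' :=
    IsLocalization.isNoetherianRing (Submonoid.powers (Ideal.Quotient.mk p a)) A' inferInstance
  have hcons := Q.consFlat A' (A' ⊗[A] B) ((A' ⊗[A] B) ⊗[B] M)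
  have hpo : Algebra.IsPushout A A' B (A' ⊗[A] B) := inferInstance
  have hbc := Q.bc A A' B (A' ⊗[A] B) hpo M ((A' ⊗[A] B) ⊗[B] M)
    (TensorProduct.mk B (A' ⊗[A] B) M 1) (TensorProduct.isBaseChange B M (A' ⊗[A] B))
  have hfpB : (algebraMap B (A' ⊗[A] B)).FinitePresentation := by
    haveI : IsNoetherianRing B := Algebra.FiniteType.isNoetherianRing A B
    haveI : Algebra.FiniteType A A' :=
      Algebra.FiniteType.trans (inferInstance : Algebra.FiniteType A (A ⧸ p))
        (IsLocalization.finiteType_of_monoid_fg (Submonoid.powers (Ideal.Quotient.mk p a)) A')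
    haveI : Algebra.FiniteType A (A' ⊗[A] B) :=
      Algebra.FiniteType.trans (inferInstance : Algebra.FiniteType A A') inferInstance
    haveI : Algebra.FiniteType B (A' ⊗[A] B) :=
      Algebra.FiniteType.of_restrictScalars_finiteType A B (A' ⊗[A] B)
    exact RingHom.finitePresentation_algebraMap.mpr
      (Algebra.FinitePresentation.of_finiteType.mp inferInstance)
  have himg := PrimeSpectrum.isConstructible_comap_image hfpB hcons
  have hrange : Set.range (PrimeSpectrum.comap (algebraMap B (A' ⊗[A] B))) =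
      PrimeSpectrum.comap (algebraMap A B) ⁻¹'
        Set.range (PrimeSpectrum.comap (algebraMap A A')) :=
    Groth.Agent.Helper16.CMCons.range_of_isPullback
      (Groth.Agent.Helper16.CMCons.isPullback_of_isPushout A' (A' ⊗[A] B) hpo)
  rw [← hbc, Set.image_preimage_eq_inter_range, hrange,
    Groth.Agent.Helper16.CMCons.range_comap_quotient_away A p a] at himg
  exact himg

theorem isConstructible_inter :
    ∀ Z : Set (PrimeSpectrum A), IsClosed Z → IsConstructible (Q.L A B M ∩
      PrimeSpectrum.comap (algebraMap A B) ⁻¹' Z) := by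
  apply Groth.Agent.Helper4.Constr.noeth_induction
  · intro Z hZcl hZirr ih
    have hp : (PrimeSpectrum.vanishingIdeal Z).IsPrime :=
      PrimeSpectrum.isIrreducible_iff_vanishingIdeal_isPrime.mp hZirr
    obtain ⟨a, ha, hcons⟩ := Q.exists_generic_piece A B M (PrimeSpectrum.vanishingIdeal Z)
    obtain ⟨hZ'lt, hZeq⟩ := Groth.Agent.Helper16.CMCons.aux_split A Z hZcl hp a ha
    have hZ'cl : IsClosed (Z ∩ (PrimeSpectrum.zeroLocus {a} : Set (PrimeSpectrum A))) :=
      hZcl.inter (PrimeSpectrum.isClosed_zeroLocus _)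
    have h1 := ih _ hZ'cl hZ'lt
    have hsplit : Q.L A B M ∩ PrimeSpectrum.comap (algebraMap A B) ⁻¹' Z =
        (Q.L A B M ∩ PrimeSpectrum.comap (algebraMap A B) ⁻¹'
          (Z ∩ (PrimeSpectrum.zeroLocus {a} : Set (PrimeSpectrum A)))) ∪
        (Q.L A B M ∩ PrimeSpectrum.comap (algebraMap A B) ⁻¹'
          ((PrimeSpectrum.zeroLocus (PrimeSpectrum.vanishingIdeal Z) ∩
            PrimeSpectrum.basicOpen a : Set (PrimeSpectrum A)))) := by
      rw [← Set.inter_union_distrib_left, ← Set.preimage_union]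
      exact congrArg (fun W => Q.L A B M ∩ PrimeSpectrum.comap (algebraMap A B) ⁻¹' W) hZeq
    rw [hsplit]
    exact h1.union hcons
  · intro S hS hScl hSQ
    have : Q.L A B M ∩ PrimeSpectrum.comap (algebraMap A B) ⁻¹' (⋃₀ S) =
        ⋃ t ∈ S, Q.L A B M ∩ PrimeSpectrum.comap (algebraMap A B) ⁻¹' t := by
      ext x
      simp only [Set.mem_inter_iff, Set.mem_preimage, Set.mem_sUnion, Set.mem_iUnion, exists_prop]
      constructor
      · rintro ⟨h1, t, ht, h2⟩
        exact ⟨t, ht, h1, h2⟩
      · rintro ⟨t, ht, h1, h2⟩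
        exact ⟨h1, t, ht, h2⟩
    rw [this]
    exact IsConstructible.biUnion hS hSQ

theorem isConstructible_noeth : IsConstructible (Q.L A B M) := by
  have := Q.isConstructible_inter A B M Set.univ isClosed_univ
  simpa using this

end noeth

/-- **Constructibility of a locus attached to a finitely presented module over a finitely
presented algebra.** -/
theorem isConstructible (A B : Type u) [CommRing A] [CommRing B] [Algebra A B]
    [Algebra.FinitePresentation A B] (M : Type u) [AddCommGroup M] [Module B M]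
    [Module.FinitePresentation B M] : IsConstructible (Q.L A B M) := by
  obtain ⟨A₀, _, _, B₀, _, _, _, _, _, _, M₀, _, _, _, _, φ, hA₀, hB₀, hM₀, hpo, hbc⟩ :=
    exists_model_mod A B M
  haveI := hB₀
  haveI := hM₀
  haveI : IsNoetherianRing A₀ := Algebra.FiniteType.isNoetherianRing ℤ A₀
  have hcons := Q.isConstructible_noeth A₀ B₀ M₀
  have hpre : IsConstructible ((AlgebraicGeometry.Spec.map
      (CommRingCat.ofHom (algebraMap B₀ B))) ⁻¹' (Q.L A₀ B₀ M₀ :
        Set (AlgebraicGeometry.Spec (CommRingCat.of B₀)))) :=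
    (AlgebraicGeometry.Spec.map (CommRingCat.ofHom (algebraMap B₀ B))).isConstructible_preimage
      hcons
  rw [← Q.bc A₀ A B₀ B hpo M₀ M φ hbc]
  exact hpre

end ModLocus

end Groth.Agent.Helper16.ModCons
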