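import Mathlib
import Groth.Agent.Lib.Helper16.Alg.ModCons1
import Groth.Agent.Lib.Helper16.Sch.FibModCore3

/-!
# Constructibility of the level sets of the rectified depth of fibre modules: affine case (helper16)
-/

set_option autoImplicit false
set_option linter.style.haveILetI false
set_option linter.unusedSectionVars false
universe u

open IsLocalRing TensorProduct LocCoh CategoryTheory AlgebraicGeometry Topology

namespace Groth.Agent.Helper16.ModCons

open Groth.Agent.Lead.Depth Groth.Agent.Lead.Fib
open Groth.Agent.Helper16.FibModAlg Groth.Agent.Helper16.RingFibDim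
open Groth.Agent.Helper16.FTDim Groth.Agent.Helper16.FibMod Groth.Agent.Helper16.FibModCore

/-- the fibre module at a point of the support is nonzero. -/
theorem nontrivial_fibLocMod {A B : Type u} [CommRing A] [CommRing B] [Algebra A B]
    (M : Type u) [AddCommGroup M] [Module B M] [Module.Finite B M] (q : PrimeSpectrum B)
    (h : q ∈ Module.support B M) : Nontrivial (EGA4.FibLocMod A B q.asIdeal M) := by
  rw [Module.mem_support_iff] at h
  haveI := h
  haveI : q.asIdeal.LiesOver (q.asIdeal.comap (algebraMap A B)) := ⟨rfl⟩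
  have hle := map_le_maximalIdeal (q.asIdeal.comap (algebraMap A B)) q.asIdeal
  rw [Submodule.Quotient.nontrivial_iff]
  exact (Submodule.top_ne_ideal_smul_of_le_jacobson_annihilator
    (hle.trans (IsLocalRing.maximalIdeal_le_jacobson _))).symm

/-- the depth of the fibre module at a point of the support is finite. -/
theorem adepth_ne_top_of_mem_support {A B : Type u} [CommRing A] [CommRing B] [Algebra A B]
    [IsNoetherianRing B]
    (M : Type u) [AddCommGroup M] [Module B M] [Module.Finite B M] (q : PrimeSpectrum B)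
    (h : q ∈ Module.support B M) : adepth A B q.asIdeal M ≠ ⊤ := by
  haveI := nontrivial_fibLocMod (A := A) M q h
  haveI : IsNoetherianRing (Localization.AtPrime q.asIdeal) :=
    IsLocalization.isNoetherianRing q.asIdeal.primeCompl _ inferInstance
  have h1 := depth_le_supportDim (R := Localization.AtPrime q.asIdeal)
    (EGA4.FibLocMod A B q.asIdeal M)
  obtain ⟨s, hs⟩ := exists_nat_supportDim (R := Localization.AtPrime q.asIdeal)
    (EGA4.FibLocMod A B q.asIdeal M)
  intro htop
  unfold adepth at htop
  rw [htop, hs] at h1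
  have h2 : ((⊤ : ℕ∞) : WithBot ℕ∞) ≤ ((s : ℕ∞) : WithBot ℕ∞) := by exact_mod_cast h1
  exact absurd (top_le_iff.mp (WithBot.coe_le_coe.mp h2)) (ENat.natCast_ne_top s)

/-- the level set of the rectified depth of the fibre modules. -/
def rdLevel (n : ℕ∞) (A B : Type u) [CommRing A] [CommRing B] [Algebra A B]
    (M : Type u) [AddCommGroup M] [Module B M] : Set (PrimeSpectrum B) :=
  {q | adepth A B q.asIdeal M + (td (specMap A B) q : ℕ∞) = n}

theorem rdLevel_bc (n : ℕ∞) (A₀ A B₀ B : Type u) [CommRing A₀] [CommRing A] [CommRing B₀]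
    [CommRing B] [Algebra A₀ A] [Algebra A₀ B₀] [Algebra A B] [Algebra B₀ B] [Algebra A₀ B]
    [IsScalarTower A₀ A B] [IsScalarTower A₀ B₀ B] (hpo : Algebra.IsPushout A₀ A B₀ B)
    [Algebra.FiniteType A₀ B₀]
    (M₀ : Type u) [AddCommGroup M₀] [Module B₀ M₀] [Module.Finite B₀ M₀]
    (M : Type u) [AddCommGroup M] [Module B M] [Module B₀ M] [IsScalarTower B₀ B M]
    (φ : M₀ →ₗ[B₀] M) (hφ : IsBaseChange B φ) :
    PrimeSpectrum.comap (algebraMap B₀ B) ⁻¹' rdLevel n A₀ B₀ M₀ = rdLevel n A B M := by
  ext q
  obtain ⟨d, hd1, hd2⟩ := adepth_td_baseChange A₀ A B₀ B hpo M₀ M φ hφ q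
  unfold rdLevel
  rw [Set.mem_preimage, Set.mem_ofPred_eq, Set.mem_ofPred_eq, ← hd2, hd1]
  change adepth A₀ B₀ (q.asIdeal.comap _) M₀ + _ = n ↔ _
  push_cast
  rw [add_assoc, add_comm (d : ℕ∞)]

theorem rdLevel_consFlat (n : ℕ∞) (A B : Type u) [CommRing A] [CommRing B] [Algebra A B]
    [IsNoetherianRing A] [Algebra.FiniteType A B] (M : Type u) [AddCommGroup M] [Module B M]
    [Module A M] [IsScalarTower A B M] [Module.Finite B M] [Module.Flat A M] :
    IsConstructible (rdLevel n A B M) := by
  haveI : IsNoetherianRing B := Algebra.FiniteType.isNoetherianRing A B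
  induction n using ENat.recTopCoe with
  | top =>
    have hset : rdLevel ⊤ A B M = (Module.support B M)ᶜ := by
      ext q
      unfold rdLevel
      rw [Set.mem_ofPred_eq, Set.mem_compl_iff]
      constructor
      · intro h hq
        have h1 := adepth_ne_top_of_mem_support (A := A) M q hq
        rw [ENat.add_eq_top] at h
        rcases h with h | h
        · exact h1 h
        · exact ENat.natCast_ne_top _ h
      · intro hq
        rw [adepth_eq_top_of_notMem_support M q hq, top_add]
    rw [hset]
    exact Groth.Agent.Helper4.Constr.isConstructible_of_isOpen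
      Module.isClosed_support.isOpen_compl
  | coe k =>
    have h1 := isOpen_rdepth_ge_noeth A B M k
    have h2 := isOpen_rdepth_ge_noeth A B M (k + 1)
    have hset : rdLevel (k : ℕ∞) A B M =
        {q : PrimeSpectrum B | (k : ℕ∞) ≤ adepth A B q.asIdeal M +
          (td (specMap A B) q : ℕ∞)} ∩
        {q : PrimeSpectrum B | ((k + 1 : ℕ) : ℕ∞) ≤ adepth A B q.asIdeal M +
          (td (specMap A B) q : ℕ∞)}ᶜ := by
      ext q
      unfold rdLevel
      rw [Set.mem_inter_iff, Set.mem_compl_iff, Set.mem_ofPred_eq, Set.mem_ofPred_eq,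
        Set.mem_ofPred_eq]
      constructor
      · intro h
        rw [h]
        refine ⟨le_rfl, ?_⟩
        intro hle
        have : (k + 1 : ℕ) ≤ k := by exact_mod_cast hle
        omega
      · rintro ⟨h3, h4⟩
        refine le_antisymm ?_ h3
        rw [not_le] at h4
        have := ENat.lt_add_one_iff (ENat.natCast_ne_top k) |>.mp (by exact_mod_cast h4)
        exact this
    rw [hset]
    exact (Groth.Agent.Helper4.Constr.isConstructible_of_isOpen h1).inter
      (Groth.Agent.Helper4.Constr.isConstructible_of_isOpen h2).compl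

/-- the level sets of the rectified depth as a `ModLocus`. -/
def rdLocus (n : ℕ∞) : ModLocus.{u} where
  L := fun A B _ _ _ M _ _ => rdLevel n A B M
  bc := fun A₀ A B₀ B _ _ _ _ _ _ _ _ _ _ _ hpo _ M₀ _ _ _ M _ _ _ _ φ hφ =>
    rdLevel_bc n A₀ A B₀ B hpo M₀ M φ hφ
  consFlat := fun A B _ _ _ _ _ M _ _ _ _ _ _ => rdLevel_consFlat n A B M

/-- **Constructibility of the level sets of the rectified depth of the fibre modules**:
affine case. -/
theorem isConstructible_rdLevel (n : ℕ∞) (A B : Type u) [CommRing A] [CommRing B] [Algebra A B]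
    [Algebra.FinitePresentation A B] (M : Type u) [AddCommGroup M] [Module B M]
    [Module.FinitePresentation B M] : IsConstructible (rdLevel n A B M) :=
  (rdLocus n).isConstructible A B M

end Groth.Agent.Helper16.ModCons
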