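import Mathlib

/-!
# The group algebra of a commutative group is free over the group algebra of a subgroup (helper16)
-/

set_option autoImplicit false
open scoped Classical

noncomputable section

namespace Groth.Agent.Helper16.MonAlgFree

variable (R : Type*) [CommRing R] {G G' : Type*} [CommGroup G] [CommGroup G'] (f : G →* G')

/-- the induced ring hom of group algebras -/
abbrev rho : MonoidAlgebra R G →+* MonoidAlgebra R G' :=
  (MonoidAlgebra.mapDomainAlgHom R R f).toRingHom

theorem rho_single (g : G) (r : R) :
    rho R f (MonoidAlgebra.single g r) = MonoidAlgebra.single (f g) r := by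
  simp [rho]

/-- coset representatives -/
def rep (q : G' ⧸ f.range) : G' := Quotient.out q

theorem mk_rep (q : G' ⧸ f.range) : (QuotientGroup.mk (rep f q) : G' ⧸ f.range) = q :=
  Quotient.out_eq q

/-- `(q, g) ↦ rep q * f g` -/
def sig (p : (G' ⧸ f.range) × G) : G' := rep f p.1 * f p.2

theorem sig_bijective (hf : Function.Injective f) : Function.Bijective (sig f) := by
  constructor
  · rintro ⟨q, g⟩ ⟨q', g'⟩ h
    simp only [sig] at h
    have hq : q = q' := by
      have h1 : (QuotientGroup.mk (rep f q * f g) : G' ⧸ f.range) = q := by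
        rw [QuotientGroup.mk_mul, mk_rep]
        have : (QuotientGroup.mk (f g) : G' ⧸ f.range) = 1 :=
          (QuotientGroup.eq_one_iff _).mpr ⟨g, rfl⟩
        rw [this, mul_one]
      have h2 : (QuotientGroup.mk (rep f q' * f g') : G' ⧸ f.range) = q' := by
        rw [QuotientGroup.mk_mul, mk_rep]
        have : (QuotientGroup.mk (f g') : G' ⧸ f.range) = 1 :=
          (QuotientGroup.eq_one_iff _).mpr ⟨g', rfl⟩
        rw [this, mul_one]
      rw [← h1, ← h2, h]
    subst hq
    have := mul_left_cancel h
    rw [hf this]
  · intro n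
    have h1 : (QuotientGroup.mk ((rep f (QuotientGroup.mk n))⁻¹ * n) : G' ⧸ f.range) = 1 := by
      rw [QuotientGroup.mk_mul, QuotientGroup.mk_inv, mk_rep, inv_mul_cancel]
    obtain ⟨g, hg⟩ := (QuotientGroup.eq_one_iff _).mp h1
    refine ⟨(QuotientGroup.mk n, g), ?_⟩
    simp only [sig]
    rw [hg, mul_inv_cancel_left]

section Phi

variable {Q : Type*}

/-- the `R`-linear equivalence induced by a bijection `Q × G ≃ G'` -/
def Phi (σ : (Q × G) ≃ G') : (Q →₀ MonoidAlgebra R G) ≃ₗ[R] MonoidAlgebra R G' :=
  (Finsupp.mapRange.linearEquiv (MonoidAlgebra.coeffLinearEquiv R)) ≪≫ₗ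
    (Finsupp.curryLinearEquiv R).symm ≪≫ₗ Finsupp.domLCongr σ ≪≫ₗ
      (MonoidAlgebra.coeffLinearEquiv R).symm

theorem Phi_single (σ : (Q × G) ≃ G') (q : Q) (g : G) (r : R) :
    Phi R σ (Finsupp.single q (MonoidAlgebra.single g r)) = MonoidAlgebra.single (σ (q, g)) r := by
  have h1 : (Finsupp.curryLinearEquiv R).symm (Finsupp.single q (Finsupp.single g r)) =
      Finsupp.single (q, g) r := by
    change (Finsupp.single q (Finsupp.single g r)).uncurry = _
    exact Finsupp.uncurry_single q g r
  simp only [Phi, LinearEquiv.trans_apply]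
  have h0 : (Finsupp.mapRange.linearEquiv (MonoidAlgebra.coeffLinearEquiv (S := R) (M := G) R))
      (Finsupp.single q (MonoidAlgebra.single g r)) = Finsupp.single q (Finsupp.single g r) := by
    simp
  rw [h0, h1]
  simp

end Phi

/-- the `R[G]`-linear map `⊕_{q} R[G] ⟶ R[G']`, `e_q ↦ [rep q]` -/
def Psi : letI := (rho R f).toAlgebra
    ((G' ⧸ f.range) →₀ MonoidAlgebra R G) →ₗ[MonoidAlgebra R G] MonoidAlgebra R G' :=
  letI := (rho R f).toAlgebra
  Finsupp.linearCombination (MonoidAlgebra R G)
    (fun q : G' ⧸ f.range => (MonoidAlgebra.single (rep f q) (1 : R) : MonoidAlgebra R G'))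

theorem Psi_single (q : G' ⧸ f.range) (a : MonoidAlgebra R G) :
    Psi R f (Finsupp.single q a) = rho R f a * MonoidAlgebra.single (rep f q) (1 : R) := by
  letI := (rho R f).toAlgebra
  unfold Psi
  rw [Finsupp.linearCombination_single]
  rfl

theorem Psi_eq_Phi (hf : Function.Injective f) (x : (G' ⧸ f.range) →₀ MonoidAlgebra R G) :
    Psi R f x = Phi R (Equiv.ofBijective (sig f) (sig_bijective f hf)) x := by
  letI := (rho R f).toAlgebra
  induction x using Finsupp.induction_linear with
  | zero => simp
  | add x y hx hy => rw [map_add, map_add, hx, hy]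
  | single q a =>
    induction a using MonoidAlgebra.induction_linear with
    | zero => simp
    | add a b ha hb =>
      rw [Finsupp.single_add, map_add, map_add, ha, hb]
    | single g r =>
      rw [Psi_single, Phi_single, rho_single, MonoidAlgebra.single_mul_single, mul_one]
      congr 1
      simp only [Equiv.ofBijective_apply, sig]
      exact mul_comm _ _

theorem Psi_bijective (hf : Function.Injective f) : Function.Bijective (Psi R f) := by
  have h : ⇑(Psi R f) = ⇑(Phi R (Equiv.ofBijective (sig f) (sig_bijective f hf))) :=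
    funext (Psi_eq_Phi R f hf)
  rw [h]
  exact LinearEquiv.bijective _

/-- `R[G']` is free over `R[G]` for an injective homomorphism of commutative groups `G → G'` -/
theorem free_of_injective (hf : Function.Injective f) :
    letI := (rho R f).toAlgebra
    Module.Free (MonoidAlgebra R G) (MonoidAlgebra R G') := by
  letI := (rho R f).toAlgebra
  exact Module.Free.of_equiv (LinearEquiv.ofBijective (Psi R f) (Psi_bijective R f hf))

theorem faithfullyFlat_of_injective [Nontrivial R] (hf : Function.Injective f) :
    (rho R f).FaithfullyFlat := by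
  letI := (rho R f).toAlgebra
  haveI := free_of_injective R f hf
  have : Module.FaithfullyFlat (MonoidAlgebra R G) (MonoidAlgebra R G') := inferInstance
  exact this

end Groth.Agent.Helper16.MonAlgFree
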