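import Mathlib.RingTheory.Kaehler.TensorProduct
import Mathlib.RingTheory.Unramified.Basic
import Mathlib.RingTheory.Nakayama
import Mathlib.RingTheory.IsTensorProduct
import Mathlib.LinearAlgebra.TensorProduct.Quotient
import Mathlib.RingTheory.Nilpotent.Lemmas
import Mathlib.RingTheory.Kaehler.Basic
import Mathlib.RingTheory.FiniteType

set_option autoImplicit false
set_option linter.style.haveILetI false
universe u
open TensorProduct

namespace Groth.Agent.Helper16.NilUnram

/-- If `R → B` is surjective with kernel in the Jacobson radical and `M` is a finite `R`-module with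
`B ⊗ M = 0`, then `M = 0`. -/
theorem subsingleton_of_subsingleton_tensor {R B M : Type*} [CommRing R] [CommRing B] [Algebra R B]
    [AddCommGroup M] [Module R M] [Module.Finite R M]
    (hsurj : Function.Surjective (algebraMap R B))
    (hK : RingHom.ker (algebraMap R B) ≤ Ideal.jacobson ⊥)
    [Subsingleton (B ⊗[R] M)] : Subsingleton M := by
  set K := RingHom.ker (algebraMap R B) with hKdef
  have hsurj' : Function.Surjective (Algebra.ofId R B) := hsurj
  let e₁ : (R ⧸ RingHom.ker (Algebra.ofId R B)) ≃ₐ[R] B :=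
    Ideal.quotientKerAlgEquivOfSurjective hsurj'
  have hker : RingHom.ker (Algebra.ofId R B) = K := rfl
  let e₂ : (R ⧸ RingHom.ker (Algebra.ofId R B)) ⊗[R] M ≃ₗ[R] B ⊗[R] M :=
    TensorProduct.congr e₁.toLinearEquiv (LinearEquiv.refl R M)
  let e₃ := TensorProduct.quotTensorEquivQuotSMul M (RingHom.ker (Algebra.ofId R B))
  haveI : Subsingleton (M ⧸ (RingHom.ker (Algebra.ofId R B) • ⊤ : Submodule R M)) :=
    (e₃.symm.trans e₂).toEquiv.subsingleton
  have htop : (RingHom.ker (Algebra.ofId R B) • ⊤ : Submodule R M) = ⊤ :=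
    Submodule.Quotient.subsingleton_iff.1 inferInstance
  have hbot : (⊤ : Submodule R M) = ⊥ :=
    Submodule.eq_bot_of_le_smul_of_le_jacobson_bot (RingHom.ker (Algebra.ofId R B)) ⊤
      Module.Finite.fg_top (by rw [htop]) (by rw [hker]; exact hK)
  exact (Submodule.subsingleton_iff R).1 (subsingleton_of_bot_eq_top hbot.symm)

section

variable {A' A B' B : Type u} [CommRing A'] [CommRing A] [CommRing B'] [CommRing B]
  [Algebra A' A] [Algebra A' B'] [Algebra A B] [Algebra B' B] [Algebra A' B]
  [IsScalarTower A' A B] [IsScalarTower A' B' B] [Algebra.IsPushout A' A B' B]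

/-- In a pushout along a surjection, the other leg is surjective. -/
theorem surjective_of_isPushout (hsurj : Function.Surjective (algebraMap A' A)) :
    Function.Surjective (algebraMap B' B) := by
  intro b
  have h := (Algebra.IsPushout.out : IsBaseChange A (IsScalarTower.toAlgHom A' B' B).toLinearMap)
  induction b using h.inductionOn with
  | zero => exact ⟨0, map_zero _⟩
  | tmul m => exact ⟨m, rfl⟩
  | smul a b hb =>
    obtain ⟨b', rfl⟩ := hb
    obtain ⟨a', rfl⟩ := hsurj a
    refine ⟨a' • b', ?_⟩
    rw [Algebra.smul_def, map_mul, ← IsScalarTower.algebraMap_apply, algebraMap_smul,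
      Algebra.smul_def]
  | add b₁ b₂ h₁ h₂ =>
    obtain ⟨x, rfl⟩ := h₁
    obtain ⟨y, rfl⟩ := h₂
    exact ⟨x + y, map_add _ _ _⟩

/-- In a pushout along a surjection with nil kernel, the other leg has nil kernel. -/
theorem ker_le_nilradical_of_isPushout (hsurj : Function.Surjective (algebraMap A' A))
    (hnil : RingHom.ker (algebraMap A' A) ≤ nilradical A') :
    RingHom.ker (algebraMap B' B) ≤ nilradical B' := by
  intro b hb
  rw [nilradical_eq_sInf, Ideal.mem_sInf]
  intro P hP
  haveI : P.IsPrime := hP
  -- the map `A → B'/P`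
  have hker : ∀ a : A', algebraMap A' A a = 0 → ((Ideal.Quotient.mk P).comp (algebraMap A' B')) a = 0 := by
    intro a ha
    have h1 : IsNilpotent a := hnil ha
    have h2 : IsNilpotent (((Ideal.Quotient.mk P).comp (algebraMap A' B')) a) := h1.map _
    exact h2.eq_zero
  let φ : A →+* B' ⧸ P := RingHom.liftOfSurjective (algebraMap A' A) hsurj
    ⟨(Ideal.Quotient.mk P).comp (algebraMap A' B'), hker⟩
  have hφ : ∀ a : A', φ (algebraMap A' A a) = Ideal.Quotient.mk P (algebraMap A' B' a) := by
    intro a
    exact RingHom.liftOfRightInverse_comp_apply _ _ _ _ a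
  letI : Algebra A (B' ⧸ P) := φ.toAlgebra
  haveI : IsScalarTower A' A (B' ⧸ P) := IsScalarTower.of_algebraMap_eq (fun a => by
    rw [RingHom.algebraMap_toAlgebra, hφ]; rfl)
  let f : A →ₐ[A'] B' ⧸ P := IsScalarTower.toAlgHom A' A (B' ⧸ P)
  let g : B' →ₐ[A'] B' ⧸ P := IsScalarTower.toAlgHom A' B' (B' ⧸ P)
  let d := Algebra.pushoutDesc B f g (fun _ _ => mul_comm _ _)
  have hd : ∀ x : B', d (algebraMap B' B x) = g x := Algebra.pushoutDesc_right B f g _
  have : g b = 0 := by rw [← hd, (RingHom.mem_ker).1 hb, map_zero]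
  exact Ideal.Quotient.eq_zero_iff_mem.1 this

/-- Formal unramifiedness lifts along a nil thickening of the base, for algebras of finite type. -/
theorem formallyUnramified_of_nil_thickening [Algebra.FiniteType A' B']
    (hsurj : Function.Surjective (algebraMap A' A))
    (hnil : RingHom.ker (algebraMap A' A) ≤ nilradical A')
    [Algebra.FormallyUnramified A B] : Algebra.FormallyUnramified A' B' := by
  have hsB := surjective_of_isPushout (A' := A') (A := A) (B' := B') (B := B) hsurj
  have hkB := ker_le_nilradical_of_isPushout (A' := A') (A := A) (B' := B') (B := B) hsurj hnil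
  have hkJ : RingHom.ker (algebraMap B' B) ≤ Ideal.jacobson ⊥ := by
    intro x hx
    obtain ⟨n, hn⟩ := hkB hx
    rw [Ideal.jacobson, Ideal.mem_sInf]
    rintro J ⟨-, hJ⟩
    exact hJ.isPrime.mem_of_pow_mem n (hn ▸ J.zero_mem)
  haveI : Subsingleton (B ⊗[B'] Ω[B'⁄A']) :=
    (KaehlerDifferential.tensorKaehlerEquiv A' A B' B).toEquiv.subsingleton
  haveI : Subsingleton Ω[B'⁄A'] := subsingleton_of_subsingleton_tensor (B := B) hsB hkJ
  exact ⟨inferInstance⟩

end

end Groth.Agent.Helper16.NilUnram
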