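import Mathlib
import Groth.Agent.Lib.Helper7.TopDim
import Groth.Agent.Lib.Helper11.DimLift

set_option autoImplicit false
universe u

namespace Groth.Agent.Helper16.NormLoc

open Polynomial IntermediateField

section
variable (A B K L : Type u) [CommRing A] [IsDomain A] [CommRing B] [IsDomain B] [Algebra A B]
    [Field K] [Field L] [Algebra A K] [IsFractionRing A K] [Algebra B L] [IsFractionRing B L]
    [Algebra A L] [Algebra K L] [IsScalarTower A B L] [IsScalarTower A K L]
    [FiniteDimensional K L] [Algebra.IsIntegral A B] [IsIntegrallyClosed A]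

include K L in
theorem exists_pow_eq (b : B) (a : A)
    (ha : algebraMap A K a = Algebra.norm K (algebraMap B L b)) :
    ∃ (c : A) (e n : ℕ), e ≠ 0 ∧ algebraMap A B c ∈ Ideal.span ({b} : Set B) ∧
      a = ((-1) ^ n * c) ^ e := by
  have hb : IsIntegral A b := Algebra.IsIntegral.isIntegral b
  set β : L := algebraMap B L b with hβ
  have hβK : IsIntegral K β := (hb.algebraMap (B := L)).tower_top
  have hmin : minpoly K β = (minpoly A b).map (algebraMap A K) :=
    minpoly.isIntegrallyClosed_eq_field_fractions K L hb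
  refine ⟨(minpoly A b).coeff 0, Module.finrank K⟮β⟯ L, (minpoly A b).natDegree,
    Module.finrank_pos.ne', ?_, ?_⟩
  · -- c ∈ span{b}
    have h0 : aeval b (minpoly A b) = 0 := minpoly.aeval A b
    have h1 := Polynomial.divX_mul_X_add (minpoly A b)
    rw [← h1] at h0
    simp only [map_add, map_mul, aeval_X, aeval_C] at h0
    rw [Ideal.mem_span_singleton']
    refine ⟨- aeval b (minpoly A b).divX, ?_⟩
    linear_combination (-1 : B) * h0
  · apply IsFractionRing.injective A K
    rw [ha, Algebra.norm_eq_norm_adjoin K β, map_pow]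
    congr 1
    have h2 := Algebra.PowerBasis.norm_gen_eq_coeff_zero_minpoly (adjoin.powerBasis hβK)
    rw [adjoin.powerBasis_gen, adjoin.powerBasis_dim, IntermediateField.minpoly_gen, hmin] at h2
    rw [h2, natDegree_map_eq_of_injective (IsFractionRing.injective A K), coeff_map]
    simp

include K L in
theorem pow_mem_span (b : B) (a : A)
    (ha : algebraMap A K a = Algebra.norm K (algebraMap B L b)) (x : A)
    (hx : algebraMap A B x ∈ Ideal.span ({b} : Set B)) :
    x ^ Module.finrank K L ∈ Ideal.span ({a} : Set A) := by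
  rw [Ideal.mem_span_singleton'] at hx
  obtain ⟨y, hy⟩ := hx
  have hyint : IsIntegral A (algebraMap B L y) :=
    (Algebra.IsIntegral.isIntegral (R := A) y).algebraMap
  have hN : IsIntegral A (Algebra.norm K (algebraMap B L y)) := Algebra.isIntegral_norm K hyint
  obtain ⟨ay, hay⟩ := IsIntegrallyClosed.isIntegral_iff.mp hN
  rw [Ideal.mem_span_singleton']
  refine ⟨ay, ?_⟩
  apply IsFractionRing.injective A K
  rw [map_mul, hay, ha, ← map_mul, ← map_mul, hy, ← IsScalarTower.algebraMap_apply,
    IsScalarTower.algebraMap_apply A K L, Algebra.norm_algebraMap, map_pow]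

include K L in
theorem image_zeroLocus (hinj : Function.Injective (algebraMap A B)) (b : B) (a : A)
    (ha : algebraMap A K a = Algebra.norm K (algebraMap B L b)) :
    PrimeSpectrum.comap (algebraMap A B) '' PrimeSpectrum.zeroLocus ({b} : Set B) =
        PrimeSpectrum.zeroLocus ({a} : Set A) := by
  apply Set.Subset.antisymm
  · rintro _ ⟨q, hq, rfl⟩
    rw [PrimeSpectrum.mem_zeroLocus, Set.singleton_subset_iff] at hq ⊢
    obtain ⟨c, e, n, he, hc, hac⟩ := exists_pow_eq A B K L b a ha
    have hcq : algebraMap A B c ∈ q.asIdeal :=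
      (Ideal.span_singleton_le_iff_mem (I := q.asIdeal)).mpr hq hc
    have hcp : c ∈ (PrimeSpectrum.comap (algebraMap A B) q).asIdeal := hcq
    show a ∈ (PrimeSpectrum.comap (algebraMap A B) q).asIdeal
    rw [hac]
    exact Ideal.pow_mem_of_mem _ (Ideal.mul_mem_left _ _ hcp) e (Nat.pos_of_ne_zero he)
  · intro p hp
    rw [PrimeSpectrum.mem_zeroLocus, Set.singleton_subset_iff] at hp
    have hle : (Ideal.span ({b} : Set B)).comap (algebraMap A B) ≤ p.asIdeal := by
      intro x hx
      have h1 := pow_mem_span A B K L b a ha x hx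
      have h2 : x ^ Module.finrank K L ∈ p.asIdeal :=
        (Ideal.span_singleton_le_iff_mem (I := p.asIdeal)).mpr hp h1
      exact p.2.mem_of_pow_mem _ h2
    obtain ⟨Q, hQ1, hQ2, hQ3⟩ :=
      Ideal.exists_ideal_over_prime_of_isIntegral p.asIdeal (Ideal.span ({b} : Set B)) hle
    refine ⟨⟨Q, hQ2⟩, ?_, PrimeSpectrum.ext hQ3⟩
    rw [PrimeSpectrum.mem_zeroLocus, Set.singleton_subset_iff]
    exact hQ1 (Ideal.subset_span rfl)

include K L in
theorem dim_zeroLocus (hinj : Function.Injective (algebraMap A B)) (b : B) (a : A)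
    (ha : algebraMap A K a = Algebra.norm K (algebraMap B L b)) :
    topologicalKrullDim ↥(PrimeSpectrum.zeroLocus ({b} : Set B)) =
        topologicalKrullDim ↥(PrimeSpectrum.zeroLocus ({a} : Set A)) := by
  have himg := image_zeroLocus A B K L hinj b a ha
  have hmaps : Set.MapsTo (PrimeSpectrum.comap (algebraMap A B))
      (PrimeSpectrum.zeroLocus ({b} : Set B)) (PrimeSpectrum.zeroLocus ({a} : Set A)) := by
    intro q hq
    rw [← himg]
    exact ⟨q, hq, rfl⟩
  let ψ := hmaps.restrict
  have hψc : Continuous ψ := (PrimeSpectrum.continuous_comap _).restrict hmaps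
  haveI : QuasiSober ↥(PrimeSpectrum.zeroLocus ({b} : Set B)) :=
    (PrimeSpectrum.isClosed_zeroLocus _).isClosedEmbedding_subtypeVal.quasiSober
  haveI : QuasiSober ↥(PrimeSpectrum.zeroLocus ({a} : Set A)) :=
    (PrimeSpectrum.isClosed_zeroLocus _).isClosedEmbedding_subtypeVal.quasiSober
  apply le_antisymm
  · refine Groth.Agent.Helper7.TopDim.topologicalKrullDim_le_of_fiber_antisymm hψc ?_
    intro Q Q' hQ hφQ
    rw [subtype_specializes_iff] at hQ
    have hle : Q'.1.asIdeal ≤ Q.1.asIdeal := (PrimeSpectrum.le_iff_specializes Q'.1 Q.1).2 hQ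
    by_contra hne
    have hlt : Q'.1.asIdeal < Q.1.asIdeal :=
      lt_of_le_of_ne hle (fun h => hne (Subtype.ext (PrimeSpectrum.ext h.symm)))
    have h1 := Ideal.IsIntegral.comap_lt_comap (R := A) hlt
    have h2 : Q.1.asIdeal.comap (algebraMap A B) = Q'.1.asIdeal.comap (algebraMap A B) :=
      congrArg (fun z => PrimeSpectrum.asIdeal (Subtype.val z)) hφQ
    exact h1.ne h2.symm
  · refine Groth.Agent.Helper11.topologicalKrullDim_le_of_surjective_of_lift hψc ?_ (Or.inl ?_)
    · rintro ⟨p, hp⟩
      rw [← himg] at hp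
      obtain ⟨q, hq, hqp⟩ := hp
      exact ⟨⟨q, hq⟩, Subtype.ext hqp⟩
    · intro Q p' hsp
      replace hsp : ψ Q ⤳ p' := hsp
      rw [subtype_specializes_iff] at hsp
      have hle : Q.1.asIdeal.comap (algebraMap A B) ≤ p'.1.asIdeal :=
        (PrimeSpectrum.le_iff_specializes _ _).2 hsp
      obtain ⟨Q', hQ1, hQ2, hQ3⟩ :=
        Ideal.exists_ideal_over_prime_of_isIntegral p'.1.asIdeal Q.1.asIdeal hle
      have hbQ' : (⟨Q', hQ2⟩ : PrimeSpectrum B) ∈ PrimeSpectrum.zeroLocus ({b} : Set B) := by
        have hbQ := Q.2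
        rw [PrimeSpectrum.mem_zeroLocus, Set.singleton_subset_iff] at hbQ ⊢
        exact hQ1 hbQ
      refine ⟨⟨⟨Q', hQ2⟩, hbQ'⟩, ?_, Subtype.ext (PrimeSpectrum.ext hQ3)⟩
      show Q ⤳ _
      rw [subtype_specializes_iff]
      exact (PrimeSpectrum.le_iff_specializes _ _).1 hQ1
end

end Groth.Agent.Helper16.NormLoc
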