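import Mathlib

set_option autoImplicit false
set_option linter.style.haveILetI false
universe u

open IsLocalRing

namespace Groth.Agent.Helper16.OmegaCot

variable {k A R D : Type*} [Field k] [CommRing A] [CommRing R] [CommRing D]
  [IsLocalRing R] [IsLocalRing D] [Algebra k A] [Algebra A R] [Algebra k R] [IsScalarTower k A R]

/-- the "value at the closed point" ring hom `R → k`. -/
noncomputable def val (hk : Function.Surjective (algebraMap k (ResidueField R))) : R →+* k :=
  ((RingEquiv.ofBijective (algebraMap k (ResidueField R))
    ⟨(algebraMap k (ResidueField R)).injective, hk⟩).symm : ResidueField R →+* k).comp (residue R)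

theorem algebraMap_val (hk : Function.Surjective (algebraMap k (ResidueField R))) (r : R) :
    algebraMap k (ResidueField R) (val hk r) = residue R r := by
  unfold val
  exact (RingEquiv.ofBijective (algebraMap k (ResidueField R))
    ⟨(algebraMap k (ResidueField R)).injective, hk⟩).apply_symm_apply (residue R r)

theorem sub_val_mem (hk : Function.Surjective (algebraMap k (ResidueField R))) (r : R) :
    r - algebraMap k R (val hk r) ∈ maximalIdeal R := by
  rw [← IsLocalRing.residue_eq_zero_iff, map_sub, sub_eq_zero, ← algebraMap_val hk r]
  rfl

theorem val_eq_zero (hk : Function.Surjective (algebraMap k (ResidueField R))) (r : R)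
    (hr : r ∈ maximalIdeal R) : val hk r = 0 := by
  apply (algebraMap k (ResidueField R)).injective
  rw [algebraMap_val, map_zero, IsLocalRing.residue_eq_zero_iff]
  exact hr

theorem val_algebraMap (hk : Function.Surjective (algebraMap k (ResidueField R))) (c : k) :
    val hk (algebraMap k R c) = c := by
  apply (algebraMap k (ResidueField R)).injective
  rw [algebraMap_val]
  rfl

end Groth.Agent.Helper16.OmegaCot
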