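import Mathlib
import Groth.Agent.Lib.Helper16.Alg.OmegaCot

set_option autoImplicit false
set_option linter.style.haveILetI false
universe u

open IsLocalRing KaehlerDifferential

namespace Groth.Agent.Helper16.OmegaCot

variable {k A R D : Type*} [Field k] [CommRing A] [CommRing R] [CommRing D]
  [IsLocalRing R] [IsLocalRing D] [Algebra k A] [Algebra A R] [Algebra k R] [IsScalarTower k A R]

/-- a finite `R`-module killed by the maximal ideal is finite over `k` when `k → κ(R)` is onto. -/
theorem finite_of_killed (hk : Function.Surjective (algebraMap k (ResidueField R)))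
    {Q : Type*} [AddCommGroup Q] [Module R Q] [Module.Finite R Q]
    (hQ : ∀ a ∈ maximalIdeal R, ∀ q : Q, a • q = 0) :
    letI : Module k Q := Module.compHom Q (algebraMap k R)
    Module.Finite k Q := by
  letI : Module k Q := Module.compHom Q (algebraMap k R)
  obtain ⟨S, hS⟩ := (Module.Finite.fg_top : (⊤ : Submodule R Q).FG)
  refine ⟨⟨S, ?_⟩⟩
  let N : Submodule R Q :=
    { carrier := (Submodule.span k (S : Set Q) : Set Q)
      add_mem' := fun ha hb => Submodule.add_mem _ ha hb
      zero_mem' := Submodule.zero_mem _
      smul_mem' := by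
        intro r v hv
        have h1 : r • v = (val hk r) • v := by
          change r • v = algebraMap k R (val hk r) • v
          have := hQ _ (sub_val_mem hk r) v
          rw [sub_smul, sub_eq_zero] at this
          exact this
        rw [h1]
        exact Submodule.smul_mem _ _ hv }
  have hN : N = ⊤ := by
    rw [eq_top_iff, ← hS, Submodule.span_le]
    intro s hs
    exact Submodule.subset_span hs
  rw [eq_top_iff]
  intro q _
  have : q ∈ N := by rw [hN]; trivial
  exact this

/-- the surjection `Ω_{R/A} → m_D/m_D²`. -/
theorem exists_surjective_to_cotangent (φ : R →+* D) (hφ : Function.Surjective φ)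
    (hk : Function.Surjective (algebraMap k (ResidueField R)))
    (hA : ∀ a : A, algebraMap A R a ∈ maximalIdeal R → φ (algebraMap A R a) = 0) :
    letI : Module R (CotangentSpace D) := Module.compHom _ φ
    ∃ ψ : Ω[R⁄A] →ₗ[R] CotangentSpace D, Function.Surjective ψ := by
  letI mRT : Module R (CotangentSpace D) := Module.compHom _ φ
  letI mAT : Module A (CotangentSpace D) := Module.compHom _ (φ.comp (algebraMap A R))
  haveI : IsScalarTower A R (CotangentSpace D) := by
    refine ⟨fun a r t => ?_⟩
    change φ (a • r) • t = φ (algebraMap A R a) • (φ r • t)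
    rw [Algebra.smul_def, map_mul, mul_smul]
  haveI : IsLocalHom φ := IsLocalHom.of_surjective φ hφ
  have hmem : ∀ r : R, φ (r - algebraMap k R (val hk r)) ∈ maximalIdeal D := by
    intro r
    have h1 := sub_val_mem hk r
    intro hu
    exact h1 (isUnit_of_map_unit φ _ hu)
  let d₀ : R → CotangentSpace D := fun r =>
    (maximalIdeal D).toCotangent ⟨φ (r - algebraMap k R (val hk r)), hmem r⟩
  have hadd : ∀ r s, d₀ (r + s) = d₀ r + d₀ s := by
    intro r s
    simp only [d₀]
    rw [← map_add]
    congr 1
    ext
    simp only [map_add, map_sub, Submodule.coe_add]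
    ring
  have hsmul : ∀ (r : R) (y : maximalIdeal D), r • (maximalIdeal D).toCotangent y =
      (maximalIdeal D).toCotangent ⟨φ r * y.1, Ideal.mul_mem_left _ _ y.2⟩ := by
    intro r y
    change φ r • (maximalIdeal D).toCotangent y = _
    rw [← map_smul]
    rfl
  have hleib : ∀ r s, d₀ (r * s) = r • d₀ s + s • d₀ r := by
    intro r s
    simp only [d₀]
    rw [hsmul, hsmul, ← map_add, Ideal.toCotangent_eq]
    have : ((⟨φ (r * s - algebraMap k R (val hk (r * s))), hmem (r * s)⟩ : maximalIdeal D) : D) -
        ((⟨φ r * φ (s - algebraMap k R (val hk s)), Ideal.mul_mem_left _ _ (hmem s)⟩ +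
          ⟨φ s * φ (r - algebraMap k R (val hk r)), Ideal.mul_mem_left _ _ (hmem r)⟩ :
            maximalIdeal D) : D) =
        - (φ (r - algebraMap k R (val hk r)) * φ (s - algebraMap k R (val hk s))) := by
      simp only [Submodule.coe_add, map_sub, map_mul]
      ring
    rw [this, pow_two]
    exact neg_mem (Ideal.mul_mem_mul (hmem r) (hmem s))
  have hzero : ∀ a : A, d₀ (algebraMap A R a) = 0 := by
    intro a
    simp only [d₀]
    rw [Ideal.toCotangent_eq_zero]
    have h1 : algebraMap A R a - algebraMap k R (val hk (algebraMap A R a)) =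
        algebraMap A R (a - algebraMap k A (val hk (algebraMap A R a))) := by
      rw [map_sub, ← IsScalarTower.algebraMap_apply]
    have h2 := sub_val_mem hk (algebraMap A R a)
    rw [h1] at h2
    have h3 := hA _ h2
    simp only
    rw [h1, h3]
    exact zero_mem _
  let d : Derivation A R (CotangentSpace D) :=
    { toFun := d₀
      map_add' := hadd
      map_smul' := by
        intro a r
        change d₀ (a • r) = φ (algebraMap A R a) • d₀ r
        rw [Algebra.smul_def, hleib, hzero, smul_zero, add_zero]
        rfl
      map_one_eq_zero' := by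
        change d₀ 1 = 0
        have := hzero 1
        rwa [map_one] at this
      leibniz' := hleib }
  refine ⟨d.liftKaehlerDifferential, ?_⟩
  intro t
  obtain ⟨⟨y, hy⟩, rfl⟩ := Ideal.toCotangent_surjective _ t
  obtain ⟨r, rfl⟩ := hφ y
  have hr : r ∈ maximalIdeal R := by
    intro hu
    exact hy (hu.map φ)
  refine ⟨KaehlerDifferential.D A R r, ?_⟩
  rw [Derivation.liftKaehlerDifferential_comp_D]
  change d₀ r = _
  simp only [d₀]
  congr 1
  ext
  simp only
  rw [val_eq_zero hk r hr, map_zero, sub_zero]


/-- **Main local inequality**: `dim D ≤ dim_k Ω_{R/A} ⊗ k`. -/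
theorem ringKrullDim_le_finrank [IsNoetherianRing D] (φ : R →+* D) (hφ : Function.Surjective φ)
    (hk : Function.Surjective (algebraMap k (ResidueField R)))
    (hA : ∀ a : A, algebraMap A R a ∈ maximalIdeal R → φ (algebraMap A R a) = 0)
    {W : Type*} [AddCommGroup W] [Module R W] [Module.Finite R W]
    (g : W →ₗ[R] Ω[R⁄A]) (hg : Function.Surjective g) :
    letI : Module k (W ⧸ maximalIdeal R • (⊤ : Submodule R W)) :=
      Module.compHom _ (algebraMap k R)
    ringKrullDim D ≤
      ((Module.finrank k (W ⧸ maximalIdeal R • (⊤ : Submodule R W)) : ℕ) : WithBot ℕ∞) := by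
  letI mkQ : Module k (W ⧸ maximalIdeal R • (⊤ : Submodule R W)) :=
    Module.compHom _ (algebraMap k R)
  letI mRT : Module R (CotangentSpace D) := Module.compHom _ φ
  obtain ⟨ψ₀, hψ₀⟩ := exists_surjective_to_cotangent (k := k) (A := A) φ hφ hk hA
  haveI : IsLocalHom φ := IsLocalHom.of_surjective φ hφ
  have hkill : ∀ a ∈ maximalIdeal R, ∀ t : CotangentSpace D, a • t = 0 := by
    intro a ha t
    change φ a • t = 0
    refine Ideal.Cotangent.smul_eq_zero_of_mem ?_ t
    intro hu
    exact ha (isUnit_of_map_unit φ _ hu)
  let ψ₁ : W →ₗ[R] CotangentSpace D := ψ₀.comp g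
  have hψ₁ : Function.Surjective ψ₁ := hψ₀.comp hg
  have hle : maximalIdeal R • (⊤ : Submodule R W) ≤ LinearMap.ker ψ₁ := by
    rw [Submodule.smul_le]
    intro a ha w _
    rw [LinearMap.mem_ker, map_smul]
    exact hkill a ha _
  let ψ : (W ⧸ maximalIdeal R • (⊤ : Submodule R W)) →ₗ[R] CotangentSpace D :=
    Submodule.liftQ _ ψ₁ hle
  have hψ : Function.Surjective ψ := by
    intro t
    obtain ⟨w, rfl⟩ := hψ₁ t
    exact ⟨Submodule.Quotient.mk w, rfl⟩
  -- k-structure on the cotangent space
  letI mkT : Module k (CotangentSpace D) := Module.compHom _ (φ.comp (algebraMap k R))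
  let ψk : (W ⧸ maximalIdeal R • (⊤ : Submodule R W)) →ₗ[k] CotangentSpace D :=
    { toFun := ψ
      map_add' := ψ.map_add
      map_smul' := by
        intro c v
        change ψ (algebraMap k R c • v) = φ (algebraMap k R c) • ψ v
        rw [ψ.map_smul]
        rfl }
  haveI hfin : Module.Finite k (W ⧸ maximalIdeal R • (⊤ : Submodule R W)) := by
    refine finite_of_killed hk ?_
    intro a ha q
    obtain ⟨w, rfl⟩ := Submodule.Quotient.mk_surjective _ q
    rw [← Submodule.Quotient.mk_smul, Submodule.Quotient.mk_eq_zero]
    exact Submodule.smul_mem_smul ha trivial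
  have h1 : Module.finrank k (CotangentSpace D) ≤
      Module.finrank k (W ⧸ maximalIdeal R • (⊤ : Submodule R W)) :=
    LinearMap.finrank_le_finrank_of_surjective (f := ψk) hψ
  -- compare `k` and `κ(D)` dimensions
  let i : k → ResidueField D := fun c => residue D (φ (algebraMap k R c))
  have hi : Function.Bijective i := by
    constructor
    · exact ((residue D).comp (φ.comp (algebraMap k R))).injective
    · intro z
      obtain ⟨y, rfl⟩ := IsLocalRing.residue_surjective z
      obtain ⟨r, rfl⟩ := hφ y
      refine ⟨val hk r, ?_⟩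
      change residue D (φ (algebraMap k R (val hk r))) = residue D (φ r)
      rw [eq_comm, ← sub_eq_zero, ← map_sub, ← map_sub, IsLocalRing.residue_eq_zero_iff]
      have := sub_val_mem hk r
      intro hu
      exact this (isUnit_of_map_unit φ _ hu)
  have h2 : Module.rank k (CotangentSpace D) = Module.rank (ResidueField D) (CotangentSpace D) := by
    refine rank_eq_of_equiv_equiv i (AddEquiv.refl _) hi ?_
    intro c t
    change φ (algebraMap k R c) • t = residue D (φ (algebraMap k R c)) • t
    rw [← IsLocalRing.ResidueField.algebraMap_eq, algebraMap_smul]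
  have h3 : Module.finrank k (CotangentSpace D) =
      Module.finrank (ResidueField D) (CotangentSpace D) := by
    unfold Module.finrank
    rw [h2]
  have h4 := ringKrullDim_le_spanFinrank_maximalIdeal D
  rw [IsLocalRing.spanFinrank_maximalIdeal_eq_finrank_cotangentSpace, ← h3] at h4
  refine h4.trans ?_
  exact_mod_cast h1

end Groth.Agent.Helper16.OmegaCot
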