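import Mathlib
import Groth.Agent.Lib.Helper16.Alg.OmegaCot2

set_option autoImplicit false
set_option linter.style.haveILetI false
universe u

open IsLocalRing KaehlerDifferential

namespace Groth.Agent.Helper16.OmegaCot

variable {k A B R : Type*} [Field k] [CommRing A] [CommRing B] [CommRing R]
  [IsLocalRing R] [Algebra k A] [Algebra A B] [Algebra B R] [Algebra A R] [Algebra k R]
  [IsScalarTower k A R] [IsScalarTower A B R]

/-- **Global form**: `ht (m/p) ≤ dim_k Ω_{B_m/A} ⊗ k`. -/
theorem height_le_finrank [IsNoetherianRing B] (m p : Ideal B) [m.IsPrime] [p.IsPrime]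
    [IsLocalization.AtPrime R m] (hpm : p ≤ m)
    (hk : Function.Surjective (algebraMap k (ResidueField R)))
    (hA : ∀ a : A, algebraMap A B a ∈ m → algebraMap A B a ∈ p)
    {W : Type*} [AddCommGroup W] [Module R W] [Module.Finite R W]
    (g : W →ₗ[R] Ω[R⁄A]) (hg : Function.Surjective g) :
    letI : Module k (W ⧸ maximalIdeal R • (⊤ : Submodule R W)) :=
      Module.compHom _ (algebraMap k R)
    ((m.map (Ideal.Quotient.mk p)).height : WithBot ℕ∞) ≤
      ((Module.finrank k (W ⧸ maximalIdeal R • (⊤ : Submodule R W)) : ℕ) : WithBot ℕ∞) := by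
  haveI hq : (m.map (Ideal.Quotient.mk p)).IsPrime :=
    Ideal.map_isPrime_of_surjective Ideal.Quotient.mk_surjective (by rw [Ideal.mk_ker]; exact hpm)
  set q := m.map (Ideal.Quotient.mk p) with hqdef
  have hcomap : q.comap (Ideal.Quotient.mk p) = m := by
    rw [hqdef, Ideal.comap_map_of_surjective _ Ideal.Quotient.mk_surjective,
      ← RingHom.ker_eq_comap_bot, Ideal.mk_ker]
    exact sup_eq_left.mpr hpm
  let D := Localization.AtPrime q
  haveI : IsNoetherianRing D := IsLocalization.isNoetherianRing q.primeCompl D inferInstance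
  let g₀ : B →+* D := (algebraMap (B ⧸ p) D).comp (Ideal.Quotient.mk p)
  have hunit : ∀ y : m.primeCompl, IsUnit (g₀ y) := by
    intro y
    have : Ideal.Quotient.mk p y ∈ q.primeCompl := by
      intro h
      have h' : (y : B) ∈ q.comap (Ideal.Quotient.mk p) := h
      rw [hcomap] at h'
      exact y.2 h'
    exact IsLocalization.map_units D ⟨_, this⟩
  let φ : R →+* D := IsLocalization.lift (M := m.primeCompl) (S := R) hunit
  have hφalg : ∀ b : B, φ (algebraMap B R b) = g₀ b := fun b => IsLocalization.lift_eq hunit b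
  have hφ : Function.Surjective φ := by
    intro z
    obtain ⟨bb, ss, rfl⟩ := IsLocalization.exists_mk'_eq q.primeCompl z
    obtain ⟨b, rfl⟩ := Ideal.Quotient.mk_surjective bb
    obtain ⟨s, hs⟩ := Ideal.Quotient.mk_surjective ss.1
    have hsm : s ∈ m.primeCompl := by
      intro h
      have : Ideal.Quotient.mk p s ∈ q := Ideal.mem_map_of_mem _ h
      rw [hs] at this
      exact ss.2 this
    refine ⟨IsLocalization.mk' R b ⟨s, hsm⟩, ?_⟩
    rw [IsLocalization.eq_mk'_iff_mul_eq, ← hs]
    have h1 : algebraMap (B ⧸ p) D (Ideal.Quotient.mk p s) = φ (algebraMap B R s) :=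
      (hφalg s).symm
    rw [h1, ← map_mul]
    have h2 : IsLocalization.mk' R b ⟨s, hsm⟩ * algebraMap B R s = algebraMap B R b :=
      IsLocalization.mk'_spec R b ⟨s, hsm⟩
    rw [h2, hφalg]
    rfl
  have hA' : ∀ a : A, algebraMap A R a ∈ maximalIdeal R → φ (algebraMap A R a) = 0 := by
    intro a ha
    rw [IsScalarTower.algebraMap_apply A B R, IsLocalization.AtPrime.to_map_mem_maximal_iff R m] at ha
    have h1 := hA a ha
    rw [IsScalarTower.algebraMap_apply A B R, hφalg]
    change algebraMap (B ⧸ p) D (Ideal.Quotient.mk p (algebraMap A B a)) = 0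
    rw [Ideal.Quotient.eq_zero_iff_mem.mpr h1, map_zero]
  have hmain := ringKrullDim_le_finrank (k := k) (A := A) φ hφ hk hA' g hg
  rw [IsLocalization.AtPrime.ringKrullDim_eq_height q D] at hmain
  exact hmain

end Groth.Agent.Helper16.OmegaCot
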