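import Mathlib

/-!
# Ring-level quasi-sections by slicing (helper16), part 1

* `artinian_or_exists_nzd`: a Noetherian Jacobson ring is Artinian or has a maximal ideal containing a
  nonzerodivisor.
* `exists_lift_nzd`: lift a nonzerodivisor of the fibre `κ(p) ⊗ T` in a prime `q` to `h ∈ r = q ∩ T`
  which is a nonzerodivisor on `T_r / p T_r`.
* `ringKrullDim_le_of_surjectiveOnStalks`, `one_tmul_mem_nonZeroDivisors`.
-/

set_option autoImplicit false
set_option linter.style.haveILetI false
universe u

open TensorProduct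

namespace Groth.Agent.Helper16.QSlice

/-- In a Noetherian ring, a maximal ideal all of whose elements are zero divisors is an
associated prime. -/
theorem mem_associatedPrimes_of_disjoint {A : Type u} [CommRing A] [IsNoetherianRing A]
    (I : Ideal A) [hI : I.IsMaximal] (h : ∀ x ∈ I, x ∉ nonZeroDivisors A) :
    I ∈ associatedPrimes A A := by
  have fin := associatedPrimes.finite A A
  have ⟨P, hP⟩ := (I.subset_union_prime_finite fin (f := id) 0 0 fun _ h _ _ ↦ h.isPrime).1 <| by
    simp_rw [id, biUnion_associatedPrimes_eq_compl_nonZeroDivisors]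
    exact fun x hx hx' ↦ h x hx hx'
  exact hI.eq_of_le hP.1.isPrime.ne_top hP.2 ▸ hP.1

/-- A Jacobson ring with finitely many maximal ideals has dimension `≤ 0`. -/
theorem krullDimLE_zero_of_finite_maximal {A : Type u} [CommRing A] [IsJacobsonRing A]
    (hfin : {m : Ideal A | m.IsMaximal}.Finite) : Ring.KrullDimLE 0 A := by
  rw [Ring.krullDimLE_zero_iff]
  intro P hP
  have hJ : P.jacobson = P := IsJacobsonRing.out inferInstance hP.isRadical
  have hfin' : {J : Ideal A | P ≤ J ∧ J.IsMaximal}.Finite := hfin.subset fun J hJ => hJ.2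
  have : sInf {J : Ideal A | P ≤ J ∧ J.IsMaximal} ≤ P := by
    change P.jacobson ≤ P
    rw [hJ]
  rw [← hfin'.coe_toFinset, ← Finset.inf_id_eq_sInf] at this
  obtain ⟨J, hJmem, hJP⟩ := (Ideal.IsPrime.inf_le' hP).mp this
  rw [Set.Finite.mem_toFinset] at hJmem
  have : J = P := le_antisymm hJP hJmem.1
  exact this ▸ hJmem.2

/-- A nontrivial Noetherian Jacobson ring is either Artinian, or has a maximal ideal containing a
nonzerodivisor. -/
theorem artinian_or_exists_nzd (A : Type u) [CommRing A] [IsNoetherianRing A] [IsJacobsonRing A] :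
    IsArtinianRing A ∨ ∃ (m : Ideal A) (_ : m.IsMaximal) (h : A), h ∈ m ∧ h ∈ nonZeroDivisors A := by
  by_cases H : ∃ (m : Ideal A) (_ : m.IsMaximal) (h : A), h ∈ m ∧ h ∈ nonZeroDivisors A
  · exact Or.inr H
  · left
    push Not at H
    have hsub : {m : Ideal A | m.IsMaximal} ⊆ associatedPrimes A A := fun m hm =>
      have : m.IsMaximal := hm
      mem_associatedPrimes_of_disjoint m (fun x hx => H m hm x hx)
    have hfin := (associatedPrimes.finite A A).subset hsub
    haveI := krullDimLE_zero_of_finite_maximal hfin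
    exact isArtinianRing_iff_isNoetherianRing_krullDimLE_zero.mpr ⟨inferInstance, inferInstance⟩

/-- ring isomorphisms preserve nonzerodivisors. -/
theorem ringEquiv_mem_nonZeroDivisors {A B : Type*} [CommRing A] [CommRing B] (e : A ≃+* B)
    {a : A} (ha : a ∈ nonZeroDivisors A) : e a ∈ nonZeroDivisors B := by
  rw [mem_nonZeroDivisors_iff_left] at ha ⊢
  intro x hx
  have : a * e.symm x = 0 := by
    apply e.injective
    rw [map_mul, e.apply_symm_apply, hx, map_zero]
  have := ha _ this
  simpa using congrArg e this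

/-- abstract version -/
theorem exists_lift_nzd_aux {T F : Type u} [CommRing T] [CommRing F] (q : Ideal F) [q.IsPrime]
    (r : Ideal T) [r.IsPrime]
    {Tr : Type u} [CommRing Tr] [Algebra T Tr] [IsLocalization.AtPrime Tr r]
    {I : Ideal Tr}
    {L : Type u} [CommRing L] [Algebra F L] [IsLocalization.AtPrime L q] (e : L ≃+* Tr ⧸ I)
    (hbar : F) (hq : hbar ∈ q) (hnzd : hbar ∈ nonZeroDivisors F) :
    ∃ h : T, h ∈ r ∧ Ideal.Quotient.mk I (algebraMap T Tr h) ∈
        nonZeroDivisors (Tr ⧸ I) := by
  have ha₀ : algebraMap F L hbar ∈ nonZeroDivisors L :=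
    IsLocalization.map_nonZeroDivisors_le q.primeCompl L (Submonoid.mem_map_of_mem _ hnzd)
  have ha₀' : ¬ IsUnit (algebraMap F L hbar) := by
    intro hu
    exact ((IsLocalization.AtPrime.isUnit_to_map_iff L q hbar).mp hu) hq
  have ha : e (algebraMap F L hbar) ∈ nonZeroDivisors (Tr ⧸ I) :=
    ringEquiv_mem_nonZeroDivisors e ha₀
  have ha' : ¬ IsUnit (e (algebraMap F L hbar)) := fun hu => ha₀' ((isUnit_map_iff e _).mp hu)
  obtain ⟨x, hx⟩ := Ideal.Quotient.mk_surjective (e (algebraMap F L hbar))
  obtain ⟨s, t, rfl⟩ := IsLocalization.exists_mk'_eq r.primeCompl x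
  have hmul : Ideal.Quotient.mk I (algebraMap T Tr s) =
      e (algebraMap F L hbar) * Ideal.Quotient.mk I (algebraMap T Tr t) := by
    rw [← hx, ← map_mul, IsLocalization.mk'_spec]
  have htu : IsUnit (Ideal.Quotient.mk I (algebraMap T Tr t)) :=
    (IsLocalization.map_units Tr t).map _
  refine ⟨s, ?_, ?_⟩
  · by_contra hs
    have hsu : IsUnit (Ideal.Quotient.mk I (algebraMap T Tr s)) :=
      (IsLocalization.map_units Tr (⟨s, hs⟩ : r.primeCompl)).map _
    rw [hmul] at hsu
    exact ha' (isUnit_of_mul_isUnit_left hsu)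
  · rw [hmul]
    exact mul_mem ha htu.mem_nonZeroDivisors

/-- Lifting a nonzerodivisor of the fibre `κ(p) ⊗ T` lying in a prime `q` to an element `h` of `T`
lying in the prime `r` below `q` and which is a nonzerodivisor on `T_r / p T_r`. -/
theorem exists_lift_nzd {R T : Type u} [CommRing R] [CommRing T] [Algebra R T] (p : Ideal R)
    [p.IsPrime] (q : Ideal (p.Fiber T)) [q.IsPrime] (hbar : p.Fiber T) (hq : hbar ∈ q)
    (hnzd : hbar ∈ nonZeroDivisors (p.Fiber T)) :
    ∃ h : T, h ∈ q.comap (Algebra.TensorProduct.includeRight : T →ₐ[R] p.Fiber T) ∧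
      Ideal.Quotient.mk ((p.map (algebraMap R T)).map (algebraMap T (Localization.AtPrime
        (q.comap (Algebra.TensorProduct.includeRight : T →ₐ[R] p.Fiber T)))))
        (algebraMap T (Localization.AtPrime
        (q.comap (Algebra.TensorProduct.includeRight : T →ₐ[R] p.Fiber T))) h) ∈
        nonZeroDivisors (Localization.AtPrime
        (q.comap (Algebra.TensorProduct.includeRight : T →ₐ[R] p.Fiber T)) ⧸
          (p.map (algebraMap R T)).map (algebraMap T (Localization.AtPrime
        (q.comap (Algebra.TensorProduct.includeRight : T →ₐ[R] p.Fiber T))))) :=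
  exists_lift_nzd_aux q (q.comap (Algebra.TensorProduct.includeRight : T →ₐ[R] p.Fiber T))
    (L := Localization.AtPrime q)
    (Tr := Localization.AtPrime (q.comap (Algebra.TensorProduct.includeRight : T →ₐ[R] p.Fiber T)))
    (Ideal.Fiber.algEquivAux₂ p q).toRingEquiv hbar hq hnzd

/-- Krull dimension does not increase along ring maps that are surjective on stalks. -/
theorem ringKrullDim_le_of_surjectiveOnStalks {A B : Type*} [CommRing A] [CommRing B]
    (f : A →+* B) (hf : f.SurjectiveOnStalks) : ringKrullDim B ≤ ringKrullDim A := by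
  refine Order.krullDim_le_of_strictMono (fun I ↦ ⟨Ideal.comap f I.asIdeal, inferInstance⟩) ?_
  intro a b hab
  refine lt_of_le_of_ne (Ideal.comap_mono hab.le) ?_
  intro heq
  have heq' : Ideal.comap f a.asIdeal = Ideal.comap f b.asIdeal := congrArg PrimeSpectrum.asIdeal heq
  obtain ⟨s, hsb, hsa⟩ := Set.exists_of_ssubset (show (a.asIdeal : Set B) ⊂ b.asIdeal from hab)
  obtain ⟨x, r, c, hc, hr, e⟩ :=
    (RingHom.surjective_localRingHom_iff (f := f) b.asIdeal).mp (hf b.asIdeal inferInstance) s
  have hxb : f x ∈ b.asIdeal := by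
    have : c * f x ∈ b.asIdeal := e ▸ Ideal.mul_mem_left _ _ hsb
    exact (b.2.mem_or_mem this).resolve_left hc
  have hxa : f x ∈ a.asIdeal := by
    have : x ∈ Ideal.comap f b.asIdeal := hxb
    rw [← heq'] at this
    exact this
  have hra : f r ∉ a.asIdeal := by
    intro h
    have : r ∈ Ideal.comap f a.asIdeal := h
    rw [heq'] at this
    exact hr this
  have hca : c ∉ a.asIdeal := fun h => hc (hab.le h)
  have : c * f r * s ∈ a.asIdeal := e ▸ Ideal.mul_mem_left _ _ hxa
  rcases a.2.mem_or_mem this with h | h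
  · rcases a.2.mem_or_mem h with h | h
    · exact hca h
    · exact hra h
  · exact hsa h

/-- If `a` is a nonzerodivisor of the `R`-algebra `A` with `A/(a)` flat over `R`, then `1 ⊗ a` is a
nonzerodivisor of `K ⊗[R] A`. -/
theorem one_tmul_mem_nonZeroDivisors {R A K : Type*} [CommRing R] [CommRing A] [Algebra R A]
    [CommRing K] [Algebra R K] (a : A) (ha : a ∈ nonZeroDivisors A)
    [Module.Flat R (A ⧸ Ideal.span {a})] :
    (1 : K) ⊗ₜ[R] a ∈ nonZeroDivisors (K ⊗[R] A) := by
  let g : A →ₗ[R] A := LinearMap.mulLeft R a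
  let f : A →ₗ[R] (A ⧸ Ideal.span {a}) := (Ideal.Quotient.mkₐ R (Ideal.span {a})).toLinearMap
  have hf : Function.Surjective f := Ideal.Quotient.mk_surjective
  have hg : Function.Injective g := by
    intro x y hxy
    have h1 : a * (x - y) = 0 := by
      rw [mul_sub]; exact sub_eq_zero.mpr hxy
    exact sub_eq_zero.mp ((mem_nonZeroDivisors_iff_left.mp ha) _ h1)
  have H : Function.Exact g f := by
    intro y
    change Ideal.Quotient.mk _ y = 0 ↔ _
    rw [Ideal.Quotient.eq_zero_iff_mem, Ideal.mem_span_singleton']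
    constructor
    · rintro ⟨x, hx⟩
      exact ⟨x, by change a * x = y; rw [mul_comm]; exact hx⟩
    · rintro ⟨x, hx⟩
      exact ⟨x, by rw [mul_comm]; exact hx⟩
  have hinj := LinearMap.lTensor_injective_of_exact_of_flat f hf g hg H K
  have hmul : ∀ z : K ⊗[R] A, ((1 : K) ⊗ₜ[R] a) * z = g.lTensor K z := by
    intro z
    induction z using TensorProduct.induction_on with
    | zero => simp
    | tmul k x => simp [g]
    | add x y hx hy => rw [mul_add, hx, hy, map_add]
  rw [mem_nonZeroDivisors_iff_left]
  intro z hz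
  rw [hmul] at hz
  exact hinj (hz.trans (map_zero _).symm)

end Groth.Agent.Helper16.QSlice
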