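import Mathlib
import Groth.Agent.Lib.Helper16.Alg.QSlice1

/-!
# Ring-level quasi-sections by slicing (helper16), part 2

* `fibre_dim_drop`, `fibre_nontrivial`: the fibre of `T_g/(h)` over `p`.
* `exists_nat_ringKrullDim_le`: finite type algebras over a field have finite dimension.
* `base_case`: Artinian fibre gives a quasi-finite principal localization.
-/

set_option autoImplicit false
set_option linter.style.haveILetI false
universe u

open TensorProduct

namespace Groth.Agent.Helper16.QSlice

/-- the dimension of the fibre drops after slicing by a nonzerodivisor with flat quotient. -/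
theorem fibre_dim_drop {R T : Type u} [CommRing R] [CommRing T] [Algebra R T] (p : Ideal R)
    [p.IsPrime] (g h : T) (Tg : Type u) [CommRing Tg] [Algebra T Tg] [IsLocalization.Away g Tg]
    [Algebra R Tg] [IsScalarTower R T Tg]
    (hnzd : algebraMap T Tg h ∈ nonZeroDivisors Tg)
    [Module.Flat R (Tg ⧸ Ideal.span {algebraMap T Tg h})] :
    ringKrullDim (p.Fiber (Tg ⧸ Ideal.span {algebraMap T Tg h})) + 1 ≤
      ringKrullDim (p.Fiber T) := by
  have nz := one_tmul_mem_nonZeroDivisors (R := R) (K := p.ResidueField) (algebraMap T Tg h) hnzd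
  let f : p.ResidueField ⊗[R] Tg →ₐ[R] p.ResidueField ⊗[R] (Tg ⧸ Ideal.span {algebraMap T Tg h}) :=
    Algebra.TensorProduct.map (AlgHom.id R p.ResidueField)
      (Ideal.Quotient.mkₐ R (Ideal.span {algebraMap T Tg h}))
  have hf : Function.Surjective f :=
    Algebra.TensorProduct.map_surjective (f := AlgHom.id R p.ResidueField)
      (g := Ideal.Quotient.mkₐ R (Ideal.span {algebraMap T Tg h}))
      Function.surjective_id Ideal.Quotient.mk_surjective
  have hzero : f ((1 : p.ResidueField) ⊗ₜ[R] (algebraMap T Tg h)) = 0 := by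
    simp only [f, Algebra.TensorProduct.map_tmul, Ideal.Quotient.mkₐ_eq_mk]
    rw [Ideal.Quotient.eq_zero_iff_mem.mpr (Ideal.mem_span_singleton_self _), tmul_zero]
  have h1 := ringKrullDim_succ_le_of_surjective f.toRingHom hf nz hzero
  refine h1.trans ?_
  let ψ : p.ResidueField ⊗[R] T →ₐ[R] p.ResidueField ⊗[R] Tg :=
    Algebra.TensorProduct.map (AlgHom.id R p.ResidueField) (IsScalarTower.toAlgHom R T Tg)
  have hψ : ψ.toRingHom.SurjectiveOnStalks :=
    RingHom.SurjectiveOnStalks.tensorProductMap (f := AlgHom.id R p.ResidueField)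
      (g := IsScalarTower.toAlgHom R T Tg)
      (RingHom.surjectiveOnStalks_of_surjective Function.surjective_id)
      (RingHom.surjectiveOnStalks_of_isLocalization (Submonoid.powers g) Tg)
  exact ringKrullDim_le_of_surjectiveOnStalks ψ.toRingHom hψ

/-- nontriviality of the fibre of the slice at a point of it. -/
theorem fibre_nontrivial {R T : Type u} [CommRing R] [CommRing T] [Algebra R T] (p : Ideal R)
    [p.IsPrime] (g h : T) (Tg : Type u) [CommRing Tg] [Algebra T Tg] [IsLocalization.Away g Tg]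
    [Algebra R Tg] [IsScalarTower R T Tg] (r : Ideal T) [r.IsPrime] (hrp : r.comap (algebraMap R T) = p)
    (hg : g ∉ r) (hh : h ∈ r) :
    Nontrivial (p.Fiber (Tg ⧸ Ideal.span {algebraMap T Tg h})) := by
  -- a prime of `Tg` over `r`
  have h1 : (⟨r, inferInstance⟩ : PrimeSpectrum T) ∈
      Set.range (PrimeSpectrum.comap (algebraMap T Tg)) := by
    rw [PrimeSpectrum.localization_away_comap_range Tg g]
    exact hg
  obtain ⟨rg, hrg⟩ := h1
  have hrg' : rg.asIdeal.comap (algebraMap T Tg) = r := congrArg PrimeSpectrum.asIdeal hrg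
  have h2 : rg ∈ Set.range (PrimeSpectrum.comap (Ideal.Quotient.mk (Ideal.span {algebraMap T Tg h}))) := by
    rw [_root_.range_comap_of_surjective _ _ Ideal.Quotient.mk_surjective, Ideal.mk_ker,
      PrimeSpectrum.mem_zeroLocus, SetLike.coe_subset_coe, Ideal.span_singleton_le_iff_mem]
    change h ∈ rg.asIdeal.comap (algebraMap T Tg)
    rw [hrg']
    exact hh
  obtain ⟨r', hr'⟩ := h2
  have hr'' : r'.asIdeal.comap (Ideal.Quotient.mk (Ideal.span {algebraMap T Tg h})) = rg.asIdeal :=
    congrArg PrimeSpectrum.asIdeal hr'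
  have hlies : r'.asIdeal.LiesOver p := by
    constructor
    rw [Ideal.under_def, ← hrp, ← hrg', ← hr'', Ideal.comap_comap, Ideal.comap_comap]
    congr 1
    ext x
    simp only [RingHom.comp_apply]
    rw [← IsScalarTower.algebraMap_apply R T Tg]
    rfl
  have : Nonempty (PrimeSpectrum (p.Fiber (Tg ⧸ Ideal.span {algebraMap T Tg h}))) :=
    ⟨PrimeSpectrum.primesOverOrderIsoFiber R _ p ⟨r'.asIdeal, r'.2, hlies⟩⟩
  exact (PrimeSpectrum.nonempty_iff_nontrivial).mp this

/-- A finite type algebra over a field has finite Krull dimension. -/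
theorem exists_nat_ringKrullDim_le (K F : Type*) [Field K] [CommRing F] [Algebra K F]
    [Algebra.FiniteType K F] : ∃ n : ℕ, ringKrullDim F ≤ n := by
  obtain ⟨n, f, hf⟩ := Algebra.FiniteType.iff_quotient_mvPolynomial''.mp
    (inferInstance : Algebra.FiniteType K F)
  refine ⟨n, ?_⟩
  have h1 := ringKrullDim_le_of_surjective f.toRingHom hf
  rw [MvPolynomial.ringKrullDim_of_isNoetherianRing, ringKrullDim_eq_zero_of_field] at h1
  simpa using h1

/-- arithmetic in `WithBot ℕ∞`. -/
theorem le_of_add_one_le_succ (a : WithBot ℕ∞) (k : ℕ) (h : a + 1 ≤ ((k + 1 : ℕ) : WithBot ℕ∞)) :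
    a ≤ (k : WithBot ℕ∞) := by
  induction a using WithBot.recBotCoe with
  | bot => exact bot_le
  | coe a =>
    induction a using ENat.recTopCoe with
    | top =>
      exfalso
      have : ((⊤ : ℕ∞) : WithBot ℕ∞) + 1 = ((⊤ : ℕ∞) : WithBot ℕ∞) := by
        rw [← WithBot.coe_one, ← WithBot.coe_add]; simp
      rw [this] at h
      have h2 : ((k + 1 : ℕ) : WithBot ℕ∞) = (((k + 1 : ℕ) : ℕ∞) : WithBot ℕ∞) := rfl
      rw [h2, WithBot.coe_le_coe] at h
      exact absurd h (by simp)
    | coe a =>
      have h1 : (((a : ℕ∞) : WithBot ℕ∞)) + 1 = (((a + 1 : ℕ) : ℕ∞) : WithBot ℕ∞) := by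
        push_cast; rfl
      rw [h1] at h
      have h2 : ((k + 1 : ℕ) : WithBot ℕ∞) = (((k + 1 : ℕ) : ℕ∞) : WithBot ℕ∞) := rfl
      rw [h2, WithBot.coe_le_coe, Nat.cast_le] at h
      have h3 : ((k : ℕ) : WithBot ℕ∞) = (((k : ℕ) : ℕ∞) : WithBot ℕ∞) := rfl
      rw [h3, WithBot.coe_le_coe, Nat.cast_le]
      omega

theorem not_add_one_le_zero (a : WithBot ℕ∞) (ha : 0 ≤ a) : ¬ a + 1 ≤ ((0 : ℕ) : WithBot ℕ∞) := by
  intro h
  have h1 : (0 : WithBot ℕ∞) + 1 ≤ a + 1 := by gcongr
  have h2 := h1.trans h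
  rw [zero_add, Nat.cast_zero] at h2
  exact absurd h2 (by decide)

/-- Base case: if the fibre over `p` is Artinian and nonzero, then some principal localization of `T`
meeting the fibre is quasi-finite over `R`. -/
theorem base_case {R T : Type u} [CommRing R] [CommRing T] [Algebra R T]
    [Algebra.FiniteType R T] (p : Ideal R) [p.IsPrime] [Nontrivial (p.Fiber T)]
    [IsArtinianRing (p.Fiber T)] :
    ∃ g : T, Algebra.QuasiFinite R (Localization.Away g) ∧
      ∃ r : Ideal T, r.IsPrime ∧ r.comap (algebraMap R T) = p ∧ g ∉ r := by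
  obtain ⟨q⟩ := (PrimeSpectrum.nonempty_iff_nontrivial (R := p.Fiber T)).mpr inferInstance
  let r₀ := (PrimeSpectrum.primesOverOrderIsoFiber R T p).symm q
  let r : Ideal T := r₀.1
  haveI hrprime : r.IsPrime := r₀.2.1
  haveI hrlies : r.LiesOver p := r₀.2.2
  have hrq : q.asIdeal.comap (Algebra.TensorProduct.includeRight : T →ₐ[R] p.Fiber T).toRingHom = r :=
    rfl
  haveI : Module.Finite p.ResidueField (p.Fiber T) :=
    Module.finite_of_isArtinianRing p.ResidueField (p.Fiber T)
  haveI : Algebra.QuasiFiniteAt p.ResidueField q.asIdeal := inferInstance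
  haveI : Algebra.QuasiFiniteAt R r :=
    Algebra.QuasiFiniteAt.of_quasiFiniteAt_residueField p r q.asIdeal hrq
  have H : Algebra.ZariskisMainProperty R r := Algebra.ZariskisMainProperty.of_finiteType r
  obtain ⟨S', hS', g, hgr, Hbij⟩ := H.exists_fg_and_exists_notMem_and_awayMap_bijective r
  haveI : Module.Finite R S' := ⟨(Submodule.fg_top _).mpr hS'⟩
  haveI : Algebra.QuasiFinite R (Localization.Away g) := .trans _ S' _
  have hqf : Algebra.QuasiFinite R (Localization.Away g.1) :=
    .of_surjective_algHom (Localization.awayMapₐ S'.val g) Hbij.2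
  exact ⟨g.1, hqf, r, hrprime, (hrlies.over).symm, hgr⟩

end Groth.Agent.Helper16.QSlice
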