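import Mathlib
import Groth.Agent.Lib.Helper16.Alg.QSlice2
import Groth.Agent.Lib.Helper21.Slice2

/-!
# Ring-level quasi-sections by slicing (helper16), part 3

* `slice_step`: one slicing step `T ↦ T_g/(h)` dropping the dimension of the fibre over `p`
  (uses helper21's `Slice.slice_main`).
* `local_qf`: a flat finitely presented `R`-algebra `T` with nonempty fibre over `p` maps to a
  quasi-finite flat finitely presented `R`-algebra with nonempty fibre over `p`.
-/

set_option autoImplicit false
set_option linter.style.haveILetI false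
universe u

open TensorProduct

namespace Groth.Agent.Helper16.QSlice

/-- One slicing step. -/
theorem slice_step {R T : Type u} [CommRing R] [CommRing T] [Algebra R T]
    [Algebra.FinitePresentation R T] [Module.Flat R T] (p : Ideal R) [p.IsPrime]
    (m : Ideal (p.Fiber T)) [m.IsPrime] (hbar : p.Fiber T) (hmem : hbar ∈ m)
    (hnzd : hbar ∈ nonZeroDivisors (p.Fiber T)) :
    ∃ (T' : Type u) (_ : CommRing T') (_ : Algebra R T'), Algebra.FinitePresentation R T' ∧
      Module.Flat R T' ∧ Nonempty (T →ₐ[R] T') ∧ Nontrivial (p.Fiber T') ∧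
      ringKrullDim (p.Fiber T') + 1 ≤ ringKrullDim (p.Fiber T) := by
  let r₀ := (PrimeSpectrum.primesOverOrderIsoFiber R T p).symm ⟨m, inferInstance⟩
  have hrlies : (m.comap (Algebra.TensorProduct.includeRight : T →ₐ[R] p.Fiber T)).LiesOver p :=
    r₀.2.2
  have hrp : (m.comap (Algebra.TensorProduct.includeRight : T →ₐ[R] p.Fiber T)).comap
      (algebraMap R T) = p := (hrlies.over).symm
  obtain ⟨h, hr, hreg⟩ := exists_lift_nzd p m hbar hmem hnzd
  haveI : Module.Flat R (Localization.AtPrime
      (m.comap (Algebra.TensorProduct.includeRight : T →ₐ[R] p.Fiber T))) :=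
    Module.Flat.trans R T _
  obtain ⟨g, hgr, hg⟩ := Groth.Agent.Helper21.Slice.slice_main
    (m.comap (Algebra.TensorProduct.includeRight : T →ₐ[R] p.Fiber T))
    (LX := Localization.AtPrime (m.comap (Algebra.TensorProduct.includeRight : T →ₐ[R] p.Fiber T)))
    ((p.map (algebraMap R T)).map (algebraMap T (Localization.AtPrime
        (m.comap (Algebra.TensorProduct.includeRight : T →ₐ[R] p.Fiber T)))))
    (by rw [Ideal.map_map, ← IsScalarTower.algebraMap_eq, hrp]) h hr hreg
  obtain ⟨hnz, hflat⟩ := hg (Localization.Away g)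
  haveI := hflat
  haveI : Algebra.FinitePresentation T (Localization.Away g) :=
    IsLocalization.Away.finitePresentation g
  haveI : Algebra.FinitePresentation R (Localization.Away g) :=
    Algebra.FinitePresentation.trans R T (Localization.Away g)
  refine ⟨Localization.Away g ⧸ Ideal.span {algebraMap T (Localization.Away g) h}, inferInstance,
    inferInstance, ?_, hflat, ?_, ?_, ?_⟩
  · exact Algebra.FinitePresentation.quotient ⟨{algebraMap T (Localization.Away g) h}, by simp⟩
  · exact ⟨(Ideal.Quotient.mkₐ R _).comp (IsScalarTower.toAlgHom R T (Localization.Away g))⟩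
  · exact fibre_nontrivial p g h (Localization.Away g) _ hrp hgr hr
  · exact fibre_dim_drop p g h (Localization.Away g) hnz

/-- Local quasi-sections: a flat finitely presented algebra with nonempty fibre over `p` maps to a
quasi-finite flat finitely presented algebra with nonempty fibre over `p`. -/
theorem local_qf_aux {R : Type u} [CommRing R] (p : Ideal R) [p.IsPrime] (n : ℕ) :
    ∀ (T : Type u) [CommRing T] [Algebra R T] [Algebra.FinitePresentation R T] [Module.Flat R T]
      [Nontrivial (p.Fiber T)], ringKrullDim (p.Fiber T) ≤ n →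
    ∃ (T' : Type u) (_ : CommRing T') (_ : Algebra R T'), Algebra.QuasiFinite R T' ∧
      Algebra.FinitePresentation R T' ∧ Module.Flat R T' ∧ Nonempty (T →ₐ[R] T') ∧
      ∃ r : Ideal T', r.IsPrime ∧ r.comap (algebraMap R T') = p := by
  induction n with
  | zero =>
    intro T _ _ _ _ _ hdim
    haveI : IsNoetherianRing (p.Fiber T) :=
      Algebra.FiniteType.isNoetherianRing p.ResidueField (p.Fiber T)
    haveI : IsJacobsonRing (p.Fiber T) := isJacobsonRing_of_finiteType (A := p.ResidueField)
    rcases artinian_or_exists_nzd (p.Fiber T) with hArt | ⟨m, hm, hbar, hmem, hnzd⟩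
    · haveI := hArt
      obtain ⟨g, hqf, r, hrprime, hrp, hgr⟩ := base_case (T := T) p
      haveI : Algebra.FinitePresentation T (Localization.Away g) :=
        IsLocalization.Away.finitePresentation g
      refine ⟨Localization.Away g, inferInstance, inferInstance, hqf,
        Algebra.FinitePresentation.trans R T (Localization.Away g),
        Module.Flat.trans R T _, ⟨IsScalarTower.toAlgHom R T (Localization.Away g)⟩, ?_⟩
      have h1 : (⟨r, hrprime⟩ : PrimeSpectrum T) ∈
          Set.range (PrimeSpectrum.comap (algebraMap T (Localization.Away g))) := by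
        rw [PrimeSpectrum.localization_away_comap_range (Localization.Away g) g]
        exact hgr
      obtain ⟨rg, hrg⟩ := h1
      have hrg' : rg.asIdeal.comap (algebraMap T (Localization.Away g)) = r :=
        congrArg PrimeSpectrum.asIdeal hrg
      refine ⟨rg.asIdeal, rg.2, ?_⟩
      rw [← hrp, ← hrg', Ideal.comap_comap, ← IsScalarTower.algebraMap_eq]
    · haveI := hm.isPrime
      obtain ⟨T', _, _, _, _, _, hnt, hd⟩ := slice_step p m hbar hmem hnzd
      exact absurd (hd.trans hdim) (not_add_one_le_zero _ ringKrullDim_nonneg_of_nontrivial)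
  | succ k ih =>
    intro T _ _ _ _ _ hdim
    haveI : IsNoetherianRing (p.Fiber T) :=
      Algebra.FiniteType.isNoetherianRing p.ResidueField (p.Fiber T)
    haveI : IsJacobsonRing (p.Fiber T) := isJacobsonRing_of_finiteType (A := p.ResidueField)
    rcases artinian_or_exists_nzd (p.Fiber T) with hArt | ⟨m, hm, hbar, hmem, hnzd⟩
    · haveI := hArt
      obtain ⟨g, hqf, r, hrprime, hrp, hgr⟩ := base_case (T := T) p
      haveI : Algebra.FinitePresentation T (Localization.Away g) :=
        IsLocalization.Away.finitePresentation g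
      refine ⟨Localization.Away g, inferInstance, inferInstance, hqf,
        Algebra.FinitePresentation.trans R T (Localization.Away g),
        Module.Flat.trans R T _, ⟨IsScalarTower.toAlgHom R T (Localization.Away g)⟩, ?_⟩
      have h1 : (⟨r, hrprime⟩ : PrimeSpectrum T) ∈
          Set.range (PrimeSpectrum.comap (algebraMap T (Localization.Away g))) := by
        rw [PrimeSpectrum.localization_away_comap_range (Localization.Away g) g]
        exact hgr
      obtain ⟨rg, hrg⟩ := h1
      have hrg' : rg.asIdeal.comap (algebraMap T (Localization.Away g)) = r :=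
        congrArg PrimeSpectrum.asIdeal hrg
      refine ⟨rg.asIdeal, rg.2, ?_⟩
      rw [← hrp, ← hrg', Ideal.comap_comap, ← IsScalarTower.algebraMap_eq]
    · haveI := hm.isPrime
      obtain ⟨T', _, _, _, _, ⟨φ⟩, hnt, hd⟩ := slice_step p m hbar hmem hnzd
      haveI := hnt
      obtain ⟨T'', i1, i2, hqf, hfp, hfl, ⟨ψ⟩, hr⟩ :=
        ih T' (le_of_add_one_le_succ _ k (hd.trans hdim))
      exact ⟨T'', i1, i2, hqf, hfp, hfl, ⟨ψ.comp φ⟩, hr⟩

/-- Local quasi-sections. -/
theorem local_qf {R : Type u} [CommRing R] (p : Ideal R) [p.IsPrime]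
    (T : Type u) [CommRing T] [Algebra R T] [Algebra.FinitePresentation R T] [Module.Flat R T]
    [Nontrivial (p.Fiber T)] :
    ∃ (T' : Type u) (_ : CommRing T') (_ : Algebra R T'), Algebra.QuasiFinite R T' ∧
      Algebra.FinitePresentation R T' ∧ Module.Flat R T' ∧ Nonempty (T →ₐ[R] T') ∧
      ∃ r : Ideal T', r.IsPrime ∧ r.comap (algebraMap R T') = p := by
  obtain ⟨n, hn⟩ := exists_nat_ringKrullDim_le p.ResidueField (p.Fiber T)
  exact local_qf_aux p n T hn

end Groth.Agent.Helper16.QSlice
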