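import Mathlib

set_option autoImplicit false
universe u
open TensorProduct

namespace Groth.Agent.Helper16.QFDescent


variable {R R' S : Type u} [CommRing R] [CommRing R'] [CommRing S] [Algebra R R'] [Algebra R S]

set_option backward.isDefEq.respectTransparency.types false in
/-- descent of quasi-finiteness at a prime along a base change with trivial residue field
extension -/
theorem quasiFiniteAt_of_bijective [Algebra.FiniteType R S]
    (p : Ideal R) [p.IsPrime] (p' : Ideal R') [p'.IsPrime]
    [p'.LiesOver p]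
    (H : Function.Bijective (Ideal.ResidueField.mapₐ p p' (Algebra.ofId _ _) (p'.over_def p)))
    (Q' : Ideal (R' ⊗[R] S)) [Q'.IsPrime] [Q'.LiesOver p'] [Algebra.QuasiFiniteAt R' Q']
    (q : Ideal S) [q.IsPrime]
    (hq : Q'.comap (Algebra.TensorProduct.includeRight : S →ₐ[R] R' ⊗[R] S).toRingHom = q) :
    Algebra.QuasiFiniteAt R q := by
  let := Localization.AtPrime.algebraOfLiesOver p p'
  let e : p'.Fiber (R' ⊗[R] S) ≃ₐ[p.ResidueField] p.Fiber S :=
    ((Algebra.TensorProduct.cancelBaseChange _ _ p'.ResidueField _ _).restrictScalars _).trans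
      (Algebra.TensorProduct.congr (.symm <| .ofBijective (Algebra.ofId _ _) H) .refl)
  -- the prime of the fibre
  let QF : PrimeSpectrum (p'.Fiber (R' ⊗[R] S)) :=
    PrimeSpectrum.primesOverOrderIsoFiber R' (R' ⊗[R] S) p' ⟨Q', inferInstance, inferInstance⟩
  have hQF : QF.asIdeal.comap (Algebra.TensorProduct.includeRight :
      (R' ⊗[R] S) →ₐ[R'] p'.ResidueField ⊗[R'] (R' ⊗[R] S)).toRingHom = Q' := by
    have := (PrimeSpectrum.primesOverOrderIsoFiber R' (R' ⊗[R] S) p').symm_apply_apply
      ⟨Q', inferInstance, inferInstance⟩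
    exact congrArg Subtype.val this
  have h1 : Algebra.QuasiFiniteAt p'.ResidueField QF.asIdeal :=
    Algebra.QuasiFiniteAt.baseChange Q' QF.asIdeal hQF.symm
  have h2 : Module.Finite p.ResidueField p'.ResidueField :=
    Module.Finite.of_surjective (Algebra.linearMap p.ResidueField p'.ResidueField) H.2
  have h3 : Algebra.QuasiFinite p.ResidueField (Localization.AtPrime QF.asIdeal) :=
    Algebra.QuasiFinite.trans p.ResidueField p'.ResidueField _
  have h4 : Algebra.QuasiFiniteAt p.ResidueField QF.asIdeal := h3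
  have h5 : Algebra.QuasiFiniteAt p.ResidueField (QF.asIdeal.comap e.symm.toRingHom) :=
    Algebra.QuasiFiniteAt.comap_algEquiv QF.asIdeal e.symm
  have : q.LiesOver p := by
    constructor
    rw [← hq, Ideal.under, Ideal.comap_comap]
    have h6 : ((Algebra.TensorProduct.includeRight : S →ₐ[R] R' ⊗[R] S).toRingHom.comp
        (algebraMap R S)) = (algebraMap R' (R' ⊗[R] S)).comp (algebraMap R R') := by
      ext r
      simp [Algebra.algebraMap_eq_smul_one]
    rw [h6, ← Ideal.comap_comap]
    show p = Ideal.under R (Ideal.under R' Q')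
    rw [← Ideal.over_def Q' p', ← Ideal.over_def p' p]
  refine Algebra.QuasiFiniteAt.of_quasiFiniteAt_residueField p q
    (QF.asIdeal.comap e.symm.toRingHom) ?_
  rw [← hq, ← hQF, Ideal.comap_comap, Ideal.comap_comap]
  congr 1
  ext s
  show e.symm ((1 : p.ResidueField) ⊗ₜ[R] s) = (1 : p'.ResidueField) ⊗ₜ[R'] ((1 : R') ⊗ₜ[R] s)
  rw [AlgEquiv.symm_apply_eq]
  show _ = (Algebra.TensorProduct.congr (AlgEquiv.ofBijective (Algebra.ofId p.ResidueField p'.ResidueField) H).symm
      AlgEquiv.refl) ((Algebra.TensorProduct.cancelBaseChange R R' p'.ResidueField p'.ResidueField S)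
        ((1 : p'.ResidueField) ⊗ₜ[R'] ((1 : R') ⊗ₜ[R] s)))
  rw [Algebra.TensorProduct.cancelBaseChange_tmul, one_smul, Algebra.TensorProduct.congr_apply,
    Algebra.TensorProduct.map_tmul]
  simp



/-- quasi-finiteness at a prime of a direct factor lifts to the whole ring -/
theorem quasiFiniteAt_of_directFactor {R C B : Type u} [CommRing R] [CommRing C] [CommRing B]
    [Algebra R C] [Algebra R B] (φ : C →ₐ[R] B) (hφ : Function.Surjective φ)
    (hker : ∀ c, φ c = 0 → ∃ s, φ s = 1 ∧ s * c = 0)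
    (Q : Ideal B) [Q.IsPrime] [Algebra.QuasiFiniteAt R Q]
    (Q' : Ideal C) [Q'.IsPrime] (hQ' : Q' = Q.comap φ.toRingHom) :
    Algebra.QuasiFiniteAt R Q' := by
  have hmem : ∀ z, z ∈ Q' ↔ φ z ∈ Q := fun z => by rw [hQ']; rfl
  let ψ : Localization.AtPrime Q' →ₐ[R] Localization.AtPrime Q :=
    Localization.localAlgHom Q' Q φ hQ'
  have hsurj : Function.Surjective ψ :=
    (RingHom.surjectiveOnStalks_of_surjective hφ).localRingHom_surjective Q' Q hQ'
  have hinj : Function.Injective ψ := by
    rw [injective_iff_map_eq_zero]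
    intro x hx
    obtain ⟨c, ⟨s, hs⟩, rfl⟩ := IsLocalization.exists_mk'_eq Q'.primeCompl x
    have h1 : ψ (IsLocalization.mk' (Localization.AtPrime Q') c ⟨s, hs⟩) =
        IsLocalization.mk' (Localization.AtPrime Q) (φ c)
          (⟨φ s, fun h => hs ((hmem s).mpr h)⟩ : Q.primeCompl) := by
      show Localization.localRingHom Q' Q φ.toRingHom hQ' _ = _
      rw [Localization.localRingHom_mk']
      rfl
    rw [h1, IsLocalization.mk'_eq_zero_iff] at hx
    obtain ⟨⟨t, ht⟩, hx⟩ := hx
    obtain ⟨t', rfl⟩ := hφ t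
    have h2 : φ (t' * c) = 0 := by rw [map_mul]; exact hx
    obtain ⟨s', hs'1, hs'0⟩ := hker _ h2
    rw [IsLocalization.mk'_eq_zero_iff]
    refine ⟨⟨s' * t', ?_⟩, ?_⟩
    · show ¬ (s' * t' ∈ Q')
      rw [hmem, map_mul, hs'1, one_mul]
      exact ht
    · show s' * t' * c = 0
      rw [mul_assoc, hs'0]
  exact (Algebra.QuasiFinite.iff_of_algEquiv (AlgEquiv.ofBijective ψ ⟨hinj, hsurj⟩)).mpr
    inferInstance



theorem isOpen_singleton_of_quasiFiniteAt {R S : Type u} [CommRing R] [CommRing S] [Algebra R S]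
    [Algebra.FiniteType R S] (q : PrimeSpectrum S) (hq : Algebra.QuasiFiniteAt R q.asIdeal)
    (P : PrimeSpectrum R) (h : q.comap (algebraMap R S) = P) :
    IsOpen (X := PrimeSpectrum.comap (algebraMap R S) ⁻¹' {P}) {⟨q, h⟩} := by
  subst h
  exact (Algebra.quasiFiniteAt_iff_isOpen_singleton_fiber q).mp hq

/-- finitely many primes over `p` at which a finite type algebra is quasi-finite -/
theorem finite_qf_primes (R S : Type u) [CommRing R] [CommRing S] [Algebra R S]
    [Algebra.FiniteType R S] (p : Ideal R) [p.IsPrime] :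
    {q : Ideal S | ∃ (_ : q.IsPrime), q.comap (algebraMap R S) = p ∧
      Algebra.QuasiFiniteAt R q}.Finite := by
  let P : PrimeSpectrum R := ⟨p, inferInstance⟩
  let F := PrimeSpectrum.comap (algebraMap R S) ⁻¹' {P}
  haveI : IsNoetherianRing (p.Fiber S) :=
    Algebra.FiniteType.isNoetherianRing p.ResidueField (p.Fiber S)
  haveI : TopologicalSpace.NoetherianSpace F :=
    (TopologicalSpace.noetherianSpace_iff_of_homeomorph
      (PrimeSpectrum.preimageHomeomorphFiber R S P)).mpr inferInstance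
  let I : Set F := {z | IsOpen ({z} : Set F)}
  have hI : I.Finite := by
    apply IsCompact.finite (TopologicalSpace.NoetherianSpace.isCompact I)
    rw [isDiscrete_iff_forall_mem_exists_isOpen]
    intro a ha
    refine ⟨{a}, ha, ?_⟩
    ext b
    simp only [Set.mem_inter_iff, Set.mem_singleton_iff, and_iff_left_iff_imp]
    rintro rfl
    exact ha
  refine (hI.image (fun z : F => z.1.asIdeal)).subset ?_
  rintro q ⟨hq, hqp, hqf⟩
  refine ⟨⟨⟨q, hq⟩, PrimeSpectrum.ext hqp⟩, ?_, rfl⟩
  exact isOpen_singleton_of_quasiFiniteAt ⟨q, hq⟩ hqf P (PrimeSpectrum.ext hqp)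

end Groth.Agent.Helper16.QFDescent
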