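import Mathlib

set_option autoImplicit false
set_option linter.style.haveILetI false
universe u

open IsLocalRing

namespace Groth.Agent.Helper16.QFPre

/-- **Lifted system of parameters.** In a localization `LX = C_Q` with `LX/IX` Noetherian of
dimension `m`, there are `m` elements of `Q` cutting out only the maximal ideal modulo `IX`. -/
theorem exists_sop_elements {C : Type u} [CommRing C] (Q : Ideal C) [Q.IsPrime]
    {LX : Type u} [CommRing LX] [Algebra C LX] [IsLocalization.AtPrime LX Q] [IsLocalRing LX]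
    (IX : Ideal LX) (hIX : IX ≤ maximalIdeal LX) [IsNoetherianRing (LX ⧸ IX)] (m : ℕ)
    (hm : ringKrullDim (LX ⧸ IX) = (m : WithBot ℕ∞)) :
    ∃ d : Fin m → C, (∀ i, d i ∈ Q) ∧
      ∀ P' : Ideal LX, P'.IsPrime → IX ≤ P' → (∀ i, algebraMap C LX (d i) ∈ P') →
        P' = maximalIdeal LX := by
  classical
  haveI : Nontrivial (LX ⧸ IX) :=
    Ideal.Quotient.nontrivial_iff.2 (fun h => (maximalIdeal.isMaximal LX).ne_top
      (top_le_iff.1 (h ▸ hIX)))
  haveI : IsLocalRing (LX ⧸ IX) :=
    IsLocalRing.of_surjective' (Ideal.Quotient.mk IX) Ideal.Quotient.mk_surjective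
  haveI : IsLocalHom (Ideal.Quotient.mk IX) :=
    IsLocalHom.of_surjective _ Ideal.Quotient.mk_surjective
  obtain ⟨s, hs, hcard⟩ :=
    Ideal.exists_finset_card_eq_height_of_isNoetherianRing (maximalIdeal (LX ⧸ IX))
  have hcard' : s.card = m := by
    have h1 : ((maximalIdeal (LX ⧸ IX)).height : WithBot ℕ∞) = (m : WithBot ℕ∞) := by
      rw [IsLocalRing.maximalIdeal_height_eq_ringKrullDim, hm]
    rw [← hcard] at h1
    exact_mod_cast h1
  -- lifts
  have hlift : ∀ x : LX ⧸ IX, ∃ (a : C) (t : C), t ∉ Q ∧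
      x * Ideal.Quotient.mk IX (algebraMap C LX t) = Ideal.Quotient.mk IX (algebraMap C LX a) := by
    intro x
    obtain ⟨y, rfl⟩ := Ideal.Quotient.mk_surjective x
    obtain ⟨⟨a, t⟩, hat⟩ := IsLocalization.surj Q.primeCompl y
    refine ⟨a, t.1, t.2, ?_⟩
    rw [← map_mul, hat]
  choose a t ht hat using hlift
  let e : Fin m ≃ s := (Fintype.equivFinOfCardEq (by rw [Fintype.card_coe, hcard'])).symm
  have hunit : ∀ x : LX ⧸ IX, IsUnit (Ideal.Quotient.mk IX (algebraMap C LX (t x))) := fun x =>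
    (IsLocalization.map_units LX (⟨t x, ht x⟩ : Q.primeCompl)).map _
  have hsmax : ∀ x ∈ s, x ∈ maximalIdeal (LX ⧸ IX) := fun x hx =>
    hs.1.2 (Ideal.subset_span hx)
  refine ⟨fun i => a (e i).1, fun i => ?_, ?_⟩
  · -- membership in Q
    rw [← IsLocalization.AtPrime.to_map_mem_maximal_iff LX Q]
    rw [mem_maximalIdeal, mem_nonunits_iff]
    intro hu
    have h1 : IsUnit (Ideal.Quotient.mk IX (algebraMap C LX (a (e i).1))) := hu.map _
    rw [← hat] at h1
    have h2 : IsUnit ((e i).1 : LX ⧸ IX) := isUnit_of_mul_isUnit_left h1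
    exact (mem_nonunits_iff.1 ((mem_maximalIdeal _).1 (hsmax _ (e i).2))) h2
  · intro P' hP' hIXP' hd
    have hker : RingHom.ker (Ideal.Quotient.mk IX) ≤ P' := by rw [Ideal.mk_ker]; exact hIXP'
    have hP'' : (P'.map (Ideal.Quotient.mk IX)).IsPrime :=
      Ideal.map_isPrime_of_surjective Ideal.Quotient.mk_surjective hker
    have hsP : Ideal.span (s : Set (LX ⧸ IX)) ≤ P'.map (Ideal.Quotient.mk IX) := by
      rw [Ideal.span_le]
      intro x hx
      have h1 : Ideal.Quotient.mk IX (algebraMap C LX (a x)) ∈ P'.map (Ideal.Quotient.mk IX) := by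
        have := hd (e.symm ⟨x, hx⟩)
        simp only [Equiv.apply_symm_apply] at this
        exact Ideal.mem_map_of_mem _ this
      rw [← hat] at h1
      exact (hP''.mem_or_mem h1).resolve_right
        (fun h => hP''.ne_top (Ideal.eq_top_of_isUnit_mem _ h (hunit x)))
    have hle : P'.map (Ideal.Quotient.mk IX) ≤ maximalIdeal (LX ⧸ IX) :=
      IsLocalRing.le_maximalIdeal hP''.ne_top
    have hmax : P'.map (Ideal.Quotient.mk IX) = maximalIdeal (LX ⧸ IX) :=
      le_antisymm hle (hs.2 ⟨hP'', hsP⟩ hle)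
    have hcomap : (P'.map (Ideal.Quotient.mk IX)).comap (Ideal.Quotient.mk IX) = P' := by
      rw [Ideal.comap_map_of_surjective _ Ideal.Quotient.mk_surjective, sup_eq_left,
        ← RingHom.ker_eq_comap_bot]
      exact hker
    have hPmax : P'.IsMaximal := by
      rw [← hcomap, hmax]
      exact Ideal.comap_isMaximal_of_surjective _ Ideal.Quotient.mk_surjective
    exact IsLocalRing.eq_maximalIdeal hPmax

end Groth.Agent.Helper16.QFPre
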