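import Mathlib
import Groth.Agent.Lib.Helper16.Alg.SmAtPt
import Groth.Agent.Lib.Helper14.RegSmooth
import Groth.Agent.Lib.Helper14.RegHomTFAE

set_option autoImplicit false
set_option linter.unusedSectionVars false
set_option linter.style.haveILetI false
universe u

open TensorProduct IsLocalRing

namespace Groth.Agent.Helper16.SmAtPt

open Algebra

variable {R S : Type u} [CommRing R] [CommRing S] [Algebra R S]

local notation "𝓀[" R "]" => ResidueField R

/-- the fibre local ring `S_q / p S_q` is the localization of the fibre ring at the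
corresponding prime. -/
theorem nonempty_ringEquiv_fiber_quotient (p : Ideal R) (q : Ideal S)
    [p.IsPrime] [q.IsPrime] [q.LiesOver p]
    (Q : Ideal (p.Fiber S)) [Q.IsPrime]
    (hQ : Q.comap (Algebra.TensorProduct.includeRight : S →ₐ[R] p.Fiber S).toRingHom = q) :
    letI := Localization.AtPrime.algebraOfLiesOver p q
    Nonempty (Localization.AtPrime Q ≃+*
      (Localization.AtPrime q ⧸ (maximalIdeal (Localization.AtPrime p)).map
        (algebraMap (Localization.AtPrime p) (Localization.AtPrime q)))) := by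
  let Rp := Localization.AtPrime p
  let Sq := Localization.AtPrime q
  let := Localization.AtPrime.algebraOfLiesOver p q
  let : Algebra S (𝓀[Rp] ⊗[R] S) := Algebra.TensorProduct.rightAlgebra
  haveI hloc : IsLocalization.AtPrime ((p.Fiber S) ⊗[S] Localization.AtPrime q) Q :=
    isLocalization_atPrime_fiber_tensor p q Q hQ
  let e₀ : Localization.AtPrime Q ≃ₐ[p.Fiber S] ((p.Fiber S) ⊗[S] Localization.AtPrime q) :=
    IsLocalization.algEquiv Q.primeCompl (Localization.AtPrime Q)
      ((p.Fiber S) ⊗[S] Localization.AtPrime q)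
  let e : 𝓀[Rp] ⊗[R] S ≃ₐ[S] S ⊗[R] 𝓀[Rp] :=
    { __ := Algebra.TensorProduct.comm _ _ _, commutes' _ := rfl }
  let e' : (𝓀[Rp] ⊗[R] S) ⊗[S] Sq ≃ₐ[R] 𝓀[Rp] ⊗[Rp] Sq :=
    ((Algebra.TensorProduct.comm _ _ _).restrictScalars R).trans <|
    ((Algebra.TensorProduct.congr (.refl (R := S)) e).restrictScalars R).trans <|
    ((Algebra.TensorProduct.cancelBaseChange _ _ S _ _).restrictScalars R).trans <|
    (Algebra.TensorProduct.comm _ _ _).trans (Algebra.TensorProduct.equivOfCompatibleSMul ..)
  let e₃ : (Sq ⧸ (maximalIdeal Rp).map (algebraMap Rp Sq)) ≃ₐ[Rp ⧸ maximalIdeal Rp]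
      (Rp ⧸ maximalIdeal Rp) ⊗[Rp] Sq :=
    Algebra.TensorProduct.quotIdealMapEquivQuotTensor Sq (maximalIdeal Rp)
  exact ⟨(e₀.toRingEquiv.trans e'.toRingEquiv).trans e₃.symm.toRingEquiv⟩

/-- if the base local ring is regular, the fibre is smooth at the point and the dimension
formula holds, then the local ring upstairs is regular. -/
theorem isRegularLocalRing_of_fiber_smooth [Algebra.FiniteType R S] (p : Ideal R) (q : Ideal S)
    [p.IsPrime] [q.IsPrime] [q.LiesOver p]
    [IsRegularLocalRing (Localization.AtPrime p)] [IsNoetherianRing (Localization.AtPrime q)]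
    (Q : Ideal (p.Fiber S)) [Q.IsPrime]
    (hQ : Q.comap (Algebra.TensorProduct.includeRight : S →ₐ[R] p.Fiber S).toRingHom = q)
    [Algebra.IsSmoothAt p.ResidueField Q]
    (hdim : ringKrullDim (Localization.AtPrime p) + ((Q.height : ℕ∞) : WithBot ℕ∞) ≤
      ringKrullDim (Localization.AtPrime q)) :
    IsRegularLocalRing (Localization.AtPrime q) := by
  let Rp := Localization.AtPrime p
  let Sq := Localization.AtPrime q
  letI := Localization.AtPrime.algebraOfLiesOver p q
  obtain ⟨e⟩ := nonempty_ringEquiv_fiber_quotient p q Q hQ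
  haveI hregQ : IsRegularLocalRing (Localization.AtPrime Q) :=
    Groth.Agent.Helper14.RegSmooth.isRegularLocalRing_of_isSmoothAt p.ResidueField (p.Fiber S) Q
  haveI hregF : IsRegularLocalRing (Sq ⧸ (maximalIdeal Rp).map (algebraMap Rp Sq)) :=
    IsRegularLocalRing.of_ringEquiv (R := Localization.AtPrime Q) e
  haveI : IsLocalHom (algebraMap Rp Sq) := inferInstance
  have h1 := Groth.Agent.Helper14.RegHomTFAE.embdim_le (A := Rp) (B := Sq)
  have h2 : ((maximalIdeal Rp).spanFinrank : WithBot ℕ∞) = ringKrullDim Rp :=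
    (isRegularLocalRing_iff Rp).1 inferInstance
  have h3 : ((maximalIdeal (Sq ⧸ (maximalIdeal Rp).map (algebraMap Rp Sq))).spanFinrank :
      WithBot ℕ∞) = ringKrullDim (Sq ⧸ (maximalIdeal Rp).map (algebraMap Rp Sq)) :=
    (isRegularLocalRing_iff _).1 hregF
  have h4 : ringKrullDim (Sq ⧸ (maximalIdeal Rp).map (algebraMap Rp Sq)) =
      ((Q.height : ℕ∞) : WithBot ℕ∞) := by
    rw [← ringKrullDim_eq_of_ringEquiv e,
      IsLocalization.AtPrime.ringKrullDim_eq_height Q (Localization.AtPrime Q)]
  refine IsRegularLocalRing.of_spanFinrank_maximalIdeal_le _ ?_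
  calc ((maximalIdeal Sq).spanFinrank : WithBot ℕ∞)
      ≤ (((maximalIdeal Rp).spanFinrank +
          (maximalIdeal (Sq ⧸ (maximalIdeal Rp).map (algebraMap Rp Sq))).spanFinrank : ℕ) :
          WithBot ℕ∞) := by exact_mod_cast h1
    _ = ringKrullDim Rp + ((Q.height : ℕ∞) : WithBot ℕ∞) := by
        rw [← h4, ← h3, ← h2]; norm_cast
    _ ≤ ringKrullDim Sq := hdim

end Groth.Agent.Helper16.SmAtPt
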