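import Mathlib
import Groth.Prelude.Def_EGA4b
import Groth.Prelude.Def_CAlg
import Groth.Agent.Lib.Helper16.Alg.SmAtPt3
import Groth.Agent.Lib.Helper16.Sch.FibCM
import Groth.Agent.Lib.Helper9.Depth4

/-!
# Fibre local rings `B_q / p B_q`: localization of the fibre ring, quotients, regular sequences
-/

set_option autoImplicit false
set_option linter.style.haveILetI false
universe u

open scoped TensorProduct
open IsLocalRing RingTheory.Sequence

namespace Groth.Agent.Helper16.RegLoc



section fibloc

variable (R B : Type u) [CommRing R] [CommRing B] [Algebra R B]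

/-- the fibre local ring `B_q / p B_q` is the localization of the fibre ring at the
corresponding prime. -/
theorem nonempty_ringEquiv_fibLocRing (p : Ideal R) (q : Ideal B)
    [p.IsPrime] [q.IsPrime] [q.LiesOver p]
    (Q : Ideal (p.Fiber B)) [Q.IsPrime]
    (hQ : Q.comap (Algebra.TensorProduct.includeRight : B →ₐ[R] p.Fiber B).toRingHom = q) :
    Nonempty (Localization.AtPrime Q ≃+* EGA4.FibLocRing R B q) := by
  letI := Localization.AtPrime.algebraOfLiesOver p q
  obtain ⟨e⟩ := Groth.Agent.Helper16.SmAtPt.nonempty_ringEquiv_fiber_quotient p q Q hQ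
  have hI : (maximalIdeal (Localization.AtPrime p)).map
      (algebraMap (Localization.AtPrime p) (Localization.AtPrime q)) =
      (q.comap (algebraMap R B)).map (algebraMap R (Localization.AtPrime q)) := by
    rw [← Localization.AtPrime.map_eq_maximalIdeal, Ideal.map_map,
      ← IsScalarTower.algebraMap_eq]
    congr 1
    exact (Ideal.LiesOver.over (p := p) (P := q))
  exact ⟨e.trans (Ideal.quotEquivOfEq hI)⟩

end fibloc



section factB

variable (R S : Type u) [CommRing R] [CommRing S] [Algebra R S]

/-- the quotient of a localization at a prime is the localization of the quotient. -/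
theorem isLocalization_atPrime_quotient (I : Ideal S) (q : Ideal S) [q.IsPrime]
    (qT : Ideal (S ⧸ I)) [qT.IsPrime] (hq : qT.comap (Ideal.Quotient.mk I) = q) :
    IsLocalization.AtPrime
      (Localization.AtPrime q ⧸ I.map (algebraMap S (Localization.AtPrime q))) qT := by
  have h : Algebra.algebraMapSubmonoid (S ⧸ I) q.primeCompl = qT.primeCompl := by
    ext x
    obtain ⟨s, rfl⟩ := Ideal.Quotient.mk_surjective x
    simp only [Algebra.algebraMapSubmonoid, Submonoid.mem_map, Ideal.mem_primeCompl_iff]
    constructor
    · rintro ⟨s', hs', hss'⟩ hmem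
      apply hs'
      rw [← hq, Ideal.mem_comap]
      rw [Ideal.Quotient.algebraMap_eq] at hss'
      rw [hss']
      exact hmem
    · intro hs
      refine ⟨s, ?_, rfl⟩
      intro hsq
      apply hs
      rw [← hq, Ideal.mem_comap] at hsq
      exact hsq
  unfold IsLocalization.AtPrime
  rw [← h]
  infer_instance

theorem map_map_eq {R A A' : Type*} [CommRing R] [CommRing A] [CommRing A'] (p : Ideal R)
    (g : R →+* A) (h : A →+* A') (g' : R →+* A') (hc : h.comp g = g') :
    (p.map g).map h = p.map g' := by
  rw [Ideal.map_map, hc]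

/-- **Fact B**: the fibre local ring of a quotient is the quotient of the fibre local ring. -/
theorem nonempty_ringEquiv_fibLocRing_quotient (I : Ideal S) (q : Ideal S) [q.IsPrime]
    (qT : Ideal (S ⧸ I)) [qT.IsPrime] (hq : qT.comap (Ideal.Quotient.mk I) = q) :
    Nonempty ((EGA4.FibLocRing R S q ⧸ I.map (algebraMap S (EGA4.FibLocRing R S q))) ≃+*
      EGA4.FibLocRing R (S ⧸ I) qT) := by
  haveI := isLocalization_atPrime_quotient S I q qT hq
  let ε : Localization.AtPrime qT ≃ₐ[S ⧸ I]
      (Localization.AtPrime q ⧸ I.map (algebraMap S (Localization.AtPrime q))) :=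
    IsLocalization.algEquiv qT.primeCompl _ _
  have hp : qT.comap (algebraMap R (S ⧸ I)) = q.comap (algebraMap R S) := by
    rw [← hq, Ideal.comap_comap]
    rfl
  have h1 : I.map (algebraMap S (EGA4.FibLocRing R S q)) =
      (I.map (algebraMap S (Localization.AtPrime q))).map
        (Ideal.Quotient.mk ((q.comap (algebraMap R S)).map
          (algebraMap R (Localization.AtPrime q)))) := by
    rw [Ideal.map_map]
    rfl
  have key : (Ideal.Quotient.mk (I.map (algebraMap S (Localization.AtPrime q)))).comp
      (algebraMap R (Localization.AtPrime q)) =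
      (ε : Localization.AtPrime qT →+* _).comp (algebraMap R (Localization.AtPrime qT)) := by
    ext r
    simp only [RingHom.comp_apply]
    rw [IsScalarTower.algebraMap_apply R (S ⧸ I) (Localization.AtPrime qT)]
    have := ε.commutes (algebraMap R (S ⧸ I) r)
    rw [RingHom.coe_coe, this]
    rw [IsScalarTower.algebraMap_apply R S (Localization.AtPrime q),
      ← Ideal.Quotient.mk_algebraMap, Ideal.Quotient.algebraMap_quotient_map_quotient]
  have h2 : ((q.comap (algebraMap R S)).map (algebraMap R (Localization.AtPrime q))).map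
        (Ideal.Quotient.mk (I.map (algebraMap S (Localization.AtPrime q)))) =
      ((qT.comap (algebraMap R (S ⧸ I))).map (algebraMap R (Localization.AtPrime qT))).map
        (ε : Localization.AtPrime qT →+* _) := by
    rw [map_map_eq _ _ _ _ key, hp, Ideal.map_map]
  let e1 : (EGA4.FibLocRing R S q ⧸ I.map (algebraMap S (EGA4.FibLocRing R S q))) ≃+*
      ((Localization.AtPrime q ⧸ ((q.comap (algebraMap R S)).map
          (algebraMap R (Localization.AtPrime q)))) ⧸
        (I.map (algebraMap S (Localization.AtPrime q))).map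
        (Ideal.Quotient.mk ((q.comap (algebraMap R S)).map
          (algebraMap R (Localization.AtPrime q))))) := Ideal.quotEquivOfEq h1
  let e2 := DoubleQuot.quotQuotEquivComm ((q.comap (algebraMap R S)).map
          (algebraMap R (Localization.AtPrime q))) (I.map (algebraMap S (Localization.AtPrime q)))
  let e3 : EGA4.FibLocRing R (S ⧸ I) qT ≃+* _ :=
    Ideal.quotientEquiv _ _ ε.toRingEquiv h2
  exact ⟨(e1.trans e2).trans e3.symm⟩

end factB



section quot

variable (R S : Type u) [CommRing R] [CommRing S] [Algebra R S]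

/-- the surjection of fibre rings induced by a quotient. -/
noncomputable def fibMap (p : Ideal R) [p.IsPrime] (I : Ideal S) :
    p.Fiber S →ₐ[p.ResidueField] p.Fiber (S ⧸ I) :=
  Algebra.TensorProduct.map (AlgHom.id p.ResidueField p.ResidueField) (Ideal.Quotient.mkₐ R I)

theorem fibMap_surjective (p : Ideal R) [p.IsPrime] (I : Ideal S) :
    Function.Surjective (fibMap R S p I) := by
  unfold fibMap
  exact Algebra.TensorProduct.map_surjective _ _ Function.surjective_id
    (Ideal.Quotient.mkₐ_surjective R I)

theorem comap_fibMap_comap (p : Ideal R) [p.IsPrime] (I : Ideal S)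
    (QT : Ideal (p.Fiber (S ⧸ I))) :
    (QT.comap (fibMap R S p I)).comap
        (Algebra.TensorProduct.includeRight : S →ₐ[R] p.Fiber S).toRingHom =
      (QT.comap (Algebra.TensorProduct.includeRight :
        (S ⧸ I) →ₐ[R] p.Fiber (S ⧸ I)).toRingHom).comap (Ideal.Quotient.mk I) := by
  ext x
  simp only [Ideal.mem_comap]
  have : fibMap R S p I ((Algebra.TensorProduct.includeRight : S →ₐ[R] p.Fiber S).toRingHom x) =
      (Algebra.TensorProduct.includeRight : (S ⧸ I) →ₐ[R] p.Fiber (S ⧸ I)).toRingHom
        (Ideal.Quotient.mk I x) := by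
    simp [fibMap]
  rw [this]

theorem trdeg_quotient_comap_fibMap (p : Ideal R) [p.IsPrime] (I : Ideal S)
    (QT : Ideal (p.Fiber (S ⧸ I))) [QT.IsPrime] :
    Algebra.trdeg p.ResidueField (p.Fiber S ⧸ QT.comap (fibMap R S p I)) =
      Algebra.trdeg p.ResidueField (p.Fiber (S ⧸ I) ⧸ QT) := by
  let φ : (p.Fiber S ⧸ QT.comap (fibMap R S p I)) →ₐ[p.ResidueField] (p.Fiber (S ⧸ I) ⧸ QT) :=
    Ideal.quotientMapₐ QT (fibMap R S p I) le_rfl
  have hinj : Function.Injective φ := Ideal.quotientMap_injective
  have hsurj : Function.Surjective φ :=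
    Ideal.quotientMap_surjective (H := le_rfl) (fibMap_surjective R S p I)
  exact (AlgEquiv.ofBijective φ ⟨hinj, hsurj⟩).trdeg_eq

end quot



section cm

variable (A : Type u) [CommRing A]

theorem supportDim_quot_ofList [IsLocalRing A] [IsNoetherianRing A] (xs : List A) :
    Module.supportDim A (A ⧸ Ideal.ofList xs • (⊤ : Submodule A A)) =
      ringKrullDim (A ⧸ Ideal.ofList xs) := by
  have eq : Ideal.ofList xs = Ideal.ofList xs • (⊤ : Ideal A) := by simp
  rw [ringKrullDim_eq_of_ringEquiv (Ideal.quotientEquivAlgOfEq A eq).toRingEquiv,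
    ← Module.supportDim_quotient_eq_ringKrullDim]

/-- in a Cohen–Macaulay local ring, a sequence in the maximal ideal is regular iff it cuts
the dimension down by its length. -/
theorem isRegular_iff_dim [hA : LocCoh.IsCohenMacaulayLocalRing A] (xs : List A)
    (hxs : ∀ x ∈ xs, x ∈ maximalIdeal A) :
    IsRegular A xs ↔
      ringKrullDim (A ⧸ Ideal.ofList xs) + (xs.length : WithBot ℕ∞) ≤ ringKrullDim A := by
  constructor
  · intro h
    exact (ringKrullDim_add_length_eq_ringKrullDim_of_isRegular xs h).le
  · intro h
    have hM : LocCoh.IsCohenMacaulayModule A A := hA.supportDim_eq_depth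
    have h1 := Groth.Agent.Helper9.Depth.supportDim_le_quotient_add_length xs A hxs
    rw [supportDim_quot_ofList, Module.supportDim_self_eq_ringKrullDim] at h1
    have h2 := (Groth.Agent.Helper9.Depth.cm_list xs A hM hxs).1
    rw [supportDim_quot_ofList, Module.supportDim_self_eq_ringKrullDim] at h2
    exact IsRegular.of_isWeaklyRegular_of_mem_maximalIdeal A hxs (h2 (le_antisymm h h1))

end cm

end Groth.Agent.Helper16.RegLoc
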