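import Mathlib
import Groth.Prelude.Def_EGA4b
import Groth.Agent.Lib.Helper16.Alg.QFPreA
import Groth.Agent.Lib.Helper16.Alg.QFPreB
import Groth.Agent.Lib.Helper16.Alg.SliceSeq2
import Groth.Agent.Lib.Helper16.Alg.RegLocB

set_option autoImplicit false
set_option linter.style.haveILetI false
set_option linter.unusedSectionVars false
universe u

open IsLocalRing MvPolynomial

namespace Groth.Agent.Helper16.QFPre

section core

variable {R C : Type u} [CommRing R] [CommRing C] [Algebra R C]

/-- the fibre local ring of a finite type algebra is Noetherian. -/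
theorem isNoetherianRing_fibLocRing [Algebra.FiniteType R C] (q : Ideal C) [q.IsPrime] :
    IsNoetherianRing (EGA4.FibLocRing R C q) := by
  let q' : PrimeSpectrum C := ⟨q, inferInstance⟩
  let p' : PrimeSpectrum R := PrimeSpectrum.comap (algebraMap R C) q'
  haveI : q.LiesOver p'.asIdeal := ⟨rfl⟩
  let Q : PrimeSpectrum (p'.asIdeal.Fiber C) :=
    PrimeSpectrum.preimageHomeomorphFiber R C p' ⟨q', rfl⟩
  have hQ : Q.asIdeal.comap (Algebra.TensorProduct.includeRight :
      C →ₐ[R] p'.asIdeal.Fiber C).toRingHom = q := by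
    have := (PrimeSpectrum.preimageHomeomorphFiber R C p').symm_apply_apply ⟨q', rfl⟩
    exact congrArg (fun z => z.1.asIdeal) this
  obtain ⟨eS⟩ := RegLoc.nonempty_ringEquiv_fibLocRing R C p'.asIdeal q Q.asIdeal hQ
  haveI : IsNoetherianRing (p'.asIdeal.Fiber C) :=
    Algebra.FiniteType.isNoetherianRing p'.asIdeal.ResidueField _
  haveI : IsNoetherianRing (Localization.AtPrime Q.asIdeal) :=
    IsLocalization.isNoetherianRing Q.asIdeal.primeCompl _ inferInstance
  exact isNoetherianRing_of_ringEquiv _ eS

variable (n r : ℕ)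

/-- the projection of a polynomial to the first `r` variables. -/
noncomputable def proj : MvPolynomial (Fin n) R →ₐ[R] MvPolynomial (Fin r) R :=
  aeval (fun i : Fin n => if h : (i : ℕ) < r then X (⟨i, h⟩ : Fin r) else 0)

theorem sub_rename_proj_mem (hrn : r ≤ n) (P : MvPolynomial (Fin n) R) :
    P - rename (Fin.castLE hrn) (proj (R := R) n r P) ∈
      Ideal.span (Set.range fun i : {i : Fin n // r ≤ (i : ℕ)} =>
        (X (i : Fin n) : MvPolynomial (Fin n) R)) := by
  induction P using MvPolynomial.induction_on with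
  | C a =>
    rw [show (C a : MvPolynomial (Fin n) R) = algebraMap R _ a from rfl, AlgHom.commutes,
      show (algebraMap R (MvPolynomial (Fin r) R) a) = C a from rfl, rename_C]
    simp
  | add p q hp hq =>
    rw [map_add, map_add, add_sub_add_comm]
    exact Ideal.add_mem _ hp hq
  | mul_X p i hp =>
    rw [map_mul, map_mul]
    by_cases hi : (i : ℕ) < r
    · have h1 : rename (Fin.castLE hrn) (proj (R := R) n r (X i)) = X i := by
        unfold proj
        rw [aeval_X, dif_pos hi, rename_X]
        congr 1
      rw [h1, ← sub_mul]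
      exact Ideal.mul_mem_right _ _ hp
    · have h1 : proj (R := R) n r (X i) = 0 := by
        unfold proj
        rw [aeval_X, dif_neg hi]
      rw [h1, map_zero, mul_zero, sub_zero]
      refine Ideal.mul_mem_left _ _ (Ideal.subset_span ⟨⟨i, not_lt.1 hi⟩, rfl⟩)

theorem rename_mem_map_C {σ τ : Type*} (g : σ → τ) (p : Ideal R) (P : MvPolynomial σ R)
    (hP : P ∈ p.map (MvPolynomial.C : R →+* MvPolynomial σ R)) :
    rename g P ∈ p.map (MvPolynomial.C : R →+* MvPolynomial τ R) := by
  have h1 : (p.map (MvPolynomial.C : R →+* MvPolynomial σ R)).map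
      (rename g : MvPolynomial σ R →ₐ[R] _).toRingHom =
      p.map (MvPolynomial.C : R →+* MvPolynomial τ R) := by
    rw [Ideal.map_map]
    congr 1
    ext a
    simp
  rw [← h1]
  exact Ideal.mem_map_of_mem _ hP

variable {n r}

theorem ix_le_maximalIdeal (q : Ideal C) [q.IsPrime] :
    (q.comap (algebraMap R C)).map (algebraMap R (Localization.AtPrime q)) ≤
      maximalIdeal (Localization.AtPrime q) := by
  rw [Ideal.map_le_iff_le_comap]
  intro a ha
  rw [Ideal.mem_comap, IsScalarTower.algebraMap_apply R C (Localization.AtPrime q),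
    IsLocalization.AtPrime.to_map_mem_maximal_iff (Localization.AtPrime q) q]
  exact ha

set_option maxHeartbeats 1600000 in
/-- **Core**: coordinates `γ : Fin n → C` such that the preimage of `q` under `R[x] → C` is
`p R[x] + (x_{r+1}, …, x_n)` and `q` is isolated in its fibre over `R[x]`. -/
theorem core [Algebra.FiniteType R C] (q : Ideal C) [q.IsPrime] (hrn : r ≤ n)
    (hr : Algebra.trdeg (R ⧸ q.comap (algebraMap R C)) (C ⧸ q) = (r : Cardinal.{u}))
    (hm : ringKrullDim (EGA4.FibLocRing R C q) = ((n - r : ℕ) : WithBot ℕ∞)) :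
    ∃ γ : Fin n → C,
      q.comap (aeval γ : MvPolynomial (Fin n) R →ₐ[R] C) =
        (q.comap (algebraMap R C)).map (MvPolynomial.C : R →+* MvPolynomial (Fin n) R) ⊔
          Ideal.span (Set.range fun i : {i : Fin n // r ≤ (i : ℕ)} =>
            (X (i : Fin n) : MvPolynomial (Fin n) R)) ∧
      ∀ P' : Ideal C, P'.IsPrime →
        P'.comap (aeval γ : MvPolynomial (Fin n) R →ₐ[R] C) = q.comap (aeval γ) →
        (q ≤ P' ∨ P' ≤ q) → P' = q := by
  classical
  obtain ⟨τ, hτ, c, h1, h2, hcard⟩ := exists_trans_coords' (R := R) q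
  have hcard' : Nat.card τ = r := by
    rw [Nat.card, hcard, hr]
    exact Cardinal.toNat_natCast r
  let eτ : Fin r ≃ τ := (Finite.equivFinOfCardEq hcard').symm
  haveI := isNoetherianRing_fibLocRing (R := R) q
  obtain ⟨d, hdq, hd⟩ := exists_sop_elements q
    ((q.comap (algebraMap R C)).map (algebraMap R (Localization.AtPrime q)))
    (ix_le_maximalIdeal q) (n - r) hm
  let γ : Fin n → C := fun i =>
    if h : (i : ℕ) < r then c (eτ ⟨i, h⟩) else d ⟨(i : ℕ) - r, by omega⟩
  have hγ1 : ∀ t : τ, γ (Fin.castLE hrn (eτ.symm t)) = c t := by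
    intro t
    have : ((Fin.castLE hrn (eτ.symm t) : Fin n) : ℕ) < r := (eτ.symm t).2
    simp only [γ]
    rw [dif_pos this]
    congr 1
    exact eτ.apply_symm_apply t
  have hγ1' : ∀ j : Fin r, γ (Fin.castLE hrn j) = c (eτ j) := by
    intro j
    have := hγ1 (eτ j)
    rwa [eτ.symm_apply_apply] at this
  have hγ2 : ∀ i : Fin n, r ≤ (i : ℕ) → γ i ∈ q := by
    intro i hi
    simp only [γ]
    rw [dif_neg (not_lt.2 hi)]
    exact hdq _
  have hγ3 : ∀ j : Fin (n - r), ∃ i : Fin n, r ≤ (i : ℕ) ∧ γ i = d j := by
    intro j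
    refine ⟨⟨r + j, by omega⟩, by simp, ?_⟩
    simp only [γ]
    rw [dif_neg (by simp)]
    congr 1
    ext
    simp
  have hsup_le : (q.comap (algebraMap R C)).map (MvPolynomial.C : R →+* MvPolynomial (Fin n) R) ⊔
      Ideal.span (Set.range fun i : {i : Fin n // r ≤ (i : ℕ)} =>
        (X (i : Fin n) : MvPolynomial (Fin n) R)) ≤
      q.comap (aeval γ : MvPolynomial (Fin n) R →ₐ[R] C) := by
    refine sup_le ?_ ?_
    · rw [Ideal.map_le_iff_le_comap]
      intro a ha
      rw [Ideal.mem_comap, Ideal.mem_comap, aeval_C]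
      exact ha
    · rw [Ideal.span_le]
      rintro _ ⟨i, rfl⟩
      rw [SetLike.mem_coe, Ideal.mem_comap, aeval_X]
      exact hγ2 i.1 i.2
  refine ⟨γ, le_antisymm ?_ hsup_le, ?_⟩
  · intro P hP
    rw [Ideal.mem_comap] at hP
    have h3 := sub_rename_proj_mem (R := R) n r hrn P
    have h4 : aeval γ (rename (Fin.castLE hrn) (proj (R := R) n r P)) ∈ q := by
      have h5 : aeval γ (P - rename (Fin.castLE hrn) (proj (R := R) n r P)) ∈ q :=
        hsup_le (Ideal.mem_sup_right h3)
      rw [map_sub] at h5
      have := q.sub_mem hP h5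
      rwa [sub_sub_cancel] at this
    rw [aeval_rename] at h4
    have h6 : aeval c (rename eτ (proj (R := R) n r P)) ∈ q := by
      rw [aeval_rename]
      have : (c ∘ eτ) = γ ∘ Fin.castLE hrn := by
        funext j
        exact (hγ1' j).symm
      rw [this]
      exact h4
    have h7 := h1 _ h6
    have h8 := rename_mem_map_C eτ.symm _ _ h7
    rw [rename_rename, Equiv.symm_comp_self, rename_id_apply] at h8
    have h9 := rename_mem_map_C (Fin.castLE hrn) _ _ h8
    have : P = rename (Fin.castLE hrn) (proj (R := R) n r P) +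
        (P - rename (Fin.castLE hrn) (proj (R := R) n r P)) := by ring
    rw [this]
    exact Ideal.add_mem _ (Ideal.mem_sup_left h9) (Ideal.mem_sup_right h3)
  · intro P' hP' hover hor
    have hoverR : P'.comap (algebraMap R C) = q.comap (algebraMap R C) := by
      ext a
      have h3 : ∀ I : Ideal C, a ∈ I.comap (algebraMap R C) ↔
          (MvPolynomial.C a : MvPolynomial (Fin n) R) ∈
            I.comap (aeval γ : MvPolynomial (Fin n) R →ₐ[R] C) := by
        intro I
        rw [Ideal.mem_comap, Ideal.mem_comap, aeval_C]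
      rw [h3, h3, hover]
    rcases hor with hle | hle
    · refine h2 P' hP' hle ?_
      intro P hP
      have h3 : aeval c P = aeval γ (rename (Fin.castLE hrn ∘ eτ.symm) P) := by
        have : c = γ ∘ Fin.castLE hrn ∘ eτ.symm := funext fun t => (hγ1 t).symm
        rw [aeval_rename, ← this]
      rw [h3] at hP ⊢
      have : rename (Fin.castLE hrn ∘ eτ.symm) P ∈ P'.comap (aeval γ) := hP
      rw [hover] at this
      exact this
    · have hdisj : Disjoint (q.primeCompl : Set C) P' := by
        rw [Set.disjoint_left]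
        intro x hx hx'
        exact hx (hle hx')
      have hPL : (P'.map (algebraMap C (Localization.AtPrime q))).IsPrime :=
        IsLocalization.isPrime_of_isPrime_disjoint q.primeCompl _ _ hP' hdisj
      have h3 : (q.comap (algebraMap R C)).map (algebraMap R (Localization.AtPrime q)) ≤
          P'.map (algebraMap C (Localization.AtPrime q)) := by
        rw [IsScalarTower.algebraMap_eq R C (Localization.AtPrime q), ← Ideal.map_map]
        apply Ideal.map_mono
        rw [Ideal.map_le_iff_le_comap, hoverR]
      have h4 := hd _ hPL h3 (by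
        intro j
        obtain ⟨i, hi, hij⟩ := hγ3 j
        apply Ideal.mem_map_of_mem
        rw [← hij]
        have : (X i : MvPolynomial (Fin n) R) ∈ q.comap (aeval γ) := by
          rw [Ideal.mem_comap, aeval_X]
          exact hγ2 i hi
        rw [← hover, Ideal.mem_comap, aeval_X] at this
        exact this)
      rw [← IsLocalization.under_map_of_isPrime_disjoint q.primeCompl (Localization.AtPrime q)
        hP' hdisj, h4, IsLocalization.AtPrime.under_maximalIdeal (Localization.AtPrime q) q]

set_option maxHeartbeats 1600000 in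
set_option synthInstance.maxHeartbeats 400000 in
/-- quasi-finite coordinates on a principal open neighbourhood. -/
theorem main_affine [Algebra.FiniteType R C] (q : Ideal C) [q.IsPrime] (hrn : r ≤ n)
    (hr : Algebra.trdeg (R ⧸ q.comap (algebraMap R C)) (C ⧸ q) = (r : Cardinal.{u}))
    (hm : ringKrullDim (EGA4.FibLocRing R C q) = ((n - r : ℕ) : WithBot ℕ∞)) :
    ∃ (g : C) (φ : MvPolynomial (Fin n) R →ₐ[R] Localization.Away g), g ∉ q ∧
      φ.toRingHom.FiniteType ∧ φ.toRingHom.QuasiFinite ∧
      (q.map (algebraMap C (Localization.Away g))).comap φ =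
        (q.comap (algebraMap R C)).map (MvPolynomial.C : R →+* MvPolynomial (Fin n) R) ⊔
          Ideal.span (Set.range fun i : {i : Fin n // r ≤ (i : ℕ)} =>
            (X (i : Fin n) : MvPolynomial (Fin n) R)) := by
  obtain ⟨γ, hγ, hiso⟩ := core (R := R) q hrn hr hm
  letI aBC : Algebra (MvPolynomial (Fin n) R) C := (aeval γ : _ →ₐ[R] C).toRingHom.toAlgebra
  haveI tRBC : IsScalarTower R (MvPolynomial (Fin n) R) C :=
    IsScalarTower.of_algebraMap_eq fun a => by
      change algebraMap R C a = aeval γ (MvPolynomial.C a)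
      rw [aeval_C]
  haveI : Algebra.FiniteType (MvPolynomial (Fin n) R) C :=
    Algebra.FiniteType.of_restrictScalars_finiteType R _ C
  haveI : Algebra.QuasiFiniteAt (MvPolynomial (Fin n) R) q :=
    SliceSeq.quasiFiniteAt_of_isolated q (fun P' hP' hover hor => hiso P' hP' hover hor)
  have H : Algebra.ZariskisMainProperty (MvPolynomial (Fin n) R) q :=
    Algebra.ZariskisMainProperty.of_finiteType q
  obtain ⟨S', hS', g, hgq, Hbij⟩ := H.exists_fg_and_exists_notMem_and_awayMap_bijective q
  haveI : Module.Finite (MvPolynomial (Fin n) R) S' := ⟨(Submodule.fg_top _).mpr hS'⟩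
  haveI : Algebra.QuasiFinite (MvPolynomial (Fin n) R) (Localization.Away g) :=
    .trans _ S' _
  haveI hqfr : Algebra.QuasiFinite (MvPolynomial (Fin n) R) (Localization.Away g.1) :=
    Algebra.QuasiFinite.of_surjective_algHom (R := MvPolynomial (Fin n) R)
      (S := Localization.Away g) (T := Localization.Away g.1) (Localization.awayMapₐ S'.val g) Hbij.2
  refine ⟨g.1, IsScalarTower.toAlgHom R (MvPolynomial (Fin n) R)
    (Localization.Away g.1), hgq, ?_, ?_, ?_⟩
  · have : Algebra.FiniteType (MvPolynomial (Fin n) R) (Localization.Away g.1) :=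
      Algebra.FiniteType.trans (S := C) inferInstance inferInstance
    exact RingHom.finiteType_algebraMap.mpr this
  · exact RingHom.quasiFinite_algebraMap.mpr hqfr
  · rw [← hγ]
    have hdisj : Disjoint (Submonoid.powers g.1 : Set C) q := by
      rw [Set.disjoint_left]
      rintro _ ⟨m, rfl⟩ hx
      exact hgq (‹q.IsPrime›.mem_of_pow_mem m hx)
    have h1 := IsLocalization.under_map_of_isPrime_disjoint (Submonoid.powers g.1)
      (Localization.Away g.1) ‹q.IsPrime› hdisj
    ext P
    rw [Ideal.mem_comap, Ideal.mem_comap]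
    change algebraMap C (Localization.Away g.1) (aeval γ P) ∈ _ ↔ _
    rw [← Ideal.mem_comap]
    rw [Ideal.under_def] at h1
    rw [h1]

end core

end Groth.Agent.Helper16.QFPre
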