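import Mathlib
import Groth.Agent.Lib.Helper16.Alg.UnrSplit3
set_option autoImplicit false
set_option linter.style.haveILetI false
set_option linter.dupNamespace false
open TensorProduct
universe u

namespace Groth.Agent.Helper16.QFSplit
open Groth.Agent.Helper16.UnrSplit

/-- the component `A → Aj j` of a decomposition of `R' ⊗[R] A` -/
noncomputable def toPiece {R R' A : Type u} [CommRing R] [CommRing R'] [CommRing A] [Algebra R R']
    [Algebra R A] {J : Type} {Aj : J → Type u} [∀ j, CommRing (Aj j)] [∀ j, Algebra R' (Aj j)]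
    {B : Type u} [CommRing B] [Algebra R' B] (E : (R' ⊗[R] A) ≃ₐ[R'] ((∀ j, Aj j) × B)) (j : J) :
    A →+* Aj j :=
  ((Pi.evalRingHom Aj j).comp (RingHom.fst (∀ j, Aj j) B)).comp
    (E.toRingEquiv.toRingHom.comp
      (Algebra.TensorProduct.includeRight : A →ₐ[R] R' ⊗[R] A).toRingHom)

/-- the component `A → B` of a decomposition of `R' ⊗[R] A` -/
noncomputable def toRest {R R' A : Type u} [CommRing R] [CommRing R'] [CommRing A] [Algebra R R']
    [Algebra R A] {J : Type} {Aj : J → Type u} [∀ j, CommRing (Aj j)] [∀ j, Algebra R' (Aj j)]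
    {B : Type u} [CommRing B] [Algebra R' B] (E : (R' ⊗[R] A) ≃ₐ[R'] ((∀ j, Aj j) × B)) :
    A →+* B :=
  (RingHom.snd (∀ j, Aj j) B).comp
    (E.toRingEquiv.toRingHom.comp
      (Algebra.TensorProduct.includeRight : A →ₐ[R] R' ⊗[R] A).toRingHom)

@[simp] theorem toPiece_apply {R R' A : Type u} [CommRing R] [CommRing R'] [CommRing A]
    [Algebra R R'] [Algebra R A] {J : Type} {Aj : J → Type u} [∀ j, CommRing (Aj j)]
    [∀ j, Algebra R' (Aj j)] {B : Type u} [CommRing B] [Algebra R' B]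
    (E : (R' ⊗[R] A) ≃ₐ[R'] ((∀ j, Aj j) × B)) (j : J) (a : A) :
    toPiece E j a = (E (1 ⊗ₜ a)).1 j := rfl

@[simp] theorem toRest_apply {R R' A : Type u} [CommRing R] [CommRing R'] [CommRing A]
    [Algebra R R'] [Algebra R A] {J : Type} {Aj : J → Type u} [∀ j, CommRing (Aj j)]
    [∀ j, Algebra R' (Aj j)] {B : Type u} [CommRing B] [Algebra R' B]
    (E : (R' ⊗[R] A) ≃ₐ[R'] ((∀ j, Aj j) × B)) (a : A) :
    toRest E a = (E (1 ⊗ₜ a)).2 := rfl

/-- decomposition data for `R' ⊗[R] A` at `p'` relative to a set `T` of primes of `A` -/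
def QFDec (R R' A : Type u) [CommRing R] [CommRing R'] [CommRing A] [Algebra R R'] [Algebra R A]
    (p' : Ideal R') (T : Set (Ideal A)) : Prop :=
  ∃ (J : Type) (_ : Finite J) (Aj : J → Type u) (_ : ∀ j, CommRing (Aj j))
    (_ : ∀ j, Algebra R' (Aj j)) (B : Type u) (_ : CommRing B) (_ : Algebra R' B)
    (E : (R' ⊗[R] A) ≃ₐ[R'] ((∀ j, Aj j) × B)),
    (∀ j, Module.Finite R' (Aj j) ∧ ∃ r : Ideal (Aj j), r.IsPrime ∧
      r.comap (algebraMap R' (Aj j)) = p' ∧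
      (∀ r' : Ideal (Aj j), r'.IsPrime → r'.comap (algebraMap R' (Aj j)) = p' → r' = r) ∧
      r.comap (toPiece E j) ∈ T) ∧
    ∀ Q : Ideal B, Q.IsPrime → Q.comap (algebraMap R' B) = p' → Q.comap (toRest E) ∉ T

/-- splitting a ring along an idempotent -/
theorem exists_prodQuot {E C : Type u} [CommRing E] [CommRing C] [Algebra E C] (e : C)
    (he : IsIdempotentElem e) :
    ∃ F : C ≃ₐ[E] ((C ⧸ Ideal.span {1 - e}) × (C ⧸ Ideal.span {e})),
      ∀ t, F t = (Ideal.Quotient.mk _ t, Ideal.Quotient.mk _ t) := by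
  let F : C →ₐ[E] (C ⧸ Ideal.span {1 - e}) × (C ⧸ Ideal.span {e}) :=
    AlgHom.prod (Ideal.Quotient.mkₐ E (Ideal.span {1 - e})) (Ideal.Quotient.mkₐ E (Ideal.span {e}))
  have hinj : Function.Injective F := by
    rw [injective_iff_map_eq_zero]
    intro t ht
    have h1 : Ideal.Quotient.mk (Ideal.span {1 - e}) t = 0 := congrArg Prod.fst ht
    have h2 : Ideal.Quotient.mk (Ideal.span {e}) t = 0 := congrArg Prod.snd ht
    rw [Ideal.Quotient.eq_zero_iff_mem] at h1 h2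
    obtain ⟨a, rfl⟩ := Ideal.mem_span_singleton'.mp h1
    obtain ⟨b, hb⟩ := Ideal.mem_span_singleton'.mp h2
    have h3 : a * (1 - e) = a * (1 - e) * (1 - e) := by
      rw [mul_assoc, (he.one_sub).eq]
    rw [h3, ← hb, mul_assoc, mul_sub, mul_one, he.eq, sub_self, mul_zero]
  have hsurj : Function.Surjective F := by
    rintro ⟨y, b⟩
    obtain ⟨t₁, rfl⟩ := Ideal.Quotient.mk_surjective y
    obtain ⟨t₂, rfl⟩ := Ideal.Quotient.mk_surjective b
    refine ⟨t₁ * e + t₂ * (1 - e), ?_⟩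
    apply Prod.ext
    · show Ideal.Quotient.mk (Ideal.span {1 - e}) (t₁ * e + t₂ * (1 - e)) = Ideal.Quotient.mk _ t₁
      rw [Ideal.Quotient.eq, Ideal.mem_span_singleton']
      exact ⟨t₂ - t₁, by ring⟩
    · show Ideal.Quotient.mk (Ideal.span {e}) (t₁ * e + t₂ * (1 - e)) = Ideal.Quotient.mk _ t₂
      rw [Ideal.Quotient.eq, Ideal.mem_span_singleton']
      exact ⟨t₁ - t₂, by ring⟩
  exact ⟨AlgEquiv.ofBijective F ⟨hinj, hsurj⟩, fun t => rfl⟩

/-- the quotient by `1 - e` is a quotient of the localization away from `e` -/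
theorem finite_quot_of_finite_away {E C : Type u} [CommRing E] [CommRing C] [Algebra E C] (e : C)
    [Module.Finite E (Localization.Away e)] : Module.Finite E (C ⧸ Ideal.span {1 - e}) := by
  have hmk1 : Ideal.Quotient.mk (Ideal.span {1 - e}) (1 - e) = 0 :=
    Ideal.Quotient.eq_zero_iff_mem.mpr (Ideal.mem_span_singleton_self _)
  have hmke : Ideal.Quotient.mk (Ideal.span {1 - e}) e = 1 := by
    have : Ideal.Quotient.mk (Ideal.span {1 - e}) e =
        Ideal.Quotient.mk (Ideal.span {1 - e}) 1 - Ideal.Quotient.mk (Ideal.span {1 - e}) (1 - e) := by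
      rw [← map_sub]; congr 1; ring
    rw [this, hmk1, sub_zero, map_one]
  let f : Localization.Away e →ₐ[C] (C ⧸ Ideal.span {1 - e}) :=
    IsLocalization.Away.liftAlgHom e (f := Algebra.ofId C (C ⧸ Ideal.span {1 - e}))
      (by show IsUnit (Ideal.Quotient.mk (Ideal.span {1 - e}) e); rw [hmke]; exact isUnit_one)
  have hf : Function.Surjective (f.restrictScalars E) := by
    intro y
    obtain ⟨t, rfl⟩ := Ideal.Quotient.mk_surjective y
    exact ⟨algebraMap C (Localization.Away e) t, f.commutes t⟩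
  exact Module.Finite.of_surjective (f.restrictScalars E).toLinearMap hf

/-- trivial decomposition for the empty set -/
theorem qfDec_empty (R A : Type u) [CommRing R] [CommRing A] [Algebra R A] (p : Ideal R) :
    QFDec R R A p (∅ : Set (Ideal A)) := by
  let F : ((∀ _ : Empty, PUnit.{u+1}) × A) →ₐ[R] A := AlgHom.snd R _ A
  have hF : Function.Bijective F := by
    constructor
    · rintro ⟨a, s⟩ ⟨a', s'⟩ hss
      have : s = s' := hss
      subst this
      congr 1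
      funext i
      exact i.elim
    · intro s
      exact ⟨(fun _ => PUnit.unit, s), rfl⟩
  exact ⟨Empty, inferInstance, fun _ => PUnit.{u+1}, inferInstance, inferInstance, A, inferInstance,
    inferInstance, (Algebra.TensorProduct.lid R A).trans (AlgEquiv.ofBijective F hF).symm,
    fun j => j.elim, fun Q _ _ h => h⟩

theorem bijective_mapₐ_self (R : Type u) [CommRing R] (p : Ideal R) [p.IsPrime]
    [p.LiesOver p] :
    Function.Bijective (Ideal.ResidueField.mapₐ p p (Algebra.ofId R R) (p.over_def p)) := by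
  rw! [Algebra.ofId_self, Ideal.ResidueField.mapₐ_id]
  exact Function.bijective_id

/-- primes of the piece `C ⧸ (1 - e)` -/
theorem piece_primes {R₁ C : Type u} [CommRing R₁] [CommRing C] [Algebra R₁ C] (P₁ : Ideal R₁)
    (e : C) (he : IsIdempotentElem e) (P' : Ideal C) [P'.IsPrime]
    (hP' : P'.comap (algebraMap R₁ C) = P₁) (heP' : e ∉ P')
    (H : ∀ P'' : Ideal C, P''.IsPrime → P''.comap (algebraMap R₁ C) = P₁ → e ∉ P'' → P'' = P') :
    (P'.map (Ideal.Quotient.mk (Ideal.span {1 - e}))).IsPrime ∧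
    (P'.map (Ideal.Quotient.mk (Ideal.span {1 - e}))).comap (Ideal.Quotient.mk _) = P' ∧
    (P'.map (Ideal.Quotient.mk (Ideal.span {1 - e}))).comap
      (algebraMap R₁ (C ⧸ Ideal.span {1 - e})) = P₁ ∧
    ∀ r : Ideal (C ⧸ Ideal.span {1 - e}), r.IsPrime →
      r.comap (algebraMap R₁ (C ⧸ Ideal.span {1 - e})) = P₁ →
      r = P'.map (Ideal.Quotient.mk (Ideal.span {1 - e})) := by
  have hsurj : Function.Surjective (Ideal.Quotient.mk (Ideal.span {1 - e})) :=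
    Ideal.Quotient.mk_surjective
  have h1e : ∀ P'' : Ideal C, P''.IsPrime → e ∉ P'' → (1 - e) ∈ P'' := by
    intro P'' hP'' heP''
    have : e * (1 - e) ∈ P'' := by
      rw [mul_sub, mul_one, he.eq, sub_self]; exact P''.zero_mem
    exact (hP''.mem_or_mem this).resolve_left heP''
  have hker : RingHom.ker (Ideal.Quotient.mk (Ideal.span {1 - e})) ≤ P' := by
    rw [Ideal.mk_ker, Ideal.span_le, Set.singleton_subset_iff]
    exact h1e P' inferInstance heP'
  have hcm : (P'.map (Ideal.Quotient.mk (Ideal.span {1 - e}))).comap (Ideal.Quotient.mk _) = P' := by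
    rw [Ideal.comap_map_of_surjective _ hsurj]
    exact sup_eq_left.mpr hker
  refine ⟨Ideal.map_isPrime_of_surjective hsurj hker, hcm, ?_, ?_⟩
  · have : algebraMap R₁ (C ⧸ Ideal.span {1 - e}) =
        (Ideal.Quotient.mk (Ideal.span {1 - e})).comp (algebraMap R₁ C) := rfl
    rw [this, ← Ideal.comap_comap, hcm, hP']
  · intro r hr hrP
    have h2 : (r.comap (Ideal.Quotient.mk (Ideal.span {1 - e}))).IsPrime := Ideal.comap_isPrime _ _
    have h3 : (1 - e) ∈ r.comap (Ideal.Quotient.mk (Ideal.span {1 - e})) := by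
      rw [Ideal.mem_comap, Ideal.Quotient.eq_zero_iff_mem.mpr (Ideal.mem_span_singleton_self _)]
      exact r.zero_mem
    have h4 : e ∉ r.comap (Ideal.Quotient.mk (Ideal.span {1 - e})) := by
      intro h
      apply h2.one_notMem
      have h6 := add_mem h h3
      have : e + (1 - e) = (1 : C) := by ring
      rwa [this] at h6
    have h5 := H _ h2 (by
      have : algebraMap R₁ (C ⧸ Ideal.span {1 - e}) =
        (Ideal.Quotient.mk (Ideal.span {1 - e})).comp (algebraMap R₁ C) := rfl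
      rw [Ideal.comap_comap, ← this, hrP]) h4
    rw [← h5, Ideal.map_comap_of_surjective _ hsurj]

/-- base change of a piece with a unique prime along a trivial residue field extension -/
theorem unique_prime_baseChange {R₁ R₂ A₀ : Type u} [CommRing R₁] [CommRing R₂] [CommRing A₀]
    [Algebra R₁ R₂] [Algebra R₁ A₀] (P₁ : Ideal R₁) [P₁.IsPrime] (p₂ : Ideal R₂) [p₂.IsPrime]
    [p₂.LiesOver P₁]
    (hbij : Function.Bijective
      (Ideal.ResidueField.mapₐ P₁ p₂ (Algebra.ofId _ _) (p₂.over_def P₁)))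
    (r₀ : Ideal A₀) [r₀.IsPrime] (hr₀ : r₀.comap (algebraMap R₁ A₀) = P₁)
    (huniq : ∀ r : Ideal A₀, r.IsPrime → r.comap (algebraMap R₁ A₀) = P₁ → r = r₀) :
    ∃ r : Ideal (R₂ ⊗[R₁] A₀), r.IsPrime ∧ r.comap (algebraMap R₂ (R₂ ⊗[R₁] A₀)) = p₂ ∧
      (∀ r' : Ideal (R₂ ⊗[R₁] A₀), r'.IsPrime → r'.comap (algebraMap R₂ (R₂ ⊗[R₁] A₀)) = p₂ →
        r' = r) ∧
      r.comap (Algebra.TensorProduct.includeRight : A₀ →ₐ[R₁] R₂ ⊗[R₁] A₀).toRingHom = r₀ := by
  haveI : r₀.LiesOver P₁ := ⟨hr₀.symm⟩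
  let F := Ideal.fiberIsoOfBijectiveResidueField hbij (S := A₀)
  let r := F.symm ⟨r₀, inferInstance, inferInstance⟩
  refine ⟨r.1, r.2.1, (r.2.2.over).symm, ?_, ?_⟩
  · intro r' hr' hr'p
    haveI := hr'
    haveI : r'.LiesOver p₂ := ⟨hr'p.symm⟩
    have h1 : F ⟨r', inferInstance, inferInstance⟩ = ⟨r₀, inferInstance, inferInstance⟩ := by
      apply Subtype.ext
      exact huniq _ (F ⟨r', inferInstance, inferInstance⟩).2.1
        ((F ⟨r', inferInstance, inferInstance⟩).2.2.over).symm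
    have h2 : (⟨r', inferInstance, inferInstance⟩ : p₂.primesOver (R₂ ⊗[R₁] A₀)) = r :=
      (F.symm_apply_apply _).symm.trans (congrArg F.symm h1)
    exact congrArg Subtype.val h2
  · exact Ideal.comap_fiberIsoOfBijectiveResidueField_symm hbij ⟨r₀, inferInstance, inferInstance⟩

theorem bijective_mapₐ_trans {R R₁ R₂ : Type u} [CommRing R] [CommRing R₁] [CommRing R₂]
    [Algebra R R₁] [Algebra R₁ R₂] [Algebra R R₂] [IsScalarTower R R₁ R₂]
    (p : Ideal R) [p.IsPrime] (P₁ : Ideal R₁) [P₁.IsPrime] [P₁.LiesOver p]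
    (p₂ : Ideal R₂) [p₂.IsPrime] [p₂.LiesOver P₁] [p₂.LiesOver p]
    (h1 : Function.Bijective (Ideal.ResidueField.mapₐ p P₁ (Algebra.ofId _ _) (P₁.over_def p)))
    (h2 : Function.Bijective (Ideal.ResidueField.mapₐ P₁ p₂ (Algebra.ofId _ _) (p₂.over_def P₁))) :
    Function.Bijective (Ideal.ResidueField.mapₐ p p₂ (Algebra.ofId _ _) (p₂.over_def p)) := by
  convert h2.comp h1
  rw [← @AlgHom.coe_restrictScalars' R R₁, ← AlgHom.coe_comp]; congr 1; ext

/-- a type family on `Option J` -/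
def OptW {J : Type} (A₀ : Type u) (Aj : J → Type u) : Option J → Type u
  | none => A₀
  | some j => Aj j

instance optWCommRing {J : Type} (A₀ : Type u) (Aj : J → Type u) [CommRing A₀]
    [∀ j, CommRing (Aj j)] (o : Option J) : CommRing (OptW A₀ Aj o) :=
  match o with
  | none => inferInstanceAs (CommRing A₀)
  | some j => inferInstanceAs (CommRing (Aj j))

instance optWAlgebra {J : Type} (E : Type u) [CommRing E] (A₀ : Type u) (Aj : J → Type u)
    [CommRing A₀] [∀ j, CommRing (Aj j)] [Algebra E A₀] [∀ j, Algebra E (Aj j)] (o : Option J) :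
    Algebra E (OptW A₀ Aj o) :=
  match o with
  | none => inferInstanceAs (Algebra E A₀)
  | some j => inferInstanceAs (Algebra E (Aj j))

/-- adding one more piece to a decomposition -/
theorem qfDec_cons {R R' A : Type u} [CommRing R] [CommRing R'] [CommRing A] [Algebra R R']
    [Algebra R A] (p' : Ideal R') (T : Set (Ideal A)) {J : Type} [Finite J]
    (A₀ : Type u) [CommRing A₀] [Algebra R' A₀] (Aj : J → Type u) [∀ j, CommRing (Aj j)]
    [∀ j, Algebra R' (Aj j)] (B : Type u) [CommRing B] [Algebra R' B]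
    (E : (R' ⊗[R] A) ≃ₐ[R'] (A₀ × ((∀ j, Aj j) × B)))
    (f₀ : A →+* A₀) (hf₀ : ∀ a, f₀ a = (E (1 ⊗ₜ a)).1)
    (fj : ∀ j, A →+* Aj j) (hfj : ∀ j a, fj j a = (E (1 ⊗ₜ a)).2.1 j)
    (fB : A →+* B) (hfB : ∀ a, fB a = (E (1 ⊗ₜ a)).2.2)
    (h₀ : Module.Finite R' A₀ ∧ ∃ r : Ideal A₀, r.IsPrime ∧ r.comap (algebraMap R' A₀) = p' ∧
      (∀ r' : Ideal A₀, r'.IsPrime → r'.comap (algebraMap R' A₀) = p' → r' = r) ∧
      r.comap f₀ ∈ T)
    (hj : ∀ j, Module.Finite R' (Aj j) ∧ ∃ r : Ideal (Aj j), r.IsPrime ∧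
      r.comap (algebraMap R' (Aj j)) = p' ∧
      (∀ r' : Ideal (Aj j), r'.IsPrime → r'.comap (algebraMap R' (Aj j)) = p' → r' = r) ∧
      r.comap (fj j) ∈ T)
    (hB : ∀ Q : Ideal B, Q.IsPrime → Q.comap (algebraMap R' B) = p' → Q.comap fB ∉ T) :
    QFDec R R' A p' T := by
  let Φ : (R' ⊗[R] A) ≃ₐ[R'] ((∀ o, OptW A₀ Aj o) × B) :=
    E.trans (optionProdEquiv R' (OptW A₀ Aj) B)
  refine ⟨Option J, inferInstance, OptW A₀ Aj, inferInstance, inferInstance, B, inferInstance,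
    inferInstance, Φ, ?_, ?_⟩
  · rintro (_ | j)
    · have : toPiece Φ none = f₀ := RingHom.ext fun a => (hf₀ a).symm
      rw [this]
      exact h₀
    · have : toPiece Φ (some j) = fj j := RingHom.ext fun a => (hfj j a).symm
      rw [this]
      exact hj j
  · have : toRest Φ = fB := RingHom.ext fun a => (hfB a).symm
    rw [this]
    exact hB

/-- étale-local splitting of a finite set of quasi-finite primes (trivial residue extension) -/
theorem exists_qfDec (n : ℕ) : ∀ (R A : Type u) [CommRing R] [CommRing A] [Algebra R A]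
    [Algebra.FiniteType R A] (p : Ideal R) [p.IsPrime] (T : Set (Ideal A)) (_ : T.Finite)
    (_ : T.ncard = n)
    (_ : ∀ q ∈ T, ∃ (_ : q.IsPrime), q.comap (algebraMap R A) = p ∧ Algebra.QuasiFiniteAt R q),
    ∃ (R' : Type u) (_ : CommRing R') (_ : Algebra R R') (_ : Algebra.Etale R R') (p' : Ideal R')
      (_ : p'.IsPrime) (_ : p'.LiesOver p),
      Function.Bijective (Ideal.ResidueField.mapₐ p p' (Algebra.ofId _ _) (p'.over_def p)) ∧
      QFDec R R' A p' T := by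
  induction n using Nat.strong_induction_on with
  | _ n ih =>
  intro R A _ _ _ _ p _ T hT hn hTq
  by_cases hemp : T = ∅
  · subst hemp
    haveI : p.LiesOver p := ⟨by simp [Ideal.under]⟩
    exact ⟨R, inferInstance, inferInstance, inferInstance, p, inferInstance, inferInstance,
      bijective_mapₐ_self R p, qfDec_empty R A p⟩
  obtain ⟨q, hqT⟩ := Set.nonempty_iff_ne_empty.mpr hemp
  obtain ⟨hqprime, hqp, hqqf⟩ := hTq q hqT
  haveI := hqprime
  haveI : q.LiesOver p := ⟨hqp.symm⟩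
  haveI := hqqf
  obtain ⟨R₁, _, _, _, P₁, _, _, e, he, P', _, _, hP'q, heP', hbij, hfin, H⟩ :=
    Algebra.exists_etale_isIdempotentElem_forall_liesOver_eq p q
  obtain ⟨F, hF⟩ := exists_prodQuot (E := R₁) e he
  haveI : Module.Finite R₁ ((R₁ ⊗[R] A) ⧸ Ideal.span {1 - e}) := finite_quot_of_finite_away e
  haveI : Algebra.FiniteType R₁ ((R₁ ⊗[R] A) ⧸ Ideal.span {e}) :=
    Algebra.FiniteType.of_surjective (Ideal.Quotient.mkₐ R₁ (Ideal.span {e}))
      (Ideal.Quotient.mkₐ_surjective R₁ _)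
  -- notation
  have hmkB_surj : Function.Surjective (Ideal.Quotient.mk (Ideal.span {e})) :=
    Ideal.Quotient.mk_surjective
  let toB : A →+* (R₁ ⊗[R] A) ⧸ Ideal.span {e} :=
    (Ideal.Quotient.mk (Ideal.span {e})).comp
      (Algebra.TensorProduct.includeRight : A →ₐ[R] R₁ ⊗[R] A).toRingHom
  have halgB : algebraMap R₁ ((R₁ ⊗[R] A) ⧸ Ideal.span {e}) =
      (Ideal.Quotient.mk (Ideal.span {e})).comp (algebraMap R₁ (R₁ ⊗[R] A)) := rfl
  have hP'P₁ : P'.comap (algebraMap R₁ (R₁ ⊗[R] A)) = P₁ := (P'.over_def P₁).symm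
  -- primes of `B` over `P₁`
  have hQC : ∀ Q : Ideal ((R₁ ⊗[R] A) ⧸ Ideal.span {e}), Q.IsPrime →
      Q.comap (algebraMap R₁ _) = P₁ →
      (Q.comap (Ideal.Quotient.mk (Ideal.span {e}))).IsPrime ∧
      (Q.comap (Ideal.Quotient.mk (Ideal.span {e}))).LiesOver P₁ ∧
      e ∈ Q.comap (Ideal.Quotient.mk (Ideal.span {e})) := by
    intro Q hQ hQP
    refine ⟨Ideal.comap_isPrime _ _, ⟨?_⟩, ?_⟩
    · show P₁ = (Q.comap (Ideal.Quotient.mk (Ideal.span {e}))).comap (algebraMap R₁ _)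
      rw [Ideal.comap_comap, ← halgB, hQP]
    · rw [Ideal.mem_comap, Ideal.Quotient.eq_zero_iff_mem.mpr (Ideal.mem_span_singleton_self _)]
      exact Q.zero_mem
  have hinj : ∀ Q Q' : Ideal ((R₁ ⊗[R] A) ⧸ Ideal.span {e}), Q.IsPrime → Q'.IsPrime →
      Q.comap (algebraMap R₁ _) = P₁ → Q'.comap (algebraMap R₁ _) = P₁ →
      Q.comap toB = Q'.comap toB → Q = Q' := by
    intro Q Q' hQ hQ' hQP hQ'P hQQ'
    obtain ⟨h1, h2, -⟩ := hQC Q hQ hQP
    obtain ⟨h1', h2', -⟩ := hQC Q' hQ' hQ'P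
    have h3 := Ideal.eq_of_comap_eq_comap_of_bijective_residueFieldMap hbij
      (Q.comap (Ideal.Quotient.mk (Ideal.span {e}))) (Q'.comap (Ideal.Quotient.mk (Ideal.span {e})))
      (by rw [Ideal.comap_comap, Ideal.comap_comap]; exact hQQ')
    rw [← Ideal.map_comap_of_surjective _ hmkB_surj Q, h3,
      Ideal.map_comap_of_surjective _ hmkB_surj Q']
  have hneq : ∀ Q : Ideal ((R₁ ⊗[R] A) ⧸ Ideal.span {e}), Q.IsPrime →
      Q.comap (algebraMap R₁ _) = P₁ → Q.comap toB ≠ q := by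
    intro Q hQ hQP hQq
    obtain ⟨h1, h2, h3⟩ := hQC Q hQ hQP
    have h4 := Ideal.eq_of_comap_eq_comap_of_bijective_residueFieldMap hbij
      (Q.comap (Ideal.Quotient.mk (Ideal.span {e}))) P'
      (by rw [Ideal.comap_comap, hP'q]; exact hQq)
    rw [h4] at h3
    exact heP' h3
  let T₁ : Set (Ideal ((R₁ ⊗[R] A) ⧸ Ideal.span {e})) :=
    {Q | Q.IsPrime ∧ Q.comap (algebraMap R₁ _) = P₁ ∧ Q.comap toB ∈ T}
  have hmaps : Set.MapsTo (fun Q : Ideal ((R₁ ⊗[R] A) ⧸ Ideal.span {e}) => Q.comap toB) T₁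
      (T \ {q}) := by
    rintro Q ⟨hQ, hQP, hQT⟩
    exact ⟨hQT, fun h => hneq Q hQ hQP h⟩
  have hinjOn : Set.InjOn (fun Q : Ideal ((R₁ ⊗[R] A) ⧸ Ideal.span {e}) => Q.comap toB) T₁ := by
    rintro Q ⟨hQ, hQP, -⟩ Q' ⟨hQ', hQ'P, -⟩ h
    exact hinj Q Q' hQ hQ' hQP hQ'P h
  have hT₁fin : T₁.Finite := Set.Finite.of_injOn hmaps hinjOn (hT.diff)
  have hT₁card : T₁.ncard < n := by
    have h1 : T₁.ncard ≤ (T \ {q}).ncard :=
      Set.ncard_le_ncard_of_injOn _ hmaps hinjOn (hT.diff)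
    have h2 : (T \ {q}).ncard = T.ncard - 1 := Set.ncard_diff_singleton_of_mem hqT
    have h3 : 0 < T.ncard := (Set.ncard_pos hT).mpr ⟨q, hqT⟩
    omega
  have hT₁q : ∀ Q ∈ T₁, ∃ (_ : Q.IsPrime), Q.comap (algebraMap R₁ _) = P₁ ∧
      Algebra.QuasiFiniteAt R₁ Q := by
    rintro Q ⟨hQ, hQP, hQT⟩
    refine ⟨hQ, hQP, ?_⟩
    obtain ⟨hq'prime, -, hq'qf⟩ := hTq _ hQT
    obtain ⟨h1, h2, -⟩ := hQC Q hQ hQP
    haveI := hq'prime
    haveI := hq'qf
    haveI := h1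
    haveI : Algebra.QuasiFiniteAt R₁ (Q.comap (Ideal.Quotient.mk (Ideal.span {e}))) :=
      Algebra.QuasiFiniteAt.baseChange (Q.comap toB) _ (by rw [Ideal.comap_comap])
    exact Algebra.QuasiFiniteAt.of_surjectiveOnStalks
      (Q.comap (Ideal.Quotient.mk (Ideal.span {e})))
      (Ideal.Quotient.mkₐ R₁ (Ideal.span {e}))
      (RingHom.surjectiveOnStalks_of_surjective (Ideal.Quotient.mkₐ_surjective R₁ _)) Q rfl
  obtain ⟨R₂, _, _, _, p₂, _, _, hbij₂, J, _, Aj, _, _, B', _, _, E₂, hpieces, hrest⟩ :=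
    ih _ hT₁card R₁ ((R₁ ⊗[R] A) ⧸ Ideal.span {e}) P₁ T₁ hT₁fin rfl hT₁q
  letI : Algebra R R₂ := ((algebraMap R₁ R₂).comp (algebraMap R R₁)).toAlgebra
  haveI : IsScalarTower R R₁ R₂ := IsScalarTower.of_algebraMap_eq' rfl
  haveI : Algebra.Etale R R₂ := Algebra.Etale.comp R R₁ R₂
  haveI : p₂.LiesOver p := Ideal.LiesOver.trans p₂ P₁ p
  refine ⟨R₂, inferInstance, inferInstance, inferInstance, p₂, inferInstance, inferInstance,
    bijective_mapₐ_trans p P₁ p₂ hbij hbij₂, ?_⟩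
  let E' : (R₂ ⊗[R] A) ≃ₐ[R₂] ((R₂ ⊗[R₁] ((R₁ ⊗[R] A) ⧸ Ideal.span {1 - e})) ×
      ((∀ j, Aj j) × B')) :=
    (Algebra.TensorProduct.cancelBaseChange R R₁ R₂ R₂ A).symm.trans <|
      (Algebra.TensorProduct.congr AlgEquiv.refl F).trans <|
      (Algebra.TensorProduct.prodRight R₁ R₂ R₂ ((R₁ ⊗[R] A) ⧸ Ideal.span {1 - e})
        ((R₁ ⊗[R] A) ⧸ Ideal.span {e})).trans
      (AlgEquiv.prodCongr AlgEquiv.refl E₂)
  have hE' : ∀ a : A, E' (1 ⊗ₜ a) =
      ((1 : R₂) ⊗ₜ[R₁] (Ideal.Quotient.mk (Ideal.span {1 - e}) ((1 : R₁) ⊗ₜ[R] a)),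
        E₂ ((1 : R₂) ⊗ₜ[R₁] (toB a))) := by
    intro a
    have h1 : (Algebra.TensorProduct.cancelBaseChange R R₁ R₂ R₂ A).symm ((1 : R₂) ⊗ₜ[R] a) =
        (1 : R₂) ⊗ₜ[R₁] ((1 : R₁) ⊗ₜ[R] a) :=
      Algebra.TensorProduct.cancelBaseChange_symm_tmul ..
    have h2 : (Algebra.TensorProduct.congr (AlgEquiv.refl : R₂ ≃ₐ[R₂] R₂) F)
        ((1 : R₂) ⊗ₜ[R₁] ((1 : R₁) ⊗ₜ[R] a)) = (1 : R₂) ⊗ₜ[R₁] F ((1 : R₁) ⊗ₜ[R] a) := rfl
    have h3 : (Algebra.TensorProduct.prodRight R₁ R₂ R₂ ((R₁ ⊗[R] A) ⧸ Ideal.span {1 - e})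
        ((R₁ ⊗[R] A) ⧸ Ideal.span {e}))
        ((1 : R₂) ⊗ₜ[R₁] (Ideal.Quotient.mk (Ideal.span {1 - e}) ((1 : R₁) ⊗ₜ[R] a),
          Ideal.Quotient.mk (Ideal.span {e}) ((1 : R₁) ⊗ₜ[R] a))) =
        ((1 : R₂) ⊗ₜ[R₁] (Ideal.Quotient.mk (Ideal.span {1 - e}) ((1 : R₁) ⊗ₜ[R] a)),
          (1 : R₂) ⊗ₜ[R₁] (Ideal.Quotient.mk (Ideal.span {e}) ((1 : R₁) ⊗ₜ[R] a))) :=
      Algebra.TensorProduct.prodRight_tmul ..
    show (AlgEquiv.prodCongr AlgEquiv.refl E₂) ((Algebra.TensorProduct.prodRight R₁ R₂ R₂ _ _)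
      ((Algebra.TensorProduct.congr (AlgEquiv.refl : R₂ ≃ₐ[R₂] R₂) F)
        ((Algebra.TensorProduct.cancelBaseChange R R₁ R₂ R₂ A).symm ((1 : R₂) ⊗ₜ[R] a)))) = _
    rw [h1, h2, hF, h3]
    rfl
  obtain ⟨hr₀prime, hr₀cm, hr₀P₁, hr₀uniq⟩ := piece_primes P₁ e he P' hP'P₁ heP'
    (fun P'' h1 h2 h3 => H P'' h1 ⟨h2.symm⟩ h3)
  haveI := hr₀prime
  obtain ⟨r, hr, hrp, hruniq, hrcm⟩ := unique_prime_baseChange P₁ p₂ hbij₂
    (P'.map (Ideal.Quotient.mk (Ideal.span {1 - e}))) hr₀P₁ hr₀uniq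
  have htoRest : (toRest E₂).comp (algebraMap R₁ ((R₁ ⊗[R] A) ⧸ Ideal.span {e})) =
      (algebraMap R₂ B').comp (algebraMap R₁ R₂) := by
    ext x
    show (E₂ ((1 : R₂) ⊗ₜ[R₁] (algebraMap R₁ ((R₁ ⊗[R] A) ⧸ Ideal.span {e}) x))).2 =
      algebraMap R₂ B' (algebraMap R₁ R₂ x)
    have h1 : ((1 : R₂) ⊗ₜ[R₁] (algebraMap R₁ ((R₁ ⊗[R] A) ⧸ Ideal.span {e}) x)) =
        (algebraMap R₁ R₂ x) • (1 : R₂ ⊗[R₁] ((R₁ ⊗[R] A) ⧸ Ideal.span {e})) := by
      rw [Algebra.algebraMap_eq_smul_one x, TensorProduct.tmul_smul, Algebra.TensorProduct.one_def,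
        TensorProduct.smul_tmul', TensorProduct.smul_tmul', smul_eq_mul, mul_one,
        Algebra.algebraMap_eq_smul_one]
    rw [h1, map_smul, map_one, Prod.smul_snd, Prod.snd_one]
    exact (Algebra.algebraMap_eq_smul_one _).symm
  refine qfDec_cons p₂ T (R₂ ⊗[R₁] ((R₁ ⊗[R] A) ⧸ Ideal.span {1 - e})) Aj B' E'
    ((Algebra.TensorProduct.includeRight : ((R₁ ⊗[R] A) ⧸ Ideal.span {1 - e}) →ₐ[R₁]
      R₂ ⊗[R₁] ((R₁ ⊗[R] A) ⧸ Ideal.span {1 - e})).toRingHom.comp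
      ((Ideal.Quotient.mk (Ideal.span {1 - e})).comp
        (Algebra.TensorProduct.includeRight : A →ₐ[R] R₁ ⊗[R] A).toRingHom))
    (fun a => by rw [hE']; rfl)
    (fun j => (toPiece E₂ j).comp toB) (fun j a => by rw [hE']; rfl)
    ((toRest E₂).comp toB) (fun a => by rw [hE']; rfl) ?_ ?_ ?_
  · refine ⟨inferInstance, r, hr, hrp, hruniq, ?_⟩
    rw [← Ideal.comap_comap, hrcm, ← Ideal.comap_comap, hr₀cm, hP'q]
    exact hqT
  · intro j
    obtain ⟨hfin, rj, hrj, hrjp, hrjuniq, hrjT⟩ := hpieces j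
    refine ⟨hfin, rj, hrj, hrjp, hrjuniq, ?_⟩
    rw [← Ideal.comap_comap]
    exact hrjT.2.2
  · intro Q hQ hQp hQT
    apply hrest Q hQ hQp
    refine ⟨Ideal.comap_isPrime _ _, ?_, ?_⟩
    · rw [Ideal.comap_comap, htoRest, ← Ideal.comap_comap, hQp]
      exact (p₂.over_def P₁).symm
    · rw [Ideal.comap_comap]
      exact hQT

theorem includeRight_comp_algebraMap (R' R'' B : Type u) [CommRing R'] [CommRing R''] [CommRing B]
    [Algebra R' R''] [Algebra R' B] :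
    (Algebra.TensorProduct.includeRight : B →ₐ[R'] R'' ⊗[R'] B).toRingHom.comp (algebraMap R' B) =
      (algebraMap R'' (R'' ⊗[R'] B)).comp (algebraMap R' R'') := by
  ext x
  show (1 : R'') ⊗ₜ[R'] (algebraMap R' B x) = (algebraMap R' R'' x) ⊗ₜ[R'] (1 : B)
  rw [Algebra.algebraMap_eq_smul_one x, TensorProduct.tmul_smul, TensorProduct.smul_tmul',
    Algebra.algebraMap_eq_smul_one]

/-- base change of decomposition data along a trivial residue field extension -/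
theorem QFDec.baseChange {R R' R'' A : Type u} [CommRing R] [CommRing R'] [CommRing R'']
    [CommRing A] [Algebra R R'] [Algebra R A] [Algebra R' R''] [Algebra R R'']
    [IsScalarTower R R' R''] {p' : Ideal R'} [p'.IsPrime] {p'' : Ideal R''} [p''.IsPrime]
    [p''.LiesOver p']
    (hbij : Function.Bijective
      (Ideal.ResidueField.mapₐ p' p'' (Algebra.ofId _ _) (p''.over_def p')))
    {T : Set (Ideal A)} (h : QFDec R R' A p' T) : QFDec R R'' A p'' T := by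
  classical
  obtain ⟨J, _, Aj, _, _, B, _, _, E, hpieces, hrest⟩ := h
  haveI := Fintype.ofFinite J
  let E'' : (R'' ⊗[R] A) ≃ₐ[R''] ((∀ j, R'' ⊗[R'] Aj j) × (R'' ⊗[R'] B)) :=
    (Algebra.TensorProduct.cancelBaseChange R R' R'' R'' A).symm.trans <|
      (Algebra.TensorProduct.congr AlgEquiv.refl E).trans <|
      (Algebra.TensorProduct.prodRight R' R'' R'' (∀ j, Aj j) B).trans <|
      AlgEquiv.prodCongr (Algebra.TensorProduct.piRight R' R'' R'' Aj) AlgEquiv.refl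
  have hE'' : ∀ a : A, E'' (1 ⊗ₜ a) =
      (fun j => (1 : R'') ⊗ₜ[R'] (E ((1 : R') ⊗ₜ[R] a)).1 j,
        (1 : R'') ⊗ₜ[R'] (E ((1 : R') ⊗ₜ[R] a)).2) := by
    intro a
    have h1 : (Algebra.TensorProduct.cancelBaseChange R R' R'' R'' A).symm ((1 : R'') ⊗ₜ[R] a) =
        (1 : R'') ⊗ₜ[R'] ((1 : R') ⊗ₜ[R] a) :=
      Algebra.TensorProduct.cancelBaseChange_symm_tmul ..
    have h2 : (Algebra.TensorProduct.congr (AlgEquiv.refl : R'' ≃ₐ[R''] R'') E)
        ((1 : R'') ⊗ₜ[R'] ((1 : R') ⊗ₜ[R] a)) = (1 : R'') ⊗ₜ[R'] E ((1 : R') ⊗ₜ[R] a) := rfl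
    have h3 : (Algebra.TensorProduct.prodRight R' R'' R'' (∀ j, Aj j) B)
        ((1 : R'') ⊗ₜ[R'] E ((1 : R') ⊗ₜ[R] a)) =
        ((1 : R'') ⊗ₜ[R'] (E ((1 : R') ⊗ₜ[R] a)).1, (1 : R'') ⊗ₜ[R'] (E ((1 : R') ⊗ₜ[R] a)).2) :=
      Algebra.TensorProduct.prodRight_tmul ..
    show (AlgEquiv.prodCongr (Algebra.TensorProduct.piRight R' R'' R'' Aj) AlgEquiv.refl)
      ((Algebra.TensorProduct.prodRight R' R'' R'' _ _)
      ((Algebra.TensorProduct.congr (AlgEquiv.refl : R'' ≃ₐ[R''] R'') E)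
        ((Algebra.TensorProduct.cancelBaseChange R R' R'' R'' A).symm ((1 : R'') ⊗ₜ[R] a)))) = _
    rw [h1, h2, h3]
    apply Prod.ext
    · exact Algebra.TensorProduct.piRight_tmul ..
    · rfl
  have hP : ∀ j, toPiece E'' j = (Algebra.TensorProduct.includeRight :
      Aj j →ₐ[R'] R'' ⊗[R'] Aj j).toRingHom.comp (toPiece E j) := by
    intro j
    ext a
    show (E'' (1 ⊗ₜ a)).1 j = _
    rw [hE'']
    rfl
  have hR : toRest E'' = (Algebra.TensorProduct.includeRight :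
      B →ₐ[R'] R'' ⊗[R'] B).toRingHom.comp (toRest E) := by
    ext a
    show (E'' (1 ⊗ₜ a)).2 = _
    rw [hE'']
    rfl
  refine ⟨J, inferInstance, fun j => R'' ⊗[R'] Aj j, inferInstance, inferInstance, R'' ⊗[R'] B,
    inferInstance, inferInstance, E'', ?_, ?_⟩
  · intro j
    obtain ⟨hfin, r, hr, hrp, hruniq, hrT⟩ := hpieces j
    haveI := hfin
    haveI := hr
    obtain ⟨r'', hr'', hr''p, hr''uniq, hr''cm⟩ := unique_prime_baseChange p' p'' hbij r hrp hruniq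
    refine ⟨inferInstance, r'', hr'', hr''p, hr''uniq, ?_⟩
    rw [hP, ← Ideal.comap_comap, hr''cm]
    exact hrT
  · intro Q hQ hQp
    rw [hR, ← Ideal.comap_comap]
    refine hrest _ (Ideal.comap_isPrime _ _) ?_
    rw [Ideal.comap_comap, includeRight_comp_algebraMap, ← Ideal.comap_comap, hQp]
    exact (p''.over_def p').symm

theorem toRest_comp_algebraMap {R R' A : Type u} [CommRing R] [CommRing R'] [CommRing A]
    [Algebra R R'] [Algebra R A] {J : Type} {Aj : J → Type u} [∀ j, CommRing (Aj j)]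
    [∀ j, Algebra R' (Aj j)] {B : Type u} [CommRing B] [Algebra R' B]
    (E : (R' ⊗[R] A) ≃ₐ[R'] ((∀ j, Aj j) × B)) :
    (toRest E).comp (algebraMap R A) = (algebraMap R' B).comp (algebraMap R R') := by
  ext x
  show (E ((1 : R') ⊗ₜ[R] (algebraMap R A x))).2 = algebraMap R' B (algebraMap R R' x)
  have h1 : ((1 : R') ⊗ₜ[R] (algebraMap R A x)) = (algebraMap R R' x) • (1 : R' ⊗[R] A) := by
    rw [Algebra.algebraMap_eq_smul_one x, TensorProduct.tmul_smul, Algebra.TensorProduct.one_def,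
      TensorProduct.smul_tmul', TensorProduct.smul_tmul', smul_eq_mul, mul_one,
      Algebra.algebraMap_eq_smul_one]
  rw [h1, map_smul, map_one, Prod.smul_snd, Prod.snd_one]
  exact (Algebra.algebraMap_eq_smul_one _).symm

/-- decomposition data for `R₁ ⊗ A` over `R₁` gives decomposition data for `A` over `R` -/
theorem QFDec.of_tensor {R R₁ R₂ A : Type u} [CommRing R] [CommRing R₁] [CommRing R₂]
    [CommRing A] [Algebra R R₁] [Algebra R₁ R₂] [Algebra R R₂] [IsScalarTower R R₁ R₂]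
    [Algebra R A] {p₁ : Ideal R₁} {p₂ : Ideal R₂} [p₂.LiesOver p₁] {T : Set (Ideal A)}
    (h : QFDec R₁ R₂ (R₁ ⊗[R] A) p₂
      {Q | Q.IsPrime ∧ Q.comap (algebraMap R₁ (R₁ ⊗[R] A)) = p₁ ∧
        Q.comap (Algebra.TensorProduct.includeRight : A →ₐ[R] R₁ ⊗[R] A).toRingHom ∈ T}) :
    QFDec R R₂ A p₂ T := by
  obtain ⟨J, _, Aj, _, _, B, _, _, E₂, hpieces, hrest⟩ := h
  let E : (R₂ ⊗[R] A) ≃ₐ[R₂] ((∀ j, Aj j) × B) :=
    (Algebra.TensorProduct.cancelBaseChange R R₁ R₂ R₂ A).symm.trans E₂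
  have hE : ∀ a : A, E (1 ⊗ₜ a) = E₂ ((1 : R₂) ⊗ₜ[R₁] ((1 : R₁) ⊗ₜ[R] a)) := by
    intro a
    show E₂ ((Algebra.TensorProduct.cancelBaseChange R R₁ R₂ R₂ A).symm ((1 : R₂) ⊗ₜ[R] a)) = _
    rw [Algebra.TensorProduct.cancelBaseChange_symm_tmul]
  have hP : ∀ j, toPiece E j = (toPiece E₂ j).comp
      (Algebra.TensorProduct.includeRight : A →ₐ[R] R₁ ⊗[R] A).toRingHom := by
    intro j
    ext a
    show (E (1 ⊗ₜ a)).1 j = _
    rw [hE]
    rfl
  have hR : toRest E = (toRest E₂).comp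
      (Algebra.TensorProduct.includeRight : A →ₐ[R] R₁ ⊗[R] A).toRingHom := by
    ext a
    show (E (1 ⊗ₜ a)).2 = _
    rw [hE]
    rfl
  refine ⟨J, inferInstance, Aj, inferInstance, inferInstance, B, inferInstance, inferInstance, E,
    ?_, ?_⟩
  · intro j
    obtain ⟨hfin, r, hr, hrp, hruniq, hrT⟩ := hpieces j
    refine ⟨hfin, r, hr, hrp, hruniq, ?_⟩
    rw [hP, ← Ideal.comap_comap]
    exact hrT.2.2
  · intro Q hQ hQp hQT
    apply hrest Q hQ hQp
    refine ⟨Ideal.comap_isPrime _ _, ?_, ?_⟩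
    · rw [Ideal.comap_comap, toRest_comp_algebraMap, ← Ideal.comap_comap, hQp]
      exact (p₂.over_def p₁).symm
    · rw [Ideal.comap_comap, ← hR]
      exact hQT

/-- the primes of `R₁ ⊗ A` over `p₁` lying over a finite set of quasi-finite primes -/
theorem tensorT_finite_qf {R R₁ A : Type u} [CommRing R] [CommRing R₁] [CommRing A]
    [Algebra R R₁] [Algebra R A] (p : Ideal R) [p.IsPrime] (p₁ : Ideal R₁) [p₁.IsPrime]
    [p₁.LiesOver p]
    (hbij : Function.Bijective (Ideal.ResidueField.mapₐ p p₁ (Algebra.ofId _ _) (p₁.over_def p)))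
    (T : Set (Ideal A)) (hT : T.Finite)
    (hTq : ∀ q ∈ T, ∃ (_ : q.IsPrime), q.comap (algebraMap R A) = p ∧ Algebra.QuasiFiniteAt R q) :
    ({Q | Q.IsPrime ∧ Q.comap (algebraMap R₁ (R₁ ⊗[R] A)) = p₁ ∧
      Q.comap (Algebra.TensorProduct.includeRight : A →ₐ[R] R₁ ⊗[R] A).toRingHom ∈ T} :
        Set (Ideal (R₁ ⊗[R] A))).Finite ∧
    ∀ Q ∈ ({Q | Q.IsPrime ∧ Q.comap (algebraMap R₁ (R₁ ⊗[R] A)) = p₁ ∧
      Q.comap (Algebra.TensorProduct.includeRight : A →ₐ[R] R₁ ⊗[R] A).toRingHom ∈ T} :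
        Set (Ideal (R₁ ⊗[R] A))),
      ∃ (_ : Q.IsPrime), Q.comap (algebraMap R₁ (R₁ ⊗[R] A)) = p₁ ∧
        Algebra.QuasiFiniteAt R₁ Q := by
  constructor
  · refine Set.Finite.of_injOn (f := fun Q : Ideal (R₁ ⊗[R] A) =>
      Q.comap (Algebra.TensorProduct.includeRight : A →ₐ[R] R₁ ⊗[R] A).toRingHom)
      (fun Q hQ => hQ.2.2) ?_ hT
    rintro Q ⟨hQ, hQp, -⟩ Q' ⟨hQ', hQ'p, -⟩ h
    haveI := hQ
    haveI := hQ'
    haveI : Q.LiesOver p₁ := ⟨hQp.symm⟩
    haveI : Q'.LiesOver p₁ := ⟨hQ'p.symm⟩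
    exact Ideal.eq_of_comap_eq_comap_of_bijective_residueFieldMap hbij Q Q' h
  · rintro Q ⟨hQ, hQp, hQT⟩
    obtain ⟨hq, -, hqf⟩ := hTq _ hQT
    haveI := hQ
    haveI := hq
    haveI := hqf
    exact ⟨hQ, hQp, Algebra.QuasiFiniteAt.baseChange
      (Q.comap (Algebra.TensorProduct.includeRight : A →ₐ[R] R₁ ⊗[R] A).toRingHom) Q rfl⟩

/-- simultaneous étale-local splitting for a finite family of finite type algebras -/
theorem family_qfDec (R : Type u) [CommRing R] (p : Ideal R) [p.IsPrime] :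
    ∀ (m : ℕ) (A : Fin m → Type u) [∀ k, CommRing (A k)] [∀ k, Algebra R (A k)]
      [∀ k, Algebra.FiniteType R (A k)] (T : ∀ k, Set (Ideal (A k))) (_ : ∀ k, (T k).Finite)
      (_ : ∀ k, ∀ q ∈ T k, ∃ (_ : q.IsPrime), q.comap (algebraMap R (A k)) = p ∧
        Algebra.QuasiFiniteAt R q),
    ∃ (R' : Type u) (_ : CommRing R') (_ : Algebra R R') (_ : Algebra.Etale R R') (p' : Ideal R')
      (_ : p'.IsPrime) (_ : p'.LiesOver p),
      Function.Bijective (Ideal.ResidueField.mapₐ p p' (Algebra.ofId _ _) (p'.over_def p)) ∧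
      ∀ k, QFDec R R' (A k) p' (T k) := by
  intro m
  induction m with
  | zero =>
    intro A _ _ _ T hT hTq
    haveI : p.LiesOver p := ⟨by simp [Ideal.under]⟩
    exact ⟨R, inferInstance, inferInstance, inferInstance, p, inferInstance, inferInstance,
      bijective_mapₐ_self R p, fun k => k.elim0⟩
  | succ m ih =>
    intro A _ _ _ T hT hTq
    obtain ⟨R₁, _, _, _, p₁, _, _, hbij₁, h₁⟩ := ih (fun k : Fin m => A k.castSucc)
      (fun k => T k.castSucc) (fun k => hT k.castSucc) (fun k => hTq k.castSucc)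
    obtain ⟨hfin, hqf⟩ := tensorT_finite_qf (R₁ := R₁) p p₁ hbij₁ (T (Fin.last m))
      (hT (Fin.last m)) (hTq (Fin.last m))
    obtain ⟨R₂, _, _, _, p₂, _, _, hbij₂, h₂⟩ := exists_qfDec _ R₁ (R₁ ⊗[R] A (Fin.last m)) p₁ _
      hfin rfl hqf
    letI : Algebra R R₂ := ((algebraMap R₁ R₂).comp (algebraMap R R₁)).toAlgebra
    haveI : IsScalarTower R R₁ R₂ := IsScalarTower.of_algebraMap_eq' rfl
    haveI : Algebra.Etale R R₂ := Algebra.Etale.comp R R₁ R₂
    haveI : p₂.LiesOver p := Ideal.LiesOver.trans p₂ p₁ p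
    refine ⟨R₂, inferInstance, inferInstance, inferInstance, p₂, inferInstance, inferInstance,
      bijective_mapₐ_trans p p₁ p₂ hbij₁ hbij₂, ?_⟩
    intro k
    refine Fin.lastCases ?_ (fun k => ?_) k
    · exact QFDec.of_tensor h₂
    · exact QFDec.baseChange hbij₂ (h₁ k)

/-- `family_qfDec` for an arbitrary finite index type -/
theorem family_qfDec' (R : Type u) [CommRing R] (p : Ideal R) [p.IsPrime]
    {ι : Type} [Finite ι] (A : ι → Type u) [∀ k, CommRing (A k)] [∀ k, Algebra R (A k)]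
    [∀ k, Algebra.FiniteType R (A k)] (T : ∀ k, Set (Ideal (A k))) (hT : ∀ k, (T k).Finite)
    (hTq : ∀ k, ∀ q ∈ T k, ∃ (_ : q.IsPrime), q.comap (algebraMap R (A k)) = p ∧
      Algebra.QuasiFiniteAt R q) :
    ∃ (R' : Type u) (_ : CommRing R') (_ : Algebra R R') (_ : Algebra.Etale R R') (p' : Ideal R')
      (_ : p'.IsPrime) (_ : p'.LiesOver p),
      Function.Bijective (Ideal.ResidueField.mapₐ p p' (Algebra.ofId _ _) (p'.over_def p)) ∧
      ∀ k, QFDec R R' (A k) p' (T k) := by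
  obtain ⟨n, ⟨e⟩⟩ := Finite.exists_equiv_fin ι
  obtain ⟨R', _, _, _, p', _, _, hbij, h⟩ := family_qfDec R p n (fun k => A (e.symm k))
    (fun k => T (e.symm k)) (fun k => hT (e.symm k)) (fun k => hTq (e.symm k))
  refine ⟨R', inferInstance, inferInstance, inferInstance, p', inferInstance, inferInstance,
    hbij, ?_⟩
  intro k
  have h1 := h (e k)
  have h2 : ∀ k' : ι, k' = k → QFDec R R' (A k') p' (T k') → QFDec R R' (A k) p' (T k) := by
    rintro _ rfl h; exact h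
  exact h2 _ (e.symm_apply_apply k) h1

end Groth.Agent.Helper16.QFSplit
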