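import Mathlib
import Groth.Agent.Lib.Helper16.Alg.ENR
import Groth.Agent.Lib.Helper16.Alg.FieldPI
import Groth.Agent.Lib.Helper16.Alg.QFSplit
import Groth.Agent.Lib.Helper16.Alg.QFDescent

set_option autoImplicit false
universe u
open Polynomial TensorProduct

namespace Groth.Agent.Helper16.ENR
open Groth.Agent.Helper16.QFSplit

/-- ring-level étale localization at finitely many quasi-finite primes, killing the separable
part of the residue field extensions -/
theorem exists_etale_split (R : Type u) [CommRing R] (p : Ideal R) [p.IsPrime]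
    {ι : Type} [Finite ι] (A : ι → Type u) [∀ i, CommRing (A i)] [∀ i, Algebra R (A i)]
    [∀ i, Algebra.FiniteType R (A i)] (q : ∀ i, Ideal (A i)) [∀ i, (q i).IsPrime]
    (hq : ∀ i, p = (q i).comap (algebraMap R (A i))) (hqf : ∀ i, Algebra.QuasiFiniteAt R (q i)) :
    ∃ (R₂ : Type u) (_ : CommRing R₂) (_ : Algebra R R₂) (_ : Algebra.Etale R R₂) (p₂ : Ideal R₂)
      (_ : p₂.IsPrime) (_ : p₂.LiesOver p),
      (∀ i, QFDec R R₂ (A i) p₂ {q i}) ∧
      (∀ i, letI := (Ideal.ResidueField.map p (q i) (algebraMap R (A i)) (hq i)).toAlgebra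
        ∀ β : (q i).ResidueField, IsSeparable p.ResidueField β →
          ((minpoly p.ResidueField β).map
            (Ideal.ResidueField.map p p₂ (algebraMap R R₂) (p₂.over_def p))).Splits) := by
  letI algL : ∀ i, Algebra p.ResidueField (q i).ResidueField := fun i =>
    (Ideal.ResidueField.map p (q i) (algebraMap R (A i)) (hq i)).toAlgebra
  haveI : ∀ i, FiniteDimensional p.ResidueField (q i).ResidueField := fun i =>
    finite_residueField_of_quasiFiniteAt p (q i) (hq i)
  obtain ⟨k', _, _, _, _, hk'⟩ := Groth.Agent.Helper16.FieldPI.exists_splitting_ext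
    (K := p.ResidueField) (fun i => (q i).ResidueField)
  obtain ⟨R₁, _, _, _, p₁, _, _, σ, hσ⟩ := exists_etale_residue_ext R p k'
  let T' : ∀ i, Set (Ideal (R₁ ⊗[R] A i)) := fun i =>
    {Q | Q.IsPrime ∧ Q.comap (algebraMap R₁ (R₁ ⊗[R] A i)) = p₁ ∧
      Q.comap (Algebra.TensorProduct.includeRight : A i →ₐ[R] R₁ ⊗[R] A i).toRingHom ∈
        ({q i} : Set (Ideal (A i)))}
  have hT'qf : ∀ i, ∀ Q ∈ T' i, ∃ (_ : Q.IsPrime), Q.comap (algebraMap R₁ (R₁ ⊗[R] A i)) = p₁ ∧
      Algebra.QuasiFiniteAt R₁ Q := by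
    rintro i Q ⟨hQ, hQp, hQq⟩
    haveI := hQ
    haveI := hqf i
    exact ⟨hQ, hQp, Algebra.QuasiFiniteAt.baseChange (q i) Q (Set.mem_singleton_iff.mp hQq).symm⟩
  have hT'fin : ∀ i, (T' i).Finite := fun i =>
    (Groth.Agent.Helper16.QFDescent.finite_qf_primes R₁ (R₁ ⊗[R] A i) p₁).subset
      (fun Q hQ => hT'qf i Q hQ)
  obtain ⟨R₂, _, _, _, p₂, _, _, hbij₂, hdec⟩ :=
    family_qfDec' R₁ p₁ (fun i => R₁ ⊗[R] A i) T' hT'fin hT'qf
  letI : Algebra R R₂ := ((algebraMap R₁ R₂).comp (algebraMap R R₁)).toAlgebra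
  haveI : IsScalarTower R R₁ R₂ := IsScalarTower.of_algebraMap_eq' rfl
  haveI : Algebra.Etale R R₂ := Algebra.Etale.comp R R₁ R₂
  haveI : p₂.LiesOver p := Ideal.LiesOver.trans p₂ p₁ p
  refine ⟨R₂, inferInstance, inferInstance, inferInstance, p₂, inferInstance, inferInstance,
    fun i => QFDec.of_tensor (hdec i), ?_⟩
  intro i β hβ
  have h1 := hk' i β hβ
  have h2 : Ideal.ResidueField.map p p₂ (algebraMap R R₂) (p₂.over_def p) =
      ((Ideal.ResidueField.map p₁ p₂ (algebraMap R₁ R₂) (p₂.over_def p₁)).comp σ).comp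
        (algebraMap p.ResidueField k') := by
    rw [RingHom.comp_assoc, hσ]
    apply Ideal.ResidueField.ringHom_ext
    ext a
    simp only [RingHom.comp_apply, Ideal.ResidueField.map_algebraMap]
    rfl
  rw [h2, ← Polynomial.map_map]
  exact h1.map _

end Groth.Agent.Helper16.ENR
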