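import Mathlib
import Groth.Agent.Lib.Helper16.Alg.QSlice3

/-!
# Ring-level quasi-sections by slicing (helper16), part 4

* `quasiFinite_pi`, `flat_pi`: finite products.
* `exists_quasiFinite_dominating`: a faithfully flat finitely presented algebra is dominated by a
  quasi-finite faithfully flat finitely presented algebra (EGA IV 17.16.2, ring form).
-/

set_option autoImplicit false
set_option linter.style.haveILetI false
universe u

open TensorProduct

namespace Groth.Agent.Helper16.QSlice

/-- Finite products of quasi-finite algebras are quasi-finite. -/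
theorem quasiFinite_pi {R : Type*} [CommRing R] {ι : Type*} [Finite ι] (T : ι → Type*)
    [∀ i, CommRing (T i)] [∀ i, Algebra R (T i)] [∀ i, Algebra.QuasiFinite R (T i)] :
    Algebra.QuasiFinite R (Π i, T i) where
  finite_fiber P _ := by
    classical
    cases nonempty_fintype ι
    exact Module.Finite.equiv (TensorProduct.piRight R P.ResidueField P.ResidueField T).symm

/-- Finite products of flat modules are flat. -/
theorem flat_pi {R : Type*} [CommRing R] {ι : Type*} [Finite ι] (T : ι → Type*)
    [∀ i, AddCommGroup (T i)] [∀ i, Module R (T i)] [∀ i, Module.Flat R (T i)] :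
    Module.Flat R (Π i, T i) := by
  classical
  cases nonempty_fintype ι
  exact Module.Flat.of_linearEquiv (DirectSum.linearEquivFunOnFintype R ι T).symm

/-- **Quasi-finite quasi-sections, ring version.** A faithfully flat finitely presented algebra is
dominated by a quasi-finite faithfully flat finitely presented algebra. -/
theorem exists_quasiFinite_dominating (R : Type u) [CommRing R] (S : Type u) [CommRing S]
    [Algebra R S] [Module.FaithfullyFlat R S] [Algebra.FinitePresentation R S] :
    ∃ (S' : Type u) (_ : CommRing S') (_ : Algebra R S'),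
      Algebra.QuasiFinite R S' ∧ Algebra.FiniteType R S' ∧ Module.FaithfullyFlat R S' ∧
        Algebra.FinitePresentation R S' ∧ Nonempty (S →ₐ[R] S') := by
  classical
  choose T iCR iAlg hqf hfp hfl hφ r hrprime hrp using
    fun p : PrimeSpectrum R => local_qf p.asIdeal S
  letI := iCR
  letI := iAlg
  -- the open images
  have hopen : ∀ p : PrimeSpectrum R,
      IsOpen (Set.range (PrimeSpectrum.comap (algebraMap R (T p)))) := fun p => by
    haveI := hfl p
    haveI := hfp p
    exact (PrimeSpectrum.isOpenMap_comap_of_hasGoingDown_of_finitePresentation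
      (R := R) (S := T p)).isOpen_range
  have hmem : ∀ p : PrimeSpectrum R,
      p ∈ Set.range (PrimeSpectrum.comap (algebraMap R (T p))) := fun p =>
    ⟨⟨r p, hrprime p⟩, PrimeSpectrum.ext (hrp p)⟩
  obtain ⟨t, ht⟩ := isCompact_univ.elim_finite_subcover
    (fun p : PrimeSpectrum R => Set.range (PrimeSpectrum.comap (algebraMap R (T p)))) hopen
    (fun p _ => Set.mem_iUnion_of_mem p (hmem p))
  -- the product over the finite subcover
  haveI : ∀ i : t, Algebra.QuasiFinite R (T i.1) := fun i => hqf i.1
  haveI : ∀ i : t, Algebra.FinitePresentation R (T i.1) := fun i => hfp i.1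
  haveI : ∀ i : t, Module.Flat R (T i.1) := fun i => hfl i.1
  haveI hqfP : Algebra.QuasiFinite R (Π i : t, T i.1) := quasiFinite_pi (fun i : t => T i.1)
  haveI hfpP : Algebra.FinitePresentation R (Π i : t, T i.1) := Algebra.FinitePresentation.pi _
  haveI hflP : Module.Flat R (Π i : t, T i.1) := flat_pi (fun i : t => T i.1)
  refine ⟨Π i : t, T i.1, inferInstance, inferInstance, hqfP, inferInstance, ?_, hfpP,
    ⟨AlgHom.pi fun i => (hφ i.1).some⟩⟩
  apply Module.FaithfullyFlat.of_comap_surjective
  intro p
  have hp := ht (Set.mem_univ p)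
  simp only [Set.mem_iUnion] at hp
  obtain ⟨i, hi, q, rfl⟩ := hp
  refine ⟨PrimeSpectrum.comap (Pi.evalRingHom (fun i : t => T i.1) ⟨i, hi⟩) q, ?_⟩
  rw [← PrimeSpectrum.comap_comp_apply]
  rfl

end Groth.Agent.Helper16.QSlice
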