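import Mathlib

set_option autoImplicit false

namespace Groth.Agent.Helper16.QuotDim

universe v

lemma rank_tower {K : Type*} {V : Type v} [DivisionRing K] [AddCommGroup V] [Module K V]
    (N M : Submodule K V) (h : N ≤ M) :
    Module.rank K (V ⧸ N) =
      Module.rank K (V ⧸ M) + Module.rank K (↥M ⧸ N.comap M.subtype) := by
  rw [← Submodule.rank_quotient_add_rank (M.map N.mkQ)]
  congr 1
  · exact (Submodule.quotientQuotientEquivQuotient N M h).rank_eq
  · let g : ↥M →ₗ[K] V ⧸ N := N.mkQ.comp M.subtype
    have hker : LinearMap.ker g = N.comap M.subtype := by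
      rw [LinearMap.ker_comp, Submodule.ker_mkQ]
    have hrange : LinearMap.range g = M.map N.mkQ := by
      rw [LinearMap.range_comp, Submodule.range_subtype]
    have e := (LinearMap.quotKerEquivRange g).rank_eq
    rw [hker] at e
    rw [e, hrange]

theorem finrank_quotient_eq
    (k R : Type*) [Field k] [CommRing R]
    [IsDomain R] [Algebra k R] (S : Subalgebra k R) (x : S) (hx : (x : R) ≠ 0)
    [Module.Finite k (R ⧸ Subalgebra.toSubmodule S)] :
    Module.finrank k (R ⧸ Ideal.span {(x : R)}) = Module.finrank k (S ⧸ Ideal.span {x}) := by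
  set MS : Submodule k R := Subalgebra.toSubmodule S with hMS
  let μ : R →ₗ[k] R := LinearMap.mulLeft k (x : R)
  have hμinj : Function.Injective μ := fun a b hab => mul_left_cancel₀ hx hab
  set xR : Submodule k R := LinearMap.range μ with hxR
  set xS : Submodule k R := MS.map μ with hxS
  have h1 : xS ≤ MS := by
    rintro _ ⟨s, hs, rfl⟩
    exact S.mul_mem x.2 hs
  have h2 : xS ≤ xR := by
    rintro _ ⟨s, hs, rfl⟩
    exact ⟨s, rfl⟩
  have ea := rank_tower xS MS h1
  have eb := rank_tower xS xR h2
  -- (c)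
  have ec : Module.rank k (↥xR ⧸ xS.comap xR.subtype) = Module.rank k (R ⧸ MS) := by
    let e : R ≃ₗ[k] ↥xR := LinearEquiv.ofInjective μ hμinj
    refine (Submodule.Quotient.equiv MS (xS.comap xR.subtype) e ?_).rank_eq.symm
    ext ⟨y, hy⟩
    simp only [Submodule.mem_map, Submodule.mem_comap, Submodule.subtype_apply]
    constructor
    · rintro ⟨s, hs, hsy⟩
      refine ⟨s, hs, ?_⟩
      exact congrArg Subtype.val hsy
    · rintro ⟨s, hs, hsy⟩
      refine ⟨s, hs, ?_⟩
      apply Subtype.ext
      exact hsy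
  -- (d)
  have ed : Module.rank k (↥MS ⧸ xS.comap MS.subtype) = Module.rank k (S ⧸ Ideal.span {x}) := by
    rw [← (Submodule.Quotient.restrictScalarsEquiv k (Ideal.span {x})).rank_eq]
    refine (Submodule.Quotient.equiv ((Ideal.span {x}).restrictScalars k)
      (xS.comap MS.subtype) (Subalgebra.toSubmoduleEquiv S).symm ?_).rank_eq.symm
    ext ⟨y, hy⟩
    simp only [Submodule.mem_map, Submodule.mem_comap, Submodule.subtype_apply,
      Submodule.restrictScalars_mem, Ideal.mem_span_singleton']
    constructor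
    · rintro ⟨_, ⟨s, rfl⟩, hsy⟩
      refine ⟨(s : R), s.2, ?_⟩
      have := congrArg Subtype.val hsy
      simp only at this
      rw [← this]
      show (x : R) * s = ((s * x : S) : R)
      rw [mul_comm]; rfl
    · rintro ⟨s, hs, hsy⟩
      refine ⟨⟨s, hs⟩ * x, ⟨⟨s, hs⟩, rfl⟩, ?_⟩
      apply Subtype.ext
      show (s * (x : R)) = y
      rw [mul_comm]; exact hsy
  -- (e)
  have ee : Module.rank k (R ⧸ xR) = Module.rank k (R ⧸ Ideal.span {(x : R)}) := by
    rw [← (Submodule.Quotient.restrictScalarsEquiv k (Ideal.span {(x : R)})).rank_eq]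
    have : xR = (Ideal.span {(x : R)}).restrictScalars k := by
      ext y
      simp only [hxR, LinearMap.mem_range, Submodule.restrictScalars_mem,
        Ideal.mem_span_singleton']
      constructor
      · rintro ⟨a, rfl⟩; exact ⟨a, mul_comm _ _⟩
      · rintro ⟨a, rfl⟩; exact ⟨a, mul_comm _ _⟩
    rw [this]
  have hfin : Module.rank k (R ⧸ MS) < Cardinal.aleph0 := Module.rank_lt_aleph0 k _
  have key : Module.rank k (R ⧸ Ideal.span {(x : R)}) = Module.rank k (S ⧸ Ideal.span {x}) := by
    rw [← ee, ← ed]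
    rw [ea, ec, add_comm (Module.rank k (R ⧸ xR))] at eb
    exact (Cardinal.eq_of_add_eq_add_left eb hfin).symm
  unfold Module.finrank
  rw [key]

end Groth.Agent.Helper16.QuotDim
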