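import Mathlib

set_option autoImplicit false
universe u
open TensorProduct IsLocalRing

namespace Groth.Agent.Helper16.RedBCLen

/-- Ring lemma: `A` local with nil maximal ideal, `D` a reduced nontrivial quotient of `A`,
`A → B`, `ψ : B → C` local, and a flat map `φ : D ⊗[A] B → C` compatible with `ψ`.
Then `ker ψ = 𝔪_A B`. -/
theorem ker_eq_map_maximalIdeal {A B C D : Type u} [CommRing A] [CommRing B] [CommRing C]
    [CommRing D] [IsLocalRing A] [IsLocalRing B] [IsLocalRing C] [Nontrivial D] [IsReduced D]
    [Algebra A B] [Algebra A D]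
    (hnil : ∀ a ∈ maximalIdeal A, IsNilpotent a)
    (hD : Function.Surjective (algebraMap A D))
    (ψ : B →+* C) [IsLocalHom ψ] (α : D →+* C)
    (φ : D ⊗[A] B →+* C) (hφ : ∀ d b, φ (d ⊗ₜ b) = α d * ψ b) (hflat : φ.Flat) :
    RingHom.ker ψ = (maximalIdeal A).map (algebraMap A B) := by
  have hker : RingHom.ker (algebraMap A D) = maximalIdeal A := by
    apply le_antisymm
    · intro a ha
      rw [RingHom.mem_ker] at ha
      by_contra hna
      have hu : IsUnit a := by
        by_contra h
        exact hna ((IsLocalRing.mem_maximalIdeal a).mpr h)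
      have := hu.map (algebraMap A D)
      rw [ha] at this
      exact not_isUnit_zero this
    · intro a ha
      rw [RingHom.mem_ker]
      exact ((hnil a ha).map (algebraMap A D)).eq_zero
  -- includeRight is surjective
  have hsurj : Function.Surjective
      (Algebra.TensorProduct.includeRight : B →ₐ[A] D ⊗[A] B) := by
    intro t
    induction t using TensorProduct.induction_on with
    | zero => exact ⟨0, map_zero _⟩
    | tmul d b =>
      obtain ⟨a, rfl⟩ := hD d
      refine ⟨a • b, ?_⟩
      rw [Algebra.TensorProduct.includeRight_apply, TensorProduct.tmul_smul,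
        Algebra.algebraMap_eq_smul_one, TensorProduct.smul_tmul']
    | add x y hx hy =>
      obtain ⟨x', rfl⟩ := hx
      obtain ⟨y', rfl⟩ := hy
      exact ⟨x' + y', map_add _ _ _⟩
  have hφincl : ∀ b, φ ((Algebra.TensorProduct.includeRight : B →ₐ[A] D ⊗[A] B) b) = ψ b := by
    intro b
    rw [Algebra.TensorProduct.includeRight_apply, hφ, map_one, one_mul]
  haveI : Nontrivial (D ⊗[A] B) := by
    refine nontrivial_of_ne 1 0 (fun h => ?_)
    have := congrArg φ h
    rw [map_one, map_zero] at this
    exact one_ne_zero this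
  haveI : IsLocalRing (D ⊗[A] B) :=
    IsLocalRing.of_surjective'
      (Algebra.TensorProduct.includeRight : B →ₐ[A] D ⊗[A] B).toRingHom hsurj
  letI := φ.toAlgebra
  haveI : Module.Flat (D ⊗[A] B) C := hflat
  haveI : IsLocalHom (algebraMap (D ⊗[A] B) C) := by
    constructor
    intro t ht
    obtain ⟨b, rfl⟩ := hsurj t
    have h1 : IsUnit (ψ b) := by rw [← hφincl]; exact ht
    exact (isUnit_of_map_unit ψ b h1).map _
  haveI : Module.FaithfullyFlat (D ⊗[A] B) C := Module.FaithfullyFlat.of_flat_of_isLocalHom
  have hinj : Function.Injective φ := FaithfulSMul.algebraMap_injective (D ⊗[A] B) C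
  apply le_antisymm
  · intro b hb
    rw [RingHom.mem_ker] at hb
    have h1 : (1 : D) ⊗ₜ[A] b = 0 := by
      apply hinj
      rw [map_zero, hφ, map_one, one_mul, hb]
    let f0 : A →ₐ[A] D := Algebra.ofId A D
    have hf0 : Function.Surjective f0 := hD
    let e : (A ⧸ RingHom.ker f0) ≃ₐ[A] D := Ideal.quotientKerAlgEquivOfSurjective hf0
    let E : D ⊗[A] B ≃ₐ[A] (A ⧸ RingHom.ker f0) ⊗[A] B :=
      Algebra.TensorProduct.congr e.symm AlgEquiv.refl
    have h2 : E ((1 : D) ⊗ₜ[A] b) = (1 : A ⧸ RingHom.ker f0) ⊗ₜ[A] b := by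
      simp [E]
    have h4 : Ideal.Quotient.mk ((RingHom.ker f0).map (algebraMap A B)) b = 0 := by
      apply (Algebra.TensorProduct.quotIdealMapEquivQuotTensor B (RingHom.ker f0)).injective
      rw [Algebra.TensorProduct.quotIdealMapEquivQuotTensor_mk, map_zero, ← h2, h1, map_zero]
    have h5 := Ideal.Quotient.eq_zero_iff_mem.mp h4
    have h6 : RingHom.ker f0 = maximalIdeal A := hker
    rw [h6] at h5
    exact h5
  · rw [Ideal.map_le_iff_le_comap]
    intro a ha
    rw [Ideal.mem_comap, RingHom.mem_ker]
    have h0 : algebraMap A D a = 0 := by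
      have : a ∈ RingHom.ker (algebraMap A D) := by rw [hker]; exact ha
      exact this
    have h1 : ψ (algebraMap A B a) = φ ((algebraMap A D a) ⊗ₜ[A] (1 : B)) := by
      rw [← hφincl, Algebra.TensorProduct.includeRight_apply]
      congr 1
      rw [Algebra.algebraMap_eq_smul_one, Algebra.algebraMap_eq_smul_one, TensorProduct.smul_tmul]
    rw [h1, h0, TensorProduct.zero_tmul, map_zero]

end Groth.Agent.Helper16.RedBCLen
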