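import Mathlib

/-!
# Reducedness of flat algebras with reduced fibres (helper16)
-/

set_option autoImplicit false
set_option linter.style.haveILetI false
set_option linter.unusedSectionVars false
universe u
open TensorProduct

namespace Groth.Agent.Helper16.RedFlat

/-- A reduced ring embeds in the product of the residue fields at its minimal primes. -/
theorem injective_pi_residueField (A : Type u) [CommRing A] [IsReduced A]
    (a : A) (ha : ∀ (p : Ideal A) [p.IsPrime], p ∈ minimalPrimes A →
      algebraMap A p.ResidueField a = 0) : a = 0 := by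
  have h1 : a ∈ sInf (minimalPrimes A) := by
    rw [Ideal.mem_sInf]
    intro p hp
    haveI : p.IsPrime := hp.1.1
    exact Ideal.algebraMap_residueField_eq_zero.mp (ha p hp)
  have h2 : sInf (minimalPrimes A) = (⊥ : Ideal A).radical := Ideal.sInf_minimalPrimes
  rw [h2] at h1
  have h3 : IsNilpotent a := by
    obtain ⟨n, hn⟩ := h1
    exact ⟨n, by simpa using hn⟩
  exact h3.eq_zero

/-- **Noetherian case**: a flat algebra over a reduced Noetherian ring whose fibres over the
minimal primes are reduced is reduced. -/
theorem isReduced_of_flat_of_noetherian (A B : Type u) [CommRing A] [CommRing B] [Algebra A B]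
    [IsNoetherianRing A] [IsReduced A] [Module.Flat A B]
    (h : ∀ (p : Ideal A) [p.IsPrime], p ∈ minimalPrimes A → IsReduced (p.ResidueField ⊗[A] B)) :
    IsReduced B := by
  classical
  haveI hfin : Finite (minimalPrimes A) := (minimalPrimes.finite_of_isNoetherianRing A).to_subtype
  haveI : Fintype (minimalPrimes A) := Fintype.ofFinite _
  let ι := ↥(minimalPrimes A)
  haveI hprime : ∀ i : ι, (i.1).IsPrime := fun i => i.2.1.1
  let K : ι → Type u := fun i => (i.1).ResidueField
  let φ : A →ₗ[A] (∀ i : ι, K i) := LinearMap.pi fun i => Algebra.linearMap A (K i)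
  have hφ : Function.Injective φ := by
    rw [injective_iff_map_eq_zero]
    intro a ha
    refine injective_pi_residueField A a fun p _ hp => ?_
    have := congrFun ha ⟨p, hp⟩
    exact this
  have hψ : Function.Injective (φ.lTensor B) :=
    Module.Flat.lTensor_preserves_injective_linearMap φ hφ
  refine ⟨fun b hb => ?_⟩
  obtain ⟨n, hn⟩ := hb
  -- each component vanishes
  have hcomp : ∀ i : ι, (b ⊗ₜ[A] (1 : K i) : B ⊗[A] K i) = 0 := by
    intro i
    haveI : IsReduced (K i ⊗[A] B) := h i.1 i.2
    haveI : IsReduced (B ⊗[A] K i) :=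
      isReduced_of_injective (Algebra.TensorProduct.comm A B (K i)).toRingEquiv.toRingHom
        (Algebra.TensorProduct.comm A B (K i)).injective
    have : IsNilpotent (b ⊗ₜ[A] (1 : K i) : B ⊗[A] K i) := by
      refine ⟨n, ?_⟩
      rw [Algebra.TensorProduct.tmul_pow, hn, one_pow, TensorProduct.zero_tmul]
    exact this.eq_zero
  have h1 : φ.lTensor B (b ⊗ₜ[A] (1 : A)) = 0 := by
    apply (TensorProduct.piRight A A B K).injective
    rw [map_zero, LinearMap.lTensor_tmul, TensorProduct.piRight_apply,
      TensorProduct.piRightHom_tmul]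
    funext i
    have : φ 1 i = (1 : K i) := by
      change algebraMap A (K i) 1 = 1
      exact map_one _
    rw [this]
    exact hcomp i
  have h2 : (b ⊗ₜ[A] (1 : A) : B ⊗[A] A) = 0 := hψ (by rw [h1, map_zero])
  have h3 := congrArg (TensorProduct.rid A B) h2
  simpa using h3

end Groth.Agent.Helper16.RedFlat
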