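import Mathlib

set_option autoImplicit false
set_option linter.style.haveILetI false
set_option linter.unusedSectionVars false
universe u
open TensorProduct

namespace Groth.Agent.Helper16.RedFlat

/-- If `K ⊗ B₁` is reduced for a field `K` over `R` with kernel `p₁`, then the fibre ring
`κ(p₁) ⊗ B₁` is reduced. -/
theorem isReduced_fiber_of_field (R B₁ : Type u) [CommRing R] [CommRing B₁] [Algebra R B₁]
    (K : Type u) [Field K] [Algebra R K] (p₁ : Ideal R) [p₁.IsPrime]
    (hp : RingHom.ker (algebraMap R K) = p₁) [IsReduced (K ⊗[R] B₁)] :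
    IsReduced (p₁.ResidueField ⊗[R] B₁) := by
  have h1 : p₁ ≤ RingHom.ker (algebraMap R K) := hp.ge
  have h2 : p₁.primeCompl ≤ (IsUnit.submonoid K).comap (algebraMap R K) := by
    intro r hr
    change IsUnit (algebraMap R K r)
    rw [isUnit_iff_ne_zero]
    intro h0
    exact hr (hp ▸ (RingHom.mem_ker.mpr h0))
  let σ : p₁.ResidueField →+* K := Ideal.ResidueField.lift p₁ (algebraMap R K) h1 h2
  letI : Algebra p₁.ResidueField K := σ.toAlgebra
  haveI : IsScalarTower R p₁.ResidueField K := IsScalarTower.of_algebraMap_eq fun r =>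
    (Ideal.ResidueField.lift_algebraMap p₁ (algebraMap R K) h1 h2 r).symm
  let e : K ⊗[p₁.ResidueField] (p₁.ResidueField ⊗[R] B₁) ≃ₐ[p₁.ResidueField] K ⊗[R] B₁ :=
    Algebra.TensorProduct.cancelBaseChange R p₁.ResidueField p₁.ResidueField K B₁
  haveI : IsReduced (K ⊗[p₁.ResidueField] (p₁.ResidueField ⊗[R] B₁)) :=
    isReduced_of_injective e.toRingEquiv.toRingHom e.injective
  have hinj : Function.Injective
      (Algebra.TensorProduct.includeRight :
        (p₁.ResidueField ⊗[R] B₁) →ₐ[p₁.ResidueField]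
          K ⊗[p₁.ResidueField] (p₁.ResidueField ⊗[R] B₁)) :=
    Algebra.TensorProduct.includeRight_injective (algebraMap p₁.ResidueField K).injective
  exact isReduced_of_injective
    (Algebra.TensorProduct.includeRight :
        (p₁.ResidueField ⊗[R] B₁) →ₐ[p₁.ResidueField]
          K ⊗[p₁.ResidueField] (p₁.ResidueField ⊗[R] B₁)).toRingHom hinj

/-- Fibres of a pushout. -/
theorem isReduced_tensor_of_isPushout (R A B₁ B : Type u) [CommRing R] [CommRing A] [CommRing B₁]
    [CommRing B] [Algebra R A] [Algebra R B₁] [Algebra A B] [Algebra B₁ B] [Algebra R B]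
    [IsScalarTower R A B] [IsScalarTower R B₁ B] [Algebra.IsPushout R A B₁ B]
    (K : Type u) [Field K] [Algebra A K] [Algebra R K] [IsScalarTower R A K]
    [IsReduced (K ⊗[A] B)] : IsReduced (K ⊗[R] B₁) := by
  let e₁ : A ⊗[R] B₁ ≃ₐ[A] B := Algebra.IsPushout.equiv R A B₁ B
  let e₂ : K ⊗[A] (A ⊗[R] B₁) ≃ₐ[K] K ⊗[A] B :=
    Algebra.TensorProduct.congr AlgEquiv.refl e₁
  let e₃ : K ⊗[A] (A ⊗[R] B₁) ≃ₐ[A] K ⊗[R] B₁ :=
    Algebra.TensorProduct.cancelBaseChange R A A K B₁
  haveI : IsReduced (K ⊗[A] (A ⊗[R] B₁)) :=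
    isReduced_of_injective e₂.toRingEquiv.toRingHom e₂.injective
  exact isReduced_of_injective e₃.symm.toRingEquiv.toRingHom e₃.symm.injective

end Groth.Agent.Helper16.RedFlat
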