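import Mathlib
import Groth.Agent.Lib.Helper16.Sch.FlatModel

set_option autoImplicit false
set_option linter.style.haveILetI false
set_option linter.unusedSectionVars false
universe u
open TensorProduct

namespace Groth.Agent.Helper16.RedFlat

attribute [local instance] Algebra.TensorProduct.rightAlgebra

/-- every element of `A ⊗[R₁] B₁` comes from `S ⊗[R₁] B₁` for a finitely generated subalgebra
`S` of `A`. -/
theorem exists_fg_subalgebra_mem_range (R₁ A B₁ : Type u) [CommRing R₁] [CommRing A] [CommRing B₁]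
    [Algebra R₁ A] [Algebra R₁ B₁] (t : A ⊗[R₁] B₁) :
    ∃ S : Subalgebra R₁ A, S.FG ∧
      t ∈ (Algebra.TensorProduct.map S.val (AlgHom.id R₁ B₁)).range := by
  have hmono : ∀ (S S' : Subalgebra R₁ A) (h : S ≤ S') (x : A ⊗[R₁] B₁),
      x ∈ (Algebra.TensorProduct.map S.val (AlgHom.id R₁ B₁)).range →
      x ∈ (Algebra.TensorProduct.map S'.val (AlgHom.id R₁ B₁)).range := by
    rintro S S' h x ⟨y, rfl⟩
    refine ⟨Algebra.TensorProduct.map (Subalgebra.inclusion h) (AlgHom.id R₁ B₁) y, ?_⟩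
    change (Algebra.TensorProduct.map S'.val (AlgHom.id R₁ B₁))
      ((Algebra.TensorProduct.map (Subalgebra.inclusion h) (AlgHom.id R₁ B₁)) y) =
      (Algebra.TensorProduct.map S.val (AlgHom.id R₁ B₁)) y
    rw [← AlgHom.comp_apply, ← Algebra.TensorProduct.map_comp]
    rfl
  induction t using TensorProduct.induction_on with
  | zero => exact ⟨⊥, Subalgebra.fg_bot, Subalgebra.zero_mem _⟩
  | tmul a b₁ =>
    refine ⟨Algebra.adjoin R₁ {a}, ?_, ⟨(⟨a, Algebra.subset_adjoin (Set.mem_singleton a)⟩ :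
      Algebra.adjoin R₁ ({a} : Set A)) ⊗ₜ b₁, ?_⟩⟩
    · have := Subalgebra.fg_adjoin_finset (R := R₁) ({a} : Finset A)
      simpa using this
    · simp
  | add x y hx hy =>
    obtain ⟨S, hS, hxS⟩ := hx
    obtain ⟨S', hS', hyS'⟩ := hy
    exact ⟨S ⊔ S', hS.sup hS', Subalgebra.add_mem _ (hmono S _ le_sup_left x hxS)
      (hmono S' _ le_sup_right y hyS')⟩

end Groth.Agent.Helper16.RedFlat

namespace Groth.Agent.Helper16.RedFlat

attribute [local instance] Algebra.TensorProduct.rightAlgebra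

set_option maxHeartbeats 1600000 in
/-- A flat finitely presented algebra `B` over `A` together with an element `b` descends to a
flat algebra over a Noetherian *subring* of `A`. -/
theorem exists_flat_model_elt (A B : Type u) [CommRing A] [CommRing B] [Algebra A B]
    [Algebra.FinitePresentation A B] [Module.Flat A B] (b : B) :
    ∃ (R₂ : Type u) (_ : CommRing R₂) (_ : Algebra R₂ A) (B₂ : Type u) (_ : CommRing B₂)
      (_ : Algebra R₂ B₂) (_ : Algebra B₂ B) (_ : Algebra R₂ B) (_ : IsScalarTower R₂ A B)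
      (_ : IsScalarTower R₂ B₂ B),
      IsNoetherianRing R₂ ∧ Function.Injective (algebraMap R₂ A) ∧ Module.Flat R₂ B₂ ∧
        Algebra.IsPushout R₂ A B₂ B ∧ ∃ b₂ : B₂, algebraMap B₂ B b₂ = b := by
  classical
  obtain ⟨R₁, _, _, B₁, _, _, _, _, _, _, hN, hFP, hFl, hpo⟩ :=
    Groth.Agent.Helper16.FlatModel.exists_flat_model A B
  haveI := hN
  haveI := hFP
  haveI := hFl
  haveI := hpo
  let e : A ⊗[R₁] B₁ ≃ₐ[A] B := Algebra.IsPushout.equiv R₁ A B₁ B
  obtain ⟨S, hS, y, hy⟩ := exists_fg_subalgebra_mem_range R₁ A B₁ (e.symm b)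
  let R₂ : Type u := ↥S
  haveI t1 : IsScalarTower R₂ A B := inferInstance
  haveI t2 : IsScalarTower R₁ R₂ B := IsScalarTower.of_algebraMap_eq fun x => by
    change algebraMap R₁ B x = algebraMap A B (algebraMap R₂ A (algebraMap R₁ R₂ x))
    rw [IsScalarTower.algebraMap_apply R₁ A B]
    rfl
  let ψ : R₂ ⊗[R₁] B₁ →ₐ[R₂] B :=
    Algebra.TensorProduct.lift (Algebra.ofId R₂ B) (IsScalarTower.toAlgHom R₁ B₁ B)
      (fun _ _ => Commute.all _ _)
  letI aB₂B : Algebra (R₂ ⊗[R₁] B₁) B := ψ.toRingHom.toAlgebra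
  haveI t3 : IsScalarTower R₂ (R₂ ⊗[R₁] B₁) B :=
    IsScalarTower.of_algebraMap_eq fun x => (ψ.commutes x).symm
  haveI t4 : IsScalarTower R₁ (R₂ ⊗[R₁] B₁) B := IsScalarTower.of_algebraMap_eq fun x => by
    change algebraMap R₁ B x = ψ (algebraMap R₁ (R₂ ⊗[R₁] B₁) x)
    rw [Algebra.TensorProduct.algebraMap_apply, Algebra.TensorProduct.lift_tmul, map_one,
      mul_one]
    change algebraMap R₁ B x = algebraMap R₂ B (algebraMap R₁ R₂ x)
    rw [← IsScalarTower.algebraMap_apply R₁ R₂ B]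
  haveI t5 : IsScalarTower B₁ (R₂ ⊗[R₁] B₁) B := IsScalarTower.of_algebraMap_eq fun b => by
    change algebraMap B₁ B b = ψ ((1 : R₂) ⊗ₜ b)
    rw [Algebra.TensorProduct.lift_tmul, map_one, one_mul]
    rfl
  haveI hfgR₂ : Algebra.FiniteType R₁ R₂ := (Subalgebra.fg_iff_finiteType S).mp hS
  haveI hnoeth : IsNoetherianRing R₂ := Algebra.FiniteType.isNoetherianRing R₁ R₂
  have hpo' : Algebra.IsPushout R₂ A (R₂ ⊗[R₁] B₁) B :=
    (Algebra.IsPushout.comp_iff R₁ R₂ B₁ (S' := R₂ ⊗[R₁] B₁) (T := A) (T' := B)).mp hpo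
  have hψ : ∀ z : R₂ ⊗[R₁] B₁,
      ψ z = e (Algebra.TensorProduct.map S.val (AlgHom.id R₁ B₁) z) := by
    intro z
    induction z using TensorProduct.induction_on with
    | zero => simp
    | tmul s b₁ =>
      rw [Algebra.TensorProduct.lift_tmul, Algebra.TensorProduct.map_tmul,
        Algebra.IsPushout.equiv_tmul]
      change algebraMap R₂ B s * algebraMap B₁ B b₁ = _
      rfl
    | add x y hx hy => rw [map_add, map_add, map_add, hx, hy]
  refine ⟨R₂, inferInstance, inferInstance, R₂ ⊗[R₁] B₁, inferInstance, inferInstance, aB₂B,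
    inferInstance, t1, t3, hnoeth, ?_, inferInstance, hpo', y, ?_⟩
  · exact Subtype.val_injective
  · change ψ y = b
    rw [hψ y]
    have : (Algebra.TensorProduct.map S.val (AlgHom.id R₁ B₁)) y = e.symm b := hy
    rw [this, AlgEquiv.apply_symm_apply]

end Groth.Agent.Helper16.RedFlat
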