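import Mathlib
import Groth.Agent.Lib.Helper16.Alg.RedFlat1
import Groth.Agent.Lib.Helper16.Alg.RedFlat2
import Groth.Agent.Lib.Helper16.Alg.RedFlat3

set_option autoImplicit false
set_option linter.style.haveILetI false
set_option linter.unusedSectionVars false
universe u
open TensorProduct

namespace Groth.Agent.Helper16.RedFlat

/-- **Reducedness of flat finitely presented algebras with reduced fibres** (no Noetherian
hypothesis): `A` reduced, `B` flat of finite presentation, and for every prime `p` of `A` some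
field `K` over `A` with kernel `p` has `K ⊗[A] B` reduced.  Then `B` is reduced. -/
theorem isReduced_of_flat_of_fp (A B : Type u) [CommRing A] [CommRing B] [Algebra A B]
    [Algebra.FinitePresentation A B] [Module.Flat A B] [IsReduced A]
    (h : ∀ (p : Ideal A) [p.IsPrime], ∃ (K : Type u) (_ : Field K) (_ : Algebra A K),
      RingHom.ker (algebraMap A K) = p ∧ IsReduced (K ⊗[A] B)) : IsReduced B := by
  refine ⟨fun b hb => ?_⟩
  obtain ⟨n, hn⟩ := hb
  obtain ⟨R₂, _, _, B₂, _, _, _, _, _, _, hN, hinj, hFl, hpo, b₂, hb₂⟩ :=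
    exists_flat_model_elt A B b
  haveI := hN
  haveI := hFl
  haveI := hpo
  haveI : IsReduced R₂ := isReduced_of_injective (algebraMap R₂ A) hinj
  have hinjB : Function.Injective (algebraMap B₂ B) := by
    let e : A ⊗[R₂] B₂ ≃ₐ[A] B := Algebra.IsPushout.equiv R₂ A B₂ B
    have h1 : Function.Injective
        (Algebra.TensorProduct.includeRight : B₂ →ₐ[R₂] A ⊗[R₂] B₂) :=
      Algebra.TensorProduct.includeRight_injective hinj
    have h2 : ∀ x : B₂, algebraMap B₂ B x =
        e ((Algebra.TensorProduct.includeRight : B₂ →ₐ[R₂] A ⊗[R₂] B₂) x) := by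
      intro x
      rw [Algebra.TensorProduct.includeRight_apply, Algebra.IsPushout.equiv_tmul, map_one, one_mul]
    intro x y hxy
    rw [h2, h2] at hxy
    exact h1 (e.injective hxy)
  haveI : IsReduced B₂ := by
    refine isReduced_of_flat_of_noetherian R₂ B₂ fun p₂ _ hp₂ => ?_
    obtain ⟨p, hp, hpc⟩ := Ideal.exists_comap_eq_of_mem_minimalPrimes_of_injective hinj p₂ hp₂
    haveI := hp
    obtain ⟨K, _, _, hK, hred⟩ := h p
    haveI := hred
    letI : Algebra R₂ K := ((algebraMap A K).comp (algebraMap R₂ A)).toAlgebra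
    haveI : IsScalarTower R₂ A K := IsScalarTower.of_algebraMap_eq fun _ => rfl
    haveI : IsReduced (K ⊗[R₂] B₂) := isReduced_tensor_of_isPushout R₂ A B₂ B K
    refine isReduced_fiber_of_field R₂ B₂ K p₂ ?_
    rw [← hpc, ← hK]
    rfl
  have hpow : b₂ ^ n = 0 := hinjB (by rw [map_pow, hb₂, hn, map_zero])
  have hb₂0 : b₂ = 0 := IsNilpotent.eq_zero ⟨n, hpow⟩
  rw [← hb₂, hb₂0, map_zero]

end Groth.Agent.Helper16.RedFlat
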