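import Mathlib
import Groth.Agent.Lib.Helper16.Alg.RedFlat4

set_option autoImplicit false
set_option linter.style.haveILetI false
set_option linter.unusedSectionVars false
universe u
open TensorProduct

namespace Groth.Agent.Helper16.RedFlat

/-- The fibre ring `κ(p) ⊗ B` is reduced if the local rings `B_r / p B_r` of the fibre are. -/
theorem isReduced_fiber_of_stalks (A B : Type u) [CommRing A] [CommRing B] [Algebra A B]
    (p : Ideal A) [p.IsPrime]
    (H : ∀ (r : Ideal B) [r.IsPrime], r.comap (algebraMap A B) = p →
      IsReduced (Localization.AtPrime r ⧸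
        (p.map (algebraMap A B)).map (algebraMap B (Localization.AtPrime r)))) :
    IsReduced (p.Fiber B) := by
  refine isReduced_ofLocalizationMaximal (p.Fiber B) fun q hq => ?_
  haveI : q.IsPrime := hq.isPrime
  let r : Ideal B := q.comap (Algebra.TensorProduct.includeRight : B →ₐ[A] p.Fiber B)
  haveI : r.IsPrime := Ideal.comap_isPrime _ _
  have hr : r.comap (algebraMap A B) = p := by
    have h1 : q.LiesOver p := inferInstance
    have h2 : p = q.comap (algebraMap A (p.Fiber B)) := h1.over
    rw [h2]
    change (q.comap (Algebra.TensorProduct.includeRight : B →ₐ[A] p.Fiber B).toRingHom).comap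
      (algebraMap A B) = _
    rw [Ideal.comap_comap]
    congr 1
    ext a
    simp
  haveI := H r hr
  let e := Ideal.Fiber.algEquivAux₂ p q
  exact isReduced_of_injective e.toRingEquiv.toRingHom e.injective

end Groth.Agent.Helper16.RedFlat
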