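import Mathlib
import Groth.Agent.Lib.Helper16.Alg.RedFlat5

set_option autoImplicit false
set_option linter.style.haveILetI false
set_option linter.unusedSectionVars false
universe u
open TensorProduct

namespace Groth.Agent.Helper16.RedFlat

/-- Localized form: if `A_{p₀}` is reduced and the fibres of `B` over the primes contained in
`p₀` are reduced then `A_{p₀} ⊗ B` is reduced. -/
theorem isReduced_localization_tensor (A B : Type u) [CommRing A] [CommRing B] [Algebra A B]
    [Algebra.FinitePresentation A B] [Module.Flat A B] (p₀ : Ideal A) [p₀.IsPrime]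
    [IsReduced (Localization.AtPrime p₀)]
    (H : ∀ (p : Ideal A) [p.IsPrime], p ≤ p₀ → IsReduced (p.Fiber B)) :
    IsReduced (Localization.AtPrime p₀ ⊗[A] B) := by
  refine isReduced_of_flat_of_fp (Localization.AtPrime p₀) (Localization.AtPrime p₀ ⊗[A] B)
    fun p' _ => ?_
  let p : Ideal A := p'.comap (algebraMap A (Localization.AtPrime p₀))
  haveI : p.IsPrime := Ideal.comap_isPrime _ _
  have hple : p ≤ p₀ := by
    have h1 : p' ≤ IsLocalRing.maximalIdeal (Localization.AtPrime p₀) :=
      IsLocalRing.le_maximalIdeal (Ideal.IsPrime.ne_top inferInstance)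
    have h2 := Ideal.comap_mono (f := algebraMap A (Localization.AtPrime p₀)) h1
    have h3 : (IsLocalRing.maximalIdeal (Localization.AtPrime p₀)).comap
        (algebraMap A (Localization.AtPrime p₀)) = p₀ :=
      IsLocalization.AtPrime.under_maximalIdeal (Localization.AtPrime p₀) p₀
    rw [h3] at h2
    exact h2
  have hunit : ∀ y : p₀.primeCompl, IsUnit (algebraMap A p.ResidueField y) := by
    intro y
    rw [isUnit_iff_ne_zero]
    intro h0
    exact y.2 (hple (Ideal.algebraMap_residueField_eq_zero.mp h0))
  let σ : Localization.AtPrime p₀ →+* p.ResidueField :=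
    IsLocalization.lift (M := p₀.primeCompl) (g := algebraMap A p.ResidueField) hunit
  letI : Algebra (Localization.AtPrime p₀) p.ResidueField := σ.toAlgebra
  haveI : IsScalarTower A (Localization.AtPrime p₀) p.ResidueField :=
    IsScalarTower.of_algebraMap_eq fun a => (IsLocalization.lift_eq hunit a).symm
  refine ⟨p.ResidueField, inferInstance, inferInstance, ?_, ?_⟩
  · -- kernel
    have h1 : (RingHom.ker (algebraMap (Localization.AtPrime p₀) p.ResidueField)).comap
        (algebraMap A (Localization.AtPrime p₀)) = p := by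
      rw [RingHom.comap_ker, ← IsScalarTower.algebraMap_eq, Ideal.ker_algebraMap_residueField]
    have h2 := IsLocalization.map_under p₀.primeCompl (S := Localization.AtPrime p₀)
      (RingHom.ker (algebraMap (Localization.AtPrime p₀) p.ResidueField))
    have h3 := IsLocalization.map_under p₀.primeCompl (S := Localization.AtPrime p₀) p'
    change Ideal.map _ (Ideal.comap _ _) = _ at h2
    change Ideal.map _ (Ideal.comap _ _) = _ at h3
    rw [← h2, h1, h3]
  · haveI := H p hple
    let e : p.ResidueField ⊗[Localization.AtPrime p₀] (Localization.AtPrime p₀ ⊗[A] B) ≃ₐ[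
        Localization.AtPrime p₀] p.ResidueField ⊗[A] B :=
      Algebra.TensorProduct.cancelBaseChange A (Localization.AtPrime p₀)
        (Localization.AtPrime p₀) p.ResidueField B
    exact isReduced_of_injective e.toRingEquiv.toRingHom e.injective

/-- From `A_{p₀} ⊗ B` to the local ring `B_{q₀}` for a prime `q₀` over `p₀`. -/
theorem isReduced_localization_atPrime_of_tensor (A B : Type u) [CommRing A] [CommRing B]
    [Algebra A B] (q₀ : Ideal B) [q₀.IsPrime] (p₀ : Ideal A) [p₀.IsPrime]
    (hq : q₀.comap (algebraMap A B) = p₀) [IsReduced (Localization.AtPrime p₀ ⊗[A] B)] :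
    IsReduced (Localization.AtPrime q₀) := by
  refine ⟨fun x hx => ?_⟩
  obtain ⟨n, hn⟩ := hx
  obtain ⟨b, s, rfl⟩ := IsLocalization.exists_mk'_eq q₀.primeCompl x
  rw [IsLocalization.mk'_eq_zero_iff]
  -- b / 1 is nilpotent
  have h1 : (algebraMap B (Localization.AtPrime q₀) b) ^ n = 0 := by
    have : algebraMap B (Localization.AtPrime q₀) b =
        IsLocalization.mk' (Localization.AtPrime q₀) b s * algebraMap B _ (s : B) := by
      rw [IsLocalization.mk'_spec]
    rw [this, mul_pow, hn, zero_mul]
  rw [← map_pow, IsLocalization.map_eq_zero_iff q₀.primeCompl] at h1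
  obtain ⟨t, ht⟩ := h1
  -- c = t * b is nilpotent in B
  have hc : ((t : B) * b) ^ (n + 1) = 0 := by
    rw [mul_pow, pow_succ b n, pow_succ' (t : B) n]
    calc (t : B) * (t : B) ^ n * (b ^ n * b) = (t : B) ^ n * b * ((t : B) * b ^ n) := by ring
      _ = 0 := by rw [ht, mul_zero]
  have h2 : ((1 : Localization.AtPrime p₀) ⊗ₜ[A] ((t : B) * b) :
      Localization.AtPrime p₀ ⊗[A] B) = 0 := by
    have : IsNilpotent ((1 : Localization.AtPrime p₀) ⊗ₜ[A] ((t : B) * b) :
        Localization.AtPrime p₀ ⊗[A] B) := by
      refine ⟨n + 1, ?_⟩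
      rw [Algebra.TensorProduct.tmul_pow, hc, TensorProduct.tmul_zero]
    exact this.eq_zero
  have h3 : TensorProduct.mk A (Localization.AtPrime p₀) B 1 ((t : B) * b) = 0 := h2
  rw [IsLocalizedModule.eq_zero_iff p₀.primeCompl] at h3
  obtain ⟨a, ha⟩ := h3
  have ha' : algebraMap A B (a : A) * ((t : B) * b) = 0 := by
    rw [← Algebra.smul_def]; exact ha
  have hmem : algebraMap A B (a : A) * (t : B) ∈ q₀.primeCompl := by
    refine q₀.primeCompl.mul_mem ?_ t.2
    intro h
    apply a.2
    have : (a : A) ∈ q₀.comap (algebraMap A B) := h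
    rwa [hq] at this
  exact ⟨⟨_, hmem⟩, by rw [← ha']; ring⟩

end Groth.Agent.Helper16.RedFlat
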