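import Mathlib
import Groth.Agent.Lib.Helper16.Alg.RedFlat6

set_option autoImplicit false
set_option linter.style.haveILetI false
set_option linter.unusedSectionVars false
universe u
open TensorProduct

namespace Groth.Agent.Helper16.RedFlat

/-- **Final ring form**: `A → B` flat of finite presentation, `q₀` a prime of `B` over `p₀` with
`A_{p₀}` reduced, and all local rings `B_r / (r ∩ A) B_r` of the fibres reduced.  Then `B_{q₀}` is
reduced. -/
theorem isReduced_localization_of_flat_of_stalks (A B : Type u) [CommRing A] [CommRing B]
    [Algebra A B] [Algebra.FinitePresentation A B] [Module.Flat A B]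
    (q₀ : Ideal B) [q₀.IsPrime] (p₀ : Ideal A) [p₀.IsPrime]
    (hq : q₀.comap (algebraMap A B) = p₀) [IsReduced (Localization.AtPrime p₀)]
    (H : ∀ (r : Ideal B) [r.IsPrime], IsReduced (Localization.AtPrime r ⧸
      ((r.comap (algebraMap A B)).map (algebraMap A B)).map
        (algebraMap B (Localization.AtPrime r)))) :
    IsReduced (Localization.AtPrime q₀) := by
  haveI : IsReduced (Localization.AtPrime p₀ ⊗[A] B) := by
    refine isReduced_localization_tensor A B p₀ fun p _ _ => ?_
    refine isReduced_fiber_of_stalks A B p fun r _ hr => ?_
    subst hr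
    exact H r
  exact isReduced_localization_atPrime_of_tensor A B q₀ p₀ hq

end Groth.Agent.Helper16.RedFlat
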