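import Mathlib

/-!
# Regular sequences and kernels (helper16)

`ker_inf_ofList_le`: if `φ : E → B` is surjective and the image of `ts` is a weakly regular
sequence on `B`, then `ker φ ⊓ (ts) ≤ (ts) * ker φ` (i.e. `Tor₁^E(B, E/(ts)) = 0`).
-/

set_option autoImplicit false
universe u

namespace Groth.Agent.Helper16.RegSm

open RingTheory.Sequence

theorem ker_inf_ofList_le {E B : Type*} [CommRing E] [CommRing B] (φ : E →+* B)
    (hφ : Function.Surjective φ) (ts : List E)
    (hreg : IsWeaklyRegular B (ts.map φ)) :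
    RingHom.ker φ ⊓ Ideal.ofList ts ≤ Ideal.ofList ts * RingHom.ker φ := by
  induction ts using List.reverseRecOn with
  | nil =>
    rw [Ideal.ofList_nil]
    simp
  | append_singleton ts t ih =>
    rw [List.map_append, isWeaklyRegular_append_iff, List.map_singleton,
      isWeaklyRegular_singleton_iff] at hreg
    obtain ⟨h1, h2⟩ := hreg
    have ih' := ih h1
    rintro x ⟨hxK, hxJ⟩
    rw [SetLike.mem_coe, Ideal.ofList_append, Ideal.ofList_singleton] at hxJ
    obtain ⟨x', hx', z, hz, rfl⟩ := Submodule.mem_sup.mp hxJ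
    obtain ⟨a, rfl⟩ := Ideal.mem_span_singleton'.mp hz
    have hle : Ideal.ofList ts * RingHom.ker φ ≤ Ideal.ofList (ts ++ [t]) * RingHom.ker φ := by
      apply Ideal.mul_mono_left
      rw [Ideal.ofList_append]
      exact le_sup_left
    have htmem : t ∈ Ideal.ofList (ts ++ [t]) := by
      rw [Ideal.ofList_append, Ideal.ofList_singleton]
      exact Ideal.mem_sup_right (Ideal.mem_span_singleton_self t)
    -- φ a ∈ ofList (ts.map φ)
    have hφx : φ x' + φ a * φ t = 0 := by
      have := (RingHom.mem_ker).mp hxK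
      rwa [map_add, map_mul] at this
    have hmem : φ t * φ a ∈ Ideal.ofList (ts.map φ) := by
      have h3 : φ t * φ a = - φ x' := by
        rw [mul_comm]; exact (eq_neg_of_add_eq_zero_right hφx)
      rw [h3, ← Ideal.map_ofList]
      exact neg_mem (Ideal.mem_map_of_mem φ hx')
    have hφa : φ a ∈ Ideal.ofList (ts.map φ) := by
      have h4 : (Submodule.Quotient.mk (φ a) :
          B ⧸ (Ideal.ofList (ts.map φ) • ⊤ : Submodule B B)) = 0 := by
        apply h2
        show φ t • Submodule.Quotient.mk (φ a) = φ t • (0 : B ⧸ _)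
        rw [smul_zero, ← Submodule.Quotient.mk_smul, Submodule.Quotient.mk_eq_zero]
        show φ t • φ a ∈ Ideal.ofList (ts.map φ) * ⊤
        rw [Ideal.mul_top, smul_eq_mul]
        exact hmem
      rw [Submodule.Quotient.mk_eq_zero] at h4
      have h6 : φ a ∈ Ideal.ofList (ts.map φ) * ⊤ := h4
      rwa [Ideal.mul_top] at h6
    rw [← Ideal.map_ofList] at hφa
    obtain ⟨a', ha', haa'⟩ := (Ideal.mem_map_iff_of_surjective φ hφ).mp hφa
    have hk : a - a' ∈ RingHom.ker φ := by
      rw [RingHom.mem_ker, map_sub, haa', sub_self]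
    have hx'' : x' + a' * t ∈ RingHom.ker φ ⊓ Ideal.ofList ts := by
      refine ⟨?_, ?_⟩
      · have : x' + a' * t = (x' + a * t) - (a - a') * t := by ring
        rw [SetLike.mem_coe, this]
        exact sub_mem hxK (Ideal.mul_mem_right _ _ hk)
      · exact add_mem hx' (Ideal.mul_mem_right _ _ ha')
    have h5 : x' + a * t = (x' + a' * t) + t * (a - a') := by ring
    rw [h5]
    exact add_mem (hle (ih' hx'')) (Ideal.mul_mem_mul htmem hk)

end Groth.Agent.Helper16.RegSm
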