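import Mathlib

/-!
# Unramifiedness from a quotient by an ideal extended from the base (helper16)
-/

set_option autoImplicit false
set_option linter.style.haveILetI false
universe u

namespace Groth.Agent.Helper16.RegSm

open TensorProduct KaehlerDifferential

/-- If `S → T` is surjective with kernel generated by the image of an ideal of `R`, then
`T ⊗[S] Ω[S/R] → Ω[T/R]` is injective. -/
theorem mapBaseChange_injective_of_ker_eq_map {R S T : Type*} [CommRing R] [CommRing S]
    [CommRing T] [Algebra R S] [Algebra S T] [Algebra R T] [IsScalarTower R S T]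
    (hsurj : Function.Surjective (algebraMap S T)) (J : Ideal R)
    (hker : RingHom.ker (algebraMap S T) = J.map (algebraMap R S)) :
    Function.Injective (KaehlerDifferential.mapBaseChange R S T) := by
  have hex := KaehlerDifferential.exact_kerCotangentToTensor_mapBaseChange R S T hsurj
  have key : ∀ z ∈ J.map (algebraMap R S), (1 : T) ⊗ₜ[S] D R S z = 0 := by
    intro z hz
    refine Submodule.span_induction (p := fun z _ => (1 : T) ⊗ₜ[S] D R S z = 0) ?_ ?_ ?_ ?_ hz
    · rintro _ ⟨j, -, rfl⟩
      rw [Derivation.map_algebraMap, tmul_zero]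
    · rw [map_zero, tmul_zero]
    · intro a b _ _ ha hb
      rw [map_add, tmul_add, ha, hb, add_zero]
    · intro s a ha h
      rw [smul_eq_mul, Derivation.leibniz, tmul_add, tmul_smul, h, smul_zero, zero_add,
        ← smul_tmul, Algebra.smul_def, mul_one]
      have : algebraMap S T a = 0 := by
        rw [← RingHom.mem_ker, hker]; exact ha
      rw [this, zero_tmul]
  have hz : ∀ y, kerCotangentToTensor R S T y = 0 := by
    intro y
    obtain ⟨x, rfl⟩ := Ideal.toCotangent_surjective _ y
    rw [KaehlerDifferential.kerCotangentToTensor_toCotangent]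
    exact key x.1 (hker ▸ x.2)
  rw [injective_iff_map_eq_zero]
  intro a ha
  obtain ⟨y, rfl⟩ := (hex a).mp ha
  exact hz y

/-- Nakayama: a local ring `S` essentially of finite type over `R` is formally unramified as soon
as a nontrivial quotient `T` by an ideal generated by elements from `R` is. -/
theorem formallyUnramified_of_quotient {R S T : Type u} [CommRing R] [CommRing S] [CommRing T]
    [IsLocalRing S] [Nontrivial T]
    [Algebra R S] [Algebra S T] [Algebra R T] [IsScalarTower R S T] [Algebra.EssFiniteType R S]
    (hsurj : Function.Surjective (algebraMap S T)) (J : Ideal R)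
    (hker : RingHom.ker (algebraMap S T) = J.map (algebraMap R S))
    [Algebra.FormallyUnramified R T] : Algebra.FormallyUnramified R S := by
  have hinj := mapBaseChange_injective_of_ker_eq_map hsurj J hker
  haveI : Subsingleton (T ⊗[S] Ω[S⁄R]) := hinj.subsingleton
  set I := RingHom.ker (algebraMap S T) with hI
  have hIne : I ≠ ⊤ := by
    intro h
    have : (1 : S) ∈ I := h ▸ Submodule.mem_top
    rw [RingHom.mem_ker, map_one] at this
    exact one_ne_zero this
  have hIm : I ≤ IsLocalRing.maximalIdeal S := IsLocalRing.le_maximalIdeal hIne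
  let e : (S ⧸ I) ≃ₐ[S] T :=
    Ideal.quotientKerAlgEquivOfSurjective (f := Algebra.ofId S T) hsurj
  have htop : (⊤ : Submodule S Ω[S⁄R]) ≤ I • ⊤ := by
    intro ω _
    rw [← LinearMap.ker_tensorProductMk, LinearMap.mem_ker]
    have h1 : (LinearMap.rTensor Ω[S⁄R] e.toLinearMap) ((TensorProduct.mk S (S ⧸ I) Ω[S⁄R]) 1 ω)
        = 0 := Subsingleton.elim _ _
    have h2 : Function.Injective (LinearMap.rTensor Ω[S⁄R] e.toLinearMap) :=
      (LinearEquiv.rTensor Ω[S⁄R] e.toLinearEquiv).injective
    exact h2 (by rw [h1, map_zero])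
  have hbot : (⊤ : Submodule S Ω[S⁄R]) = ⊥ :=
    Submodule.eq_bot_of_le_smul_of_le_jacobson_bot I ⊤ Module.Finite.fg_top htop
      (hIm.trans (IsLocalRing.maximalIdeal_le_jacobson ⊥))
  exact ⟨(Submodule.subsingleton_iff S).mp (subsingleton_iff_bot_eq_top.mp hbot.symm)⟩

end Groth.Agent.Helper16.RegSm
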