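import Mathlib
import Groth.Agent.Lib.Helper16.Alg.RegSmA

/-!
# A surjection from a formally unramified local ring is bijective if it is so modulo a regular
sequence coming from the base and the quotient is formally étale (helper16)
-/

set_option autoImplicit false
set_option linter.style.haveILetI false
universe u

namespace Groth.Agent.Helper16.RegSm

open RingTheory.Sequence

set_option maxHeartbeats 800000 in
theorem injective_of_local {P E' B' C' : Type u} [CommRing P] [CommRing E'] [CommRing B']
    [CommRing C'] [IsLocalRing E'] [Nontrivial C']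
    [Algebra P E'] [Algebra P B'] [Algebra P C']
    (ts : List P)
    [Algebra (P ⧸ Ideal.ofList ts) C'] [IsScalarTower P (P ⧸ Ideal.ofList ts) C']
    [Algebra.FormallyUnramified P E'] [Algebra.FormallyEtale (P ⧸ Ideal.ofList ts) C']
    (φ : E' →ₐ[P] B') (hφ : Function.Surjective φ) (hK : (RingHom.ker φ.toRingHom).FG)
    (π : B' →ₐ[P] C') (hπ : Function.Surjective π)
    (hkerπ : RingHom.ker π.toRingHom = (Ideal.ofList ts).map (algebraMap P B'))
    (hreg : IsWeaklyRegular B' (ts.map (algebraMap P B'))) :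
    Function.Injective φ := by
  classical
  set IE : Ideal E' := (Ideal.ofList ts).map (algebraMap P E') with hIE
  set K : Ideal E' := RingHom.ker φ.toRingHom with hKdef
  let ψ : E' →ₐ[P] C' := π.comp φ
  have hψ : Function.Surjective ψ := hπ.comp hφ
  have hIFG : (Ideal.ofList ts).FG := ⟨(List.finite_toSet ts).toFinset, by
    rw [Ideal.ofList]; congr 1; ext x; simp⟩
  have hIEFG : IE.FG := hIFG.map _
  -- `IE ≤ ker ψ`
  have hIEle : IE ≤ RingHom.ker ψ.toRingHom := by
    rw [hIE, Ideal.map_le_iff_le_comap]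
    intro t ht
    rw [Ideal.mem_comap, RingHom.mem_ker]
    show ψ (algebraMap P E' t) = 0
    rw [AlgHom.commutes, IsScalarTower.algebraMap_apply P (P ⧸ Ideal.ofList ts) C',
      Ideal.Quotient.algebraMap_eq, Ideal.Quotient.eq_zero_iff_mem.mpr ht, map_zero]
  -- `ker ψ = IE ⊔ K`
  have hkerψ : RingHom.ker ψ.toRingHom = IE ⊔ K := by
    have h1 : RingHom.ker ψ.toRingHom = (RingHom.ker π.toRingHom).comap φ.toRingHom := by
      ext x
      simp only [RingHom.mem_ker, Ideal.mem_comap]
      rfl
    have h2 : (Ideal.ofList ts).map (algebraMap P B') = IE.map φ.toRingHom := by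
      rw [hIE, Ideal.map_map]
      congr 1
      exact (AlgHom.comp_algebraMap φ).symm
    rw [h1, hkerπ, h2, Ideal.comap_map_of_surjective φ.toRingHom hφ]
    rfl
  -- the quotient `E' ⧸ IE`
  let ψbar : (E' ⧸ IE) →+* C' := Ideal.Quotient.lift IE ψ.toRingHom hIEle
  have hψbar : Function.Surjective ψbar :=
    Ideal.Quotient.lift_surjective_of_surjective IE hIEle hψ
  have hcomm : ∀ x : P ⧸ Ideal.ofList ts, ψbar (algebraMap (P ⧸ Ideal.ofList ts) (E' ⧸ IE) x) = algebraMap (P ⧸ Ideal.ofList ts) C' x := by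
    intro x
    obtain ⟨x, rfl⟩ := Ideal.Quotient.mk_surjective x
    rw [Ideal.Quotient.algebraMap_quotient_map_quotient]
    show ψ (algebraMap P E' x) = _
    rw [AlgHom.commutes, IsScalarTower.algebraMap_apply P (P ⧸ Ideal.ofList ts) C',
      Ideal.Quotient.algebraMap_eq]
  letI algEC : Algebra (E' ⧸ IE) C' := ψbar.toAlgebra
  haveI : IsScalarTower (P ⧸ Ideal.ofList ts) (E' ⧸ IE) C' := IsScalarTower.of_algebraMap_eq' (by
    ext x
    exact (hcomm x).symm)
  haveI : Algebra.FormallyEtale (E' ⧸ IE) C' :=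
    Algebra.FormallyEtale.of_restrictScalars (R := P ⧸ Ideal.ofList ts) (A := E' ⧸ IE) (B := C')
  have hidem : IsIdempotentElem (RingHom.ker (algebraMap (E' ⧸ IE) C')) :=
    (Algebra.FormallyEtale.iff_of_surjective hψbar).mp inferInstance
  have hkerbar : RingHom.ker (algebraMap (E' ⧸ IE) C') =
      (IE ⊔ K).map (Ideal.Quotient.mk IE) := by
    show RingHom.ker ψbar = _
    rw [Ideal.ker_quotient_lift, hkerψ]
  haveI : IsLocalRing (E' ⧸ IE) := by
    haveI : Nontrivial (E' ⧸ IE) := by
      rw [Ideal.Quotient.nontrivial_iff]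
      intro h
      have : (1 : E') ∈ RingHom.ker ψ.toRingHom := hIEle (h ▸ Submodule.mem_top)
      rw [RingHom.mem_ker, map_one] at this
      exact one_ne_zero this
    exact IsLocalRing.of_surjective' (Ideal.Quotient.mk IE) Ideal.Quotient.mk_surjective
  set L : Ideal (E' ⧸ IE) := RingHom.ker (algebraMap (E' ⧸ IE) C') with hL
  have hLFG : L.FG := by
    rw [hkerbar]
    exact Ideal.FG.map (Submodule.FG.sup hIEFG hK) _
  have hLne : L ≠ ⊤ := by
    intro h
    have : (1 : E' ⧸ IE) ∈ L := h ▸ Submodule.mem_top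
    rw [hL, RingHom.mem_ker, map_one] at this
    exact one_ne_zero this
  have hLbot : L = ⊥ := by
    refine Submodule.eq_bot_of_le_smul_of_le_jacobson_bot L L hLFG ?_
      ((IsLocalRing.le_maximalIdeal hLne).trans (IsLocalRing.maximalIdeal_le_jacobson ⊥))
    rw [smul_eq_mul]
    exact hidem.eq.ge
  -- hence `K ≤ IE`
  have hKle : K ≤ IE := by
    rw [hkerbar, Ideal.map_eq_bot_iff_le_ker, Ideal.mk_ker] at hLbot
    exact le_sup_right.trans hLbot
  -- Koszul argument
  have hregE : IsWeaklyRegular B' ((ts.map (algebraMap P E')).map φ.toRingHom) := by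
    rw [List.map_map]
    convert hreg using 2
    ext t
    exact φ.commutes t
  have h3 := ker_inf_ofList_le φ.toRingHom hφ (ts.map (algebraMap P E')) hregE
  rw [← Ideal.map_ofList] at h3
  have h4 : K ≤ IE * K := by
    refine le_trans ?_ h3
    exact le_inf le_rfl hKle
  have hIEne : IE ≠ ⊤ := by
    intro h
    have : (1 : E') ∈ RingHom.ker ψ.toRingHom := hIEle (h ▸ Submodule.mem_top)
    rw [RingHom.mem_ker, map_one] at this
    exact one_ne_zero this
  have hKbot : K = ⊥ :=
    Submodule.eq_bot_of_le_smul_of_le_jacobson_bot IE K hK (by rw [smul_eq_mul]; exact h4)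
      ((IsLocalRing.le_maximalIdeal hIEne).trans (IsLocalRing.maximalIdeal_le_jacobson ⊥))
  exact (RingHom.injective_iff_ker_eq_bot φ.toRingHom).mpr hKbot

end Groth.Agent.Helper16.RegSm
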