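import Mathlib
import Groth.Agent.Lib.Helper16.Alg.RegSmC
import Groth.Agent.Lib.Helper16.Alg.RegSmB

/-!
# Étaleness at a prime from étaleness modulo a regular sequence of the base (helper16)
-/

set_option autoImplicit false
set_option linter.style.haveILetI false
universe u

namespace Groth.Agent.Helper16.RegSm

open RingTheory.Sequence

set_option maxHeartbeats 1600000 in
set_option synthInstance.maxHeartbeats 400000 in
theorem isEtaleAt_of_regular_quotient
    {P B C : Type u} [CommRing P] [CommRing B] [CommRing C]
    [Algebra P B] [Algebra B C] [Algebra P C] [IsScalarTower P B C]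
    [Algebra.FinitePresentation P B]
    (ts : List P)
    [Algebra (P ⧸ Ideal.ofList ts) C] [IsScalarTower P (P ⧸ Ideal.ofList ts) C]
    (hπ : Function.Surjective (algebraMap B C))
    (hker : RingHom.ker (algebraMap B C) = (Ideal.ofList ts).map (algebraMap P B))
    (hreg : IsWeaklyRegular B (ts.map (algebraMap P B)))
    (qbar : Ideal C) [qbar.IsPrime] (q : Ideal B) [q.IsPrime]
    (hq : q = qbar.comap (algebraMap B C))
    [Algebra.IsEtaleAt (P ⧸ Ideal.ofList ts) qbar] :
    Algebra.IsEtaleAt P q := by
  classical
  subst hq
  set q : Ideal B := qbar.comap (algebraMap B C) with hqdef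
  have hT2 : Submonoid.map (algebraMap B C) q.primeCompl = qbar.primeCompl :=
    Submonoid.map_comap_eq_of_surjective hπ qbar.primeCompl
  haveI hunr : Algebra.IsUnramifiedAt P q := by
    let Bq := Localization.AtPrime q
    let Cq := Localization.AtPrime qbar
    let ρ : Bq →+* Cq := Localization.localRingHom q qbar (algebraMap B C) rfl
    letI : Algebra Bq Cq := ρ.toAlgebra
    haveI : IsScalarTower P Bq Cq := IsScalarTower.of_algebraMap_eq' (by
      ext x
      show algebraMap P Cq x = ρ (algebraMap P Bq x)
      rw [IsScalarTower.algebraMap_apply P B Bq, Localization.localRingHom_to_map,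
        IsScalarTower.algebraMap_apply P C Cq, IsScalarTower.algebraMap_apply P B C])
    have hρ : Function.Surjective (algebraMap Bq Cq) :=
      RingHom.surjective_localRingHom_of_surjective _ hπ qbar
    have hkerρ : RingHom.ker (algebraMap Bq Cq) = (Ideal.ofList ts).map (algebraMap P Bq) := by
      have := IsLocalization.ker_map (S := Bq) Cq (algebraMap B C) hT2
      show RingHom.ker ρ = _
      rw [show ρ = IsLocalization.map Cq (algebraMap B C)
        (hT2.symm ▸ q.primeCompl.le_comap_map) from rfl, this, hker, Ideal.map_map,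
        ← IsScalarTower.algebraMap_eq]
    haveI : Algebra.FormallyEtale (P ⧸ Ideal.ofList ts) Cq := ‹Algebra.IsEtaleAt _ qbar›
    haveI : Algebra.FormallyUnramified P Cq :=
      Algebra.FormallyUnramified.comp P (P ⧸ Ideal.ofList ts) Cq
    exact formallyUnramified_of_quotient hρ (Ideal.ofList ts) hkerρ
  obtain ⟨g, hg, SP, φ, hφ⟩ :=
    Algebra.IsUnramifiedAt.exists_hasStandardEtaleSurjectionOn (R := P) q
  set B₁ := Localization.Away g with hB₁
  haveI : Algebra.FinitePresentation B B₁ := IsLocalization.Away.finitePresentation g
  haveI : Algebra.FinitePresentation P B₁ := Algebra.FinitePresentation.trans P B B₁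
  have hdisj : Disjoint (Submonoid.powers g : Set B) (q : Set B) :=
    (Ideal.disjoint_powers_iff_notMem_of_isPrime _).mpr hg
  set q₁ : Ideal B₁ := q.map (algebraMap B B₁) with hq₁
  haveI hq₁p : q₁.IsPrime :=
    IsLocalization.isPrime_of_isPrime_disjoint (.powers g) _ _ ‹_› hdisj
  have hq₁c : q₁.comap (algebraMap B B₁) = q :=
    IsLocalization.under_map_of_isPrime_disjoint (.powers g) _ ‹_› hdisj
  set qE : Ideal SP.Ring := q₁.comap φ.toRingHom with hqE
  haveI : qE.IsPrime := Ideal.comap_isPrime _ _
  set B' := Localization.AtPrime q₁ with hB'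
  set E' := Localization.AtPrime qE with hE'
  set C' := Localization.AtPrime qbar with hC'
  haveI hlocB' : IsLocalization.AtPrime B' q := by
    have h0 := IsLocalization.isLocalization_atPrime_localization_atPrime (.powers g) q₁
    have hsub : (q₁.comap (algebraMap B B₁)).primeCompl = q.primeCompl := by
      ext x
      show x ∉ q₁.comap (algebraMap B B₁) ↔ x ∉ q
      rw [hq₁c]
    have h1 : IsLocalization (q₁.comap (algebraMap B B₁)).primeCompl B' := h0
    rw [hsub] at h1
    exact h1
  -- the local map `E' → B'`
  let φ₀ : E' →+* B' := Localization.localRingHom qE q₁ φ.toRingHom rfl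
  have hφ₀ : Function.Surjective φ₀ :=
    RingHom.surjective_localRingHom_of_surjective φ.toRingHom hφ q₁
  let φ' : E' →ₐ[P] B' :=
    { φ₀ with
      commutes' := fun x => by
        show φ₀ (algebraMap P E' x) = algebraMap P B' x
        rw [IsScalarTower.algebraMap_apply P SP.Ring E', Localization.localRingHom_to_map,
          IsScalarTower.algebraMap_apply P B₁ B']
        congr 1
        exact φ.commutes x }
  have hφ' : Function.Surjective φ' := hφ₀
  have hT : Submonoid.map φ.toRingHom qE.primeCompl = q₁.primeCompl :=
    Submonoid.map_comap_eq_of_surjective hφ q₁.primeCompl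
  have hkerφ' : RingHom.ker φ'.toRingHom =
      (RingHom.ker φ.toRingHom).map (algebraMap SP.Ring E') :=
    IsLocalization.ker_map (S := E') B' φ.toRingHom hT
  have hKφ : (RingHom.ker φ.toRingHom).FG :=
    Algebra.FinitePresentation.ker_fG_of_surjective φ hφ
  have hK' : (RingHom.ker φ'.toRingHom).FG := by
    rw [hkerφ']
    exact hKφ.map _
  -- the local map `B' → C'`
  have hy : q.primeCompl ≤ Submonoid.comap (algebraMap B C) qbar.primeCompl :=
    hT2.symm ▸ q.primeCompl.le_comap_map
  let π₀ : B' →+* C' := IsLocalization.map (M := q.primeCompl) (T := qbar.primeCompl) C'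
    (algebraMap B C) hy
  have hπ₀ : Function.Surjective π₀ := by
    haveI : IsLocalization (Submonoid.map (algebraMap B C) q.primeCompl) C' :=
      hT2.symm ▸ (inferInstance : IsLocalization qbar.primeCompl C')
    exact RingHom.surjective_localizationPreserves (algebraMap B C) q.primeCompl B' C' hπ
  let π' : B' →ₐ[P] C' :=
    { π₀ with
      commutes' := fun x => by
        show π₀ (algebraMap P B' x) = algebraMap P C' x
        rw [IsScalarTower.algebraMap_apply P B B', IsLocalization.map_eq,
          IsScalarTower.algebraMap_apply P C C', IsScalarTower.algebraMap_apply P B C] }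
  have hπ' : Function.Surjective π' := hπ₀
  have hkerπ' : RingHom.ker π'.toRingHom = (Ideal.ofList ts).map (algebraMap P B') := by
    have := IsLocalization.ker_map (S := B') C' (algebraMap B C) hT2
    show RingHom.ker π₀ = _
    rw [this, hker, Ideal.map_map, ← IsScalarTower.algebraMap_eq]
  have hreg' : IsWeaklyRegular B' (ts.map (algebraMap P B')) := by
    have := IsWeaklyRegular.of_isLocalization B' q.primeCompl hreg
    rwa [List.map_map, ← RingHom.coe_comp, ← IsScalarTower.algebraMap_eq] at this
  haveI : Algebra.FormallyEtale (P ⧸ Ideal.ofList ts) C' := ‹Algebra.IsEtaleAt _ qbar›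
  have hinj := injective_of_local ts φ' hφ' hK' π' hπ' hkerπ' hreg'
  let e : E' ≃ₐ[P] B' := AlgEquiv.ofBijective φ' ⟨hinj, hφ'⟩
  haveI : Algebra.FormallyEtale P B' := Algebra.FormallyEtale.of_equiv e
  exact Algebra.FormallyEtale.of_equiv
    ((IsLocalization.algEquiv q.primeCompl B' (Localization.AtPrime q)).restrictScalars P)

end Groth.Agent.Helper16.RegSm
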