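import Mathlib
import Groth.Agent.Lib.Helper16.Alg.RegSmD
import Groth.Agent.Lib.Helper16.Alg.EtCoordS

/-!
# Smoothness at a prime from smoothness of the quotient by a regular sequence (helper16)
-/

set_option autoImplicit false
set_option linter.style.haveILetI false
universe u

namespace Groth.Agent.Helper16.RegSm

open RingTheory.Sequence TensorProduct KaehlerDifferential MvPolynomial

set_option maxHeartbeats 1600000 in
set_option synthInstance.maxHeartbeats 400000 in
theorem isSmoothAt_of_regular_quotient {A B : Type u} [CommRing A] [CommRing B] [Algebra A B]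
    [Algebra.FinitePresentation A B] (rs : List B)
    (hreg : IsWeaklyRegular B rs)
    [Algebra.Smooth A (B ⧸ Ideal.ofList rs)]
    (q : Ideal B) [q.IsPrime] (hq : Ideal.ofList rs ≤ q) :
    Algebra.IsSmoothAt A q := by
  classical
  set I : Ideal B := Ideal.ofList rs with hI
  have hmk : Function.Surjective (Ideal.Quotient.mk I) := Ideal.Quotient.mk_surjective
  set qbar : Ideal (B ⧸ I) := q.map (Ideal.Quotient.mk I) with hqbar
  haveI : qbar.IsPrime :=
    Ideal.map_isPrime_of_surjective hmk (by rw [Ideal.mk_ker]; exact hq)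
  have hqc : q = qbar.comap (algebraMap B (B ⧸ I)) := by
    rw [hqbar, Ideal.Quotient.algebraMap_eq, Ideal.comap_map_of_surjective _ hmk,
      ← RingHom.ker_eq_comap_bot, Ideal.mk_ker]
    exact (sup_eq_left.mpr hq).symm
  -- Step 1: coordinates on the quotient
  have hspan : Submodule.span qbar.ResidueField
      {t : qbar.ResidueField ⊗[Localization.AtPrime qbar] Ω[Localization.AtPrime qbar⁄A] |
        ∃ c ∈ (Set.univ : Set (B ⧸ I)),
          t = 1 ⊗ₜ D A (Localization.AtPrime qbar) (algebraMap (B ⧸ I) _ c)} = ⊤ := by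
    rw [← Groth.Agent.Helper16.EtCoord.span_tmul_D (A := A) qbar]
    congr 1
    ext t
    simp
  obtain ⟨m, c, -, b, hb⟩ :=
    Groth.Agent.Helper16.EtCoord.exists_basis_of_span (A := A) qbar Set.univ hspan
  let b₀ : ULift.{u} (Fin m) → B := fun i => Function.surjInv hmk (c i)
  have hb₀ : ∀ i, Ideal.Quotient.mk I (b₀ i) = c i := fun i => Function.surjInv_eq hmk (c i)
  let A' := MvPolynomial (ULift.{u} (Fin m)) A
  letI algA'B : Algebra A' B := (MvPolynomial.aeval b₀).toAlgebra
  haveI : IsScalarTower A A' B := IsScalarTower.of_algebraMap_eq' (by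
    ext a
    show algebraMap A B a = MvPolynomial.aeval b₀ (algebraMap A A' a)
    rw [AlgHom.commutes])
  have hcX : ∀ i, algebraMap A' (B ⧸ I) (MvPolynomial.X i) = c i := by
    intro i
    rw [IsScalarTower.algebraMap_apply A' B (B ⧸ I)]
    show Ideal.Quotient.mk I (MvPolynomial.aeval b₀ (MvPolynomial.X i)) = c i
    rw [MvPolynomial.aeval_X, hb₀]
  haveI hetA' : Algebra.IsEtaleAt A' qbar :=
    Groth.Agent.Helper16.EtCoord.isEtaleAt_of_basis (A := A) qbar c b hb hcX
  -- Step 2: the polynomial ring `P`
  let P := MvPolynomial (Fin rs.length) A'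
  letI algPB : Algebra P B :=
    (MvPolynomial.aeval (fun i : Fin rs.length => rs.get i) : P →ₐ[A'] B).toAlgebra
  haveI : IsScalarTower A' P B := IsScalarTower.of_algebraMap_eq' (RingHom.ext fun a => by
    show algebraMap A' B a =
      (MvPolynomial.aeval (fun i : Fin rs.length => rs.get i) : P →ₐ[A'] B) (algebraMap A' P a)
    rw [AlgHom.commutes])
  haveI : IsScalarTower A P B := IsScalarTower.of_algebraMap_eq' (RingHom.ext fun a => by
    rw [RingHom.comp_apply, IsScalarTower.algebraMap_apply A A' P,
      ← IsScalarTower.algebraMap_apply A' P B, ← IsScalarTower.algebraMap_apply A A' B])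
  haveI : Algebra.FiniteType A P := Algebra.FiniteType.trans (S := A') inferInstance inferInstance
  haveI : Algebra.FinitePresentation P B :=
    Algebra.FinitePresentation.of_restrict_scalars_finitePresentation A P B
  let ts : List P := List.ofFn (fun i : Fin rs.length => (MvPolynomial.X i : P))
  have hXi : ∀ i : Fin rs.length, algebraMap P B (MvPolynomial.X i) = rs.get i := by
    intro i
    show (MvPolynomial.aeval (fun i : Fin rs.length => rs.get i) : P →ₐ[A'] B)
      (MvPolynomial.X i) = rs.get i
    rw [MvPolynomial.aeval_X]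
  have hts : ts.map (algebraMap P B) = rs := by
    rw [List.map_ofFn]
    have : ((algebraMap P B) ∘ fun i : Fin rs.length => (MvPolynomial.X i : P)) = rs.get := by
      funext i
      exact hXi i
    rw [this, List.ofFn_get]
  have hIts : (Ideal.ofList ts).map (algebraMap P B) = I := by
    rw [Ideal.map_ofList, hts]
  have hle : Ideal.ofList ts ≤ RingHom.ker (algebraMap P (B ⧸ I)) := by
    intro t ht
    rw [RingHom.mem_ker, IsScalarTower.algebraMap_apply P B (B ⧸ I), Ideal.Quotient.algebraMap_eq,
      Ideal.Quotient.eq_zero_iff_mem, ← hIts]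
    exact Ideal.mem_map_of_mem _ ht
  letI algPbarC : Algebra (P ⧸ Ideal.ofList ts) (B ⧸ I) :=
    (Ideal.Quotient.lift (Ideal.ofList ts) (algebraMap P (B ⧸ I)) (fun t ht => hle ht)).toAlgebra
  haveI : IsScalarTower P (P ⧸ Ideal.ofList ts) (B ⧸ I) :=
    IsScalarTower.of_algebraMap_eq' (R := P) (S := P ⧸ Ideal.ofList ts) (A := B ⧸ I)
     (RingHom.ext fun x => by
      show algebraMap P (B ⧸ I) x =
        Ideal.Quotient.lift (Ideal.ofList ts) (algebraMap P (B ⧸ I)) (fun t ht => hle ht)
          (Ideal.Quotient.mk _ x)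
      rw [Ideal.Quotient.lift_mk])
  have hXmem : ∀ i : Fin rs.length, (MvPolynomial.X i : P) ∈ Ideal.ofList ts := by
    intro i
    apply Ideal.subset_span
    show (MvPolynomial.X i : P) ∈ ts
    exact (List.mem_ofFn' _ _).mpr ⟨i, rfl⟩
  have hsurjA' : Function.Surjective (algebraMap A' (P ⧸ Ideal.ofList ts)) := by
    intro x
    obtain ⟨p, rfl⟩ := Ideal.Quotient.mk_surjective x
    induction p using MvPolynomial.induction_on with
    | C a => exact ⟨a, rfl⟩
    | add p q hp hq =>
      obtain ⟨a, ha⟩ := hp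
      obtain ⟨b, hb⟩ := hq
      exact ⟨a + b, by rw [map_add, ha, hb, map_add]⟩
    | mul_X p i _ =>
      exact ⟨0, by
        rw [map_zero, map_mul, (Ideal.Quotient.eq_zero_iff_mem).mpr (hXmem i), mul_zero]⟩
  haveI : Algebra.FormallyUnramified A' (P ⧸ Ideal.ofList ts) :=
    Algebra.FormallyUnramified.of_surjective (Algebra.ofId A' (P ⧸ Ideal.ofList ts)) hsurjA'
  haveI : IsScalarTower A' (P ⧸ Ideal.ofList ts) (B ⧸ I) :=
    IsScalarTower.of_algebraMap_eq' (R := A') (S := P ⧸ Ideal.ofList ts) (A := B ⧸ I)
     (RingHom.ext fun a => by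
      rw [RingHom.comp_apply, IsScalarTower.algebraMap_apply A' P (P ⧸ Ideal.ofList ts),
        ← IsScalarTower.algebraMap_apply P (P ⧸ Ideal.ofList ts) (B ⧸ I),
        ← IsScalarTower.algebraMap_apply A' P (B ⧸ I)])
  haveI : Algebra.IsEtaleAt (P ⧸ Ideal.ofList ts) qbar := by
    show Algebra.FormallyEtale (P ⧸ Ideal.ofList ts) (Localization.AtPrime qbar)
    haveI : Algebra.FormallyEtale A' (Localization.AtPrime qbar) := hetA'
    exact Algebra.FormallyEtale.of_restrictScalars (R := A') (A := P ⧸ Ideal.ofList ts)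
      (B := Localization.AtPrime qbar)
  have hetP : Algebra.IsEtaleAt P q :=
    isEtaleAt_of_regular_quotient (P := P) (B := B) (C := B ⧸ I) ts
      (by rw [Ideal.Quotient.algebraMap_eq]; exact hmk)
      (by rw [Ideal.Quotient.algebraMap_eq, Ideal.mk_ker, hIts]) (by rw [hts]; exact hreg) qbar q hqc
  haveI : Algebra.FormallyEtale P (Localization.AtPrime q) := hetP
  haveI : Algebra.FormallySmooth A P := Algebra.FormallySmooth.comp A A' P
  exact Algebra.FormallySmooth.comp A P (Localization.AtPrime q)

end Groth.Agent.Helper16.RegSm
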