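import Mathlib
import Groth.Agent.Lib.Helper16.Alg.CotSmooth1

set_option autoImplicit false
set_option linter.style.haveILetI false
set_option linter.unusedSectionVars false
universe u

open IsLocalRing

namespace Groth.Agent.Helper16.Sard

section FS

variable {R R' : Type u} [CommRing R] [CommRing R'] [IsLocalRing R] [IsLocalRing R']
  [Algebra R R'] [IsLocalHom (algebraMap R R')]

/-- a formally smooth local homomorphism with trivial residue field extension is injective on
cotangent spaces. -/
theorem cotangent_cond_of_formallySmooth [Algebra.FormallySmooth R R']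
    (hres : Function.Surjective (algebraMap (ResidueField R) (ResidueField R'))) :
    ∀ a ∈ maximalIdeal R, algebraMap R R' a ∈ maximalIdeal R' ^ 2 → a ∈ maximalIdeal R ^ 2 := by
  intro a ha hφa
  set T := R ⧸ (maximalIdeal R) ^ 2 with hT
  set I : Ideal T := (maximalIdeal R).map (Ideal.Quotient.mk ((maximalIdeal R) ^ 2)) with hI
  have hI2 : I ^ 2 = ⊥ := by
    rw [hI, ← Ideal.map_pow, Ideal.map_quotient_self]
  have hInil : IsNilpotent I := ⟨2, hI2⟩
  -- the residue field of `R` maps to `T ⧸ I`
  let ρ : ResidueField R →+* T ⧸ I :=
    Ideal.Quotient.lift (maximalIdeal R) (algebraMap R (T ⧸ I)) (by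
      intro x hx
      show Ideal.Quotient.mk I (Ideal.Quotient.mk _ x) = 0
      rw [Ideal.Quotient.eq_zero_iff_mem]
      exact Ideal.mem_map_of_mem _ hx)
  let e : ResidueField R ≃+* ResidueField R' :=
    RingEquiv.ofBijective (algebraMap (ResidueField R) (ResidueField R'))
      ⟨(algebraMap (ResidueField R) (ResidueField R')).injective, hres⟩
  let g₀ : R' →+* T ⧸ I := ρ.comp (e.symm.toRingHom.comp (residue R'))
  let g : R' →ₐ[R] T ⧸ I :=
    { g₀ with
      commutes' := by
        intro r
        show ρ (e.symm (residue R' (algebraMap R R' r))) = algebraMap R (T ⧸ I) r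
        have h1 : residue R' (algebraMap R R' r) = e (residue R r) := rfl
        rw [h1, RingEquiv.symm_apply_apply]
        rfl }
  let ψ := Algebra.FormallySmooth.lift I hInil g
  have hψ : ∀ x, Ideal.Quotient.mk I (ψ x) = g x := Algebra.FormallySmooth.mk_lift I hInil g
  have hψm : ∀ b ∈ maximalIdeal R', ψ b ∈ I := by
    intro b hb
    rw [← Ideal.Quotient.eq_zero_iff_mem, hψ]
    show ρ (e.symm (residue R' b)) = 0
    rw [(residue_eq_zero_iff b).mpr hb, map_zero, map_zero]
  have hψ2 : ∀ b ∈ maximalIdeal R' ^ 2, ψ b = 0 := by
    intro b hb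
    have : ψ b ∈ I ^ 2 := by
      have h2 : (maximalIdeal R' ^ 2).map ψ.toRingHom ≤ I ^ 2 := by
        rw [Ideal.map_pow]
        exact Ideal.pow_right_mono (Ideal.map_le_iff_le_comap.mpr hψm) 2
      exact h2 (Ideal.mem_map_of_mem _ hb)
    rw [hI2] at this
    exact this
  have h3 := hψ2 _ hφa
  rw [AlgHom.commutes] at h3
  exact Ideal.Quotient.eq_zero_iff_mem.mp h3

end FS

section RL

variable {A B A' B' : Type u} [CommRing A] [CommRing B] [CommRing A'] [CommRing B']
  [IsLocalRing A] [IsLocalRing B] [IsLocalRing A'] [IsLocalRing B']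

/-- an element of the maximal ideal whose class in the cotangent space lies in the span of the
classes of `t i` lies in `(t i) + 𝔪²`. -/
theorem mem_span_sup_sq {ι : Type*} (t : ι → maximalIdeal B) (x : maximalIdeal B)
    (hx : (maximalIdeal B).toCotangent x ∈ Submodule.span (ResidueField B)
      (Set.range fun i => (maximalIdeal B).toCotangent (t i))) :
    (x : B) ∈ Ideal.span (Set.range fun i => ((t i : maximalIdeal B) : B)) ⊔ maximalIdeal B ^ 2 := by
  have hsurj : Function.Surjective (algebraMap B (ResidueField B)) := residue_surjective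
  have h1 : (maximalIdeal B).toCotangent x ∈ Submodule.span B
      (Set.range fun i => (maximalIdeal B).toCotangent (t i)) := by
    rw [← Submodule.restrictScalars_span B (ResidueField B) hsurj]
    exact hx
  have h2 : (Set.range fun i => (maximalIdeal B).toCotangent (t i)) =
      (maximalIdeal B).toCotangent '' Set.range t := by
    rw [← Set.range_comp]
    rfl
  rw [h2, ← Submodule.map_span] at h1
  obtain ⟨y, hy, hyx⟩ := h1
  have h3 : ((x - y : maximalIdeal B) : B) ∈ maximalIdeal B ^ 2 := by
    have := (Ideal.toCotangent_eq (I := maximalIdeal B) (x := x) (y := y)).mp hyx.symm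
    simpa using this
  have h4 : (y : B) ∈ Ideal.span (Set.range fun i => ((t i : maximalIdeal B) : B)) := by
    have h5 : Submodule.map (maximalIdeal B).subtype (Submodule.span B (Set.range t)) =
        Ideal.span (Set.range fun i => ((t i : maximalIdeal B) : B)) := by
      rw [Submodule.map_span, ← Set.range_comp]
      rfl
    rw [← h5]
    exact ⟨y, hy, rfl⟩
  have h6 : (x : B) = (y : B) + ((x - y : maximalIdeal B) : B) := by
    simp
  rw [h6]
  exact Submodule.add_mem_sup h4 h3

variable [IsNoetherianRing A'] (φ : A →+* B) (α : A →+* A') (β : B →+* B') [Algebra A' B']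
  [IsLocalHom (algebraMap A' B')] [Algebra.FormallySmooth A' B'] [IsLocalHom φ] [IsLocalHom β]
  [IsLocalHom α]

/-- **rank bound**: in a commutative square of local rings `A → B`, `A ↠ A'`, `B → B'`, `A' → B'`
with `A' → B'` formally smooth with trivial residue extension, if the image of the cotangent map of
`A → B` lies in the span of `r` vectors then `dim A' ≤ r`. -/
theorem ringKrullDim_le_of_rank (hα : Function.Surjective α)
    (hcomm : β.comp φ = (algebraMap A' B').comp α)
    (hres : Function.Surjective (algebraMap (ResidueField A') (ResidueField B')))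
    (r : ℕ) (S : Finset (CotangentSpace B)) (hS : S.card ≤ r)
    (H : ∀ (a : A) (_ : a ∈ maximalIdeal A) (hb : φ a ∈ maximalIdeal B),
      (maximalIdeal B).toCotangent ⟨φ a, hb⟩ ∈
        Submodule.span (ResidueField B) (S : Set (CotangentSpace B))) :
    ringKrullDim A' ≤ r := by
  classical
  -- lifts of the vectors of `S`
  have hlift : ∀ s : S, ∃ b : maximalIdeal B, (maximalIdeal B).toCotangent b = (s : CotangentSpace B) :=
    fun s => Ideal.toCotangent_surjective _ _
  choose t ht using hlift
  have hrange : (Set.range fun i => (maximalIdeal B).toCotangent (t i)) =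
      (S : Set (CotangentSpace B)) := by
    ext v
    constructor
    · rintro ⟨i, rfl⟩
      show (maximalIdeal B).toCotangent (t i) ∈ (S : Set (CotangentSpace B))
      rw [ht]
      exact i.2
    · intro hv
      exact ⟨⟨v, hv⟩, ht _⟩
  set J : Ideal B := Ideal.span (Set.range fun i => ((t i : maximalIdeal B) : B)) with hJ
  have hβm : ∀ b ∈ maximalIdeal B, β b ∈ maximalIdeal B' := by
    intro b hb
    exact (IsLocalRing.mem_maximalIdeal _).mpr
      (fun hu => (IsLocalRing.mem_maximalIdeal _).mp hb (isUnit_of_map_unit β b hu))
  have hφm : ∀ a ∈ maximalIdeal A, φ a ∈ maximalIdeal B := by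
    intro a ha
    exact (IsLocalRing.mem_maximalIdeal _).mpr
      (fun hu => (IsLocalRing.mem_maximalIdeal _).mp ha (isUnit_of_map_unit φ a hu))
  have hαm : ∀ a : A, α a ∈ maximalIdeal A' → a ∈ maximalIdeal A := by
    intro a ha
    by_contra hna
    have hu : IsUnit a := by
      by_contra hnu
      exact hna ((IsLocalRing.mem_maximalIdeal _).mpr hnu)
    exact (IsLocalRing.mem_maximalIdeal _).mp ha (hu.map α)
  -- the images of the lifts in `B'`
  let t' : S → maximalIdeal B' := fun i => ⟨β (t i), hβm _ (t i).2⟩
  set J' : Ideal B' := Ideal.span (Set.range fun i => ((t' i : maximalIdeal B') : B')) with hJ'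
  have hJmap : J.map β ≤ J' := by
    rw [hJ, Ideal.map_span]
    apply Ideal.span_mono
    rintro _ ⟨_, ⟨i, rfl⟩, rfl⟩
    exact ⟨i, rfl⟩
  have key : ∀ a' ∈ maximalIdeal A', algebraMap A' B' a' ∈ J' ⊔ maximalIdeal B' ^ 2 := by
    intro a' ha'
    obtain ⟨a, rfl⟩ := hα a'
    have ha : a ∈ maximalIdeal A := hαm a ha'
    have h1 := mem_span_sup_sq t ⟨φ a, hφm a ha⟩ (by rw [hrange]; exact H a ha (hφm a ha))
    have h2 : algebraMap A' B' (α a) = β (φ a) := by
      have := congrArg (fun g : A →+* B' => g a) hcomm
      exact this.symm
    rw [h2]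
    have h3 : β (φ a) ∈ (J ⊔ maximalIdeal B ^ 2).map β := Ideal.mem_map_of_mem _ h1
    rw [Ideal.map_sup] at h3
    refine (sup_le_sup hJmap ?_) h3
    rw [Ideal.map_pow]
    exact Ideal.pow_right_mono (Ideal.map_le_iff_le_comap.mpr hβm) 2
  -- the cotangent map of `A' → B'`
  have hle : maximalIdeal A' ≤ (maximalIdeal B').comap (Algebra.ofId A' B') := by
    intro a ha
    exact (IsLocalRing.mem_maximalIdeal _).mpr
      (fun hu => (IsLocalRing.mem_maximalIdeal _).mp ha
        (isUnit_of_map_unit (algebraMap A' B') a hu))
  let c' : CotangentSpace A' →ₗ[A'] CotangentSpace B' :=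
    Ideal.mapCotangent (maximalIdeal A') (maximalIdeal B') (Algebra.ofId A' B') hle
  have hc'inj : Function.Injective c' := by
    rw [Groth.Agent.Helper16.CotSmooth.injective_mapCotangent_iff]
    exact cotangent_cond_of_formallySmooth hres
  -- the span of the images
  let W : Submodule (ResidueField B') (CotangentSpace B') :=
    Submodule.span (ResidueField B') (Set.range fun i => (maximalIdeal B').toCotangent (t' i))
  have hc'W : ∀ v, c' v ∈ W := by
    intro v
    obtain ⟨⟨a', ha'⟩, rfl⟩ := Ideal.toCotangent_surjective _ v
    have h1 : c' ((maximalIdeal A').toCotangent ⟨a', ha'⟩) =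
        (maximalIdeal B').toCotangent ⟨algebraMap A' B' a', hle ha'⟩ :=
      Ideal.mapCotangent_toCotangent _ _ _ _ _
    rw [h1]
    obtain ⟨j, hj, m, hm, hjm⟩ := Submodule.mem_sup.mp (key a' ha')
    have hjB : j ∈ maximalIdeal B' := by
      have hJ'le : J' ≤ maximalIdeal B' := by
        rw [hJ', Ideal.span_le]
        rintro _ ⟨i, rfl⟩
        exact (t' i).2
      exact hJ'le hj
    have h2 : (maximalIdeal B').toCotangent ⟨algebraMap A' B' a', hle ha'⟩ =
        (maximalIdeal B').toCotangent ⟨j, hjB⟩ := by
      rw [Ideal.toCotangent_eq]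
      have : algebraMap A' B' a' - j = m := by rw [← hjm]; ring
      show algebraMap A' B' a' - j ∈ maximalIdeal B' ^ 2
      rw [this]
      exact hm
    rw [h2]
    -- `j` lies in the span of the `t' i`
    have h3 : (⟨j, hjB⟩ : maximalIdeal B') ∈ Submodule.span B' (Set.range t') := by
      have h5 : Submodule.map (maximalIdeal B').subtype (Submodule.span B' (Set.range t')) = J' := by
        rw [Submodule.map_span, ← Set.range_comp]
        rfl
      rw [← h5] at hj
      obtain ⟨y, hy, hyj⟩ := hj
      have : y = ⟨j, hjB⟩ := Subtype.ext hyj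
      rw [← this]
      exact hy
    have h4 : (maximalIdeal B').toCotangent ⟨j, hjB⟩ ∈ Submodule.span B'
        (Set.range fun i => (maximalIdeal B').toCotangent (t' i)) := by
      have h6 : (Set.range fun i => (maximalIdeal B').toCotangent (t' i)) =
          (maximalIdeal B').toCotangent '' Set.range t' := by
        rw [← Set.range_comp]
        rfl
      rw [h6, ← Submodule.map_span]
      exact ⟨_, h3, rfl⟩
    have hsurj : Function.Surjective (algebraMap B' (ResidueField B')) := residue_surjective
    rw [← Submodule.restrictScalars_span B' (ResidueField B') hsurj] at h4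
    exact h4
  -- lengths
  have hfinW : Module.finrank (ResidueField B') W ≤ r := by
    have hle := finrank_range_le_card (R := ResidueField B')
      (fun i => (maximalIdeal B').toCotangent (t' i))
    unfold Set.finrank at hle
    refine hle.trans ?_
    rw [Fintype.card_coe]
    exact hS
  haveI : IsScalarTower A' (ResidueField B') (CotangentSpace B') := by
    refine IsScalarTower.of_algebraMap_smul (fun a v => ?_)
    rw [IsScalarTower.algebraMap_apply A' B' (ResidueField B'), algebraMap_smul, algebraMap_smul]
  have hsurjA : Function.Surjective (algebraMap A' (ResidueField B')) := by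
    rw [IsScalarTower.algebraMap_eq A' (ResidueField A') (ResidueField B')]
    exact hres.comp residue_surjective
  let c'W : CotangentSpace A' →ₗ[A'] ↥(W.restrictScalars A') :=
    c'.codRestrict (W.restrictScalars A') hc'W
  have hc'Winj : Function.Injective c'W := by
    intro v w hvw
    apply hc'inj
    exact congrArg Subtype.val hvw
  haveI : Module.Finite (ResidueField B') W :=
    Module.Finite.span_of_finite _ (Set.finite_range _)
  have hl1 := Module.length_le_of_injective c'W hc'Winj
  have hl2 : Module.length A' ↥(W.restrictScalars A') =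
      Module.length (ResidueField B') ↥(W.restrictScalars A') :=
    Module.length_eq_of_surjective hsurjA
  have hl3 : Module.length (ResidueField B') ↥(W.restrictScalars A') =
      Module.length (ResidueField B') ↥W :=
    (Submodule.restrictScalarsEquiv A' (ResidueField B') (CotangentSpace B') W).length_eq
  have hl4 : Module.length A' (CotangentSpace A') =
      Module.length (ResidueField A') (CotangentSpace A') :=
    Module.length_eq_of_surjective residue_surjective
  rw [hl2, hl3, Module.length_eq_finrank, hl4, Module.length_eq_finrank] at hl1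
  have hl5 : Module.finrank (ResidueField A') (CotangentSpace A') ≤ r := by
    have : Module.finrank (ResidueField A') (CotangentSpace A') ≤ Module.finrank (ResidueField B') W := by
      exact_mod_cast hl1
    exact this.trans hfinW
  refine (ringKrullDim_le_spanFinrank_maximalIdeal A').trans ?_
  rw [IsLocalRing.spanFinrank_maximalIdeal_eq_finrank_cotangentSpace]
  exact_mod_cast hl5

end RL

end Groth.Agent.Helper16.Sard
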