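import Mathlib

/-!
# A section with principal regular kernel: the fibre ring is a DVR
-/

open IsLocalRing

universe u

set_option linter.style.haveILetI false
set_option linter.unusedSectionVars false

namespace Groth.Agent.Helper16.SectionDVR

/-- A Noetherian local ring whose maximal ideal is generated by a non-nilpotent element is a
domain. -/
theorem isDomain_of_principal_maximalIdeal {F : Type*} [CommRing F] [IsLocalRing F]
    [IsNoetherianRing F] (s : F) (hs : maximalIdeal F = Ideal.span {s})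
    (hnil : ¬ IsNilpotent s) : IsDomain F := by
  have hpow : ∀ n : ℕ, s ^ n ≠ 0 := fun n h => hnil ⟨n, h⟩
  -- every nonzero element is a unit times a power of `s`
  have key : ∀ x : F, x ≠ 0 → ∃ (n : ℕ) (u : F), IsUnit u ∧ x = u * s ^ n := by
    intro x hx
    have hK : (⨅ n : ℕ, maximalIdeal F ^ n) = ⊥ := Ideal.iInf_pow_eq_bot_of_isLocalRing _
      (maximalIdeal.isMaximal F).ne_top
    have hex : ∃ n : ℕ, x ∉ maximalIdeal F ^ n := by
      by_contra h
      push_neg at h
      have : x ∈ (⨅ n : ℕ, maximalIdeal F ^ n) := by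
        rw [Ideal.mem_iInf]; exact h
      rw [hK] at this
      exact hx this
    classical
    let n := Nat.find hex
    have hn : x ∉ maximalIdeal F ^ n := Nat.find_spec hex
    have hn0 : n ≠ 0 := by
      intro h0
      rw [h0, pow_zero, Ideal.one_eq_top] at hn
      exact hn trivial
    obtain ⟨m, hm⟩ := Nat.exists_eq_succ_of_ne_zero hn0
    have hm' : x ∈ maximalIdeal F ^ m := by
      by_contra h
      exact Nat.find_min hex (by omega : m < n) h
    rw [hs, Ideal.span_singleton_pow, Ideal.mem_span_singleton'] at hm'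
    obtain ⟨u, hu⟩ := hm'
    refine ⟨m, u, ?_, hu.symm⟩
    by_contra hnu
    have humem : u ∈ maximalIdeal F := hnu
    rw [hs, Ideal.mem_span_singleton'] at humem
    obtain ⟨c, hc⟩ := humem
    apply hn
    rw [hm, hs, Ideal.span_singleton_pow, Ideal.mem_span_singleton']
    exact ⟨c, by rw [← hu, ← hc, pow_succ]; ring⟩
  haveI : NoZeroDivisors F := by
    refine ⟨?_⟩
    intro a b hab
    by_contra h
    push_neg at h
    obtain ⟨n, u, hu, rfl⟩ := key a h.1
    obtain ⟨k, v, hv, rfl⟩ := key b h.2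
    have : (u * v) * s ^ (n + k) = 0 := by rw [← hab, pow_add]; ring
    exact hpow (n + k) ((hu.mul hv).mul_right_eq_zero.mp this)
  exact NoZeroDivisors.to_isDomain F

theorem isDiscreteValuationRing_of_principal_maximalIdeal {F : Type*} [CommRing F] [IsLocalRing F]
    [IsNoetherianRing F] [IsDomain F] (s : F) (hs : maximalIdeal F = Ideal.span {s})
    (hnil : ¬ IsNilpotent s) : IsDiscreteValuationRing F := by
  have hnf : ¬ IsField F := by
    intro hF
    have h0 : maximalIdeal F = ⊥ := isField_iff_maximalIdeal_eq.mp hF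
    rw [hs, Ideal.span_singleton_eq_bot] at h0
    exact hnil ⟨1, by rw [h0, pow_one]⟩
  have hp : (maximalIdeal F).IsPrincipal := ⟨⟨s, hs⟩⟩
  exact ((IsDiscreteValuationRing.TFAE F hnf).out 4 0).mp hp

variable {A B : Type*} [CommRing A] [CommRing B] [IsLocalRing A] [IsLocalRing B]
  (φ : A →+* B) (ψ : B →+* A) (hψφ : ∀ a, ψ (φ a) = a) (t : B)
  (ht : t ∈ nonZeroDivisors B) (hker : RingHom.ker ψ = Ideal.span {t})

include hψφ hker in
lemma sub_mem_span (b : B) : ∃ c, b - φ (ψ b) = t * c := by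
  have : b - φ (ψ b) ∈ RingHom.ker ψ := by
    rw [RingHom.mem_ker, map_sub, hψφ, sub_self]
  rw [hker, Ideal.mem_span_singleton'] at this
  obtain ⟨c, hc⟩ := this
  exact ⟨c, by rw [← hc, mul_comm]⟩

include hψφ hker in
lemma aux_span (x : B) (hx : x ∈ Ideal.map φ (maximalIdeal A)) :
    ψ x ∈ maximalIdeal A ∧ ∃ c ∈ Ideal.map φ (maximalIdeal A), x - φ (ψ x) = t * c := by
  unfold Ideal.map at hx
  induction hx using Submodule.span_induction with
  | mem x hx =>
    obtain ⟨m, hm, rfl⟩ := hx
    refine ⟨by rw [hψφ]; exact hm, 0, zero_mem _, ?_⟩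
    rw [hψφ, sub_self, mul_zero]
  | zero =>
    exact ⟨by rw [map_zero]; exact zero_mem _, 0, zero_mem _, by simp⟩
  | add x y _ _ hx hy =>
    obtain ⟨hx1, c, hc, hxc⟩ := hx
    obtain ⟨hy1, d, hd, hyd⟩ := hy
    refine ⟨by rw [map_add]; exact add_mem hx1 hy1, c + d, add_mem hc hd, ?_⟩
    rw [map_add, map_add, mul_add, ← hxc, ← hyd]; ring
  | smul b x _ hx =>
    obtain ⟨hx1, c, hc, hxc⟩ := hx
    obtain ⟨cb, hcb⟩ := sub_mem_span φ ψ hψφ t hker b
    refine ⟨by rw [smul_eq_mul, map_mul]; exact Ideal.mul_mem_left _ _ hx1,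
      b * c + cb * φ (ψ x), add_mem (Ideal.mul_mem_left _ _ hc)
        (Ideal.mul_mem_left _ _ (Ideal.mem_map_of_mem φ hx1)), ?_⟩
    have e1 : x = φ (ψ x) + t * c := by rw [← hxc]; ring
    have e2 : b = φ (ψ b) + t * cb := by rw [← hcb]; ring
    rw [smul_eq_mul, map_mul, map_mul]
    calc b * x - φ (ψ b) * φ (ψ x)
        = b * (x - φ (ψ x)) + (b - φ (ψ b)) * φ (ψ x) := by ring
      _ = t * (b * c + cb * φ (ψ x)) := by rw [hxc, hcb]; ring

include hψφ ht hker in
/-- `t` is a nonzerodivisor modulo `𝔪_A B`. -/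
lemma mem_of_mul_mem (c : B) (hx : t * c ∈ Ideal.map φ (maximalIdeal A)) :
    c ∈ Ideal.map φ (maximalIdeal A) := by
  obtain ⟨-, d, hd, hxd⟩ := aux_span φ ψ hψφ t hker _ hx
  have hψt : ψ t = 0 := by
    have : t ∈ RingHom.ker ψ := by rw [hker]; exact Ideal.mem_span_singleton_self t
    exact this
  rw [map_mul, hψt, zero_mul, map_zero, sub_zero] at hxd
  have : c = d := by
    have h0 : t * (c - d) = 0 := by rw [mul_sub, hxd, sub_self]
    have := (mul_comm t (c - d) ▸ h0)
    exact sub_eq_zero.mp (ht.2 _ this)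
  rwa [this]

include hψφ ht hker in
lemma pow_notMem [IsLocalHom φ] (n : ℕ) : t ^ n ∉ Ideal.map φ (maximalIdeal A) := by
  induction n with
  | zero =>
    rw [pow_zero]
    intro h
    exact (maximalIdeal.isMaximal B).ne_top
      (top_le_iff.mp ((Ideal.eq_top_iff_one _).mpr h ▸ IsLocalRing.map_maximalIdeal_le φ))
  | succ n ih =>
    intro h
    rw [pow_succ'] at h
    exact ih (mem_of_mul_mem φ ψ hψφ t ht hker _ h)

include hψφ hker in
lemma maximalIdeal_quotient_eq [IsLocalHom φ]
    [IsLocalRing (B ⧸ Ideal.map φ (maximalIdeal A))] :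
    maximalIdeal (B ⧸ Ideal.map φ (maximalIdeal A)) =
      Ideal.span {Ideal.Quotient.mk (Ideal.map φ (maximalIdeal A)) t} := by
  have hψt : ψ t = 0 := by
    have : t ∈ RingHom.ker ψ := by rw [hker]; exact Ideal.mem_span_singleton_self t
    exact this
  have htnu : ¬ IsUnit t := by
    intro hu
    have := hu.map ψ
    rw [hψt] at this
    exact not_isUnit_zero this
  apply le_antisymm
  · intro y hy
    obtain ⟨b, rfl⟩ := Ideal.Quotient.mk_surjective y
    have hb : ¬ IsUnit b := fun hu => hy (hu.map (Ideal.Quotient.mk _))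
    obtain ⟨c, hc⟩ := sub_mem_span φ ψ hψφ t hker b
    have hψb : ψ b ∈ maximalIdeal A := by
      intro hu
      apply hb
      have e : b = φ (ψ b) + t * c := by rw [← hc]; ring
      rw [e]
      have h1 : IsUnit (φ (ψ b)) := hu.map φ
      have h2 : t * c ∈ maximalIdeal B := Ideal.mul_mem_right _ _ htnu
      by_contra hnu
      have h3 : φ (ψ b) + t * c ∈ maximalIdeal B := hnu
      have h4 : φ (ψ b) ∈ maximalIdeal B := by
        have := Ideal.sub_mem _ h3 h2
        rwa [add_sub_cancel_right] at this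
      exact h4 h1
    rw [Ideal.mem_span_singleton']
    refine ⟨Ideal.Quotient.mk _ c, ?_⟩
    have e : b = φ (ψ b) + t * c := by rw [← hc]; ring
    have h0 : Ideal.Quotient.mk (Ideal.map φ (maximalIdeal A)) (φ (ψ b)) = 0 :=
      Ideal.Quotient.eq_zero_iff_mem.mpr (Ideal.mem_map_of_mem φ hψb)
    conv_rhs => rw [e]
    rw [map_add, h0, zero_add, map_mul, mul_comm]
  · rw [Ideal.span_le, Set.singleton_subset_iff]
    intro hu
    haveI : IsLocalHom (Ideal.Quotient.mk (Ideal.map φ (maximalIdeal A))) :=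
      IsLocalHom.of_surjective _ Ideal.Quotient.mk_surjective
    exact htnu (isUnit_of_map_unit (Ideal.Quotient.mk _) t hu)

include hψφ ht hker in
lemma not_isNilpotent_mk [IsLocalHom φ] :
    ¬ IsNilpotent (Ideal.Quotient.mk (Ideal.map φ (maximalIdeal A)) t) := by
  rintro ⟨n, hn⟩
  rw [← map_pow, Ideal.Quotient.eq_zero_iff_mem] at hn
  exact pow_notMem φ ψ hψφ t ht hker n hn

end Groth.Agent.Helper16.SectionDVR
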