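import Mathlib
import Groth.Agent.Lib.Helper12.RkAscent
import Groth.Agent.Lib.Helper7.FieldCM
import Groth.Agent.Lib.Helper1.SerreNormal
import Groth.Agent.Lib.Helper4.HensRk
import Groth.Agent.Lib.Lead.Fib1
import Groth.Agent.Lib.Lead.Flat3

/-!
# `(S_n)` and `(R_n)` ascend to local rings of smooth algebras (helper16)
-/

set_option autoImplicit false
set_option linter.style.haveILetI false
set_option linter.unusedSectionVars false
universe u
open TensorProduct

namespace Groth.Agent.Helper16.SkRkSm

theorem hasRk_of_ringEquiv {R R' : Type u} [CommRing R] [CommRing R'] (e : R ≃+* R') (n : ℕ)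
    (h : LocCoh.HasRk n R) : LocCoh.HasRk n R' := by
  intro p hp hht
  let f : Localization.AtPrime (p.comap e) ≃+* Localization.AtPrime p :=
    IsLocalization.ringEquivOfRingEquiv (Localization.AtPrime (p.comap e))
      (Localization.AtPrime p) e (e.map_primeCompl_comap_eq p)
  have hh : (p.comap e).height = p.height := e.height_comap p
  haveI : IsRegularLocalRing (Localization.AtPrime (p.comap e)) :=
    h (p.comap e) (by rw [hh]; exact hht)
  exact IsRegularLocalRing.of_ringEquiv f

/-- a local ring which is a localization of `S'` is the localization of `S'` at a prime -/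
theorem exists_ringEquiv_atPrime (S' T : Type u) [CommRing S'] [CommRing T] [Algebra S' T]
    [IsLocalRing T] (N : Submonoid S') [IsLocalization N T] :
    ∃ (Q : Ideal S') (_ : Q.IsPrime), Nonempty (Localization.AtPrime Q ≃+* T) := by
  refine ⟨(IsLocalRing.maximalIdeal T).comap (algebraMap S' T), inferInstance, ⟨?_⟩⟩
  haveI : IsLocalization.AtPrime T (IsLocalRing.maximalIdeal T) :=
    IsLocalization.of_le_isUnit (fun x hx => IsLocalRing.notMem_maximalIdeal.mp hx)
  haveI : IsLocalization.AtPrime T ((IsLocalRing.maximalIdeal T).comap (algebraMap S' T)) :=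
    IsLocalization.isLocalization_isLocalization_atPrime_isLocalization N T
      (IsLocalRing.maximalIdeal T)
  exact (IsLocalization.algEquiv
    ((IsLocalRing.maximalIdeal T).comap (algebraMap S' T)).primeCompl
    (Localization.AtPrime ((IsLocalRing.maximalIdeal T).comap (algebraMap S' T))) T).toRingEquiv

attribute [local instance] Algebra.TensorProduct.rightAlgebra in
/-- `(S_n)` and `(R_n)` ascend from `A_p` to `B_q` for `B` smooth over a Noetherian ring `A`. -/
theorem ascent_atPrime (A B : Type u) [CommRing A] [CommRing B] [Algebra A B]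
    [IsNoetherianRing A] [Algebra.Smooth A B] (p : Ideal A) [p.IsPrime] (q : Ideal B) [q.IsPrime]
    [hlo : q.LiesOver p]
    (Rp T : Type u) [CommRing Rp] [CommRing T] [Algebra A Rp] [IsLocalization.AtPrime Rp p]
    [Algebra B T] [IsLocalization.AtPrime T q] [Algebra Rp T] [Algebra A T]
    [IsScalarTower A Rp T] [IsScalarTower A B T] (n : ℕ) :
    (LocCoh.HasSk n Rp Rp → LocCoh.HasSk n T T) ∧ (LocCoh.HasRk n Rp → LocCoh.HasRk n T) := by
  let φ : Rp ⊗[A] B →ₐ[Rp] T :=
    Algebra.TensorProduct.lift (Algebra.ofId Rp T) (IsScalarTower.toAlgHom A B T)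
      (fun _ _ => Commute.all _ _)
  letI : Algebra (Rp ⊗[A] B) T := φ.toRingHom.toAlgebra
  haveI : IsScalarTower Rp (Rp ⊗[A] B) T := IsScalarTower.of_algebraMap_eq' φ.comp_algebraMap.symm
  haveI : IsScalarTower B (Rp ⊗[A] B) T := by
    refine IsScalarTower.of_algebraMap_eq (fun b => ?_)
    show _ = φ (1 ⊗ₜ b)
    simp [φ]
  haveI : IsLocalization (Algebra.algebraMapSubmonoid B p.primeCompl) (Rp ⊗[A] B) := inferInstance
  have hle : Algebra.algebraMapSubmonoid B p.primeCompl ≤ q.primeCompl := by
    rintro _ ⟨a, ha, rfl⟩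
    intro hmem
    apply ha
    rw [hlo.over]
    exact hmem
  haveI := IsLocalization.isLocalization_of_submonoid_le (Rp ⊗[A] B) T _ _ hle
  haveI : IsNoetherianRing Rp := IsLocalization.isNoetherianRing p.primeCompl Rp inferInstance
  haveI : IsNoetherianRing (Rp ⊗[A] B) := Algebra.FiniteType.isNoetherianRing Rp _
  haveI : IsNoetherianRing B := Algebra.FiniteType.isNoetherianRing A B
  haveI : IsLocalRing T := IsLocalization.AtPrime.isLocalRing T q
  haveI : IsNoetherianRing T := IsLocalization.isNoetherianRing q.primeCompl T inferInstance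
  obtain ⟨Q, hQ, ⟨e⟩⟩ := exists_ringEquiv_atPrime (Rp ⊗[A] B) T
    (q.primeCompl.map (algebraMap B (Rp ⊗[A] B)))
  haveI : IsNoetherianRing (Localization.AtPrime Q) :=
    IsLocalization.isNoetherianRing Q.primeCompl _ inferInstance
  haveI : Module.Flat Rp (Rp ⊗[A] B) := inferInstance
  constructor
  · intro h
    have h1 : LocCoh.HasSk n (Rp ⊗[A] B) (Rp ⊗[A] B) := by
      refine Groth.Agent.Lead.Fib.hasSk_of_flat_of_fibres n h ?_
      intro P hP
      haveI : Algebra.Smooth P.ResidueField (P.Fiber (Rp ⊗[A] B)) := inferInstance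
      haveI : IsRegularRing (P.Fiber (Rp ⊗[A] B)) :=
        Groth.Agent.Helper14.SmoothReg.isRegularRing_of_smooth P.ResidueField _
      haveI := Groth.Agent.Helper7.CplFlat.isCohenMacaulayRing_of_isRegularRing
        (P.Fiber (Rp ⊗[A] B))
      exact Groth.Agent.Helper7.FieldCM.hasSk_of_isCohenMacaulayRing _ n
    have h2 := Groth.Agent.Helper1.SerreNormal.hasSk_localization n h1 Q
    exact Groth.Agent.Helper7.FieldCM.hasSk_of_ringEquiv e n h2
  · intro h
    have h1 := Groth.Agent.Helper12.RkAscent.hasRk_of_smooth Rp (Rp ⊗[A] B) n h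
    have h2 := Groth.Agent.Helper1.SerreNormal.hasRk_localization n h1 Q
    exact hasRk_of_ringEquiv e n h2

/-- `(S_n)` and `(R_n)` descend along flat local homomorphisms of Noetherian local rings. -/
theorem descent_of_flat_local (A B : Type u) [CommRing A] [CommRing B] [Algebra A B]
    [IsLocalRing A] [IsLocalRing B] [IsLocalHom (algebraMap A B)] [Module.Flat A B]
    [IsNoetherianRing B] (n : ℕ) :
    (LocCoh.HasSk n B B → LocCoh.HasSk n A A) ∧ (LocCoh.HasRk n B → LocCoh.HasRk n A) := by
  haveI : Module.FaithfullyFlat A B := Module.FaithfullyFlat.of_flat_of_isLocalHom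
  haveI : IsNoetherianRing A := Groth.Agent.Lead.Hom.isNoetherianRing_of_faithfullyFlat A B
  exact ⟨fun h => (Groth.Agent.Lead.Depth.hasSk_of_faithfullyFlat A B n h).2,
    fun h => Groth.Agent.Helper4.HensINC.hasRk_of_faithfullyFlat A B n h⟩

end Groth.Agent.Helper16.SkRkSm
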