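import Mathlib

set_option autoImplicit false
universe u
open TensorProduct KaehlerDifferential

namespace Groth.Agent.Helper16.Slice

section aux
variable {B : Type u} [CommRing B]

/-- the local ring hom of a quotient map is surjective -/
theorem localRingHom_mk_surjective (I : Ideal B) (P : Ideal B) [P.IsPrime] (Q : Ideal (B ⧸ I))
    [Q.IsPrime] (h : P = Q.comap (Ideal.Quotient.mk I)) :
    Function.Surjective (Localization.localRingHom P Q (Ideal.Quotient.mk I) h) := by
  subst h
  exact RingHom.surjectiveOnStalks_of_surjective Ideal.Quotient.mk_surjective Q inferInstance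

/-- the kernel of the local ring hom of a quotient map -/
theorem ker_localRingHom_mk (I : Ideal B) (P : Ideal B) [P.IsPrime] (Q : Ideal (B ⧸ I))
    [Q.IsPrime] (h : P = Q.comap (Ideal.Quotient.mk I)) :
    RingHom.ker (Localization.localRingHom P Q (Ideal.Quotient.mk I) h) =
      I.map (algebraMap B (Localization.AtPrime P)) := by
  refine le_antisymm ?_ (Ideal.map_le_iff_le_comap.mpr fun x hx => ?_)
  · intro x hx
    obtain ⟨a, s, rfl⟩ := IsLocalization.exists_mk'_eq P.primeCompl x
    rw [RingHom.mem_ker, Localization.localRingHom_mk', IsLocalization.mk'_eq_zero_iff] at hx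
    obtain ⟨⟨u, hu⟩, hua⟩ := hx
    obtain ⟨u₀, rfl⟩ := Ideal.Quotient.mk_surjective u
    rw [IsLocalization.mk'_mem_map_algebraMap_iff]
    refine ⟨u₀, ?_, ?_⟩
    · intro hu₀
      apply hu
      rw [h] at hu₀
      exact hu₀
    · rw [← Ideal.Quotient.eq_zero_iff_mem, map_mul]
      exact hua
  · rw [Ideal.mem_comap, RingHom.mem_ker, Localization.localRingHom_to_map]
    rw [Ideal.Quotient.eq_zero_iff_mem.mpr hx, map_zero]

end aux


section main
variable {A B : Type u} [CommRing A] [CommRing B] [Algebra A B]

/-- if the residue field at `q` is formally unramified over `A` then the differentials of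
elements of `q` span `κ(q) ⊗ Ω` -/
theorem span_D_of_unramified (q : Ideal B) [q.IsPrime]
    [Algebra.FormallyUnramified A q.ResidueField] :
    Submodule.span q.ResidueField
      {t : q.ResidueField ⊗[Localization.AtPrime q] Ω[Localization.AtPrime q⁄A] |
        ∃ y ∈ q, t = 1 ⊗ₜ D A (Localization.AtPrime q) (algebraMap B _ y)} = ⊤ := by
  rw [eq_top_iff]
  intro t _
  have hsurj : Function.Surjective (algebraMap (Localization.AtPrime q) q.ResidueField) :=
    IsLocalRing.residue_surjective
  have hrange := range_kerCotangentToTensor A (Localization.AtPrime q) q.ResidueField hsurj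
  have ht : t ∈ LinearMap.range
      (kerCotangentToTensor A (Localization.AtPrime q) q.ResidueField) := by
    rw [hrange]
    show t ∈ LinearMap.ker (mapBaseChange A (Localization.AtPrime q) q.ResidueField)
    rw [LinearMap.mem_ker]
    exact Subsingleton.elim _ _
  obtain ⟨c, rfl⟩ := ht
  obtain ⟨⟨x, hx⟩, rfl⟩ := Ideal.toCotangent_surjective _ c
  rw [kerCotangentToTensor_toCotangent]
  obtain ⟨a, s, rfl⟩ := IsLocalization.exists_mk'_eq q.primeCompl x
  have hxK : algebraMap (Localization.AtPrime q) q.ResidueField
      (IsLocalization.mk' (Localization.AtPrime q) a s) = 0 := hx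
  have ha : a ∈ q := by
    have h1 : IsLocalization.mk' (Localization.AtPrime q) a s ∈
        IsLocalRing.maximalIdeal (Localization.AtPrime q) := by
      rw [← IsLocalRing.residue_eq_zero_iff]
      exact hxK
    exact (IsLocalization.AtPrime.mk'_mem_maximal_iff (Localization.AtPrime q) q a s).mp h1
  have hs0 : algebraMap (Localization.AtPrime q) q.ResidueField
      (algebraMap B (Localization.AtPrime q) s) ≠ 0 := by
    rw [← IsScalarTower.algebraMap_apply, Ne, Ideal.algebraMap_residueField_eq_zero]
    exact s.2
  have hspec : algebraMap B (Localization.AtPrime q) s *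
      IsLocalization.mk' (Localization.AtPrime q) a s = algebraMap B _ a :=
    IsLocalization.mk'_spec' _ a s
  have hD : (1 : q.ResidueField) ⊗ₜ[Localization.AtPrime q]
      D A (Localization.AtPrime q) (algebraMap B _ a) =
      algebraMap (Localization.AtPrime q) q.ResidueField (algebraMap B _ s) •
        ((1 : q.ResidueField) ⊗ₜ[Localization.AtPrime q]
          D A (Localization.AtPrime q) (IsLocalization.mk' (Localization.AtPrime q) a s)) := by
    rw [← hspec, Derivation.leibniz, TensorProduct.tmul_add, TensorProduct.tmul_smul,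
      TensorProduct.tmul_smul, TensorProduct.smul_tmul', TensorProduct.smul_tmul',
      Algebra.smul_def, Algebra.smul_def, mul_one, mul_one, hxK, TensorProduct.zero_tmul,
      add_zero, TensorProduct.smul_tmul', smul_eq_mul, mul_one]
  have : (1 : q.ResidueField) ⊗ₜ[Localization.AtPrime q]
      D A (Localization.AtPrime q) (IsLocalization.mk' (Localization.AtPrime q) a s) =
      (algebraMap (Localization.AtPrime q) q.ResidueField (algebraMap B _ s))⁻¹ •
        ((1 : q.ResidueField) ⊗ₜ[Localization.AtPrime q]
          D A (Localization.AtPrime q) (algebraMap B _ a)) := by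
    rw [hD, smul_smul, inv_mul_cancel₀ hs0, one_smul]
  rw [this]
  exact Submodule.smul_mem _ _ (Submodule.subset_span ⟨a, ha, rfl⟩)


/-- basis of the differentials at `q` given by differentials of elements of `q` -/
theorem exists_basis [Algebra.Smooth A B] (q : Ideal B) [q.IsPrime]
    [Algebra.FormallyUnramified A q.ResidueField] :
    ∃ (ι : Type u) (_ : Fintype ι) (y : ι → B), (∀ i, y i ∈ q) ∧
      ∃ b : Module.Basis ι (Localization.AtPrime q) Ω[Localization.AtPrime q⁄A],
        ∀ i, b i = D A _ (algebraMap B _ (y i)) := by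
  classical
  let L := Localization.AtPrime q
  let K := q.ResidueField
  let T : Set (K ⊗[L] Ω[L⁄A]) := {t | ∃ y ∈ q, t = 1 ⊗ₜ D A L (algebraMap B _ y)}
  obtain ⟨s, hsT, hspan, hli⟩ := exists_linearIndependent K T
  rw [span_D_of_unramified q] at hspan
  haveI : Finite s := hli.finite
  let _ : Fintype s := Fintype.ofFinite s
  choose y hyq hy using fun i : s => hsT i.2
  let v : s → Ω[L⁄A] := fun i => D A L (algebraMap B L (y i))
  have hv : ∀ i, (1 : K) ⊗ₜ[L] v i = i.1 := fun i => (hy i).symm
  let bK : Module.Basis s K (K ⊗[L] Ω[L⁄A]) :=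
    Module.Basis.mk hli (by rw [Subtype.range_coe]; exact hspan.ge)
  have hLI : LinearIndependent L v := Module.IsLocalRing.linearIndependent_of_flat v (by
    have hfun : (TensorProduct.mk L K Ω[L⁄A] 1 ∘ v) = Subtype.val := funext hv
    rw [hfun]
    exact hli)
  have hsp : Submodule.span L (Set.range v) = ⊤ :=
    IsLocalRing.span_eq_top_of_tmul_eq_basis v bK (fun i => by
      rw [hv, Module.Basis.mk_apply])
  exact ⟨s, inferInstance, y, hyq, Module.Basis.mk hLI hsp.ge,
    fun i => Module.Basis.mk_apply _ _ i⟩


set_option backward.isDefEq.respectTransparency.types false in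
/-- cutting a smooth algebra by elements whose differentials form a basis at `q` gives an algebra
étale at `q` -/
theorem isEtaleAt_quotient [Algebra.Smooth A B] (q : Ideal B) [q.IsPrime] {ι : Type u} [Fintype ι]
    (y : ι → B)
    (b : Module.Basis ι (Localization.AtPrime q) Ω[Localization.AtPrime q⁄A])
    (hb : ∀ i, b i = D A _ (algebraMap B _ (y i)))
    (Q : Ideal (B ⧸ Ideal.span (Set.range y))) [Q.IsPrime]
    (hQ : q = Q.comap (Ideal.Quotient.mk _)) :
    Algebra.IsEtaleAt A Q := by
  classical
  let I : Ideal B := Ideal.span (Set.range y)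
  let L := Localization.AtPrime q
  let L' := Localization.AtPrime Q
  let ρ : L →+* L' := Localization.localRingHom q Q (Ideal.Quotient.mk I) hQ
  letI : Algebra L L' := ρ.toAlgebra
  have hρsurj : Function.Surjective (algebraMap L L') := localRingHom_mk_surjective I q Q hQ
  have hρker : RingHom.ker (algebraMap L L') = I.map (algebraMap B L) :=
    ker_localRingHom_mk I q Q hQ
  haveI : IsScalarTower A L L' := IsScalarTower.of_algebraMap_eq (fun a => by
    show algebraMap A L' a = ρ (algebraMap A L a)
    rw [IsScalarTower.algebraMap_apply A B L, Localization.localRingHom_to_map,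
      IsScalarTower.algebraMap_apply A (B ⧸ I) L']
    rfl)
  let w : ι → L := fun i => algebraMap B L (y i)
  have hJ : RingHom.ker (algebraMap L L') = Ideal.span (Set.range w) := by
    rw [hρker, Ideal.map_span, ← Set.range_comp]
    rfl
  have hw : ∀ i, w i ∈ RingHom.ker (algebraMap L L') := fun i => by
    rw [hJ]; exact Ideal.subset_span ⟨i, rfl⟩
  let P : Algebra.Extension A L' :=
    { Ring := L, σ := Function.surjInv hρsurj, algebraMap_σ := Function.surjInv_eq hρsurj }
  haveI : Algebra.FormallySmooth A P.Ring := inferInstanceAs (Algebra.FormallySmooth A L)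
  let b' : Module.Basis ι L' P.CotangentSpace := b.baseChange L'
  have hb' : ∀ i, b' i = (1 : L') ⊗ₜ[L] D A L (w i) := fun i => by
    rw [Module.Basis.baseChange_apply, hb]
  let g : ι → P.Cotangent := fun i => Algebra.Extension.Cotangent.mk ⟨w i, hw i⟩
  let l : P.CotangentSpace →ₗ[L'] P.Cotangent := b'.constr L' g
  have hl0 : ∀ i, l (P.cotangentComplex (g i)) = g i := fun i => by
    show l (P.cotangentComplex (Algebra.Extension.Cotangent.mk ⟨w i, hw i⟩)) = g i
    rw [Algebra.Extension.cotangentComplex_mk]
    show l ((1 : L') ⊗ₜ[L] D A L (w i)) = g i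
    rw [← hb' i]
    exact Module.Basis.constr_basis b' L' g i
  let F : P.ker →ₗ[P.Ring] P.Cotangent :=
    ((l ∘ₗ P.cotangentComplex).restrictScalars P.Ring) ∘ₗ Algebra.Extension.Cotangent.mk
  have hF : ∀ i, F ⟨w i, hw i⟩ = g i := hl0
  have hl : l ∘ₗ P.cotangentComplex = LinearMap.id := by
    ext z
    obtain ⟨⟨x, hx⟩, rfl⟩ := Algebra.Extension.Cotangent.mk_surjective z
    have hx' : x ∈ Submodule.span L (Set.range w) := by
      have : x ∈ RingHom.ker (algebraMap L L') := hx
      rw [hJ] at this
      exact this
    obtain ⟨c, hc⟩ := (Submodule.mem_span_range_iff_exists_fun L).mp hx'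
    subst hc
    have hsum : (⟨∑ i, c i • w i, hx⟩ : P.ker) = ∑ i, (c i : P.Ring) • (⟨w i, hw i⟩ : P.ker) := by
      apply Subtype.ext
      simp
    show F ⟨∑ i, c i • w i, hx⟩ = Algebra.Extension.Cotangent.mk ⟨∑ i, c i • w i, hx⟩
    rw [hsum, map_sum, map_sum]
    refine Finset.sum_congr rfl fun i _ => ?_
    rw [map_smul, map_smul, hF]
  have hS : Algebra.FormallySmooth A L' := (P.formallySmooth_iff_split_injection).mpr ⟨l, hl⟩
  have hU : Algebra.FormallyUnramified A L' := by
    constructor
    have h0 : mapBaseChange A L L' = 0 := b'.ext (fun i => by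
      rw [LinearMap.zero_apply, hb', mapBaseChange_tmul, KaehlerDifferential.map_D,
        (hw i : algebraMap L L' (w i) = 0), map_zero]
      show (1 : L') • (0 : Ω[L'⁄A]) = 0
      first
        | exact one_smul L' (0 : Ω[L'⁄A])
        | exact smul_zero (1 : L')
        | simp only [smul_zero]
        | simp only [one_smul])
    refine ⟨fun a a' => ?_⟩
    obtain ⟨t, rfl⟩ := mapBaseChange_surjective A L L' hρsurj a
    obtain ⟨t', rfl⟩ := mapBaseChange_surjective A L L' hρsurj a'
    rw [h0]
    rfl
  exact Algebra.FormallyEtale.of_formallyUnramified_and_formallySmooth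


/-- ring-level étale slice -/
theorem slice_ring [Algebra.Smooth A B] (q : Ideal B) [q.IsPrime]
    [Algebra.FormallyUnramified A q.ResidueField] :
    ∃ (I : Ideal B), I.FG ∧ I ≤ q ∧ ∃ (h : B ⧸ I), h ∉ q.map (Ideal.Quotient.mk I) ∧
      Algebra.Etale A (Localization.Away h) := by
  classical
  obtain ⟨ι, _, y, hy, b, hb⟩ := exists_basis (A := A) q
  let I : Ideal B := Ideal.span (Set.range y)
  have hIq : I ≤ q := Ideal.span_le.mpr (by rintro _ ⟨i, rfl⟩; exact hy i)
  have hIfg : I.FG := ⟨Finset.univ.image y, by simp [I]⟩
  haveI hQp : (q.map (Ideal.Quotient.mk I)).IsPrime :=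
    Ideal.map_isPrime_of_surjective Ideal.Quotient.mk_surjective (by rwa [Ideal.mk_ker])
  have hQ : q = (q.map (Ideal.Quotient.mk I)).comap (Ideal.Quotient.mk I) :=
    (Ideal.comap_map_mk hIq).symm
  haveI : Algebra.IsEtaleAt A (q.map (Ideal.Quotient.mk I)) :=
    isEtaleAt_quotient q y b hb _ hQ
  haveI : Algebra.FinitePresentation A (B ⧸ I) := Algebra.FinitePresentation.quotient hIfg
  obtain ⟨h, hh, het⟩ := Algebra.exists_etale_of_isEtaleAt (R := A) (q.map (Ideal.Quotient.mk I))
  exact ⟨I, hIfg, hIq, h, hh, het⟩

/-- a separable residue field extension makes the residue field formally unramified over the base -/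
theorem formallyUnramified_residueField (p : Ideal A) [p.IsPrime] (q : Ideal B) [q.IsPrime]
    (hpq : p = q.comap (algebraMap A B))
    (hsep : letI := (Ideal.ResidueField.map p q (algebraMap A B) hpq).toAlgebra
      Algebra.IsSeparable p.ResidueField q.ResidueField) :
    Algebra.FormallyUnramified A q.ResidueField := by
  letI := (Ideal.ResidueField.map p q (algebraMap A B) hpq).toAlgebra
  haveI : IsScalarTower A p.ResidueField q.ResidueField := IsScalarTower.of_algebraMap_eq (fun a => by
    show algebraMap A q.ResidueField a =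
      Ideal.ResidueField.map p q (algebraMap A B) hpq (algebraMap A p.ResidueField a)
    rw [Ideal.ResidueField.map_algebraMap, ← IsScalarTower.algebraMap_apply])
  haveI : Algebra.FormallyUnramified p.ResidueField q.ResidueField :=
    Algebra.FormallyUnramified.of_isSeparable _ _
  haveI : Algebra.FormallyUnramified A (Localization.AtPrime p) :=
    Algebra.FormallyUnramified.of_isLocalization p.primeCompl
  haveI : Algebra.FormallyUnramified (Localization.AtPrime p) p.ResidueField := inferInstance
  haveI : Algebra.FormallyUnramified A p.ResidueField :=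
    Algebra.FormallyUnramified.comp A (Localization.AtPrime p) p.ResidueField
  exact Algebra.FormallyUnramified.comp A p.ResidueField q.ResidueField

end main

end Groth.Agent.Helper16.Slice
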