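import Mathlib
import Groth.Prelude.Def_CAlg
import Groth.Agent.Lib.Helper16.Alg.SliceSeq1
import Groth.Agent.Lib.Helper16.Alg.SliceSeq2

/-!
# Quasi-finite flat slices of a flat algebra with Cohen–Macaulay fibre (helper16)

`qf_slice`: `R → C` of finite presentation, `Q` a prime of `C` closed in its fibre with `C_Q` flat
over `R` and `C_Q/𝔭C_Q` Cohen–Macaulay.  Then there are `g₂ ∉ Q` and a sequence `rs` in `Q` such that
on `C_{g₂}` the sequence is regular, `C_{g₂}/(rs)` is flat and quasi-finite over `R`, and `Q` is the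
only prime of `D(g₂) ∩ V(rs)` in its fibre.
-/

set_option autoImplicit false
set_option linter.style.haveILetI false
universe u

open IsLocalRing RingTheory.Sequence

namespace Groth.Agent.Helper16.SliceSeq

theorem qf_slice {R C : Type u} [CommRing R] [CommRing C] [Algebra R C]
    [Algebra.FinitePresentation R C] (Q : Ideal C) [Q.IsPrime]
    {LX : Type u} [CommRing LX] [Algebra C LX] [IsLocalization.AtPrime LX Q]
    [Algebra R LX] [IsScalarTower R C LX] [Module.Flat R LX]
    (IX : Ideal LX) (hIX : IX = (Q.comap (algebraMap R C)).map (algebraMap R LX))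
    [hCM : LocCoh.IsCohenMacaulayLocalRing (LX ⧸ IX)]
    (hcl : ∀ P : Ideal C, P.IsPrime → Q ≤ P →
      P.comap (algebraMap R C) = Q.comap (algebraMap R C) → P = Q) :
    ∃ (g₂ : C) (rs : List C), g₂ ∉ Q ∧ (∀ r ∈ rs, r ∈ Q) ∧
      (∀ P : Ideal C, P.IsPrime → (∀ r ∈ rs, r ∈ P) → g₂ ∉ P →
        P.comap (algebraMap R C) = Q.comap (algebraMap R C) → P = Q) ∧
      ∀ (Cg : Type u) [CommRing Cg] [Algebra C Cg] [IsLocalization.Away g₂ Cg] [Algebra R Cg]
        [IsScalarTower R C Cg],
        IsWeaklyRegular Cg ((rs.map (algebraMap C Cg)).reverse) ∧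
        Module.Flat R (Cg ⧸ Ideal.ofList (rs.map (algebraMap C Cg))) ∧
        Algebra.QuasiFinite R (Cg ⧸ Ideal.ofList (rs.map (algebraMap C Cg))) := by
  haveI : IsLocalRing LX := IsLocalization.AtPrime.isLocalRing LX Q
  obtain ⟨rs, hrsQ, hreg, hart⟩ := exists_sop_lift Q IX
  obtain ⟨g, hgQ, hg⟩ := slice_seq Q rs IX hIX hrsQ hreg
  set J : Ideal C := Ideal.ofList rs with hJ
  have hJQ : J ≤ Q := Ideal.span_le.mpr hrsQ
  set Q' : Ideal (C ⧸ J) := Q.map (Ideal.Quotient.mk J) with hQ'
  have hker : RingHom.ker (Ideal.Quotient.mk J) ≤ Q := by rw [Ideal.mk_ker]; exact hJQ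
  haveI hQ'prime : Q'.IsPrime :=
    Ideal.map_isPrime_of_surjective Ideal.Quotient.mk_surjective hker
  have comap_map : ∀ P : Ideal C, J ≤ P →
      (P.map (Ideal.Quotient.mk J)).comap (Ideal.Quotient.mk J) = P := by
    intro P hP
    rw [Ideal.comap_map_of_surjective _ Ideal.Quotient.mk_surjective, sup_eq_left,
      ← RingHom.ker_eq_comap_bot, Ideal.mk_ker]
    exact hP
  have hQ'comap : Q'.comap (Ideal.Quotient.mk J) = Q := comap_map Q hJQ
  have comap_alg : ∀ P' : Ideal (C ⧸ J), P'.comap (algebraMap R (C ⧸ J)) =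
      (P'.comap (Ideal.Quotient.mk J)).comap (algebraMap R C) := by
    intro P'
    rw [Ideal.comap_comap]
    rfl
  have hQ'over : Q'.comap (algebraMap R (C ⧸ J)) = Q.comap (algebraMap R C) := by
    rw [comap_alg, hQ'comap]
  -- `Q'` is isolated in its fibre
  haveI : Algebra.QuasiFiniteAt R Q' := by
    refine quasiFiniteAt_of_isolated Q' ?_
    intro P' hP' hover hor
    have hPprime : (P'.comap (Ideal.Quotient.mk J)).IsPrime := Ideal.comap_isPrime _ _
    have hPover : (P'.comap (Ideal.Quotient.mk J)).comap (algebraMap R C) =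
        Q.comap (algebraMap R C) := by
      rw [← comap_alg, hover, hQ'over]
    have hPQ : P'.comap (Ideal.Quotient.mk J) = Q := by
      rcases hor with h1 | h1
      · exact hcl _ hPprime (by rw [← hQ'comap]; exact Ideal.comap_mono h1) hPover
      · have hPleQ : P'.comap (Ideal.Quotient.mk J) ≤ Q := by
          rw [← hQ'comap]; exact Ideal.comap_mono h1
        have hdisj : Disjoint (Q.primeCompl : Set C) (P'.comap (Ideal.Quotient.mk J)) := by
          rw [Set.disjoint_left]
          intro x hx hx'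
          exact hx (hPleQ hx')
        have hPL : ((P'.comap (Ideal.Quotient.mk J)).map (algebraMap C LX)).IsPrime :=
          IsLocalization.isPrime_of_isPrime_disjoint Q.primeCompl LX _ hPprime hdisj
        have h2 : IX ≤ (P'.comap (Ideal.Quotient.mk J)).map (algebraMap C LX) := by
          rw [hIX, IsScalarTower.algebraMap_eq R C LX, ← Ideal.map_map]
          apply Ideal.map_mono
          rw [Ideal.map_le_iff_le_comap, hPover]
        have h3 : ∀ r ∈ rs, algebraMap C LX r ∈
            (P'.comap (Ideal.Quotient.mk J)).map (algebraMap C LX) := by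
          intro r hr
          apply Ideal.mem_map_of_mem
          rw [Ideal.mem_comap]
          have : Ideal.Quotient.mk J r = 0 :=
            Ideal.Quotient.eq_zero_iff_mem.mpr (Ideal.subset_span hr)
          rw [this]
          exact zero_mem _
        have h4 := hart _ hPL h2 h3
        rw [← IsLocalization.under_map_of_isPrime_disjoint Q.primeCompl LX hPprime hdisj, h4,
          IsLocalization.AtPrime.under_maximalIdeal LX Q]
    rw [← Ideal.map_comap_of_surjective _ Ideal.Quotient.mk_surjective P', hPQ]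
  -- Zariski's main theorem
  have H : Algebra.ZariskisMainProperty R Q' := Algebra.ZariskisMainProperty.of_finiteType Q'
  obtain ⟨S', hS', r, hrQ', Hbij⟩ := H.exists_fg_and_exists_notMem_and_awayMap_bijective Q'
  haveI : Module.Finite R S' := ⟨(Submodule.fg_top _).mpr hS'⟩
  haveI : Algebra.QuasiFinite R (Localization.Away r) := .trans _ S' _
  have hqf : Algebra.QuasiFinite R (Localization.Away r.1) :=
    .of_surjective_algHom (Localization.awayMapₐ S'.val r) Hbij.2
  haveI : (Q.comap (algebraMap R C)).IsPrime := Ideal.comap_isPrime _ _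
  haveI : Q'.LiesOver (Q.comap (algebraMap R C)) := ⟨hQ'over.symm⟩
  obtain ⟨s, hsQ', hs⟩ :=
    Ideal.exists_not_mem_forall_mem_of_ne_of_liesOver (Q.comap (algebraMap R C)) Q'
  obtain ⟨c, hc⟩ := Ideal.Quotient.mk_surjective (r.1 * s)
  have hcQ : c ∉ Q := by
    intro hcQ
    have : r.1 * s ∈ Q' := by
      rw [← hc]; exact Ideal.mem_map_of_mem _ hcQ
    rcases hQ'prime.mem_or_mem this with h | h
    · exact hrQ' h
    · exact hsQ' h
  refine ⟨g * c, rs, fun h => (‹Q.IsPrime›.mem_or_mem h).elim hgQ hcQ, hrsQ, ?_, ?_⟩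
  · intro P hP hrsP hgcP hPover
    have hJP : J ≤ P := Ideal.span_le.mpr hrsP
    have hkerP : RingHom.ker (Ideal.Quotient.mk J) ≤ P := by rw [Ideal.mk_ker]; exact hJP
    have hP'prime : (P.map (Ideal.Quotient.mk J)).IsPrime :=
      Ideal.map_isPrime_of_surjective Ideal.Quotient.mk_surjective hkerP
    have hP'over : (P.map (Ideal.Quotient.mk J)).LiesOver (Q.comap (algebraMap R C)) := by
      refine ⟨?_⟩
      rw [Ideal.under_def, comap_alg, comap_map P hJP, hPover]
    by_cases hne : P.map (Ideal.Quotient.mk J) = Q'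
    · rw [← comap_map P hJP, hne, hQ'comap]
    · exfalso
      have h1 := hs _ hP'prime hne hP'over
      have h2 : Ideal.Quotient.mk J c ∈ P.map (Ideal.Quotient.mk J) := by
        rw [hc]; exact Ideal.mul_mem_left _ _ h1
      have h3 : c ∈ P := by
        rw [← comap_map P hJP]; exact h2
      exact hgcP (P.mul_mem_left _ h3)
  · intro Cg _ _ _ _ _
    obtain ⟨h1, h2⟩ := hg c Cg
    refine ⟨h1, h2, ?_⟩
    set Jg : Ideal Cg := Ideal.ofList (rs.map (algebraMap C Cg)) with hJg
    have hJg' : Jg = J.map (algebraMap C Cg) := (Ideal.map_ofList _ _).symm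
    let φ : (C ⧸ J) →ₐ[R] Cg ⧸ Jg :=
      Ideal.quotientMapₐ Jg (IsScalarTower.toAlgHom R C Cg) (by
        rw [hJg']; exact Ideal.le_comap_map)
    have hφmk : ∀ x : C, φ (Ideal.Quotient.mk J x) = Ideal.Quotient.mk Jg (algebraMap C Cg x) :=
      fun x => rfl
    have hunit_gc : IsUnit (algebraMap C Cg (g * c)) := IsLocalization.Away.algebraMap_isUnit _
    have hunit : ∀ n : ℕ, IsUnit (φ (Ideal.Quotient.mk J ((g * c) ^ n))) := by
      intro n
      rw [hφmk, map_pow]
      exact ((hunit_gc.map (Ideal.Quotient.mk Jg))).pow n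
    have hunit_r : IsUnit (φ r.1) := by
      have h3 : φ (Ideal.Quotient.mk J g) * (φ r.1 * φ s) = φ (Ideal.Quotient.mk J (g * c)) := by
        rw [← map_mul, ← map_mul, map_mul (Ideal.Quotient.mk J), hc]
      have h4 : IsUnit (φ (Ideal.Quotient.mk J g) * (φ r.1 * φ s)) := by
        rw [h3, hφmk]; exact hunit_gc.map _
      exact isUnit_of_mul_isUnit_left (isUnit_of_mul_isUnit_right h4)
    let f : Localization.Away r.1 →ₐ[R] Cg ⧸ Jg :=
      IsLocalization.liftAlgHom (M := Submonoid.powers r.1) (f := φ) (by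
        rintro ⟨_, n, rfl⟩
        rw [map_pow]
        exact hunit_r.pow n)
    have hf : ∀ b : C ⧸ J, f (algebraMap (C ⧸ J) (Localization.Away r.1) b) = φ b := by
      intro b
      simp [f]
    refine Algebra.QuasiFinite.of_forall_exists_mul_mem_range f (fun x => ?_)
    obtain ⟨x, rfl⟩ := Ideal.Quotient.mk_surjective x
    obtain ⟨b, ⟨_, n, rfl⟩, rfl⟩ := IsLocalization.exists_mk'_eq (Submonoid.powers (g * c)) x
    refine ⟨algebraMap (C ⧸ J) _ (Ideal.Quotient.mk J ((g * c) ^ n)), ?_,
      algebraMap (C ⧸ J) _ (Ideal.Quotient.mk J b), ?_⟩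
    · rw [hf]; exact hunit n
    · show f _ = _ * f _
      rw [hf, hf, hφmk, hφmk, ← map_mul, IsLocalization.mk'_spec]

/-- `qf_slice` with the uniqueness statement expressed on the localization `C_{g₂}`. -/
theorem qf_slice' {R C : Type u} [CommRing R] [CommRing C] [Algebra R C]
    [Algebra.FinitePresentation R C] (Q : Ideal C) [Q.IsPrime]
    {LX : Type u} [CommRing LX] [Algebra C LX] [IsLocalization.AtPrime LX Q]
    [Algebra R LX] [IsScalarTower R C LX] [Module.Flat R LX]
    (IX : Ideal LX) (hIX : IX = (Q.comap (algebraMap R C)).map (algebraMap R LX))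
    [hCM : LocCoh.IsCohenMacaulayLocalRing (LX ⧸ IX)]
    (hcl : ∀ P : Ideal C, P.IsPrime → Q ≤ P →
      P.comap (algebraMap R C) = Q.comap (algebraMap R C) → P = Q) :
    ∃ (g₂ : C) (rs : List C), g₂ ∉ Q ∧
      ∀ (Cg : Type u) [CommRing Cg] [Algebra C Cg] [IsLocalization.Away g₂ Cg] [Algebra R Cg]
        [IsScalarTower R C Cg] (Qg : Ideal Cg), Qg.IsPrime → Qg.comap (algebraMap C Cg) = Q →
        IsWeaklyRegular Cg ((rs.map (algebraMap C Cg)).reverse) ∧
        Module.Flat R (Cg ⧸ Ideal.ofList ((rs.map (algebraMap C Cg)).reverse)) ∧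
        Algebra.QuasiFinite R (Cg ⧸ Ideal.ofList ((rs.map (algebraMap C Cg)).reverse)) ∧
        (∀ r ∈ (rs.map (algebraMap C Cg)).reverse, r ∈ Qg) ∧
        ∀ Pg : Ideal Cg, Pg.IsPrime → Ideal.ofList ((rs.map (algebraMap C Cg)).reverse) ≤ Pg →
          Pg.comap (algebraMap R Cg) = Qg.comap (algebraMap R Cg) → Pg = Qg := by
  obtain ⟨g₂, rs, hg₂, hrsQ, huniq, hCg⟩ := qf_slice Q IX hIX hcl
  refine ⟨g₂, rs, hg₂, ?_⟩
  intro Cg _ _ _ _ _ Qg hQg hQgQ
  obtain ⟨h1, h2, h3⟩ := hCg Cg
  have hrev : Ideal.ofList ((rs.map (algebraMap C Cg)).reverse) =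
      Ideal.ofList (rs.map (algebraMap C Cg)) := ofList_reverse _
  rw [hrev]
  refine ⟨h1, h2, h3, ?_, ?_⟩
  · intro r hr
    rw [List.mem_reverse, List.mem_map] at hr
    obtain ⟨r₀, hr₀, rfl⟩ := hr
    have : r₀ ∈ Qg.comap (algebraMap C Cg) := by rw [hQgQ]; exact hrsQ r₀ hr₀
    exact this
  · intro Pg hPg hle hover
    have hPprime : (Pg.comap (algebraMap C Cg)).IsPrime := Ideal.comap_isPrime _ _
    have h4 : ∀ r ∈ rs, r ∈ Pg.comap (algebraMap C Cg) := by
      intro r hr
      rw [Ideal.mem_comap]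
      exact hle (Ideal.subset_span (List.mem_map_of_mem hr))
    have h5 : g₂ ∉ Pg.comap (algebraMap C Cg) := by
      intro h
      rw [Ideal.mem_comap] at h
      exact hPg.ne_top (Ideal.eq_top_of_isUnit_mem _ h (IsLocalization.Away.algebraMap_isUnit g₂))
    have h6 : (Pg.comap (algebraMap C Cg)).comap (algebraMap R C) =
        Q.comap (algebraMap R C) := by
      rw [← hQgQ, Ideal.comap_comap, Ideal.comap_comap, ← IsScalarTower.algebraMap_eq]
      exact hover
    have h7 := huniq _ hPprime h4 h5 h6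
    have h8 := IsLocalization.map_under (Submonoid.powers g₂) Cg Pg
    have h9 := IsLocalization.map_under (Submonoid.powers g₂) Cg Qg
    rw [Ideal.under_def] at h8 h9
    rw [← h8, h7, ← hQgQ, h9]

end Groth.Agent.Helper16.SliceSeq
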