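import Mathlib
import Groth.Agent.Lib.Helper16.Alg.SmAtPt
import Groth.Agent.S2063

set_option autoImplicit false
set_option linter.unusedSectionVars false
set_option linter.style.haveILetI false
universe u

open TensorProduct IsLocalRing

namespace Groth.Agent.Helper16.SmAtPt

attribute [local instance] Algebra.TensorProduct.rightAlgebra in
theorem isSmoothAt_of_flat_of_basis (A B : Type u) [CommRing A] [CommRing B] [Algebra A B]
    [Algebra.FinitePresentation A B] (p : Ideal A) (q : Ideal B)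
    [p.IsPrime] [q.IsPrime] [q.LiesOver p] [Module.Flat A (Localization.AtPrime q)]
    (Q : PrimeSpectrum (p.Fiber B))
    (hQ : Q.asIdeal.comap (Algebra.TensorProduct.includeRight : B →ₐ[A] p.Fiber B).toRingHom = q)
    (n : ℕ) (b : Module.Basis (Fin n) B Ω[B⁄A])
    (hdim : (n : WithBot ℕ∞) ≤ FlatMor.localDim (PrimeSpectrum (p.Fiber B)) Q) :
    Algebra.IsSmoothAt A q := by
  let K := p.ResidueField
  let F := p.Fiber B
  let eΩ : F ⊗[B] Ω[B⁄A] ≃ₗ[F] Ω[F⁄K] := KaehlerDifferential.tensorKaehlerEquiv A K B F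
  let bF : Module.Basis (Fin n) F Ω[F⁄K] := (b.baseChange F).map eΩ
  let bQ : Module.Basis (Fin n) Q.asIdeal.ResidueField (Q.asIdeal.ResidueField ⊗[F] Ω[F⁄K]) :=
    bF.baseChange Q.asIdeal.ResidueField
  have hfr : Module.finrank Q.asIdeal.ResidueField (Q.asIdeal.ResidueField ⊗[F] Ω[F⁄K]) = n := by
    rw [Module.finrank_eq_card_basis bQ, Fintype.card_fin]
  haveI : Algebra.IsSmoothAt K Q.asIdeal := by
    rw [Groth.Agent.S2063.result (k := K) (S := F) Q.asIdeal, hfr]
    exact hdim
  exact isSmoothAt_of_flat_of_fiber_point p q Q.asIdeal hQ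

end Groth.Agent.Helper16.SmAtPt
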