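import Mathlib
import Groth.Agent.Lib.Helper16.Alg.SmAtPt3
import Groth.Agent.S2063

set_option autoImplicit false
set_option linter.unusedSectionVars false
set_option linter.style.haveILetI false
universe u

open TensorProduct IsLocalRing

namespace Groth.Agent.Helper16.SmAtPt

attribute [local instance] Algebra.TensorProduct.rightAlgebra in
/-- Jacobian criterion on a fibre: if `Ω_{B/A}` is free of rank `n` and the fibre has local
dimension at least `n` at `Q`, the fibre is smooth at `Q`. -/
theorem isSmoothAt_fiber_of_basis (A B : Type u) [CommRing A] [CommRing B] [Algebra A B]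
    [Algebra.FiniteType A B] (p : Ideal A) [p.IsPrime]
    (Q : PrimeSpectrum (p.Fiber B))
    (n : ℕ) (b : Module.Basis (Fin n) B Ω[B⁄A])
    (hdim : (n : WithBot ℕ∞) ≤ FlatMor.localDim (PrimeSpectrum (p.Fiber B)) Q) :
    Algebra.IsSmoothAt p.ResidueField Q.asIdeal := by
  let K := p.ResidueField
  let F := p.Fiber B
  let eΩ : F ⊗[B] Ω[B⁄A] ≃ₗ[F] Ω[F⁄K] := KaehlerDifferential.tensorKaehlerEquiv A K B F
  let bF : Module.Basis (Fin n) F Ω[F⁄K] := (b.baseChange F).map eΩ
  let bQ : Module.Basis (Fin n) Q.asIdeal.ResidueField (Q.asIdeal.ResidueField ⊗[F] Ω[F⁄K]) :=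
    bF.baseChange Q.asIdeal.ResidueField
  have hfr : Module.finrank Q.asIdeal.ResidueField (Q.asIdeal.ResidueField ⊗[F] Ω[F⁄K]) = n := by
    rw [Module.finrank_eq_card_basis bQ, Fintype.card_fin]
  rw [Groth.Agent.S2063.result (k := K) (S := F) Q.asIdeal, hfr]
  exact hdim

end Groth.Agent.Helper16.SmAtPt
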