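import Mathlib
import Groth.Agent.Lib.Helper16.Alg.ArtLiftC
import Groth.Agent.Lib.Helper6.QReg2

/-!
# A local ring with a smooth quotient by a regular sequence is smooth (helper16)
-/

set_option autoImplicit false
set_option linter.style.haveILetI false
set_option linter.unusedSectionVars false
universe u
open TensorProduct IsLocalRing KaehlerDifferential

namespace Groth.Agent.Helper16.SmRegQuot

open Groth.Agent.Helper16.ArtLift

set_option maxHeartbeats 1600000 in
set_option synthInstance.maxHeartbeats 200000 in
/-- Jacobian-type criterion: `O = T/K` with `T` a Noetherian local formally smooth `R`-algebra and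
`A` a localization of `R`.  If every `x ∈ K` with `dx ∈ 𝔪 Ω` lies in `𝔪 K`, then `O` is formally
smooth over `A`. -/
theorem formallySmooth_of_forall_mem {R T A O : Type u} [CommRing R] [CommRing T] [CommRing A]
    [CommRing O] [IsLocalRing T] [IsNoetherianRing T] [IsLocalRing O]
    [Algebra R T] [Algebra R A] [Algebra R O] [Algebra T O] [Algebra A O]
    [IsScalarTower R T O] [IsScalarTower R A O]
    [Algebra.FormallySmooth R T]
    (M : Submonoid R) [IsLocalization M A]
    (hsurj : Function.Surjective (algebraMap T O))
    (H : ∀ x ∈ RingHom.ker (algebraMap T O),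
      KaehlerDifferential.D R T x ∈ maximalIdeal T • (⊤ : Submodule T Ω[T⁄R]) →
      x ∈ maximalIdeal T * RingHom.ker (algebraMap T O)) : Algebra.FormallySmooth A O := by
  haveI : Algebra.FormallyEtale R A := Algebra.FormallyEtale.of_isLocalization M
  rw [← Algebra.FormallySmooth.iff_restrictScalars (R := R) (A := A) (B := O)]
  let P : Algebra.Extension.{u} R O := ⟨T, _, Function.surjInv_eq hsurj⟩
  haveI h1 : Algebra.FormallySmooth R P.Ring := ‹Algebra.FormallySmooth R T›
  haveI : Module.Finite O P.Cotangent :=
    Algebra.Extension.Cotangent.finite (IsNoetherian.noetherian (P.ker : Ideal T))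
  haveI : Module.Projective O P.CotangentSpace := inferInstance
  rw [P.formallySmooth_iff_split_injection,
    Groth.Agent.Helper7.LeftInv.exists_leftInverse_iff_lTensor_residueField_injective,
    injective_iff_map_eq_zero]
  intro z hz
  obtain ⟨ξ, rfl⟩ := exists_one_tmul z
  obtain ⟨⟨x, hx⟩, rfl⟩ := Algebra.Extension.Cotangent.mk_surjective ξ
  rw [LinearMap.lTensor_tmul, Algebra.Extension.cotangentComplex_mk] at hz
  have hx' : x ∈ RingHom.ker (algebraMap T O) := hx
  have hD : KaehlerDifferential.D R T x ∈ maximalIdeal T • (⊤ : Submodule T Ω[T⁄R]) :=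
    mem_smul_top_of_tmul_eq_zero (O := T) (S := O) hsurj _ hz
  have hmem := H x hx' hD
  -- conclude
  let Φ : (RingHom.ker (algebraMap T O)) →ₗ[T] ResidueField O ⊗[O] P.Cotangent :=
    ((TensorProduct.mk O (ResidueField O) P.Cotangent 1).restrictScalars T).comp
      (Algebra.Extension.Cotangent.mk (P := P))
  have hΦ : ∀ y : RingHom.ker (algebraMap T O),
      Φ y = (1 : ResidueField O) ⊗ₜ[O] Algebra.Extension.Cotangent.mk (P := P) y := fun _ => rfl
  have hkill : ∀ y ∈ maximalIdeal T • (⊤ : Submodule T (RingHom.ker (algebraMap T O))),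
      Φ y = 0 := by
    intro y hy
    refine Submodule.smul_induction_on (p := fun y => Φ y = 0) hy ?_ ?_
    · intro a ha y' _
      rw [map_smul, hΦ, ← algebraMap_smul O a, smul_tmul', Algebra.smul_def, mul_one,
        ResidueField.algebraMap_eq]
      have : residue O (algebraMap T O a) = 0 := by
        rw [residue_eq_zero_iff]
        rw [mem_maximalIdeal, mem_nonunits_iff] at ha ⊢
        intro hu
        obtain ⟨b, hb⟩ := hu.exists_right_inv
        obtain ⟨b, rfl⟩ := hsurj b
        rw [← map_mul] at hb
        have h2 : a * b - 1 ∈ RingHom.ker (algebraMap T O) := by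
          rw [RingHom.mem_ker, map_sub, hb, map_one, sub_self]
        have h3 : RingHom.ker (algebraMap T O) ≤ maximalIdeal T :=
          le_maximalIdeal (RingHom.ker_ne_top _)
        have hab : a * b ∈ maximalIdeal T := by
          rw [mem_maximalIdeal, mem_nonunits_iff]
          exact fun h => ha (isUnit_of_mul_isUnit_left h)
        have h4 : (1 : T) ∈ maximalIdeal T := by
          have := (maximalIdeal T).sub_mem hab (h3 h2)
          simpa using this
        exact (maximalIdeal.isMaximal T).ne_top ((Ideal.eq_top_iff_one _).mpr h4)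
      rw [this, zero_tmul]
    · intro y₁ y₂ h1 h2
      rw [map_add, h1, h2, add_zero]
  have hxmem : (⟨x, hx'⟩ : RingHom.ker (algebraMap T O)) ∈
      maximalIdeal T • (⊤ : Submodule T (RingHom.ker (algebraMap T O))) := by
    rw [Submodule.mem_smul_top_iff]
    exact hmem
  exact hkill _ hxmem

/-- ideal-theoretic core -/
theorem inf_mul_sup_le {T : Type u} [CommRing T] [IsLocalRing T] [IsNoetherianRing T]
    (K : Ideal T) {r : ℕ} (F : Fin r → T) (hFm : Ideal.span (Set.range F) ≤ maximalIdeal T)
    (hq : CAlgX.IsQuasiRegular (fun i => Ideal.Quotient.mk K (F i))) (x : T) (hx : x ∈ K)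
    (h3 : x ∈ maximalIdeal T * (K ⊔ Ideal.span (Set.range F))) : x ∈ maximalIdeal T * K := by
  have hrad : Ideal.span (Set.range F) ≤ (⊥ : Ideal T).jacobson := by
    rw [IsLocalRing.jacobson_eq_maximalIdeal ⊥ bot_ne_top]
    exact hFm
  have hinf := Groth.Agent.Helper6.QReg.inf_pow_eq_mul K F hq hrad 1
  rw [pow_one] at hinf
  rw [Ideal.mul_sup] at h3
  obtain ⟨y, hy, z, hz, rfl⟩ := Submodule.mem_sup.mp h3
  have hyK : y ∈ K := Ideal.mul_le_right hy
  have hzK : z ∈ K := by
    have := K.sub_mem hx hyK
    simpa using this
  have hzF : z ∈ Ideal.span (Set.range F) := Ideal.mul_le_right hz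
  have hz' : z ∈ K * Ideal.span (Set.range F) := by
    rw [← hinf]
    exact ⟨hzK, hzF⟩
  have hz'' : z ∈ maximalIdeal T * K := by
    rw [mul_comm]
    exact Ideal.mul_mono_right hFm hz'
  exact Ideal.add_mem _ hy hz''

/-- transport of weak regularity to the quotient by the kernel -/
theorem isQuasiRegular_mk_ker {T O : Type u} [CommRing T] [CommRing O] [Algebra T O]
    (hTO : Function.Surjective (algebraMap T O)) {r : ℕ} (F : Fin r → T)
    (hreg : RingTheory.Sequence.IsWeaklyRegular O (List.ofFn fun i => algebraMap T O (F i))) :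
    CAlgX.IsQuasiRegular
      (fun i => Ideal.Quotient.mk (RingHom.ker (algebraMap T O)) (F i)) := by
  apply Groth.Agent.Helper6.QReg.isQuasiRegular_mk_of_isWeaklyRegular
  have h1 : RingTheory.Sequence.IsWeaklyRegular O ((List.ofFn F).map (algebraMap T O)) := by
    rw [List.map_ofFn]
    exact hreg
  have h2 : RingTheory.Sequence.IsWeaklyRegular O (List.ofFn F) :=
    (RingTheory.Sequence.isWeaklyRegular_map_algebraMap_iff O O (List.ofFn F)).mp h1
  have hKeq : RingHom.ker (algebraMap T O) = LinearMap.ker (Algebra.linearMap T O) := by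
    ext t
    rw [RingHom.mem_ker, LinearMap.mem_ker, Algebra.linearMap_apply]
  let e : (T ⧸ RingHom.ker (algebraMap T O)) ≃ₗ[T] O :=
    (Submodule.quotEquivOfEq _ _ hKeq).trans
      (LinearMap.quotKerEquivOfSurjective (Algebra.linearMap T O) hTO)
  exact (e.isWeaklyRegular_congr (List.ofFn F)).mpr h2

set_option maxHeartbeats 1600000 in
set_option synthInstance.maxHeartbeats 200000 in
/-- `T → O → B` surjections of local rings, `T` formally smooth over `R`, `B` formally smooth over
the localization `A` of `R`, and `ker (O → B)` generated by an `O`-regular sequence: then `O` is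
formally smooth over `A`. -/
theorem formallySmooth_of_regular_quotient {R T A O B : Type u} [CommRing R] [CommRing T]
    [CommRing A] [CommRing O] [CommRing B]
    [IsLocalRing T] [IsNoetherianRing T] [IsLocalRing A] [IsLocalRing O] [IsLocalRing B]
    [Algebra R T] [Algebra R A] [Algebra R O] [Algebra R B] [Algebra T O] [Algebra T B]
    [Algebra A O] [Algebra A B] [Algebra O B]
    [IsScalarTower R T O] [IsScalarTower R A O] [IsScalarTower R T B] [IsScalarTower R A B]
    [IsScalarTower T O B] [IsLocalHom (algebraMap A B)]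
    [Algebra.FormallySmooth R T] [Algebra.FormallySmooth A B]
    (M : Submonoid R) [IsLocalization M A] (hM : ∀ r ∈ M, IsUnit (algebraMap R T r))
    (hTO : Function.Surjective (algebraMap T O)) (hOB : Function.Surjective (algebraMap O B))
    {r : ℕ} (F : Fin r → T)
    (hreg : RingTheory.Sequence.IsWeaklyRegular O (List.ofFn fun i => algebraMap T O (F i)))
    (hker : RingHom.ker (algebraMap O B) =
      Ideal.span (Set.range fun i => algebraMap T O (F i))) :
    Algebra.FormallySmooth A O := by
  apply formallySmooth_of_forall_mem (R := R) (T := T) M hTO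
  intro x hx hD
  have hTB : Function.Surjective (algebraMap T B) := by
    rw [IsScalarTower.algebraMap_eq T O B]
    exact hOB.comp hTO
  have hKK' : RingHom.ker (algebraMap T O) ≤ RingHom.ker (algebraMap T B) := fun t ht => by
    rw [RingHom.mem_ker] at ht ⊢
    rw [IsScalarTower.algebraMap_apply T O B, ht, map_zero]
  have hxK' : x ∈ maximalIdeal T * RingHom.ker (algebraMap T B) :=
    key_mem M hM hTB (hasArtLift_of_formallySmooth (A := A) (B := B)) x (hKK' hx) hD
  have hspan : Ideal.span (Set.range fun i => algebraMap T O (F i)) =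
      (Ideal.span (Set.range F)).map (algebraMap T O) := by
    rw [Ideal.map_span, ← Set.range_comp]
    rfl
  have hK' : RingHom.ker (algebraMap T B) ≤
      RingHom.ker (algebraMap T O) ⊔ Ideal.span (Set.range F) := by
    intro t ht
    have h1 : algebraMap T O t ∈ RingHom.ker (algebraMap O B) := by
      rw [RingHom.mem_ker, ← IsScalarTower.algebraMap_apply]
      exact ht
    rw [hker, hspan, Ideal.mem_map_iff_of_surjective _ hTO] at h1
    obtain ⟨t', ht', he⟩ := h1
    have h2 : t - t' ∈ RingHom.ker (algebraMap T O) := by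
      rw [RingHom.mem_ker, map_sub, he, sub_self]
    have h3 : (t - t') + t' ∈ RingHom.ker (algebraMap T O) ⊔ Ideal.span (Set.range F) :=
      Submodule.add_mem_sup h2 ht'
    rwa [sub_add_cancel] at h3
  have hFm : Ideal.span (Set.range F) ≤ maximalIdeal T := by
    rw [Ideal.span_le]
    rintro _ ⟨i, rfl⟩
    have h1 : algebraMap T O (F i) ∈ RingHom.ker (algebraMap O B) := by
      rw [hker]
      exact Ideal.subset_span ⟨i, rfl⟩
    have h2 : F i ∈ RingHom.ker (algebraMap T B) := by
      rw [RingHom.mem_ker, IsScalarTower.algebraMap_apply T O B]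
      exact h1
    exact le_maximalIdeal (RingHom.ker_ne_top _) h2
  exact inf_mul_sup_le _ F hFm (isQuasiRegular_mk_ker hTO F hreg) x hx
    (Ideal.mul_mono_right hK' hxK')

end Groth.Agent.Helper16.SmRegQuot
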