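import Mathlib
import Groth.Agent.Lib.Helper16.Alg.SmRegQuotA

set_option autoImplicit false
set_option linter.style.haveILetI false
set_option linter.unusedSectionVars false
universe u
open TensorProduct IsLocalRing KaehlerDifferential

namespace Groth.Agent.Helper16.SmRegQuot

set_option maxHeartbeats 1600000 in
set_option synthInstance.maxHeartbeats 200000 in
/-- affine form: `O = C_q` with `C` of finite type over the Noetherian ring `R`, `A = R_p`,
`B = O/J` formally smooth over `A` with `J` generated by a regular sequence. -/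
theorem formallySmooth_of_regular_quotient' {R C A O B : Type u} [CommRing R] [CommRing C]
    [CommRing A] [CommRing O] [CommRing B] [IsNoetherianRing R] [Algebra R C]
    [Algebra.FiniteType R C]
    (q : Ideal C) [q.IsPrime] (p : Ideal R) [p.IsPrime] (hp : p = q.comap (algebraMap R C))
    [Algebra R A] [IsLocalization.AtPrime A p] [Algebra C O] [IsLocalization.AtPrime O q]
    [Algebra A O] [Algebra R O] [IsScalarTower R A O] [IsScalarTower R C O]
    [Algebra O B] [Algebra A B] [IsScalarTower A O B]
    [IsLocalRing A] [IsLocalRing O] [IsLocalRing B] [IsLocalHom (algebraMap A B)]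
    [Algebra.FormallySmooth A B] (hOB : Function.Surjective (algebraMap O B))
    {r : ℕ} (f : Fin r → O) (hreg : RingTheory.Sequence.IsWeaklyRegular O (List.ofFn f))
    (hker : RingHom.ker (algebraMap O B) = Ideal.span (Set.range f)) :
    Algebra.FormallySmooth A O := by
  obtain ⟨N, π, hπ⟩ := Algebra.FiniteType.iff_quotient_mvPolynomial''.mp
    (inferInstance : Algebra.FiniteType R C)
  let 𝔮 : Ideal (MvPolynomial (Fin N) R) := q.comap π.toRingHom
  haveI : 𝔮.IsPrime := Ideal.comap_isPrime _ _
  let g : MvPolynomial (Fin N) R →+* O := (algebraMap C O).comp π.toRingHom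
  have hg : ∀ y : 𝔮.primeCompl, IsUnit (g y) := fun y =>
    IsLocalization.map_units O (⟨π y, y.2⟩ : q.primeCompl)
  let φ : Localization.AtPrime 𝔮 →+* O := IsLocalization.lift hg
  have hφ : ∀ P : MvPolynomial (Fin N) R, φ (algebraMap _ (Localization.AtPrime 𝔮) P) =
      algebraMap C O (π P) := fun P => IsLocalization.lift_eq hg P
  letI : Algebra (Localization.AtPrime 𝔮) O := φ.toAlgebra
  haveI : IsScalarTower R (Localization.AtPrime 𝔮) O := by
    refine IsScalarTower.of_algebraMap_eq fun r => ?_
    show algebraMap R O r = φ (algebraMap R (Localization.AtPrime 𝔮) r)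
    rw [IsScalarTower.algebraMap_apply R (MvPolynomial (Fin N) R) (Localization.AtPrime 𝔮), hφ,
      IsScalarTower.algebraMap_apply R C O, AlgHom.commutes]
  have hsurj : Function.Surjective (algebraMap (Localization.AtPrime 𝔮) O) := by
    intro b
    obtain ⟨b₀, s, rfl⟩ := IsLocalization.exists_mk'_eq q.primeCompl b
    obtain ⟨P₀, rfl⟩ := hπ b₀
    obtain ⟨Q, hQ⟩ := hπ s.1
    have hQ𝔮 : Q ∈ 𝔮.primeCompl := by
      show Q ∉ 𝔮
      intro h
      have : π Q ∈ q := h
      rw [hQ] at this
      exact s.2 this
    refine ⟨IsLocalization.mk' (Localization.AtPrime 𝔮) P₀ (⟨Q, hQ𝔮⟩ : 𝔮.primeCompl), ?_⟩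
    show φ _ = _
    have hu : IsUnit (algebraMap C O s.1) := IsLocalization.map_units O s
    apply hu.mul_right_cancel
    rw [IsLocalization.mk'_spec, ← hQ, ← hφ Q, ← map_mul]
    have : IsLocalization.mk' (Localization.AtPrime 𝔮) P₀ (⟨Q, hQ𝔮⟩ : 𝔮.primeCompl) *
        algebraMap _ (Localization.AtPrime 𝔮) Q = algebraMap _ (Localization.AtPrime 𝔮) P₀ :=
      IsLocalization.mk'_spec (Localization.AtPrime 𝔮) P₀ (⟨Q, hQ𝔮⟩ : 𝔮.primeCompl)
    rw [this, hφ]
  have hM : ∀ r ∈ p.primeCompl, IsUnit (algebraMap R (Localization.AtPrime 𝔮) r) := by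
    intro r hr
    rw [IsScalarTower.algebraMap_apply R (MvPolynomial (Fin N) R) (Localization.AtPrime 𝔮)]
    have h1 : algebraMap R (MvPolynomial (Fin N) R) r ∈ 𝔮.primeCompl := by
      show algebraMap R (MvPolynomial (Fin N) R) r ∉ 𝔮
      intro h
      have h2 : π (algebraMap R (MvPolynomial (Fin N) R) r) ∈ q := h
      rw [AlgHom.commutes] at h2
      apply hr
      rw [hp]
      exact h2
    exact IsLocalization.map_units (Localization.AtPrime 𝔮)
      (⟨algebraMap R (MvPolynomial (Fin N) R) r, h1⟩ : 𝔮.primeCompl)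
  haveI : IsNoetherianRing (Localization.AtPrime 𝔮) :=
    IsLocalization.isNoetherianRing 𝔮.primeCompl _ inferInstance
  haveI : Algebra.FormallySmooth (MvPolynomial (Fin N) R) (Localization.AtPrime 𝔮) :=
    Algebra.FormallySmooth.of_isLocalization 𝔮.primeCompl
  haveI : Algebra.FormallySmooth R (Localization.AtPrime 𝔮) :=
    Algebra.FormallySmooth.comp R (MvPolynomial (Fin N) R) _
  letI : Algebra R B := ((algebraMap A B).comp (algebraMap R A)).toAlgebra
  haveI : IsScalarTower R A B := IsScalarTower.of_algebraMap_eq fun _ => rfl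
  letI : Algebra (Localization.AtPrime 𝔮) B :=
    ((algebraMap O B).comp (algebraMap (Localization.AtPrime 𝔮) O)).toAlgebra
  haveI : IsScalarTower (Localization.AtPrime 𝔮) O B := IsScalarTower.of_algebraMap_eq fun _ => rfl
  haveI : IsScalarTower R (Localization.AtPrime 𝔮) B := by
    refine IsScalarTower.of_algebraMap_eq fun r => ?_
    show algebraMap A B (algebraMap R A r) =
      algebraMap O B (algebraMap (Localization.AtPrime 𝔮) O
        (algebraMap R (Localization.AtPrime 𝔮) r))
    rw [← IsScalarTower.algebraMap_apply R (Localization.AtPrime 𝔮) O,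
      IsScalarTower.algebraMap_apply A O B, ← IsScalarTower.algebraMap_apply R A O]
  choose F hF using fun i => hsurj (f i)
  have hfF : (fun i => algebraMap (Localization.AtPrime 𝔮) O (F i)) = f := funext hF
  exact formallySmooth_of_regular_quotient (R := R) (T := Localization.AtPrime 𝔮) (A := A)
    (O := O) (B := B) p.primeCompl hM hsurj hOB F (by rw [hfF]; exact hreg)
    (by rw [hfF]; exact hker)

end Groth.Agent.Helper16.SmRegQuot
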