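import Mathlib
import Groth.Agent.Lib.Helper16.Alg.EtCoordS

/-!
# Adapted bases of differentials for a closed subscheme (helper16)
-/

set_option autoImplicit false
set_option linter.style.haveILetI false
universe u
open TensorProduct KaehlerDifferential IsLocalRing

namespace Groth.Agent.Helper16.SmSub

open Groth.Agent.Helper16.EtCoord

variable {A B : Type u} [CommRing A] [CommRing B] [Algebra A B]

set_option maxHeartbeats 1600000 in
/-- a basis of `Ω[B_q⁄A]` consisting of differentials of elements of `B`, the last `n` of which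
lie in a given subset `S` of `B` and whose reductions span the span of `dS` in
`κ(q) ⊗ Ω[B_q⁄A]`: for `f ∈ S` the coefficients of `df` on the first `m` basis vectors lie in the
maximal ideal. -/
theorem exists_basis_pair [Algebra.Smooth A B] (q : Ideal B) [q.IsPrime] (S : Set B) :
    ∃ (m n : ℕ) (c : ULift.{u} (Fin m ⊕ Fin n) → B), (∀ j : Fin n, c ⟨Sum.inr j⟩ ∈ S) ∧
      ∃ b : Module.Basis (ULift.{u} (Fin m ⊕ Fin n)) (Localization.AtPrime q)
        Ω[Localization.AtPrime q⁄A], (∀ i, b i = D A _ (algebraMap B _ (c i))) ∧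
        ∀ f ∈ S, ∀ j : Fin m, b.repr (D A (Localization.AtPrime q) (algebraMap B _ f))
          ⟨Sum.inl j⟩ ∈ maximalIdeal (Localization.AtPrime q) := by
  classical
  let L := Localization.AtPrime q
  let K := q.ResidueField
  let TS : Set (K ⊗[L] Ω[L⁄A]) := {t | ∃ f ∈ S, t = 1 ⊗ₜ D A L (algebraMap B _ f)}
  let T : Set (K ⊗[L] Ω[L⁄A]) := {t | ∃ f : B, t = 1 ⊗ₜ D A L (algebraMap B _ f)}
  have hTST : TS ⊆ T := fun t ⟨f, _, hf⟩ => ⟨f, hf⟩
  obtain ⟨bS, hbSTS, hspanS, hliS⟩ := exists_linearIndependent K TS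
  obtain ⟨b', hb'T, hbSb', hTb', hli'⟩ :=
    exists_linearIndepOn_id_extension (K := K) (s := bS) (t := T) hliS (hbSTS.trans hTST)
  have hli'' : LinearIndependent K ((↑) : b' → K ⊗[L] Ω[L⁄A]) := hli'
  have hspanb' : Submodule.span K b' = ⊤ := by
    rw [eq_top_iff, ← span_tmul_D (A := A) q]
    exact Submodule.span_le.mpr hTb'
  haveI : Finite b' := hli''.finite
  haveI : Finite bS := Finite.of_injective (fun i : bS => (⟨i.1, hbSb' i.2⟩ : b'))
    (fun i j hij => Subtype.ext (congrArg (fun z : b' => z.1) hij))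
  haveI : Finite ↥(b' \ bS) := Finite.of_injective (fun i : ↥(b' \ bS) => (⟨i.1, i.2.1⟩ : b'))
    (fun i j hij => Subtype.ext (congrArg (fun z : b' => z.1) hij))
  let n := Nat.card bS
  let m := Nat.card ↥(b' \ bS)
  let eS : bS ≃ Fin n := Finite.equivFin bS
  let eC : ↥(b' \ bS) ≃ Fin m := Finite.equivFin _
  let e : ULift.{u} (Fin m ⊕ Fin n) → b' := fun o =>
    Sum.elim (fun j => ⟨(eC.symm j).1, (eC.symm j).2.1⟩) (fun j => ⟨(eS.symm j).1, hbSb' (eS.symm j).2⟩)
      o.down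
  have he : Function.Injective e := by
    rintro ⟨i | i⟩ ⟨j | j⟩ hij
    · have h1 : (eC.symm i).1 = (eC.symm j).1 := congrArg (fun z : b' => z.1) hij
      have h2 : i = j := eC.symm.injective (Subtype.ext h1)
      rw [h2]
    · exfalso
      have h1 : (eC.symm i).1 = (eS.symm j).1 := congrArg (fun z : b' => z.1) hij
      exact (eC.symm i).2.2 (h1 ▸ (eS.symm j).2)
    · exfalso
      have h1 : (eS.symm i).1 = (eC.symm j).1 := congrArg (fun z : b' => z.1) hij
      exact (eC.symm j).2.2 (h1 ▸ (eS.symm i).2)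
    · have h1 : (eS.symm i).1 = (eS.symm j).1 := congrArg (fun z : b' => z.1) hij
      have h2 : i = j := eS.symm.injective (Subtype.ext h1)
      rw [h2]
  let w : ULift.{u} (Fin m ⊕ Fin n) → K ⊗[L] Ω[L⁄A] := fun o => (e o).1
  have hwli : LinearIndependent K w := hli''.comp e he
  have hwrange : Set.range w = b' := by
    ext t
    constructor
    · rintro ⟨o, rfl⟩; exact (e o).2
    · intro ht
      by_cases hS : t ∈ bS
      · refine ⟨⟨Sum.inr (eS ⟨t, hS⟩)⟩, ?_⟩
        show (eS.symm (eS ⟨t, hS⟩)).1 = t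
        rw [Equiv.symm_apply_apply]
      · refine ⟨⟨Sum.inl (eC ⟨t, ht, hS⟩)⟩, ?_⟩
        show (eC.symm (eC ⟨t, ht, hS⟩)).1 = t
        rw [Equiv.symm_apply_apply]
  have hwspan : Submodule.span K (Set.range w) = ⊤ := by rw [hwrange, hspanb']
  have hwS : w '' {o | ∃ j : Fin n, o = ⟨Sum.inr j⟩} = bS := by
    ext t
    constructor
    · rintro ⟨_, ⟨j, rfl⟩, rfl⟩; exact (eS.symm j).2
    · intro ht
      refine ⟨⟨Sum.inr (eS ⟨t, ht⟩)⟩, ⟨_, rfl⟩, ?_⟩
      show (eS.symm (eS ⟨t, ht⟩)).1 = t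
      rw [Equiv.symm_apply_apply]
  have hex : ∀ o : ULift.{u} (Fin m ⊕ Fin n), ∃ f : B,
      ((∃ j : Fin n, o = ⟨Sum.inr j⟩) → f ∈ S) ∧ w o = 1 ⊗ₜ D A L (algebraMap B L f) := by
    rintro ⟨j | j⟩
    · obtain ⟨f, hf⟩ := hb'T (e ⟨Sum.inl j⟩).2
      refine ⟨f, ?_, hf⟩
      rintro ⟨j', hj'⟩
      cases hj'
    · obtain ⟨f, hfS, hf⟩ := hbSTS (eS.symm j).2
      exact ⟨f, fun _ => hfS, hf⟩
  let c : ULift.{u} (Fin m ⊕ Fin n) → B := fun o => (hex o).choose
  have hcS : ∀ j : Fin n, c ⟨Sum.inr j⟩ ∈ S := fun j => (hex _).choose_spec.1 ⟨j, rfl⟩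
  have hc : ∀ o, w o = (1 : K) ⊗ₜ[L] D A L (algebraMap B L (c o)) := fun o =>
    (hex o).choose_spec.2
  let v : ULift.{u} (Fin m ⊕ Fin n) → Ω[L⁄A] := fun o => D A L (algebraMap B L (c o))
  have hv : ∀ o, (1 : K) ⊗ₜ[L] v o = w o := fun o => (hc o).symm
  let bK : Module.Basis (ULift.{u} (Fin m ⊕ Fin n)) K (K ⊗[L] Ω[L⁄A]) :=
    Module.Basis.mk hwli hwspan.ge
  have hbK : ∀ o, bK o = w o := fun o => Module.Basis.mk_apply _ _ o
  have hLI : LinearIndependent L v := Module.IsLocalRing.linearIndependent_of_flat v (by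
    have hfun : (TensorProduct.mk L K Ω[L⁄A] 1 ∘ v) = w := funext hv
    rw [hfun]
    exact hwli)
  have hsp : Submodule.span L (Set.range v) = ⊤ :=
    IsLocalRing.span_eq_top_of_tmul_eq_basis v bK (fun i => by
      rw [hv, Module.Basis.mk_apply])
  let bL : Module.Basis (ULift.{u} (Fin m ⊕ Fin n)) L Ω[L⁄A] := Module.Basis.mk hLI hsp.ge
  have hbL : ∀ o, bL o = v o := fun o => Module.Basis.mk_apply _ _ o
  refine ⟨m, n, c, hcS, bL, hbL, ?_⟩
  intro f hf j
  -- the reduction of `df`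
  have hmem : (1 : K) ⊗ₜ[L] D A L (algebraMap B L f) ∈
      Submodule.span K (bK '' {o | ∃ j : Fin n, o = ⟨Sum.inr j⟩}) := by
    have h1 : (1 : K) ⊗ₜ[L] D A L (algebraMap B L f) ∈ Submodule.span K TS :=
      Submodule.subset_span ⟨f, hf, rfl⟩
    rw [← hspanS, ← hwS] at h1
    have h2 : bK '' {o | ∃ j : Fin n, o = ⟨Sum.inr j⟩} = w '' {o | ∃ j : Fin n, o = ⟨Sum.inr j⟩} :=
      Set.image_congr fun o _ => hbK o
    rw [h2]
    exact h1
  have hsupp := bK.repr_support_subset_of_mem_span _ hmem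
  have hzero : bK.repr ((1 : K) ⊗ₜ[L] D A L (algebraMap B L f)) ⟨Sum.inl j⟩ = 0 := by
    by_contra hne
    have := hsupp (Finsupp.mem_support_iff.mpr hne)
    obtain ⟨j', hj'⟩ := this
    cases hj'
  -- compare with the `L`-coordinates
  have hrepr : ∀ ω : Ω[L⁄A], ∀ o, bK.repr ((1 : K) ⊗ₜ[L] ω) o = algebraMap L K (bL.repr ω o) := by
    intro ω o
    have h1 : (1 : K) ⊗ₜ[L] ω = ∑ i, algebraMap L K (bL.repr ω i) • bK i := by
      conv_lhs => rw [← bL.sum_repr ω, TensorProduct.tmul_sum]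
      refine Finset.sum_congr rfl fun i _ => ?_
      rw [hbK, ← hv, hbL, TensorProduct.tmul_smul, TensorProduct.smul_tmul', TensorProduct.smul_tmul',
        Algebra.smul_def, mul_one, smul_eq_mul, mul_one]
    rw [h1, bK.repr_sum_self]
  rw [hrepr] at hzero
  rw [← IsLocalRing.residue_eq_zero_iff]
  exact hzero

end Groth.Agent.Helper16.SmSub
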