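import Mathlib

/-!
# Elements of the ideal of a formally smooth quotient with small differential (helper16)
-/

set_option autoImplicit false
set_option linter.style.haveILetI false
universe u
open TensorProduct KaehlerDifferential IsLocalRing

namespace Groth.Agent.Helper16.SmSub

set_option maxHeartbeats 800000 in
/-- Let `L` be a local ring formally smooth over `R` and `𝔞` a proper ideal with `L ⧸ 𝔞` formally
smooth over `R`.  If `h ∈ 𝔞` and `dh ∈ 𝔪 Ω[L⁄R]` then `h ∈ 𝔪 𝔞`. -/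
theorem mem_mul_of_D_mem (R L : Type u) [CommRing R] [CommRing L] [IsLocalRing L] [Algebra R L]
    [Algebra.FormallySmooth R L] (𝔞 : Ideal L) [Algebra.FormallySmooth R (L ⧸ 𝔞)]
    (h𝔞 : 𝔞 ≤ maximalIdeal L) (h : L) (hh : h ∈ 𝔞)
    (hD : D R L h ∈ (maximalIdeal L) • (⊤ : Submodule L Ω[L⁄R])) :
    h ∈ maximalIdeal L * 𝔞 := by
  have hker : RingHom.ker (algebraMap L (L ⧸ 𝔞)) = 𝔞 := by
    rw [Ideal.Quotient.algebraMap_eq, Ideal.mk_ker]
  have hh' : h ∈ RingHom.ker (algebraMap L (L ⧸ 𝔞)) := by rw [hker]; exact hh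
  set 𝔟 := RingHom.ker (algebraMap L (L ⧸ 𝔞)) with h𝔟
  obtain ⟨l, hl⟩ := (Algebra.FormallySmooth.iff_split_injection (R := R) (P := L) (A := L ⧸ 𝔞)
    Ideal.Quotient.mk_surjective).mp inferInstance
  -- the class of `h` in the cotangent space
  have h1 : kerCotangentToTensor R L (L ⧸ 𝔞) (𝔟.toCotangent ⟨h, hh'⟩) = 1 ⊗ₜ D R L h :=
    kerCotangentToTensor_toCotangent R L (L ⧸ 𝔞) ⟨h, hh'⟩
  have h2 : (1 : L ⧸ 𝔞) ⊗ₜ[L] D R L h ∈
      (maximalIdeal L) • (⊤ : Submodule L ((L ⧸ 𝔞) ⊗[L] Ω[L⁄R])) := by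
    have : (TensorProduct.mk L (L ⧸ 𝔞) Ω[L⁄R] 1) (D R L h) ∈
        Submodule.map (TensorProduct.mk L (L ⧸ 𝔞) Ω[L⁄R] 1)
          ((maximalIdeal L) • (⊤ : Submodule L Ω[L⁄R])) := Submodule.mem_map_of_mem hD
    rw [Submodule.map_smul''] at this
    exact Submodule.smul_mono le_rfl le_top this
  have h3 : 𝔟.toCotangent ⟨h, hh'⟩ ∈ (maximalIdeal L) • (⊤ : Submodule L 𝔟.Cotangent) := by
    have e1 : 𝔟.toCotangent ⟨h, hh'⟩ = l (kerCotangentToTensor R L (L ⧸ 𝔞) (𝔟.toCotangent ⟨h, hh'⟩)) :=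
      (LinearMap.congr_fun hl (𝔟.toCotangent ⟨h, hh'⟩)).symm
    rw [e1, h1]
    have : l ((1 : L ⧸ 𝔞) ⊗ₜ[L] D R L h) ∈ Submodule.map l
        ((maximalIdeal L) • (⊤ : Submodule L ((L ⧸ 𝔞) ⊗[L] Ω[L⁄R]))) := Submodule.mem_map_of_mem h2
    rw [Submodule.map_smul''] at this
    exact Submodule.smul_mono le_rfl le_top this
  -- lift to `𝔟`
  have h4 : (⊤ : Submodule L 𝔟.Cotangent) = Submodule.map 𝔟.toCotangent ⊤ := by
    rw [Submodule.map_top, LinearMap.range_eq_top.mpr (Ideal.toCotangent_surjective 𝔟)]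
  rw [h4, ← Submodule.map_smul''] at h3
  obtain ⟨y, hy, hyx⟩ := h3
  have h5 : (y : L) ∈ maximalIdeal L * 𝔟 := by
    have : 𝔟.subtype y ∈ Submodule.map (Submodule.subtype 𝔟)
        ((maximalIdeal L) • (⊤ : Submodule L 𝔟)) := Submodule.mem_map_of_mem hy
    rw [Submodule.map_smul'', Submodule.map_subtype_top] at this
    exact this
  have h6 : (y : L) - h ∈ 𝔟 ^ 2 := by
    have := (Ideal.toCotangent_eq (I := 𝔟) (x := y) (y := ⟨h, hh'⟩)).mp hyx
    exact this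
  have h7 : 𝔟 ^ 2 ≤ maximalIdeal L * 𝔟 := by
    rw [pow_two]
    exact Ideal.mul_mono_left (hker.le.trans h𝔞)
  have h8 : h = (y : L) - ((y : L) - h) := by ring
  rw [← hker, h8]
  exact Ideal.sub_mem _ h5 (h7 h6)

end Groth.Agent.Helper16.SmSub
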