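import Mathlib
import Groth.Agent.Lib.Helper16.Alg.SmSubA
import Groth.Agent.Lib.Helper16.Alg.SmSubB

/-!
# Étale coordinates adapted to a smooth closed subscheme (ring level, helper16)
-/

set_option autoImplicit false
set_option linter.style.haveILetI false
universe u
open TensorProduct KaehlerDifferential IsLocalRing

namespace Groth.Agent.Helper16.SmSub

open Groth.Agent.Helper16.EtCoord

set_option maxHeartbeats 3200000 in
set_option synthInstance.maxHeartbeats 400000 in
/-- Let `A` be smooth over `R`, `ψ : A → Ā` a surjection onto a smooth `R`-algebra with kernel `I`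
and `q ⊇ I` a prime.  Near `q` there are étale coordinates `c : Fin m ⊕ Fin n → A` the last `n` of
which generate `I`. -/
theorem exists_coords {R A Ā : Type u} [CommRing R] [CommRing A] [CommRing Ā] [Algebra R A]
    [Algebra R Ā] [Algebra.Smooth R A] [Algebra.Smooth R Ā] (ψ : A →ₐ[R] Ā)
    (hψ : Function.Surjective ψ) (q : Ideal A) [q.IsPrime]
    (hq : RingHom.ker ψ.toRingHom ≤ q) :
    ∃ (m n : ℕ) (c : ULift.{u} (Fin m ⊕ Fin n) → A) (g : A), g ∉ q ∧
      (∀ j : Fin n, ψ (c ⟨Sum.inr j⟩) = 0) ∧
      (∀ f, ψ f = 0 → g * f ∈ Ideal.span (Set.range fun j : Fin n => c ⟨Sum.inr j⟩)) ∧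
      ∀ (A' : Type u) [CommRing A'] [Algebra A A'] [IsLocalization.Away g A'],
        ((algebraMap A A').comp (MvPolynomial.eval₂Hom (algebraMap R A) c)).Etale := by
  classical
  set I : Ideal A := RingHom.ker ψ.toRingHom with hI
  obtain ⟨m, n, c, hcS, b, hb, hrepr⟩ := exists_basis_pair (A := R) (B := A) q (I : Set A)
  set J : Ideal A := Ideal.span (Set.range fun j : Fin n => c ⟨Sum.inr j⟩) with hJ
  have hcJ : ∀ j : Fin n, c ⟨Sum.inr j⟩ ∈ J := fun j => Ideal.subset_span ⟨j, rfl⟩
  -- formal smoothness of `L ⧸ I L`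
  haveI : Algebra.FormallySmooth R (A ⧸ I) :=
    Algebra.FormallySmooth.of_equiv (Ideal.quotientKerAlgEquivOfSurjective hψ).symm
  haveI : Algebra.FormallySmooth (A ⧸ I)
      (Localization.AtPrime q ⧸ I.map (algebraMap A (Localization.AtPrime q))) :=
    Algebra.FormallySmooth.of_isLocalization (Algebra.algebraMapSubmonoid (A ⧸ I) q.primeCompl)
  haveI : IsScalarTower R (A ⧸ I)
      (Localization.AtPrime q ⧸ I.map (algebraMap A (Localization.AtPrime q))) :=
    IsScalarTower.of_algebraMap_eq fun r => by
      rw [IsScalarTower.algebraMap_apply R (Localization.AtPrime q)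
        (Localization.AtPrime q ⧸ I.map (algebraMap A (Localization.AtPrime q))),
        IsScalarTower.algebraMap_apply R A (Localization.AtPrime q),
        IsScalarTower.algebraMap_apply R A (A ⧸ I)]
      rfl
  haveI : Algebra.FormallySmooth R
      (Localization.AtPrime q ⧸ I.map (algebraMap A (Localization.AtPrime q))) :=
    Algebra.FormallySmooth.comp R (A ⧸ I) _
  have hIL : I.map (algebraMap A (Localization.AtPrime q)) ≤
      maximalIdeal (Localization.AtPrime q) := by
    rw [← IsLocalization.AtPrime.map_eq_maximalIdeal q (Localization.AtPrime q)]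
    exact Ideal.map_mono hq
  -- the key membership
  have key : ∀ f ∈ I, algebraMap A (Localization.AtPrime q) f ∈
      J.map (algebraMap A (Localization.AtPrime q)) ⊔
        maximalIdeal (Localization.AtPrime q) * I.map (algebraMap A (Localization.AtPrime q)) := by
    intro f hf
    set L := Localization.AtPrime q with hL
    set lam := b.repr (D R L (algebraMap A L f)) with hlam
    let μ : ULift.{u} (Fin m ⊕ Fin n) → L := fun o =>
      Sum.elim (fun _ => 0) (fun j => lam ⟨Sum.inr j⟩) o.down
    have hμc : ∀ o, μ o * algebraMap A L (c o) ∈ J.map (algebraMap A L) := by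
      rintro ⟨i | j⟩
      · show (0 : L) * _ ∈ _
        rw [zero_mul]; exact Ideal.zero_mem _
      · exact Ideal.mul_mem_left _ _ (Ideal.mem_map_of_mem _ (hcJ j))
    have hJIL : J.map (algebraMap A L) ≤ I.map (algebraMap A L) :=
      Ideal.map_mono (Ideal.span_le.mpr (by rintro _ ⟨j, rfl⟩; exact hcS j))
    let h : L := algebraMap A L f - ∑ o, μ o * algebraMap A L (c o)
    have hhI : h ∈ I.map (algebraMap A L) :=
      Ideal.sub_mem _ (Ideal.mem_map_of_mem _ hf) (Ideal.sum_mem _ fun o _ => hJIL (hμc o))
    have hDh : D R L h ∈ (maximalIdeal L) • (⊤ : Submodule L Ω[L⁄R]) := by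
      have e1 : D R L h = ∑ o, ((lam o - μ o) • b o - algebraMap A L (c o) • D R L (μ o)) := by
        show D R L (algebraMap A L f - ∑ o, μ o * algebraMap A L (c o)) = _
        rw [map_sub, map_sum]
        conv_lhs => rw [← b.sum_repr (D R L (algebraMap A L f))]
        rw [← Finset.sum_sub_distrib]
        refine Finset.sum_congr rfl fun o _ => ?_
        rw [Derivation.leibniz, hb o, sub_smul]
        abel
      rw [e1]
      refine Submodule.sum_mem _ fun o _ => Submodule.sub_mem _ ?_ ?_
      · refine Submodule.smul_mem_smul ?_ trivial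
        rcases o with ⟨i | j⟩
        · show lam ⟨Sum.inl i⟩ - 0 ∈ _
          rw [sub_zero]
          exact hrepr f hf i
        · show lam ⟨Sum.inr j⟩ - lam ⟨Sum.inr j⟩ ∈ _
          rw [sub_self]; exact Ideal.zero_mem _
      · rcases o with ⟨i | j⟩
        · show _ • D R L (0 : L) ∈ _
          rw [map_zero, smul_zero]; exact Submodule.zero_mem _
        · exact Submodule.smul_mem_smul (hIL (Ideal.mem_map_of_mem _ (hcS j))) trivial
    have hmem := mem_mul_of_D_mem R L (I.map (algebraMap A L)) hIL h hhI hDh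
    have e2 : algebraMap A L f = ∑ o, μ o * algebraMap A L (c o) + h := by
      show _ = _ + (algebraMap A L f - ∑ o, μ o * algebraMap A L (c o))
      ring
    rw [e2]
    exact Ideal.add_mem _ (Ideal.mem_sup_left (Ideal.sum_mem _ fun o _ => hμc o))
      (Ideal.mem_sup_right hmem)
  -- Nakayama
  haveI : Algebra.FinitePresentation R A := inferInstance
  haveI : Algebra.FinitePresentation R Ā := inferInstance
  have hfgI : I.FG := Algebra.FinitePresentation.ker_fG_of_surjective ψ hψ
  have hle : I.map (algebraMap A (Localization.AtPrime q)) ≤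
      J.map (algebraMap A (Localization.AtPrime q)) := by
    refine Submodule.le_of_le_smul_of_le_jacobson_bot (hfgI.map _)
      (IsLocalRing.maximalIdeal_le_jacobson _) ?_
    rw [Ideal.map_le_iff_le_comap]
    intro f hf
    exact key f hf
  -- spreading out
  have hs : ∀ f ∈ I, ∃ s : A, s ∉ q ∧ s * f ∈ J := by
    intro f hf
    have h1 : algebraMap A (Localization.AtPrime q) f ∈
        J.map (algebraMap A (Localization.AtPrime q)) := hle (Ideal.mem_map_of_mem _ hf)
    rw [IsLocalization.algebraMap_mem_map_algebraMap_iff q.primeCompl] at h1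
    obtain ⟨s, hs, hsf⟩ := h1
    exact ⟨s, hs, hsf⟩
  obtain ⟨G, hG⟩ := hfgI
  choose! s hsq hsJ using hs
  let g₂ : A := ∏ x ∈ G, s x
  have hGI : ∀ x ∈ G, x ∈ I := fun x hx => hG ▸ Ideal.subset_span hx
  have hg₂q : g₂ ∉ q := by
    intro hmem
    obtain ⟨x, hx, hxq⟩ := (Ideal.IsPrime.prod_mem_iff).mp hmem
    exact hsq x (hGI x hx) hxq
  have hg₂ : ∀ f ∈ I, g₂ * f ∈ J := by
    intro f hf
    have hsub : I ≤ Submodule.comap (LinearMap.mulLeft A g₂) J := by
      rw [← hG, Ideal.span_le]
      intro x hx
      show g₂ * x ∈ J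
      obtain ⟨d, hd⟩ := Finset.dvd_prod_of_mem s hx
      have : g₂ * x = d * (s x * x) := by
        show (∏ x ∈ G, s x) * x = _
        rw [hd]; ring
      rw [this]
      exact Ideal.mul_mem_left _ _ (hsJ x (hGI x hx))
    exact hsub hf
  -- étale locus
  let P := MvPolynomial (ULift.{u} (Fin m ⊕ Fin n)) R
  letI : Algebra P A := (MvPolynomial.aeval c).toAlgebra
  haveI : IsScalarTower R P A := IsScalarTower.of_algebraMap_eq' (by
    ext a
    show algebraMap R A a = MvPolynomial.aeval c (algebraMap R P a)
    rw [AlgHom.commutes])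
  have hcX : ∀ i, algebraMap P A (MvPolynomial.X i) = c i := fun i => MvPolynomial.aeval_X c i
  haveI : Algebra.IsEtaleAt P q := isEtaleAt_of_basis q c b hb hcX
  haveI : Algebra.FinitePresentation P A :=
    Algebra.FinitePresentation.of_restrict_scalars_finitePresentation R P A
  obtain ⟨_, ⟨_, ⟨g₁, rfl⟩, rfl⟩, hg₁q, hg₁⟩ :=
    PrimeSpectrum.isBasis_basic_opens.exists_subset_of_mem_open
      (show (⟨q, inferInstance⟩ : PrimeSpectrum A) ∈ Algebra.etaleLocus P A by
        show Algebra.IsEtaleAt P q
        infer_instance) Algebra.isOpen_etaleLocus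
  refine ⟨m, n, c, g₁ * g₂, fun hmem => (‹q.IsPrime›.mem_or_mem hmem).elim hg₁q hg₂q, hcS, ?_, ?_⟩
  · intro f hf
    rw [mul_assoc]
    exact Ideal.mul_mem_left _ _ (hg₂ f hf)
  · intro A' _ _ _
    have hsub : (PrimeSpectrum.basicOpen (g₁ * g₂) : Set (PrimeSpectrum A)) ⊆
        Algebra.etaleLocus P A := by
      refine subset_trans ?_ hg₁
      rw [PrimeSpectrum.basicOpen_mul]
      exact Set.inter_subset_left
    haveI : Algebra.Etale P (Localization.Away (g₁ * g₂)) :=
      Algebra.basicOpen_subset_etaleLocus_iff_etale.mp hsub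
    letI : Algebra P A' := ((algebraMap A A').comp (algebraMap P A)).toAlgebra
    haveI : IsScalarTower P A A' := IsScalarTower.of_algebraMap_eq' rfl
    let e : Localization.Away (g₁ * g₂) ≃ₐ[A] A' :=
      IsLocalization.algEquiv (Submonoid.powers (g₁ * g₂)) _ _
    haveI : Algebra.Etale P A' := Algebra.Etale.of_equiv (e.restrictScalars P)
    have : (MvPolynomial.eval₂Hom (algebraMap R A) c : P →+* A) = algebraMap P A := by
      apply MvPolynomial.ringHom_ext
      · intro a
        rw [MvPolynomial.coe_eval₂Hom, MvPolynomial.eval₂_C]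
        show _ = MvPolynomial.aeval c (MvPolynomial.C a)
        rw [MvPolynomial.aeval_C]
      · intro i
        rw [MvPolynomial.coe_eval₂Hom, MvPolynomial.eval₂_X, hcX]
    rw [this]
    show Algebra.Etale P A'
    infer_instance

end Groth.Agent.Helper16.SmSub
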