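import Mathlib
import Groth.Agent.Lib.Helper16.Alg.SmSubC
import Groth.Agent.Lib.Helper28.RegSection

/-!
# The ideal of a smooth closed subscheme of a smooth scheme is locally generated by a regular
sequence (ring level, helper16)
-/

set_option autoImplicit false
set_option linter.style.haveILetI false
set_option linter.unusedSectionVars false
universe u
open TensorProduct IsLocalRing

namespace Groth.Agent.Helper16.SmRegQuot

open MvPolynomial in
/-- the ring hom `R[Y₁..Yₙ] → R[X_{m+n}]`, `Y_j ↦ X_{inr j}` is flat, as a composite -/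
theorem flat_inrHom (R : Type u) [CommRing R] (m n : ℕ) :
    ∃ θ : MvPolynomial (Fin n) R →+* MvPolynomial (ULift.{u} (Fin m ⊕ Fin n)) R,
      θ.Flat ∧ ∀ j : Fin n, θ (X j) = X (ULift.up (Sum.inr j)) := by
  let θ₁ : MvPolynomial (Fin n) R →+* MvPolynomial (Fin m) (MvPolynomial (Fin n) R) :=
    algebraMap _ _
  have h₁ : θ₁.Flat := RingHom.flat_algebraMap_iff.mpr inferInstance
  let e₂ : MvPolynomial (Fin m) (MvPolynomial (Fin n) R) ≃+*
      MvPolynomial (Fin m ⊕ Fin n) R := (sumAlgEquiv R (Fin m) (Fin n)).symm.toRingEquiv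
  let e₃ : MvPolynomial (Fin m ⊕ Fin n) R ≃+* MvPolynomial (ULift.{u} (Fin m ⊕ Fin n)) R :=
    (renameEquiv R Equiv.ulift.symm).toRingEquiv
  refine ⟨(e₃.toRingHom.comp e₂.toRingHom).comp θ₁, ?_, ?_⟩
  · exact h₁.comp ((RingHom.Flat.of_bijective e₂.bijective).comp
      (RingHom.Flat.of_bijective e₃.bijective))
  · intro j
    show e₃ (e₂ (algebraMap _ _ (X j))) = _
    rw [MvPolynomial.algebraMap_eq]
    show (renameEquiv R Equiv.ulift.symm) ((sumAlgEquiv R (Fin m) (Fin n)).symm (C (X j))) = _
    rw [sumAlgEquiv_symm_C_X, renameEquiv_apply, rename_X]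
    rfl

set_option maxHeartbeats 1600000 in
set_option synthInstance.maxHeartbeats 400000 in
theorem exists_regular_of_smooth {R C C' O : Type u} [CommRing R] [CommRing C] [CommRing C']
    [CommRing O] [Algebra R C] [Algebra R C'] [Algebra.Smooth R C] [Algebra.Smooth R C']
    (ψ : C →ₐ[R] C') (hψ : Function.Surjective ψ) (q : Ideal C) [q.IsPrime]
    (hq : RingHom.ker ψ.toRingHom ≤ q) [Algebra C O] [IsLocalization.AtPrime O q] :
    ∃ rs : List O, RingTheory.Sequence.IsRegular O rs ∧
      Ideal.ofList rs = (RingHom.ker ψ.toRingHom).map (algebraMap C O) := by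
  classical
  haveI : IsLocalRing O := IsLocalization.AtPrime.isLocalRing O q
  obtain ⟨m, n, c, g, hg, hcψ, hgen, Het⟩ :=
    Groth.Agent.Helper16.SmSub.exists_coords ψ hψ q hq
  have hgu : IsUnit (algebraMap C O g) := IsLocalization.map_units O (⟨g, hg⟩ : q.primeCompl)
  -- flatness of `R[X] → O`
  have hflat4 : ((algebraMap C O).comp (MvPolynomial.eval₂Hom (algebraMap R C) c)).Flat := by
    let lam : Localization.Away g →+* O := IsLocalization.Away.lift g hgu
    have hlam : lam.comp (algebraMap C (Localization.Away g)) = algebraMap C O :=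
      IsLocalization.Away.lift_comp g hgu
    have hlamflat : lam.Flat := by
      letI : Algebra (Localization.Away g) O := lam.toAlgebra
      haveI : IsScalarTower C (Localization.Away g) O :=
        IsScalarTower.of_algebraMap_eq fun a => (RingHom.congr_fun hlam a).symm
      have hle : Submonoid.powers g ≤ q.primeCompl := by
        rintro _ ⟨k, rfl⟩
        exact q.primeCompl.pow_mem hg k
      haveI : IsLocalization (q.primeCompl.map (algebraMap C (Localization.Away g))) O :=
        IsLocalization.isLocalization_of_submonoid_le (Localization.Away g) O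
          (Submonoid.powers g) q.primeCompl hle
      exact RingHom.flat_algebraMap_iff.mpr
        (IsLocalization.flat O (q.primeCompl.map (algebraMap C (Localization.Away g))))
    have h1 := (RingHom.Etale.iff_flat_and_formallyUnramified.mp (Het (Localization.Away g))).1
    have h2 := h1.comp hlamflat
    rwa [← RingHom.comp_assoc, hlam] at h2
  obtain ⟨θ₀, hθ₀flat, hθ₀X⟩ := flat_inrHom R m n
  have hθflat := hθ₀flat.comp hflat4
  letI : Algebra (MvPolynomial (Fin n) R) O :=
    (((algebraMap C O).comp (MvPolynomial.eval₂Hom (algebraMap R C) c)).comp θ₀).toAlgebra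
  haveI : Module.Flat (MvPolynomial (Fin n) R) O := hθflat
  have hX : ∀ j : Fin n, algebraMap (MvPolynomial (Fin n) R) O (MvPolynomial.X j) =
      algebraMap C O (c ⟨Sum.inr j⟩) := by
    intro j
    show (algebraMap C O) (MvPolynomial.eval₂Hom (algebraMap R C) c (θ₀ (MvPolynomial.X j))) = _
    rw [hθ₀X, MvPolynomial.eval₂Hom_X']
  have hw := (Groth.Agent.Helper28.RegSection.isWeaklyRegular_X R n).of_flat
    (S := O)
  rw [List.map_ofFn] at hw
  have hfun : (algebraMap (MvPolynomial (Fin n) R) O ∘
      (MvPolynomial.X : Fin n → MvPolynomial (Fin n) R)) =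
      fun j => algebraMap C O (c ⟨Sum.inr j⟩) := funext hX
  rw [hfun] at hw
  -- the ideal
  have hideal : Ideal.ofList (List.ofFn fun j : Fin n => algebraMap C O (c ⟨Sum.inr j⟩)) =
      (RingHom.ker ψ.toRingHom).map (algebraMap C O) := by
    have hset : {r | r ∈ List.ofFn fun j : Fin n => algebraMap C O (c ⟨Sum.inr j⟩)} =
        Set.range fun j : Fin n => algebraMap C O (c ⟨Sum.inr j⟩) := by
      ext r
      simp only [Set.mem_ofPred_eq, List.mem_ofFn, Set.mem_range]
    rw [Ideal.ofList, hset]
    apply le_antisymm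
    · rw [Ideal.span_le]
      rintro _ ⟨j, rfl⟩
      exact Ideal.mem_map_of_mem _ (hcψ j)
    · rw [Ideal.map_le_iff_le_comap]
      intro f hf
      have h1 := hgen f hf
      have h2 : algebraMap C O (g * f) ∈
          (Ideal.span (Set.range fun j : Fin n => c ⟨Sum.inr j⟩)).map (algebraMap C O) :=
        Ideal.mem_map_of_mem _ h1
      rw [Ideal.map_span, ← Set.range_comp, map_mul] at h2
      have h3 := Ideal.mul_mem_left _ (↑hgu.unit⁻¹ : O) h2
      rw [← mul_assoc, IsUnit.val_inv_mul, one_mul] at h3
      exact h3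
  refine ⟨_, ⟨hw, ?_⟩, hideal⟩
  rw [hideal, smul_eq_mul, Ideal.mul_top]
  intro htop
  have hle : (RingHom.ker ψ.toRingHom).map (algebraMap C O) ≤ maximalIdeal O := by
    rw [← IsLocalization.AtPrime.map_eq_maximalIdeal q O]
    exact Ideal.map_mono hq
  rw [← htop] at hle
  exact (maximalIdeal.isMaximal O).ne_top (top_le_iff.mp hle)

end Groth.Agent.Helper16.SmRegQuot
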