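import Groth.Agent.Lib.Helper16.Alg.EtFT
import Mathlib.AlgebraicGeometry.Morphisms.Etale
import Mathlib.AlgebraicGeometry.Morphisms.Flat
import Mathlib.AlgebraicGeometry.Morphisms.UniversallyOpen
import Mathlib.AlgebraicGeometry.Morphisms.FiniteType
import Mathlib.AlgebraicGeometry.Morphisms.FormallyUnramified

/-!
# Properties of morphisms of schemes étale local on the source
-/

set_option autoImplicit false
universe u
open CategoryTheory CategoryTheory.Limits AlgebraicGeometry MorphismProperty

namespace Groth.Agent.Helper16.Alg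

/-- the general reduction: a property given by a local property of ring maps descends on the
source along étale surjective morphisms as soon as the ring property does along étale faithfully
flat ring maps. -/
theorem of_comp_etale_surjective {P : MorphismProperty Scheme.{u}}
    {Q : ∀ {R S : Type u} [CommRing R] [CommRing S], (R →+* S) → Prop}
    [HasRingHomProperty P Q]
    (hQ : ∀ {R A B : Type u} [CommRing R] [CommRing A] [CommRing B] (f : R →+* A) (g : A →+* B),
      g.Etale → g.FaithfullyFlat → Q (g.comp f) → Q f)
    {U' U V : Scheme.{u}} (e : U' ⟶ U) (h : U ⟶ V) [Etale e] [Surjective e]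
    (hP : P (e ≫ h)) : P h := by
  wlog hV : ∃ R, V = Spec R generalizing U' U V
  · rw [IsZariskiLocalAtTarget.iff_of_openCover (P := P) V.affineCover]
    intro i
    dsimp only [Scheme.Cover.pullbackHom]
    let j := pullback.fst h (V.affineCover.f i)
    refine this (pullback.snd e j) (pullback.snd h (V.affineCover.f i)) ?_ ⟨_, rfl⟩
    have sq : IsPullback (pullback.fst e j ≫ 𝟙 _) (pullback.snd e j ≫ pullback.snd h _)
        (e ≫ h) (V.affineCover.f i) := by
      rw [Category.comp_id]
      exact (IsPullback.of_hasPullback e j).paste_vert (IsPullback.of_hasPullback h _)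
    rw [Category.comp_id] at sq
    exact IsZariskiLocalAtTarget.of_isPullback (P := P) (iY := V.affineCover.f i) sq hP
  obtain ⟨R, rfl⟩ := hV
  wlog hU : ∃ A, U = Spec A generalizing U' U
  · rw [IsZariskiLocalAtSource.iff_of_openCover (P := P) U.affineCover]
    intro i
    refine this (pullback.snd e (U.affineCover.f i)) (U.affineCover.f i ≫ h) ?_ ⟨_, rfl⟩
    rw [← Category.assoc, ← pullback.condition, Category.assoc]
    exact IsZariskiLocalAtSource.comp (P := P) hP _
  obtain ⟨A, rfl⟩ := hU
  -- a finite affine refinement of `U'`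
  let 𝒰 := U'.affineCover
  have hopen : ∀ x : U', IsOpen (Set.range (𝒰.f x ≫ e)) := fun x =>
    (𝒰.f x ≫ e).isOpenMap.isOpen_range
  have hcover : (Set.univ : Set (Spec A)) ⊆ ⋃ x : U', Set.range (𝒰.f x ≫ e) := by
    intro v _
    obtain ⟨v', rfl⟩ := e.surjective v
    obtain ⟨y, hy⟩ := 𝒰.covers v'
    exact Set.mem_iUnion.2 ⟨_, ⟨y, by rw [Scheme.Hom.comp_apply, hy]⟩⟩
  obtain ⟨t, ht⟩ := isCompact_univ.elim_finite_subcover _ hopen hcover
  let g : t → Scheme.{u} := fun x => 𝒰.X x.1
  let φ : ∐ g ⟶ Spec A := Sigma.desc (fun x : t => 𝒰.f x.1 ≫ e)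
  haveI : ∀ x : t, IsAffine (g x) := fun x => inferInstanceAs (IsAffine (𝒰.X x.1))
  haveI : IsAffine (∐ g) := inferInstance
  haveI : Etale φ := IsZariskiLocalAtSource.sigmaDesc (fun x => inferInstance)
  haveI : Surjective φ := by
    apply Surjective.sigmaDesc_of_union_range_eq_univ
    rw [Set.eq_univ_iff_forall]
    intro v
    have hv := ht (Set.mem_univ v)
    simp only [Set.mem_iUnion] at hv
    obtain ⟨x, hxt, hx⟩ := hv
    exact Set.mem_iUnion.2 ⟨⟨x, hxt⟩, hx⟩
  have hPφ : P (φ ≫ h) := by
    have : φ ≫ h = Sigma.desc (fun x : t => 𝒰.f x.1 ≫ e ≫ h) := by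
      apply Sigma.hom_ext
      intro x
      rw [Sigma.ι_desc, ← Category.assoc, Sigma.ι_desc, Category.assoc]
    rw [this]
    exact IsZariskiLocalAtSource.sigmaDesc (P := P)
      (fun x => IsZariskiLocalAtSource.comp (P := P) hP _)
  rw [HasRingHomProperty.iff_of_isAffine (P := P)] at hPφ ⊢
  have hff : φ.appTop.hom.FaithfullyFlat :=
    (Flat.flat_and_surjective_iff_faithfullyFlat_of_isAffine φ).1 ⟨inferInstance, inferInstance⟩
  have het : φ.appTop.hom.Etale :=
    (HasRingHomProperty.iff_of_isAffine (P := @Etale)).1 inferInstance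
  refine hQ h.appTop.hom φ.appTop.hom het hff ?_
  have : (φ ≫ h).appTop.hom = φ.appTop.hom.comp h.appTop.hom := by
    rw [Scheme.Hom.comp_appTop]
    rfl
  rwa [← this]


/-- finite type descends on the source along étale surjective morphisms. -/
theorem locallyOfFiniteType_of_comp_etale_surjective {U' U V : Scheme.{u}} (e : U' ⟶ U)
    (h : U ⟶ V) [Etale e] [Surjective e] (hP : LocallyOfFiniteType (e ≫ h)) :
    LocallyOfFiniteType h := by
  refine of_comp_etale_surjective (P := @LocallyOfFiniteType) (Q := @RingHom.FiniteType) ?_ e h hP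
  intro R A B _ _ _ f g hg hgf hc
  algebraize [f, g, g.comp f]
  exact finiteType_of_etale_faithfullyFlat (R := R) (A := A) (B := B)

theorem formallyUnramified_of_etale_faithfullyFlat {R A B : Type u} [CommRing R] [CommRing A]
    [CommRing B] [Algebra R A] [Algebra A B] [Algebra R B] [IsScalarTower R A B]
    [Algebra.FormallyEtale A B] [Module.FaithfullyFlat A B] [Algebra.FormallyUnramified R B] :
    Algebra.FormallyUnramified R A := by
  constructor
  have h1 : Subsingleton (TensorProduct A B (Ω[A⁄R])) :=
    (KaehlerDifferential.tensorKaehlerEquivOfFormallyEtale R A B).toEquiv.subsingleton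
  exact (Module.FaithfullyFlat.subsingleton_tensorProduct_iff_right A B).1 h1

/-- formally unramified descends on the source along étale surjective morphisms. -/
theorem formallyUnramified_of_comp_etale_surjective {U' U V : Scheme.{u}} (e : U' ⟶ U)
    (h : U ⟶ V) [Etale e] [Surjective e] (hP : FormallyUnramified (e ≫ h)) :
    FormallyUnramified h := by
  refine of_comp_etale_surjective (P := @FormallyUnramified) (Q := @RingHom.FormallyUnramified)
    ?_ e h hP
  intro R A B _ _ _ f g hg hgf hc
  algebraize [f, g, g.comp f]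
  exact formallyUnramified_of_etale_faithfullyFlat (R := R) (A := A) (B := B)

end Groth.Agent.Helper16.Alg
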