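import Mathlib
import Groth.Agent.Lib.Helper16.Alg.ModCons0
import Groth.Agent.Lib.Helper4.SuppBC

/-!
# The image of the support of a flat finitely presented module is open (helper16)

`A → B` of finite presentation, `M` a finitely presented `B`-module, flat over `A`: the image of
`Supp_B M` in `Spec A` is open.
-/

set_option autoImplicit false
set_option linter.style.haveILetI false
set_option linter.unusedSectionVars false
universe u

open TensorProduct Topology

namespace Groth.Agent.Helper16.SuppOpen

section GoingDown

variable {A B : Type*} [CommRing A] [CommRing B] [Algebra A B]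
  (M : Type*) [AddCommGroup M] [Module A M] [Module B M] [IsScalarTower A B M]

/-- flatness: elements outside a prime `p'` act injectively on `M / p' M`. -/
theorem mem_smul_top_of_smul_mem [Module.Flat A M] (p' : Ideal A) [p'.IsPrime] (a : A)
    (ha : a ∉ p') (m : M) (h : a • m ∈ (p' • ⊤ : Submodule A M)) :
    m ∈ (p' • ⊤ : Submodule A M) := by
  have hreg : IsRegular (Ideal.Quotient.mk p' a) :=
    IsRegular.of_ne_zero (by rwa [Ne, Ideal.Quotient.eq_zero_iff_mem])
  have h1 : IsSMulRegular ((A ⧸ p') ⊗[A] M) (Ideal.Quotient.mk p' a) :=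
    Module.Flat.isSMulRegular_of_isRegular hreg
  let e := TensorProduct.quotTensorEquivQuotSMul M p'
  have h2 : e.symm (Submodule.Quotient.mk m) = 0 := by
    apply h1
    simp only [smul_zero]
    have : (Ideal.Quotient.mk p' a) • e.symm (Submodule.Quotient.mk m) =
        a • e.symm (Submodule.Quotient.mk m) := by
      rw [← Ideal.Quotient.algebraMap_eq, algebraMap_smul]
    rw [this, ← map_smul, ← Submodule.Quotient.mk_smul,
      (Submodule.Quotient.mk_eq_zero _).mpr h, map_zero]
  have h3 : (Submodule.Quotient.mk m : M ⧸ (p' • ⊤ : Submodule A M)) = 0 := by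
    have := congrArg e h2
    simpa using this
  exact (Submodule.Quotient.mk_eq_zero _).mp h3

/-- **Going down for the support of a flat module.** -/
theorem exists_support_comap_eq [Module.Finite B M] [Module.Flat A M] (q : PrimeSpectrum B)
    (hq : q ∈ Module.support B M) (p' : PrimeSpectrum A)
    (hp' : p' ≤ PrimeSpectrum.comap (algebraMap A B) q) :
    ∃ q' : PrimeSpectrum B, q' ≤ q ∧ q' ∈ Module.support B M ∧
      PrimeSpectrum.comap (algebraMap A B) q' = p' := by
  set I : Ideal B := p'.asIdeal.map (algebraMap A B) with hI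
  have hIq : I ≤ q.asIdeal := Ideal.map_le_iff_le_comap.mpr hp'
  have hsupp := Module.support_quotient (M := M) I
  have hqN : q ∈ Module.support B (M ⧸ (I • ⊤ : Submodule B M)) := by
    rw [hsupp]
    exact ⟨hq, by rwa [PrimeSpectrum.mem_zeroLocus, SetLike.coe_subset_coe]⟩
  have hann : Module.annihilator B (M ⧸ (I • ⊤ : Submodule B M)) ≤ q.asIdeal :=
    Module.annihilator_le_of_mem_support hqN
  obtain ⟨q₀, hq₀, hq₀q⟩ := Ideal.exists_minimalPrimes_le hann
  haveI : q₀.IsPrime := hq₀.1.1
  have hq'N : (⟨q₀, inferInstance⟩ : PrimeSpectrum B) ∈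
      Module.support B (M ⧸ (I • ⊤ : Submodule B M)) := by
    rw [Module.mem_support_iff_of_finite]
    exact hq₀.1.2
  rw [hsupp] at hq'N
  refine ⟨⟨q₀, inferInstance⟩, hq₀q, hq'N.1, ?_⟩
  apply le_antisymm
  · -- `q₀ ∩ A ≤ p'`
    intro a ha
    by_contra hap
    have hreg : IsSMulRegular (M ⧸ (I • ⊤ : Submodule B M)) (algebraMap A B a) := by
      intro n₁ n₂ h12
      obtain ⟨m₁, rfl⟩ := Submodule.Quotient.mk_surjective _ n₁
      obtain ⟨m₂, rfl⟩ := Submodule.Quotient.mk_surjective _ n₂
      simp only [← Submodule.Quotient.mk_smul] at h12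
      rw [Submodule.Quotient.eq] at h12 ⊢
      have hrs : ((I • ⊤ : Submodule B M).restrictScalars A) = (p'.asIdeal • ⊤ : Submodule A M) := by
        rw [hI, Ideal.smul_restrictScalars, Submodule.restrictScalars_top]
      have h12' : a • (m₁ - m₂) ∈ (p'.asIdeal • ⊤ : Submodule A M) := by
        rw [← hrs, Submodule.restrictScalars_mem, smul_sub, ← algebraMap_smul B a m₁,
          ← algebraMap_smul B a m₂]
        exact h12
      have := mem_smul_top_of_smul_mem M p'.asIdeal a hap _ h12'
      rw [← hrs, Submodule.restrictScalars_mem] at this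
      exact this
    exact hreg.notMem_of_mem_minimalPrimes hq₀ ha
  · -- `p' ≤ q₀ ∩ A`
    have h2 : I ≤ q₀ := by
      have := hq'N.2
      rwa [PrimeSpectrum.mem_zeroLocus, SetLike.coe_subset_coe] at this
    exact Ideal.map_le_iff_le_comap.mp h2

end GoingDown

section Constr

/-- the support of a finitely presented module is constructible. -/
theorem isConstructible_support (B : Type u) [CommRing B] (M : Type u) [AddCommGroup M]
    [Module B M] [Module.FinitePresentation B M] : IsConstructible (Module.support B M) := by
  obtain ⟨A₀, _, _, B₀, _, _, _, _, _, _, M₀, _, _, _, _, φ, hA₀, hB₀, hM₀, hpo, hbc⟩ :=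
    Groth.Agent.Helper16.ModCons.exists_model_mod B B M
  haveI := hB₀
  haveI := hM₀
  haveI : IsNoetherianRing A₀ := Algebra.FiniteType.isNoetherianRing ℤ A₀
  haveI : IsNoetherianRing B₀ := Algebra.FiniteType.isNoetherianRing A₀ B₀
  have hcl : IsClosed (Module.support B₀ M₀) := Module.isClosed_support
  have hcons : IsConstructible (Module.support B₀ M₀) := by
    have h1 : IsConstructible (Module.support B₀ M₀)ᶜ :=
      (TopologicalSpace.NoetherianSpace.isCompact _).isConstructible hcl.isOpen_compl
    simpa using h1.compl
  have hpre : IsConstructible ((AlgebraicGeometry.Spec.map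
      (CommRingCat.ofHom (algebraMap B₀ B))) ⁻¹' (Module.support B₀ M₀ :
        Set (AlgebraicGeometry.Spec (CommRingCat.of B₀)))) :=
    (AlgebraicGeometry.Spec.map (CommRingCat.ofHom (algebraMap B₀ B))).isConstructible_preimage
      hcons
  have heq : Module.support B M =
      PrimeSpectrum.comap (algebraMap B₀ B) ⁻¹' Module.support B₀ M₀ := by
    rw [← Groth.Agent.Helper4.SuppBC.support_baseChange B₀ B M₀]
    exact (LinearEquiv.support_eq hbc.equiv).symm
  rw [heq]
  exact hpre

end Constr

section Main

/-- **The image of the support of a flat finitely presented module under a morphism of finite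
presentation is open.** -/
theorem isOpen_comap_image_support (A B : Type u) [CommRing A] [CommRing B] [Algebra A B]
    [Algebra.FinitePresentation A B] (M : Type u) [AddCommGroup M] [Module A M] [Module B M]
    [IsScalarTower A B M] [Module.FinitePresentation B M] [Module.Flat A M] :
    IsOpen (PrimeSpectrum.comap (algebraMap A B) '' Module.support B M) := by
  apply PrimeSpectrum.isOpen_of_stableUnderGeneralization_of_isConstructible
  · rintro p p' hpp' ⟨q, hq, rfl⟩
    obtain ⟨q', -, hq', rfl⟩ := exists_support_comap_eq M q hq p'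
      ((PrimeSpectrum.le_iff_specializes _ _).mpr hpp')
    exact ⟨q', hq', rfl⟩
  · exact PrimeSpectrum.isConstructible_comap_image
      (RingHom.finitePresentation_algebraMap.mpr inferInstance) (isConstructible_support B M)

end Main

end Groth.Agent.Helper16.SuppOpen
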