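import Mathlib
import Groth.Agent.Lib.Helper3.TensorAss

set_option autoImplicit false
universe u
open TensorProduct IsLocalRing

namespace Groth.Agent.Helper16.TensFieldLoc

/-- Let `C` be integral and torsion-free over a domain `D`, `𝔭` a prime of `C`, `Λ = C_𝔭`.
If the maximal ideal of `Λ` is associated to `Λ`, it is the only prime of `Λ`. -/
theorem forall_prime_eq_maximalIdeal_of_integral_of_torsionFree (D C : Type*) [CommRing D]
    [IsDomain D] [CommRing C] [Algebra D C] [Algebra.IsIntegral D C]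
    (htf : ∀ (d : D) (c : C), d ≠ 0 → d • c = 0 → c = 0)
    (𝔭 : Ideal C) [𝔭.IsPrime] (Λ : Type*) [CommRing Λ] [IsLocalRing Λ]
    [Algebra C Λ] [IsLocalization.AtPrime Λ 𝔭]
    (hass : IsAssociatedPrime (maximalIdeal Λ) Λ) (Q : Ideal Λ) (hQ : Q.IsPrime) :
    Q = maximalIdeal Λ := by
  have hcm : (maximalIdeal Λ).comap (algebraMap C Λ) = 𝔭 :=
    IsLocalization.AtPrime.under_maximalIdeal Λ 𝔭
  obtain ⟨-, ξ, hξ⟩ := hass
  have hξ0 : ξ ≠ 0 := by
    rintro rfl
    apply (maximalIdeal.isMaximal Λ).ne_top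
    rw [hξ, Ideal.radical_eq_top, Ideal.eq_top_iff_one, Submodule.mem_colon_singleton]
    simp
  -- `𝔭 ∩ D = 0`
  have hcomap : 𝔭.comap (algebraMap D C) = ⊥ := by
    rw [eq_bot_iff]
    intro d hd
    rw [Ideal.mem_bot]
    by_contra hd0
    apply hξ0
    have h1 : algebraMap C Λ (algebraMap D C d) ∈ maximalIdeal Λ := by
      rw [← Ideal.mem_comap, hcm]
      exact hd
    rw [hξ, Ideal.mem_radical_iff] at h1
    obtain ⟨n, hn⟩ := h1
    rw [Submodule.mem_colon_singleton, Submodule.mem_bot, smul_eq_mul] at hn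
    obtain ⟨r, s, rfl⟩ := IsLocalization.exists_mk'_eq 𝔭.primeCompl ξ
    rw [← map_pow, ← map_pow, ← IsLocalization.mk'_one (M := 𝔭.primeCompl) Λ,
      ← IsLocalization.mk'_mul, IsLocalization.mk'_eq_zero_iff] at hn
    obtain ⟨u, hu⟩ := hn
    rw [IsLocalization.mk'_eq_zero_iff]
    refine ⟨u, ?_⟩
    apply htf (d ^ n) _ (pow_ne_zero n hd0)
    rw [Algebra.smul_def]
    calc algebraMap D C (d ^ n) * (↑u * r) = ↑u * (algebraMap D C (d ^ n) * r) := by ring
      _ = 0 := hu
  have hQle : Q.comap (algebraMap C Λ) ≤ 𝔭 := by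
    rw [← hcm]
    exact Ideal.comap_mono (IsLocalRing.le_maximalIdeal hQ.ne_top)
  haveI hQprime : (Q.comap (algebraMap C Λ)).IsPrime := Ideal.comap_isPrime _ _
  have heq : Q.comap (algebraMap C Λ) = (maximalIdeal Λ).comap (algebraMap C Λ) := by
    rw [hcm]
    rcases eq_or_lt_of_le hQle with h | h
    · exact h
    · exfalso
      have := Ideal.IsIntegral.comap_lt_comap (R := D) h
      rw [hcomap] at this
      exact not_lt_bot this
  have e1 := IsLocalization.map_under 𝔭.primeCompl Λ Q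
  have e2 := IsLocalization.map_under 𝔭.primeCompl Λ (maximalIdeal Λ)
  rw [← e1, ← e2]
  change Ideal.map _ (Ideal.comap _ Q) = Ideal.map _ (Ideal.comap _ (maximalIdeal Λ))
  rw [heq]

section Fields

variable (k K L : Type u) [Field k] [Field K] [Field L] [Algebra k K] [Algebra k L]

open Groth.Agent.Helper3.TensorAss

theorem tensor_fields_aux (F : Type u) [Field F] [Algebra k F] [Algebra F K]
    [IsScalarTower k F K] [Algebra.IsAlgebraic F K] [IsDomain (F ⊗[k] L)]
    (𝔭 : Ideal (K ⊗[k] L)) [𝔭.IsPrime] (Λ : Type u) [CommRing Λ] [IsLocalRing Λ]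
    [Algebra (K ⊗[k] L) Λ] [IsLocalization.AtPrime Λ 𝔭]
    (hass : IsAssociatedPrime (maximalIdeal Λ) Λ) (Q : Ideal Λ) (hQ : Q.IsPrime) :
    Q = maximalIdeal Λ := by
  haveI hint : Algebra.IsIntegral F K := Algebra.IsAlgebraic.isIntegral
  haveI : Algebra.IsIntegral (F ⊗[k] L) ((F ⊗[k] L) ⊗[F] K) :=
    Algebra.IsIntegral.tensorProduct F (F ⊗[k] L) K
  haveI : Module.Free (F ⊗[k] L) ((F ⊗[k] L) ⊗[F] K) := inferInstance
  let e : (F ⊗[k] L) ⊗[F] K ≃+* K ⊗[k] L :=
    ((Algebra.TensorProduct.comm F (F ⊗[k] L) K).toRingEquiv).trans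
      (Algebra.TensorProduct.cancelBaseChange k F F K L).toRingEquiv
  letI : Algebra (F ⊗[k] L) (K ⊗[k] L) :=
    (e.toRingHom.comp (algebraMap (F ⊗[k] L) ((F ⊗[k] L) ⊗[F] K))).toAlgebra
  let eA : ((F ⊗[k] L) ⊗[F] K) →ₐ[F ⊗[k] L] (K ⊗[k] L) :=
    { e.toRingHom with commutes' := fun d => rfl }
  haveI : Algebra.IsIntegral (F ⊗[k] L) (K ⊗[k] L) := by
    refine ⟨fun c => ?_⟩
    have h1 := (Algebra.IsIntegral.isIntegral (R := F ⊗[k] L) (e.symm c)).map eA
    have h2 : eA (e.symm c) = c := e.apply_symm_apply c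
    rw [h2] at h1
    exact h1
  refine forall_prime_eq_maximalIdeal_of_integral_of_torsionFree (F ⊗[k] L) (K ⊗[k] L) ?_ 𝔭 Λ
    hass Q hQ
  intro d c hd hdc
  have hreg := Module.Flat.isSMulRegular_of_nonZeroDivisors (M := (F ⊗[k] L) ⊗[F] K)
    (mem_nonZeroDivisors_of_ne_zero hd)
  have h3 : e.symm c = 0 := by
    apply hreg
    change d • e.symm c = d • (0 : (F ⊗[k] L) ⊗[F] K)
    rw [smul_zero]
    apply e.injective
    rw [map_zero, ← hdc]
    have h4 : e (d • e.symm c) = eA (d • e.symm c) := rfl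
    rw [h4, map_smul]
    congr 1
    exact e.apply_symm_apply c
  have := congrArg e h3
  rwa [e.apply_symm_apply, map_zero] at this

/-- **Localizations of `K ⊗[k] L` at primes have no embedded prime**: if the maximal ideal of
`(K ⊗[k] L)_𝔭` is associated, it is the only prime (no Noetherian hypothesis). -/
theorem tensor_fields (𝔭 : Ideal (K ⊗[k] L)) [𝔭.IsPrime] (Λ : Type u) [CommRing Λ]
    [IsLocalRing Λ] [Algebra (K ⊗[k] L) Λ] [IsLocalization.AtPrime Λ 𝔭]
    (hass : IsAssociatedPrime (maximalIdeal Λ) Λ) (Q : Ideal Λ) (hQ : Q.IsPrime) :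
    Q = maximalIdeal Λ := by
  obtain ⟨ι, x, hx⟩ := exists_isTranscendenceBasis' k K
  let φ : FractionRing (MvPolynomial ι k) →ₐ[k] K :=
    (IntermediateField.val (IntermediateField.adjoin k (Set.range x))).comp
      hx.1.aevalEquivField.toAlgHom
  letI : Algebra (FractionRing (MvPolynomial ι k)) K := φ.toRingHom.toAlgebra
  haveI : IsScalarTower k (FractionRing (MvPolynomial ι k)) K :=
    IsScalarTower.of_algebraMap_eq (fun a => (φ.commutes a).symm)
  haveI : Algebra.IsAlgebraic (FractionRing (MvPolynomial ι k)) K := by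
    haveI := hx.isAlgebraic_field
    refine Algebra.IsAlgebraic.ringHom_of_comp_eq
      (R := IntermediateField.adjoin k (Set.range x)) (A := K)
      (S := FractionRing (MvPolynomial ι k)) (B := K)
      (hx.1.aevalEquivField.symm : IntermediateField.adjoin k (Set.range x) →+*
        FractionRing (MvPolynomial ι k)) (RingHom.id K)
      hx.1.aevalEquivField.symm.injective Function.surjective_id ?_
    ext a
    simp [RingHom.algebraMap_toAlgebra, φ]
  haveI := isDomain_fractionRing_mvPolynomial_tensor k L ι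
  exact tensor_fields_aux k K L (FractionRing (MvPolynomial ι k)) 𝔭 Λ hass Q hQ

end Fields

end Groth.Agent.Helper16.TensFieldLoc
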