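import Mathlib
import Groth.Prelude.Def_StabCat

/-!
# `topPart d d P = P` for `natDegree P ≤ d` (helper16, for lead)
-/

set_option autoImplicit false
open Polynomial

namespace Groth.Agent.Helper16.TopPartSelf

theorem topPart_self (d : ℕ) (P : ℚ[X]) (h : P.natDegree ≤ d) : StabCat.topPart d d P = P := by
  unfold StabCat.topPart
  rw [Nat.sub_self]
  have hIcc : Finset.Icc 0 d = Finset.range (d + 1) := by
    ext i
    simp [Nat.lt_succ_iff]
  rw [hIcc]
  exact (Polynomial.as_sum_range' P (d + 1) (Nat.lt_succ_of_le h)).symm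

end Groth.Agent.Helper16.TopPartSelf
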