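import Mathlib
import Groth.Agent.Lib.Helper16.Alg.UnrSplit3
set_option autoImplicit false
set_option linter.style.haveILetI false
open TensorProduct
universe u

namespace Groth.Agent.Helper16.UnrSplit

/-- finite unramified algebras are étale-locally finite products of quotients -/
theorem finite_split (R₀ S₀ : Type u) [CommRing R₀] [CommRing S₀] [Algebra R₀ S₀]
    [Module.Finite R₀ S₀] [Algebra.FormallyUnramified R₀ S₀] (p₀ : Ideal R₀) [p₀.IsPrime] :
    ∃ (R'' : Type u) (_ : CommRing R'') (_ : Algebra R₀ R'') (_ : Algebra.Etale R₀ R'')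
      (p'' : Ideal R'') (_ : p''.IsPrime) (_ : p''.LiesOver p₀) (n : ℕ) (A : Fin n → Type u)
      (_ : ∀ i, CommRing (A i)) (_ : ∀ i, Algebra R'' (A i)),
      (∀ i, Function.Surjective (algebraMap R'' (A i))) ∧
        Nonempty ((R'' ⊗[R₀] S₀) ≃ₐ[R''] (∀ i, A i)) := by
  classical
  haveI : Algebra.FiniteType R₀ S₀ := inferInstance
  haveI : Algebra.Unramified R₀ S₀ := {}
  obtain ⟨R', _, _, _, p', _, _, ι, _, I, B, _, _, ⟨e⟩, hI, hB⟩ := claim _ R₀ S₀ p₀ rfl
  -- `B` is finite over `R'`
  let f : R' ⊗[R₀] S₀ →ₐ[R'] B := (AlgHom.snd R' (∀ i, R' ⧸ I i) B).comp e.toAlgHom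
  have hf : Function.Surjective f := by
    intro b
    obtain ⟨t, ht⟩ := e.surjective (0, b)
    exact ⟨t, by simp [f, ht]⟩
  haveI : Module.Finite R' B := Module.Finite.of_surjective f.toLinearMap hf
  haveI : Algebra.IsIntegral R' B := inferInstance
  -- an element of the kernel outside `p'`
  have hker : ¬ (RingHom.ker (algebraMap R' B) ≤ p') := by
    intro hle
    obtain ⟨Q, -, hQ, hQp⟩ := Ideal.exists_ideal_over_prime_of_isIntegral p' (⊥ : Ideal B)
      (by rwa [← RingHom.ker_eq_comap_bot])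
    exact hB Q hQp
  obtain ⟨h, hhker, hhp⟩ := Set.not_subset.mp hker
  have hhB : algebraMap R' B h = 0 := hhker
  -- localize
  let R'' := Localization.Away h
  haveI : IsScalarTower R₀ R' R'' := inferInstance
  haveI : Algebra.Etale R' R'' := Algebra.Etale.of_isLocalizationAway h
  haveI : Algebra.Etale R₀ R'' := Algebra.Etale.comp R₀ R' R''
  have hdisj : Disjoint (Submonoid.powers h : Set R') (p' : Set R') := by
    rw [Ideal.disjoint_powers_iff_notMem_of_isPrime]
    exact hhp
  let p'' : Ideal R'' := p'.map (algebraMap R' R'')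
  haveI : p''.IsPrime := IsLocalization.isPrime_of_isPrime_disjoint (.powers h) _ _ ‹_› hdisj
  haveI : p''.LiesOver p' := IsLocalization.liesOver_map_of_isPrime_disjoint (.powers h) _ hdisj
  haveI : p''.LiesOver p₀ := Ideal.LiesOver.trans p'' p' p₀
  -- `R'' ⊗ B` is trivial
  haveI hsub : Subsingleton (R'' ⊗[R'] B) := by
    have h0 : ∀ z : R'' ⊗[R'] B, z = 0 := by
      intro z
      induction z with
      | zero => rfl
      | add a b ha hb => rw [ha, hb, add_zero]
      | tmul x b =>
        obtain ⟨y, hy⟩ := (IsLocalization.Away.algebraMap_isUnit (S := R'') h).exists_right_inv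
        have : x = h • (x * y) := by
          rw [Algebra.smul_def, mul_comm, mul_assoc, mul_comm y, hy, mul_one]
        rw [this, smul_tmul, Algebra.smul_def, hhB, zero_mul, tmul_zero]
    exact ⟨fun a b => (h0 a).trans (h0 b).symm⟩
  haveI : Unique (R'' ⊗[R'] B) := uniqueOfSubsingleton 0
  let eqv := Fintype.equivFin ι
  let E : R'' ⊗[R₀] S₀ ≃ₐ[R''] (∀ i : ι, R'' ⊗[R'] (R' ⧸ I i)) :=
    (Algebra.TensorProduct.cancelBaseChange R₀ R' R'' R'' S₀).symm.trans <|
      (Algebra.TensorProduct.congr AlgEquiv.refl e).trans <|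
      (Algebra.TensorProduct.prodRight R' R'' R'' (∀ i, R' ⧸ I i) B).trans <|
      (AlgEquiv.prodUnique).trans <|
      Algebra.TensorProduct.piRight R' R'' R'' (fun i => R' ⧸ I i)
  refine ⟨R'', inferInstance, inferInstance, inferInstance, p'', inferInstance, inferInstance,
    Fintype.card ι, fun j => R'' ⊗[R'] (R' ⧸ I (eqv.symm j)), fun j => inferInstance,
    fun j => inferInstance, ?_,
    ⟨E.trans (AlgEquiv.piCongrLeft' R'' (fun i => R'' ⊗[R'] (R' ⧸ I i)) eqv)⟩⟩
  intro j
  exact Algebra.TensorProduct.includeLeft_surjective (R := R') (T := R' ⧸ I (eqv.symm j)) R'' R''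
    Ideal.Quotient.mk_surjective

end Groth.Agent.Helper16.UnrSplit
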