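import Mathlib

/-!
# Base change of the unramified locus (ring level)
-/

open TensorProduct

universe u

set_option linter.style.haveILetI false
set_option linter.unusedSectionVars false

namespace Groth.Agent.Helper16.UnramBC

section Support

variable {B B' : Type*} [CommRing B] [CommRing B'] [Algebra B B']
  (M : Type*) [AddCommGroup M] [Module B M] [Module.Finite B M]

omit [Module.Finite B M] in
lemma nontrivial_tensor_iff (K K' : Type*) [Field K] [Field K'] [Algebra B K] [Algebra B' K']
    [Algebra B K'] [Algebra K K'] [IsScalarTower B B' K'] [IsScalarTower B K K'] :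
    Nontrivial (K' ⊗[B'] (B' ⊗[B] M)) ↔ Nontrivial (K ⊗[B] M) := by
  let e1 : K' ⊗[B'] (B' ⊗[B] M) ≃ₗ[K'] K' ⊗[B] M :=
    AlgebraTensorModule.cancelBaseChange B B' K' K' M
  let e2 : K' ⊗[K] (K ⊗[B] M) ≃ₗ[K'] K' ⊗[B] M :=
    AlgebraTensorModule.cancelBaseChange B K K' K' M
  rw [e1.nontrivial_congr, ← e2.nontrivial_congr]
  exact Module.FaithfullyFlat.nontrivial_tensorProduct_iff_right K K'

/-- Support of a base change of a finite module. -/
theorem mem_support_baseChange_iff (q' : PrimeSpectrum B') :
    q' ∈ Module.support B' (B' ⊗[B] M) ↔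
      PrimeSpectrum.comap (algebraMap B B') q' ∈ Module.support B M := by
  set q := PrimeSpectrum.comap (algebraMap B B') q' with hq
  rw [Module.mem_support_iff_nontrivial_residueField_tensorProduct,
    Module.mem_support_iff_nontrivial_residueField_tensorProduct]
  let φ : B →+* q'.asIdeal.ResidueField :=
    (algebraMap B' q'.asIdeal.ResidueField).comp (algebraMap B B')
  have hφ1 : q.asIdeal ≤ RingHom.ker φ := by
    intro b hb
    rw [RingHom.mem_ker, RingHom.comp_apply, Ideal.algebraMap_residueField_eq_zero]
    exact hb
  have hφ2 : q.asIdeal.primeCompl ≤ (IsUnit.submonoid q'.asIdeal.ResidueField).comap φ := by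
    intro b hb
    rw [Submonoid.mem_comap, IsUnit.mem_submonoid_iff, isUnit_iff_ne_zero, ne_eq,
      RingHom.comp_apply, Ideal.algebraMap_residueField_eq_zero]
    exact hb
  letI : Algebra q.asIdeal.ResidueField q'.asIdeal.ResidueField :=
    (Ideal.ResidueField.lift q.asIdeal φ hφ1 hφ2).toAlgebra
  letI : Algebra B q'.asIdeal.ResidueField := φ.toAlgebra
  haveI : IsScalarTower B B' q'.asIdeal.ResidueField := IsScalarTower.of_algebraMap_eq' rfl
  haveI : IsScalarTower B q.asIdeal.ResidueField q'.asIdeal.ResidueField :=
    IsScalarTower.of_algebraMap_eq' (by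
      ext b
      change φ b = Ideal.ResidueField.lift q.asIdeal φ hφ1 hφ2
        (algebraMap B q.asIdeal.ResidueField b)
      rw [Ideal.ResidueField.lift_algebraMap])
  exact nontrivial_tensor_iff M q.asIdeal.ResidueField q'.asIdeal.ResidueField

end Support

section Unram

variable (A A' B B' : Type u) [CommRing A] [CommRing A'] [CommRing B] [CommRing B']
  [Algebra A A'] [Algebra A B] [Algebra A B'] [Algebra B B'] [Algebra A' B']
  [IsScalarTower A B B'] [IsScalarTower A A' B'] [Algebra.IsPushout A A' B B']
  [Algebra.FiniteType A B] [Algebra.EssFiniteType A' B']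

/-- The unramified locus commutes with base change. -/
theorem mem_unramifiedLocus_iff_of_isPushout (q' : PrimeSpectrum B') :
    q' ∈ Algebra.unramifiedLocus A' B' ↔
      PrimeSpectrum.comap (algebraMap B B') q' ∈ Algebra.unramifiedLocus A B := by
  rw [Algebra.unramifiedLocus_eq_compl_support, Algebra.unramifiedLocus_eq_compl_support,
    Set.mem_compl_iff, Set.mem_compl_iff, not_iff_not,
    ← (KaehlerDifferential.tensorKaehlerEquiv A A' B B').support_eq]
  exact mem_support_baseChange_iff Ω[B⁄A] q'

end Unram

section Etale

variable (A B C : Type u) [CommRing A] [CommRing B] [CommRing C]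
  [Algebra A B] [Algebra A C] [Algebra B C] [IsScalarTower A B C]
  [Algebra.FiniteType A B] [Algebra.EssFiniteType A C] [Algebra.FormallyEtale B C]

/-- The unramified locus is compatible with formally etale maps on the source. -/
theorem mem_unramifiedLocus_iff_of_formallyEtale (r : PrimeSpectrum C) :
    r ∈ Algebra.unramifiedLocus A C ↔
      PrimeSpectrum.comap (algebraMap B C) r ∈ Algebra.unramifiedLocus A B := by
  rw [Algebra.unramifiedLocus_eq_compl_support, Algebra.unramifiedLocus_eq_compl_support,
    Set.mem_compl_iff, Set.mem_compl_iff, not_iff_not,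
    ← (KaehlerDifferential.tensorKaehlerEquivOfFormallyEtale A B C).support_eq]
  exact mem_support_baseChange_iff Ω[B⁄A] r

end Etale

end Groth.Agent.Helper16.UnramBC
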